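import Mathlib.RingTheory.RegularLocalRing.Defs
import Mathlib.RingTheory.KrullDimension.NonZeroDivisors
import Mathlib.RingTheory.LocalRing.RingHom.Basic
import Mathlib.RingTheory.Henselian

set_option autoImplicit false
universe u

namespace Groth.Agent.H3

open IsLocalRing

theorem spanFinrank_maximalIdeal_le_quotient_add_one (R : Type*) [CommRing R] [IsLocalRing R]
    [IsNoetherianRing R] (x : R) (hx : x ∈ maximalIdeal R)
    [IsLocalRing (R ⧸ Ideal.span {x})] :
    (maximalIdeal R).spanFinrank ≤ (maximalIdeal (R ⧸ Ideal.span {x})).spanFinrank + 1 := by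
  classical
  set Q := R ⧸ Ideal.span {x} with hQ
  set mk := Ideal.Quotient.mk (Ideal.span {x}) with hmk
  have hsurj : Function.Surjective mk := Ideal.Quotient.mk_surjective
  have hfg : (maximalIdeal Q).FG := IsNoetherian.noetherian _
  obtain ⟨s, hcard, hspan⟩ := Submodule.FG.exists_span_finset_card_eq_spanFinrank hfg
  set t : Finset R := s.image (Function.surjInv hsurj) with ht
  have himg : mk '' (t : Set R) = (s : Set Q) := by
    rw [ht, Finset.coe_image, Set.image_image]
    simp [Function.surjInv_eq hsurj]
  have hmap : (Ideal.span (t : Set R)).map mk = maximalIdeal Q := by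
    rw [Ideal.map_span, himg]
    exact hspan
  have hjac : Ideal.span {x} ≤ Ideal.jacobson ⊥ := by
    rw [IsLocalRing.jacobson_eq_maximalIdeal ⊥ bot_ne_top, Ideal.span_singleton_le_iff_mem]
    exact hx
  have hloc : IsLocalHom mk := isLocalHom_of_le_jacobson_bot _ hjac
  have hcomap : (maximalIdeal Q).comap mk = maximalIdeal R :=
    ((IsLocalRing.local_hom_TFAE mk).out 0 4).mp hloc
  have hmR : maximalIdeal R = Ideal.span (insert x (t : Set R)) := by
    rw [← hcomap, ← hmap, Ideal.comap_map_of_surjective mk hsurj, ← RingHom.ker_eq_comap_bot,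
      Ideal.mk_ker, Ideal.span_insert, sup_comm]
  have hfin : (insert x (t : Set R)).Finite := (Finset.finite_toSet t).insert x
  calc (maximalIdeal R).spanFinrank
      = (Ideal.span (insert x (t : Set R))).spanFinrank := by rw [← hmR]
    _ ≤ (insert x (t : Set R)).ncard := Submodule.spanFinrank_span_le_ncard_of_finite hfin
    _ ≤ (t : Set R).ncard + 1 := Set.ncard_insert_le x _
    _ ≤ s.card + 1 := by
        rw [Set.ncard_coe_finset]
        exact Nat.add_le_add_right Finset.card_image_le 1
    _ = (maximalIdeal Q).spanFinrank + 1 := by rw [hcard]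

theorem isRegularLocalRing_of_quotient (R : Type*) [CommRing R] [IsLocalRing R]
    [IsNoetherianRing R] (x : R) (hx : x ∈ IsLocalRing.maximalIdeal R)
    (hreg : x ∈ nonZeroDivisors R) [h : IsRegularLocalRing (R ⧸ Ideal.span ({x} : Set R))] :
    IsRegularLocalRing R := by
  apply IsRegularLocalRing.of_spanFinrank_maximalIdeal_le
  have h1 := ringKrullDim_quotient_succ_le_of_nonZeroDivisor hreg
  have h2 := h.spanFinrank_maximalIdeal
  have key := spanFinrank_maximalIdeal_le_quotient_add_one R x hx
  calc ((maximalIdeal R).spanFinrank : WithBot ℕ∞)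
      ≤ (((maximalIdeal (R ⧸ Ideal.span {x})).spanFinrank + 1 : ℕ) : WithBot ℕ∞) := by
        exact_mod_cast key
    _ = ringKrullDim (R ⧸ Ideal.span {x}) + 1 := by rw [← h2]; push_cast; rfl
    _ ≤ ringKrullDim R := h1

end Groth.Agent.H3
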