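import Groth.Agent.H3.HenselFactor

set_option autoImplicit false
set_option linter.style.haveILetI false
set_option linter.unusedSimpArgs false
universe u

namespace Groth.Agent.H3

open Polynomial IsLocalRing

theorem isCoprime_of_isCoprime_map_residue {R : Type*} [CommRing R] [IsLocalRing R] {G H : R[X]}
    (hG : G.Monic) (hH : H.Monic)
    (h : IsCoprime (G.map (residue R)) (H.map (residue R))) : IsCoprime G H := by
  rw [← isUnit_resultant_iff_isCoprime hG]
  rw [← isUnit_resultant_iff_isCoprime (hG.map _), hG.natDegree_map, hH.natDegree_map,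
    resultant_map_map] at h
  exact (isUnit_map_iff (residue R) _).mp h

theorem aeval_mem_map_of_map_eq_zero {R : Type*} [CommRing R] [IsLocalRing R] {S : Type*}
    [CommRing S] [Algebra R S] (b : S) (c : R[X]) (hc : c.map (residue R) = 0) :
    aeval b c ∈ (maximalIdeal R).map (algebraMap R S) := by
  rw [aeval_eq_sum_range]
  refine Ideal.sum_mem _ fun i _ => ?_
  have hci : c.coeff i ∈ maximalIdeal R := by
    have := congr_arg (fun p => p.coeff i) hc
    simpa [coeff_map] using this
  rw [Algebra.smul_def]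
  exact Ideal.mul_mem_right _ _ (Ideal.mem_map_of_mem _ hci)

theorem map_le_jacobson_of_isIntegral {R : Type*} [CommRing R] {S : Type*} [CommRing S]
    [Algebra R S] [Algebra.IsIntegral R S] (I : Ideal R) (hI : I ≤ Ideal.jacobson ⊥) :
    I.map (algebraMap R S) ≤ Ideal.jacobson ⊥ := by
  rw [Ideal.jacobson, le_sInf_iff]
  rintro M ⟨-, hM⟩
  rw [Ideal.map_le_iff_le_comap]
  have : (M.comap (algebraMap R S)).IsMaximal :=
    Ideal.isMaximal_comap_of_isIntegral_of_isMaximal M
  refine hI.trans ?_
  rw [Ideal.jacobson]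
  exact sInf_le ⟨bot_le, this⟩

theorem eq_zero_of_isIdempotentElem_of_mem_jacobson {S : Type*} [CommRing S] {x : S}
    (hx : IsIdempotentElem x) (hj : x ∈ Ideal.jacobson (⊥ : Ideal S)) : x = 0 := by
  have h1 : IsUnit (x * (-1) + 1) := Ideal.mem_jacobson_bot.mp hj (-1)
  have h2 : x * (x * (-1) + 1) = 0 := by linear_combination (-1 : S) * hx.eq
  exact h1.mul_left_eq_zero.mp h2

/-- Idempotent lifting for integral elements over Henselian local rings. -/
theorem exists_isIdempotentElem_sub_mem {R : Type u} [CommRing R] [HenselianLocalRing R]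
    {S : Type*} [CommRing S] [Algebra R S] (b : S) (hb : IsIntegral R b)
    (hb2 : b ^ 2 - b ∈ (maximalIdeal R).map (algebraMap R S)) :
    ∃ e : S, IsIdempotentElem e ∧ e - b ∈ (maximalIdeal R).map (algebraMap R S) := by
  obtain ⟨P₀, hP₀m, hP₀⟩ := hb
  set P : R[X] := P₀ * (X * (X - C 1)) with hPdef
  have hPm : P.Monic := hP₀m.mul (monic_X.mul (monic_X_sub_C 1))
  have hPb : aeval b P = 0 := by
    rw [hPdef, map_mul, aeval_def, hP₀, zero_mul]
  set Pb : (ResidueField R)[X] := P.map (residue R) with hPbdef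
  have hPbm : Pb.Monic := hPm.map _
  have hPb0 : Pb ≠ 0 := hPbm.ne_zero
  have hPbeq : Pb = P₀.map (residue R) * (X * (X - C 1)) := by
    simp [hPbdef, hPdef, Polynomial.map_mul]
  have hroot1 : Pb.IsRoot 1 := by simp [IsRoot, hPbeq]
  have hroot0 : Pb.IsRoot 0 := by simp [IsRoot, hPbeq]
  obtain ⟨G₀, hG₀, hnd⟩ := exists_eq_pow_rootMultiplicity_mul_and_not_dvd Pb hPb0 1
  set j := Pb.rootMultiplicity 1 with hj
  have hjpos : 0 < j := (rootMultiplicity_pos hPb0).mpr hroot1
  set H₀ : (ResidueField R)[X] := (X - C 1) ^ j with hH₀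
  have hH₀m : H₀.Monic := (monic_X_sub_C 1).pow j
  have hG₀m : G₀.Monic := hH₀m.of_mul_monic_left (hG₀ ▸ hPbm)
  have hG₀0 : G₀.eval 0 = 0 := by
    have h := hroot0
    rw [IsRoot, hG₀, eval_mul, eval_pow] at h
    have h3 : (eval 0 (X - C (1 : ResidueField R))) ^ j ≠ 0 := by
      apply pow_ne_zero
      simp
    exact (mul_eq_zero.mp h).resolve_left h3
  have hH₀1 : H₀.eval 1 = 0 := by
    rw [hH₀, eval_pow]
    simp [hjpos.ne']
  have hcop : IsCoprime G₀ H₀ := by
    have : IsCoprime (X - C (1 : ResidueField R)) G₀ :=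
      (irreducible_X_sub_C 1).coprime_iff_not_dvd.mpr hnd
    exact (this.pow_left).symm
  obtain ⟨G, H, hGm, hHm, hPGH, hG, hH⟩ :=
    exists_monic_factorization P hPm G₀ H₀ hG₀m hH₀m hcop (by rw [← hPbdef, hG₀, mul_comm])
  have hcopGH : IsCoprime G H :=
    isCoprime_of_isCoprime_map_residue hGm hHm (by rw [hG, hH]; exact hcop)
  obtain ⟨α, β, hαβ⟩ := hcopGH
  refine ⟨aeval b (α * G), ?_, ?_⟩
  · have h1 : α * G * (α * G) = α * G - α * β * P := by
      rw [hPGH]; linear_combination (α * G) * hαβ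
    unfold IsIdempotentElem
    rw [← map_mul, h1, map_sub, map_mul _ (α * β) P, hPb, mul_zero, sub_zero]
  · set u := α * G with hu
    have hu0 : (u.map (residue R)).eval 0 = 0 := by
      simp [hu, Polynomial.map_mul, hG, hG₀0]
    have hu1 : (u.map (residue R)).eval 1 = 1 := by
      have := congr_arg (fun p => (p.map (residue R)).eval 1) hαβ
      simp only [Polynomial.map_add, Polynomial.map_mul, hG, hH, eval_add, eval_mul, hH₀1,
        mul_zero, add_zero, Polynomial.map_one, eval_one] at this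
      simpa [hu, Polynomial.map_mul, hG] using this
    set v := u.map (residue R) - X with hv
    have hv0 : v.eval 0 = 0 := by simp [hv, hu0]
    have hv1 : v.eval 1 = 0 := by simp [hv, hu1]
    obtain ⟨v₁, hv₁⟩ : X ∣ v := by
      rw [X_dvd_iff, coeff_zero_eq_eval_zero]; exact hv0
    have hv₁1 : v₁.eval 1 = 0 := by
      rw [hv₁, eval_mul, eval_X, one_mul] at hv1; exact hv1
    obtain ⟨wb, hwb⟩ : (X - C 1) ∣ v₁ := dvd_iff_isRoot.mpr hv₁1
    obtain ⟨w, hw⟩ := map_surjective (residue R) residue_surjective wb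
    set c := u - X - X * (X - C 1) * w with hc
    have hcmap : c.map (residue R) = 0 := by
      have : u.map (residue R) = v + X := by rw [hv]; ring
      simp only [hc, Polynomial.map_sub, Polynomial.map_mul, Polynomial.map_X, Polynomial.map_one,
        Polynomial.map_C, map_one, hw, this, hv₁, hwb]
      ring
    have hmem := aeval_mem_map_of_map_eq_zero b c hcmap
    have hcb : aeval b c = aeval b u - b - (b ^ 2 - b) * aeval b w := by
      simp only [hc, map_sub, map_mul, aeval_X, aeval_C, map_one]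
      ring
    have : aeval b u - b = aeval b c + (b ^ 2 - b) * aeval b w := by rw [hcb]; ring
    rw [this]
    exact Ideal.add_mem _ hmem (Ideal.mul_mem_right _ _ hb2)

theorem isLocalRing_and_bijective_of_idempotents {S : Type u} [CommRing S] {ι : Type u}
    [Fintype ι] [DecidableEq ι] {F : ι → Type u} [∀ i, CommRing (F i)] [∀ i, IsLocalRing (F i)]
    (π : S →+* (∀ i, F i)) (hπ : Function.Surjective π)
    (hker : RingHom.ker π ≤ Ideal.jacobson ⊥)
    (e : ι → S) (he : ∀ i, IsIdempotentElem (e i)) (hπe : ∀ i, π (e i) = Pi.single i 1) :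
    (∀ i, IsLocalRing (S ⧸ Ideal.span {1 - e i})) ∧
    Function.Bijective (RingHom.pi fun i ↦ Ideal.Quotient.mk (Ideal.span {1 - e i})) := by
  have hortho : Pairwise (fun i j => e i * e j = 0) := by
    intro i j hij
    apply eq_zero_of_isIdempotentElem_of_mem_jacobson ((he i).mul (he j))
    apply hker
    rw [RingHom.mem_ker, map_mul, hπe, hπe]
    ext k
    by_cases h1 : k = i
    · subst h1; simp [Pi.single_apply, hij]
    · simp [Pi.single_apply, h1]
  have hOI : OrthogonalIdempotents e := ⟨he, hortho⟩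
  have hcomplete : ∑ i, e i = 1 := by
    have hid : IsIdempotentElem (1 - ∑ i, e i) :=
      (hOI.isIdempotentElem_sum (s := Finset.univ)).one_sub
    have h0 : 1 - ∑ i, e i = 0 := by
      apply eq_zero_of_isIdempotentElem_of_mem_jacobson hid
      apply hker
      rw [RingHom.mem_ker, map_sub, map_one, map_sum]
      simp_rw [hπe]
      rw [show (∑ i, Pi.single i (1 : F i)) = (1 : ∀ i, F i) from
        Finset.univ_sum_single (1 : ∀ i, F i), sub_self]
    exact (sub_eq_zero.mp h0).symm
  have hCOI : CompleteOrthogonalIdempotents e := ⟨hOI, hcomplete⟩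
  refine ⟨fun i => ?_, hCOI.bijective_pi⟩
  let φ : S ⧸ Ideal.span {1 - e i} →+* F i :=
    Ideal.Quotient.lift _ ((Pi.evalRingHom F i).comp π) (by
      intro a ha
      obtain ⟨c, rfl⟩ := Ideal.mem_span_singleton'.mp ha
      simp [hπe])
  have hloc : IsLocalHom φ := by
    constructor
    intro x hx
    obtain ⟨x, rfl⟩ := Ideal.Quotient.mk_surjective x
    have hx' : IsUnit (π x i) := by simpa [φ] using hx
    set y := x * e i + (1 - e i) with hy
    have hyu : IsUnit (π y) := by
      rw [Pi.isUnit_iff]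
      intro j
      by_cases hj : j = i
      · subst hj; simpa [hy, hπe] using hx'
      · simp [hy, hπe, Pi.single_apply, hj]
    obtain ⟨z, hz⟩ := hπ (↑hyu.unit⁻¹)
    have hyz : IsUnit (y * z) := by
      have hmem : y * z - 1 ∈ Ideal.jacobson (⊥ : Ideal S) := by
        apply hker
        rw [RingHom.mem_ker, map_sub, map_mul, hz, map_one, IsUnit.mul_val_inv, sub_self]
      have := Ideal.mem_jacobson_bot.mp hmem 1
      simpa using this
    have hyunit : IsUnit y := isUnit_of_mul_isUnit_left hyz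
    have hyx : Ideal.Quotient.mk (Ideal.span {1 - e i}) y = Ideal.Quotient.mk _ x := by
      rw [Ideal.Quotient.eq, Ideal.mem_span_singleton']
      exact ⟨1 - x, by rw [hy]; ring⟩
    rw [← hyx]
    exact hyunit.map _
  exact RingHom.domain_isLocalRing φ

theorem exists_pi_isLocalRing_of_finite (R : Type u) [CommRing R] [HenselianLocalRing R]
    (S : Type u) [CommRing S] [Algebra R S] [Module.Finite R S] :
    ∃ (ι : Type u) (_ : Fintype ι) (A : ι → Type u) (_ : ∀ i, CommRing (A i)),
      (∀ i, IsLocalRing (A i)) ∧ Nonempty (S ≃+* (∀ i, A i)) := by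
  classical
  let I : Ideal S := (maximalIdeal R).map (algebraMap R S)
  letI : Field (R ⧸ maximalIdeal R) := Ideal.Quotient.field _
  haveI : Module.Finite (R ⧸ maximalIdeal R) (S ⧸ I) :=
    Module.Finite.of_restrictScalars_finite R _ _
  haveI : IsArtinianRing (S ⧸ I) := IsArtinianRing.of_finite (R ⧸ maximalIdeal R) (S ⧸ I)
  haveI : Fintype (MaximalSpectrum (S ⧸ I)) := Fintype.ofFinite _
  haveI hFloc : ∀ n : MaximalSpectrum (S ⧸ I), IsLocalRing ((S ⧸ I) ⧸ n.asIdeal) := fun n => by
    letI := Ideal.Quotient.field n.asIdeal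
    infer_instance
  let E := IsArtinianRing.quotNilradicalEquivPi (S ⧸ I)
  let π : S →+* (∀ n : MaximalSpectrum (S ⧸ I), (S ⧸ I) ⧸ n.asIdeal) :=
    (E.toRingEquiv.toRingHom.comp (Ideal.Quotient.mk (nilradical (S ⧸ I)))).comp
      (Ideal.Quotient.mk I)
  have hπ : Function.Surjective π :=
    (E.surjective.comp Ideal.Quotient.mk_surjective).comp Ideal.Quotient.mk_surjective
  have hIjac : I ≤ Ideal.jacobson ⊥ :=
    map_le_jacobson_of_isIntegral _ (IsLocalRing.maximalIdeal_le_jacobson _)
  have hker : RingHom.ker π ≤ Ideal.jacobson ⊥ := by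
    intro x hx
    have h1 : Ideal.Quotient.mk (nilradical (S ⧸ I)) (Ideal.Quotient.mk I x) = 0 := by
      apply E.injective
      rw [map_zero]
      exact hx
    rw [Ideal.Quotient.eq_zero_iff_mem, mem_nilradical] at h1
    obtain ⟨N, hN⟩ := h1
    rw [← map_pow, Ideal.Quotient.eq_zero_iff_mem] at hN
    have h2 : x ∈ I.radical := ⟨N, hN⟩
    have h3 := Ideal.radical_le_jacobson h2
    have h4 := Ideal.jacobson_mono hIjac h3
    rwa [Ideal.jacobson_idem] at h4
  have Hex : ∀ n : MaximalSpectrum (S ⧸ I), ∃ e : S, IsIdempotentElem e ∧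
      π e = Pi.single n 1 := by
    intro n
    have hε : IsIdempotentElem (E.symm (Pi.single n 1)) := by
      have : IsIdempotentElem (Pi.single n 1 :
          ∀ n : MaximalSpectrum (S ⧸ I), (S ⧸ I) ⧸ n.asIdeal) := by
        unfold IsIdempotentElem
        rw [← Pi.single_mul, mul_one]
      exact this.map E.symm
    obtain ⟨eb, heb, heb'⟩ := exists_isIdempotentElem_eq_of_ker_isNilpotent
      (Ideal.Quotient.mk (nilradical (S ⧸ I)))
      (fun x hx => by rwa [Ideal.mk_ker] at hx) _
      (RingHom.mem_range.mpr (Ideal.Quotient.mk_surjective _)) hε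
    obtain ⟨b, hb⟩ := Ideal.Quotient.mk_surjective eb
    have hb2 : b ^ 2 - b ∈ I := by
      rw [← Ideal.Quotient.eq_zero_iff_mem, map_sub, map_pow, hb, pow_two, heb.eq, sub_self]
    obtain ⟨e, he, heb2⟩ := exists_isIdempotentElem_sub_mem b (Algebra.IsIntegral.isIntegral b) hb2
    refine ⟨e, he, ?_⟩
    have h5 : Ideal.Quotient.mk I e = eb := by
      rw [← hb]; exact Ideal.Quotient.eq.mpr heb2
    change E (Ideal.Quotient.mk _ (Ideal.Quotient.mk I e)) = _
    rw [h5, heb', AlgEquiv.apply_symm_apply]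
  choose e he hπe using Hex
  obtain ⟨hloc, hbij⟩ := isLocalRing_and_bijective_of_idempotents π hπ hker e he hπe
  exact ⟨MaximalSpectrum (S ⧸ I), inferInstance, fun n => S ⧸ Ideal.span {1 - e n},
    fun n => inferInstance, hloc, ⟨RingEquiv.ofBijective _ hbij⟩⟩

end Groth.Agent.H3
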