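import Groth.Agent.H3.HenselConverse

set_option autoImplicit false
set_option linter.style.haveILetI false
set_option linter.unusedSimpArgs false
set_option linter.unusedVariables false
universe u

namespace Groth.Agent.H3

open Polynomial IsLocalRing

theorem exists_isIdempotentElem_sub_mem_of_pi {B : Type*} [CommRing B] {ι : Type*} [Fintype ι]
    [DecidableEq ι] {A : ι → Type*} [∀ i, CommRing (A i)] [∀ i, IsLocalRing (A i)]
    (θ : B ≃+* (∀ i, A i)) (𝔟 : Ideal B) (b : B) (hb : b ^ 2 - b ∈ 𝔟) :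
    ∃ e : B, IsIdempotentElem e ∧ e - b ∈ 𝔟 := by
  classical
  set y := θ b with hy
  let ε : ∀ i, A i := fun i => if IsUnit (y i) then 1 else 0
  have hε : IsIdempotentElem ε := by
    unfold IsIdempotentElem
    ext i
    simp only [Pi.mul_apply, ε]
    split_ifs <;> simp
  refine ⟨θ.symm ε, hε.map θ.symm, ?_⟩
  let 𝔠 : Ideal (∀ i, A i) := 𝔟.comap θ.symm.toRingHom
  have hy2 : y ^ 2 - y ∈ 𝔠 := by
    simp only [𝔠, Ideal.mem_comap, hy, RingEquiv.toRingHom_eq_coe, RingHom.coe_coe, map_sub,
      map_pow, RingEquiv.symm_apply_apply]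
    exact hb
  have hcomp : ∀ i, Pi.single i ((ε - y) i) ∈ 𝔠 := by
    intro i
    by_cases hu : IsUnit (y i)
    · obtain ⟨u, hu'⟩ := id hu
      have h1 : (↑u⁻¹ : A i) * u = 1 := u.inv_mul
      have : Pi.single i ((ε - y) i) = - (Pi.single i (↑u⁻¹ : A i)) * (y ^ 2 - y) := by
        ext k
        by_cases hk : k = i
        · subst hk
          have hεk : ε k = 1 := if_pos hu
          simp only [Pi.single_eq_same, Pi.mul_apply, Pi.neg_apply, Pi.sub_apply, Pi.pow_apply,
            hεk, ← hu']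
          linear_combination ((u : A k) - 1) * h1
        · simp [Pi.single_eq_of_ne hk]
      rw [this]; exact Ideal.mul_mem_left _ _ hy2
    · have hu2 : IsUnit (1 - y i) :=
        (IsLocalRing.isUnit_or_isUnit_one_sub_self (y i)).resolve_left hu
      obtain ⟨u, hu'⟩ := hu2
      have h1 : (↑u⁻¹ : A i) * u = 1 := u.inv_mul
      have : Pi.single i ((ε - y) i) = (Pi.single i (↑u⁻¹ : A i)) * (y ^ 2 - y) := by
        ext k
        by_cases hk : k = i
        · subst hk
          have hεk : ε k = 0 := if_neg hu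
          simp only [Pi.single_eq_same, Pi.mul_apply, Pi.sub_apply, Pi.pow_apply, hεk]
          linear_combination (y k) * h1 - (↑u⁻¹ * y k) * hu'
        · simp [Pi.single_eq_of_ne hk]
      rw [this]; exact Ideal.mul_mem_left _ _ hy2
  have hsum : ε - y ∈ 𝔠 := by
    rw [← Finset.univ_sum_single (ε - y)]
    exact Ideal.sum_mem _ fun i _ => hcomp i
  have h3 : θ.symm (ε - y) = θ.symm ε - b := by simp [hy]
  rw [← h3]; exact hsum

theorem henselianLocalRing_of_finite_pi (R : Type u) [CommRing R] [IsLocalRing R]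
    (h : ∀ (S : Type u) [CommRing S] [Algebra R S], Module.Finite R S →
      ∃ (ι : Type u) (_ : Fintype ι) (A : ι → Type u) (_ : ∀ i, CommRing (A i)),
        (∀ i, IsLocalRing (A i)) ∧ Nonempty (S ≃+* (∀ i, A i))) :
    HenselianLocalRing R := by
  apply henselianLocalRing_of_idempotent_lifting
  intro f hf b hb
  obtain ⟨ι, hι, A, hA, hloc, ⟨θ⟩⟩ := h (AdjoinRoot f) hf.finite_adjoinRoot
  classical
  exact exists_isIdempotentElem_sub_mem_of_pi θ _ b hb

theorem henselianLocalRing_of_finite (R : Type u) [CommRing R] [HenselianLocalRing R]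
    (S : Type u) [CommRing S] [IsLocalRing S] [Algebra R S] [Module.Finite R S] :
    HenselianLocalRing S := by
  apply henselianLocalRing_of_idempotent_lifting
  intro f hf b hb
  haveI : Module.Finite S (AdjoinRoot f) := hf.finite_adjoinRoot
  haveI : Module.Finite R (AdjoinRoot f) := Module.Finite.trans S _
  obtain ⟨ι, hι, A, hA, hloc, ⟨θ⟩⟩ := exists_pi_isLocalRing_of_finite R (AdjoinRoot f)
  classical
  exact exists_isIdempotentElem_sub_mem_of_pi θ _ b hb

theorem henselianLocalRing_of_factor_lift (R : Type u) [CommRing R] [IsLocalRing R]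
    (h : ∀ f : Polynomial R, f.Monic →
      ∀ g₀ h₀ : Polynomial (IsLocalRing.ResidueField R), IsCoprime g₀ h₀ →
      Polynomial.map (IsLocalRing.residue R) f = g₀ * h₀ →
      ∃ g h : Polynomial R, f = g * h ∧ Polynomial.map (IsLocalRing.residue R) g = g₀ ∧
        Polynomial.map (IsLocalRing.residue R) h = h₀) :
    HenselianLocalRing R := by
  refine ((HenselianLocalRing.TFAE R).out 0 1).mpr ?_
  intro f hf a₀ hroot hder
  set ρ := residue R with hρ
  set fb : (ResidueField R)[X] := f.map ρ with hfb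
  have hroot' : fb.IsRoot a₀ := by
    rw [IsRoot, hfb, eval_map]; simpa [aeval_def] using hroot
  have hder' : fb.derivative.eval a₀ ≠ 0 := by
    rw [hfb, derivative_map, eval_map]; simpa [aeval_def] using hder
  set h₀ := fb /ₘ (X - C a₀) with hh₀
  have hfac : (X - C a₀) * h₀ = fb := mul_divByMonic_eq_iff_isRoot.mpr hroot'
  have hh₀a : h₀.eval a₀ = fb.derivative.eval a₀ := by
    rw [← hfac, derivative_mul]
    simp
  have hcop : IsCoprime (X - C a₀) h₀ := by
    rw [(irreducible_X_sub_C a₀).coprime_iff_not_dvd, dvd_iff_isRoot, IsRoot, hh₀a]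
    exact hder'
  obtain ⟨g, hh, hfg, hg, hhh⟩ := h f hf (X - C a₀) h₀ hcop hfac.symm
  haveI : Module.Finite R (AdjoinRoot f) := hf.finite_adjoinRoot
  set 𝔟 := (maximalIdeal R).map (algebraMap R (AdjoinRoot f)) with h𝔟
  have hD : ∀ c : R[X], c.map ρ = 0 → AdjoinRoot.mk f c ∈ 𝔟 := by
    intro c hc
    rw [← AdjoinRoot.aeval_eq]
    exact aeval_mem_map_of_map_eq_zero _ c hc
  let N : Submodule R (AdjoinRoot f) :=
    Submodule.span R {1} ⊔ (Ideal.span {AdjoinRoot.mk f g}).restrictScalars R
  have hN : (⊤ : Submodule R (AdjoinRoot f)) ≤ N := by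
    apply Submodule.le_of_le_smul_of_le_jacobson_bot Module.Finite.fg_top
      (IsLocalRing.maximalIdeal_le_jacobson _)
    rintro z -
    obtain ⟨p, rfl⟩ := AdjoinRoot.mk_surjective z
    obtain ⟨r, hr⟩ : ∃ r, ρ r = (p.map ρ).eval a₀ := residue_surjective _
    have hdvd : (X - C a₀) ∣ p.map ρ - C (ρ r) := by
      rw [dvd_iff_isRoot, IsRoot, eval_sub, eval_C, hr, sub_self]
    obtain ⟨sb, hsb⟩ := hdvd
    obtain ⟨s, hs⟩ := map_surjective ρ residue_surjective sb
    have hc : (p - C r - g * s).map ρ = 0 := by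
      simp only [Polynomial.map_sub, Polynomial.map_mul, Polynomial.map_C, hs, hg, hsb, sub_self]
    have h1 := hD _ hc
    have h2 : AdjoinRoot.mk f p = (r • (1 : AdjoinRoot f) + AdjoinRoot.mk f s * AdjoinRoot.mk f g) +
        AdjoinRoot.mk f (p - C r - g * s) := by
      simp only [map_sub, map_mul, AdjoinRoot.mk_C, Algebra.smul_def, AdjoinRoot.algebraMap_eq]
      ring
    rw [h2]
    refine Submodule.add_mem_sup (Submodule.add_mem_sup
      (Submodule.smul_mem _ _ (Submodule.mem_span_singleton_self _)) ?_) ?_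
    · exact Ideal.mul_mem_left _ _ (Ideal.mem_span_singleton_self _)
    · rw [Ideal.smul_top_eq_map]; exact h1
  have hroot_mem : AdjoinRoot.root f ∈ N := hN Submodule.mem_top
  obtain ⟨y, hy, z, hz, hyz⟩ := Submodule.mem_sup.mp hroot_mem
  obtain ⟨a, rfl⟩ := Submodule.mem_span_singleton.mp hy
  obtain ⟨cz, rfl⟩ := Ideal.mem_span_singleton'.mp hz
  obtain ⟨q, rfl⟩ := AdjoinRoot.mk_surjective cz
  have h3 : AdjoinRoot.mk f (X - C a - q * g) = 0 := by
    simp only [map_sub, map_mul, AdjoinRoot.mk_X, AdjoinRoot.mk_C]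
    rw [← hyz, Algebra.smul_def, AdjoinRoot.algebraMap_eq]
    ring
  rw [AdjoinRoot.mk_eq_zero] at h3
  obtain ⟨t, ht⟩ := h3
  set q' := q + hh * t with hq'
  have hXa : X - C a = g * q' := by
    rw [hq', mul_add, ← mul_assoc, ← hfg, ← ht]; ring
  have hXa' : X - C (ρ a) = (X - C a₀) * q'.map ρ := by
    have := congr_arg (Polynomial.map ρ) hXa
    simpa [Polynomial.map_sub, Polynomial.map_mul, hg] using this
  have hρa : ρ a = a₀ := by
    have := congr_arg (eval a₀) hXa'
    simp at this
    exact (sub_eq_zero.mp this).symm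
  have hq1 : q'.map ρ = 1 := by
    rw [hρa] at hXa'
    have hne : (X - C a₀ : (ResidueField R)[X]) ≠ 0 := X_sub_C_ne_zero a₀
    have : (X - C a₀) * (q'.map ρ) = (X - C a₀) * 1 := by rw [← hXa', mul_one]
    exact mul_left_cancel₀ hne this
  have hqu : IsUnit (q'.eval a) := by
    have h4 : ρ (q'.eval a) = 1 := by
      have := congr_arg (eval (ρ a)) hq1
      rwa [eval_map, eval₂_at_apply, eval_one] at this
    by_contra hnu
    have : ρ (q'.eval a) = 0 := (residue_eq_zero_iff _).mpr hnu
    rw [h4] at this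
    exact one_ne_zero this
  refine ⟨a, ?_, hρa⟩
  have h5 : f.eval a * q'.eval a = 0 := by
    rw [← eval_mul, hfg, mul_assoc, mul_comm hh q', ← mul_assoc, ← hXa]
    simp
  exact hqu.mul_left_eq_zero.mp h5

end Groth.Agent.H3
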