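import Groth.Agent.H3.HPair9
import Groth.Agent.H3.HenselConverse2
import Mathlib.FieldTheory.PurelyInseparable.Basic

set_option autoImplicit false
set_option linter.unusedSimpArgs false
set_option linter.unusedVariables false
set_option linter.style.haveILetI false
universe u

namespace Groth.Agent.H3

open IsLocalRing

/-- A domain that is a finite product of local rings satisfies the unit dichotomy. -/
theorem isUnit_or_isUnit_one_sub_of_pi_of_isDomain {C : Type*} [CommRing C] [IsDomain C]
    {ι : Type*} [Fintype ι] {T : ι → Type*} [∀ i, CommRing (T i)] [∀ i, IsLocalRing (T i)]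
    (θ : C ≃+* (∀ i, T i)) (c : C) : IsUnit c ∨ IsUnit (1 - c) := by
  classical
  have hsub : ∀ i j : ι, i = j := by
    intro i j
    by_contra hij
    have hz : (Pi.single i 1 * Pi.single j 1 : ∀ i, T i) = 0 := by
      ext k
      rw [Pi.mul_apply, Pi.zero_apply]
      by_cases hk : k = i
      · have hkj : k ≠ j := fun h => hij (hk.symm.trans h)
        rw [Pi.single_eq_of_ne hkj, mul_zero]
      · rw [Pi.single_eq_of_ne hk, zero_mul]
    have h0 : θ.symm (Pi.single i 1) * θ.symm (Pi.single j 1) = 0 := by
      rw [← map_mul, hz, map_zero]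
    have hne : ∀ l : ι, θ.symm (Pi.single l (1 : T l)) ≠ 0 := by
      intro l hl
      have h1 : (Pi.single l (1 : T l) : ∀ i, T i) = 0 := by
        have := congr_arg θ hl
        rwa [RingEquiv.apply_symm_apply, map_zero] at this
      have h2 := congr_fun h1 l
      rw [Pi.single_eq_same, Pi.zero_apply] at h2
      exact one_ne_zero h2
    rcases mul_eq_zero.mp h0 with h | h
    · exact hne i h
    · exact hne j h
  rcases isEmpty_or_nonempty ι with hemp | ⟨⟨i₀⟩⟩
  · left
    have h1 : θ c = θ 1 := Subsingleton.elim _ _
    have h2 : c = 1 := θ.injective h1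
    rw [h2]; exact isUnit_one
  · rcases IsLocalRing.isUnit_or_isUnit_one_sub_self (θ c i₀) with h | h
    · left
      have h1 : IsUnit (θ c) := by
        rw [Pi.isUnit_iff]
        intro i
        have := hsub i₀ i
        subst this
        exact h
      have := h1.map θ.symm
      rwa [RingEquiv.symm_apply_apply] at this
    · right
      have h1 : IsUnit (θ (1 - c)) := by
        rw [Pi.isUnit_iff]
        intro i
        have := hsub i₀ i
        subst this
        rw [map_sub, map_one, Pi.sub_apply, Pi.one_apply]
        exact h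
      have := h1.map θ.symm
      rwa [RingEquiv.symm_apply_apply] at this

theorem isLocalRing_of_isIntegral_of_isDomain (A B : Type u) [CommRing A] [HenselianLocalRing A]
    [CommRing B] [IsDomain B] [Algebra A B] [Algebra.IsIntegral A B] : IsLocalRing B := by
  refine IsLocalRing.of_isUnit_or_isUnit_one_sub_self (fun b => ?_)
  obtain ⟨C, hC⟩ : ∃ C : Subalgebra A B, C = Algebra.adjoin A {b} := ⟨_, rfl⟩
  haveI : Module.Finite A C := by
    rw [hC]
    exact Algebra.finite_adjoin_simple_of_isIntegral (Algebra.IsIntegral.isIntegral b)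
  obtain ⟨ι, hι, T, hT, hloc, ⟨θ⟩⟩ := exists_pi_isLocalRing_of_finite A C
  have hbC : b ∈ C := by rw [hC]; exact Algebra.subset_adjoin rfl
  rcases isUnit_or_isUnit_one_sub_of_pi_of_isDomain θ ⟨b, hbC⟩ with h | h
  · left
    exact h.map C.val
  · right
    have := h.map C.val
    simpa using this

theorem isLocalHom_of_isIntegral (A B : Type*) [CommRing A] [IsLocalRing A] [CommRing B]
    [Nontrivial B] [Algebra A B] [Algebra.IsIntegral A B] : IsLocalHom (algebraMap A B) := by
  constructor
  intro a ha
  by_contra hna
  have ham : a ∈ maximalIdeal A := (IsLocalRing.mem_maximalIdeal a).mpr hna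
  have hker : RingHom.ker (algebraMap A B) ≤ maximalIdeal A :=
    IsLocalRing.le_maximalIdeal (RingHom.ker_ne_top _)
  obtain ⟨Q, hQ, hQc⟩ :=
    Ideal.exists_ideal_over_maximal_of_isIntegral (S := B) (maximalIdeal A) hker
  have hmem : algebraMap A B a ∈ Q := by
    have : a ∈ Q.comap (algebraMap A B) := hQc ▸ ham
    exact this
  exact hQ.ne_top (Ideal.eq_top_of_isUnit_mem _ hmem ha)

theorem henselianLocalRing_of_henselianRing_maximalIdeal (B : Type*) [CommRing B] [IsLocalRing B]
    [h : HenselianRing B (maximalIdeal B)] : HenselianLocalRing B where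
  is_henselian f hf a₀ h₁ h₂ := h.is_henselian f hf a₀ h₁ (h₂.map _)

theorem henselianLocalRing_of_isIntegral_of_isLocalRing (A B : Type u) [CommRing A]
    [HenselianLocalRing A] [CommRing B] [IsLocalRing B] [Algebra A B] [Algebra.IsIntegral A B] :
    HenselianLocalRing B := by
  haveI h1 : HenselianRing B ((maximalIdeal A).map (algebraMap A B)) :=
    henselianRing_map_of_isIntegral (maximalIdeal A) B
  have hrad : ((maximalIdeal A).map (algebraMap A B)).radical = maximalIdeal B := by
    apply le_antisymm
    · have hle : (maximalIdeal A).map (algebraMap A B) ≤ maximalIdeal B := by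
        have := h1.jac
        rwa [IsLocalRing.jacobson_eq_maximalIdeal ⊥ bot_ne_top] at this
      exact (Ideal.IsPrime.radical_le_iff (inferInstance : (maximalIdeal B).IsPrime)).mpr hle
    · rw [Ideal.radical_eq_sInf, le_sInf_iff]
      rintro P ⟨hP, hPprime⟩
      haveI := hPprime
      have hcomap : P.comap (algebraMap A B) = maximalIdeal A := by
        have h2 : maximalIdeal A ≤ P.comap (algebraMap A B) := Ideal.map_le_iff_le_comap.mp hP
        exact ((IsLocalRing.maximalIdeal.isMaximal A).eq_of_le
          (Ideal.comap_ne_top _ hPprime.ne_top) h2).symm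
      have hPmax : P.IsMaximal :=
        Ideal.isMaximal_of_isIntegral_of_isMaximal_comap P
          (hcomap ▸ IsLocalRing.maximalIdeal.isMaximal A)
      exact (IsLocalRing.eq_maximalIdeal hPmax).ge
  haveI h2 : HenselianRing B (maximalIdeal B) := by
    rw [← hrad]; exact (henselianRing_radical_iff _).mpr h1
  exact henselianLocalRing_of_henselianRing_maximalIdeal B

theorem isAlgebraic_residueField_of_isIntegral (A B : Type*) [CommRing A] [IsLocalRing A]
    [CommRing B] [IsLocalRing B] [Algebra A B] [Algebra.IsIntegral A B]
    [IsLocalHom (algebraMap A B)] :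
    letI := (IsLocalRing.ResidueField.map (algebraMap A B)).toAlgebra
    Algebra.IsAlgebraic (ResidueField A) (ResidueField B) := by
  letI := (IsLocalRing.ResidueField.map (algebraMap A B)).toAlgebra
  refine ⟨fun x => ?_⟩
  obtain ⟨b, rfl⟩ := IsLocalRing.residue_surjective x
  obtain ⟨f, hf, hfb⟩ := Algebra.IsIntegral.isIntegral (R := A) b
  refine ⟨f.map (residue A), (hf.map _).ne_zero, ?_⟩
  rw [Polynomial.aeval_def, Polynomial.eval₂_map]
  have hcomp : (algebraMap (ResidueField A) (ResidueField B)).comp (residue A) =
      (residue B).comp (algebraMap A B) := by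
    ext a
    exact IsLocalRing.ResidueField.map_residue (algebraMap A B) a
  rw [hcomp, ← Polynomial.hom_eval₂, hfb, map_zero]

end Groth.Agent.H3
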