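import Groth.Agent.H3.HenselEtale2

set_option autoImplicit false
set_option linter.style.haveILetI false
set_option linter.unusedSimpArgs false
set_option linter.unusedVariables false
universe u

namespace Groth.Agent.H3

open Polynomial IsLocalRing TensorProduct

/-- A section of an étale neighbourhood with trivial residue field extension. -/
theorem exists_section_of_etale_of_bijective {R : Type u} [CommRing R] [HenselianLocalRing R]
    {R' : Type u} [CommRing R'] [Algebra R R'] [Algebra.Etale R R'] (P : Ideal R') [P.IsPrime]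
    [P.LiesOver (maximalIdeal R)]
    (hbij : Function.Bijective (Ideal.ResidueField.mapₐ (maximalIdeal R) P (Algebra.ofId _ _)
      (P.over_def (maximalIdeal R)))) :
    ∃ s : R' →ₐ[R] R, Ideal.comap s.toRingHom (maximalIdeal R) = P := by
  have hsurj : Function.Surjective (Algebra.ofId R P.ResidueField) := by
    intro x
    obtain ⟨y, rfl⟩ := hbij.2 x
    obtain ⟨r, rfl⟩ := Ideal.algebraMap_residueField_surjective (maximalIdeal R) y
    exact ⟨r, by rw [AlgHom.commutes]; rfl⟩
  have hker : RingHom.ker (Algebra.ofId R P.ResidueField) = maximalIdeal R := by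
    ext r
    rw [RingHom.mem_ker]
    change algebraMap R P.ResidueField r = 0 ↔ _
    rw [IsScalarTower.algebraMap_apply R R' P.ResidueField, Ideal.algebraMap_residueField_eq_zero,
      P.over_def (maximalIdeal R), Ideal.under_def, Ideal.mem_comap]
  let e : ResidueField R ≃ₐ[R] P.ResidueField :=
    (Ideal.quotientEquivAlgOfEq R hker.symm).trans (Ideal.quotientKerAlgEquivOfSurjective hsurj)
  let χ : R' →ₐ[R] ResidueField R :=
    (e.symm : P.ResidueField →ₐ[R] ResidueField R).comp
      (IsScalarTower.toAlgHom R R' P.ResidueField)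
  obtain ⟨σ, hσ⟩ := exists_section_of_etale χ
  refine ⟨σ, ?_⟩
  ext x
  rw [Ideal.mem_comap, ← residue_eq_zero_iff]
  have h1 : residue R (σ x) = χ x := AlgHom.congr_fun hσ x
  change residue R (σ x) = 0 ↔ _
  rw [h1]
  change e.symm (algebraMap R' P.ResidueField x) = 0 ↔ _
  rw [map_eq_zero_iff _ e.symm.injective, Ideal.algebraMap_residueField_eq_zero]

theorem finite_quotient_mul_of_idempotent {R : Type*} [CommRing R] {S : Type*} [CommRing S]
    [Algebra R S] {a b : S} (ha : IsIdempotentElem a) (hb : IsIdempotentElem b)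
    [Module.Finite R (S ⧸ Ideal.span {a})] [Module.Finite R (S ⧸ Ideal.span {b})] :
    Module.Finite R (S ⧸ Ideal.span {a * b}) := by
  have ha0 : (1 - a) * a = 0 := by rw [sub_mul, one_mul, ha.eq, sub_self]
  have hb0 : (1 - b) * b = 0 := by rw [sub_mul, one_mul, hb.eq, sub_self]
  let φ₁ : S ⧸ Ideal.span {a} →ₗ[S] S ⧸ Ideal.span {a * b} :=
    Submodule.liftQ _ ((Submodule.mkQ (Ideal.span {a * b})).comp (LinearMap.mulLeft S (1 - a)))
      (by
        intro x hx
        obtain ⟨c, rfl⟩ := Ideal.mem_span_singleton'.mp hx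
        rw [LinearMap.mem_ker, LinearMap.comp_apply, LinearMap.mulLeft_apply]
        have : (1 - a) * (c * a) = 0 := by rw [mul_comm c a, ← mul_assoc, ha0, zero_mul]
        rw [this, map_zero])
  let φ₂ : S ⧸ Ideal.span {b} →ₗ[S] S ⧸ Ideal.span {a * b} :=
    Submodule.liftQ _ ((Submodule.mkQ (Ideal.span {a * b})).comp
      (LinearMap.mulLeft S (a * (1 - b))))
      (by
        intro x hx
        obtain ⟨c, rfl⟩ := Ideal.mem_span_singleton'.mp hx
        rw [LinearMap.mem_ker, LinearMap.comp_apply, LinearMap.mulLeft_apply]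
        have : a * (1 - b) * (c * b) = 0 := by
          rw [mul_comm c b, mul_assoc, ← mul_assoc (1 - b), hb0, zero_mul, mul_zero]
        rw [this, map_zero])
  let φ : (S ⧸ Ideal.span {a}) × (S ⧸ Ideal.span {b}) →ₗ[R] S ⧸ Ideal.span {a * b} :=
    (φ₁.restrictScalars R).coprod (φ₂.restrictScalars R)
  apply Module.Finite.of_surjective φ
  intro z
  obtain ⟨w, rfl⟩ := Submodule.mkQ_surjective _ z
  refine ⟨(Submodule.mkQ _ w, Submodule.mkQ _ w), ?_⟩
  simp only [φ, LinearMap.coprod_apply, LinearMap.coe_restrictScalars, φ₁, φ₂,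
    Submodule.mkQ_apply, Submodule.liftQ_apply, LinearMap.comp_apply, LinearMap.mulLeft_apply]
  rw [← Submodule.Quotient.mk_add, Submodule.Quotient.eq]
  have : (1 - a) * w + a * (1 - b) * w - w = (-w) * (a * b) := by ring
  rw [this]
  exact Ideal.mul_mem_left _ _ (Ideal.mem_span_singleton_self _)

theorem exists_idempotent_finite_of_quasiFiniteAt {R : Type u} [CommRing R] [HenselianLocalRing R]
    {S : Type u} [CommRing S] [Algebra R S] [Algebra.FiniteType R S] (q : Ideal S) [q.IsPrime]
    [q.LiesOver (maximalIdeal R)] [Algebra.QuasiFiniteAt R q] :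
    ∃ e : S, IsIdempotentElem e ∧ e ∉ q ∧ Module.Finite R (S ⧸ Ideal.span {1 - e}) ∧
      ∀ q' : Ideal S, q'.IsPrime → q'.LiesOver (maximalIdeal R) → e ∉ q' → q' = q := by
  classical
  obtain ⟨R', _, _, _, P, _, _, e', he', P', _, _, hP'q, he'P', hbij, hfin, huniq⟩ :=
    Algebra.exists_etale_isIdempotentElem_forall_liesOver_eq (maximalIdeal R) q
  obtain ⟨s, hs⟩ := exists_section_of_etale_of_bijective P hbij
  let ψ : R' ⊗[R] S →ₐ[R] S :=
    Algebra.TensorProduct.lift ((Algebra.ofId R S).comp s) (AlgHom.id R S)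
      (fun _ _ => Commute.all _ _)
  have hψr : ∀ x, ψ (1 ⊗ₜ x) = x := by intro x; simp [ψ]
  have hψl : ∀ r', ψ (r' ⊗ₜ 1) = algebraMap R S (s r') := by
    intro r'; simp [ψ, Algebra.ofId_apply]
  have hover : ∀ q' : Ideal S, q'.IsPrime → q'.LiesOver (maximalIdeal R) →
      (q'.comap ψ.toRingHom).LiesOver P := by
    intro q' _ hq'
    constructor
    ext r'
    rw [Ideal.under_def, Ideal.mem_comap, Ideal.mem_comap, Algebra.TensorProduct.algebraMap_apply,
      Algebra.algebraMap_self, RingHom.id_apply]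
    change _ ↔ ψ (r' ⊗ₜ 1) ∈ q'
    rw [hψl, ← hs, Ideal.mem_comap, hq'.over, Ideal.under_def, Ideal.mem_comap]
    rfl
  have hincl : ∀ q' : Ideal S,
      (q'.comap ψ.toRingHom).comap Algebra.TensorProduct.includeRight.toRingHom = q' := by
    intro q'
    ext x
    rw [Ideal.mem_comap, Ideal.mem_comap]
    change ψ (1 ⊗ₜ x) ∈ q' ↔ _
    rw [hψr]
  haveI hQover : (q.comap ψ.toRingHom).LiesOver P := hover q inferInstance inferInstance
  have hQ : q.comap ψ.toRingHom = P' :=
    Ideal.eq_of_comap_eq_comap_of_bijective_residueFieldMap hbij _ _ (by rw [hincl, hP'q])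
  refine ⟨ψ e', he'.map ψ, ?_, ?_, ?_⟩
  · intro hmem
    apply he'P'
    rw [← hQ]
    exact hmem
  · -- finiteness
    set I : Ideal S := Ideal.span {1 - ψ e'} with hI
    let ψb : R' ⊗[R] S →+* S ⧸ I := (Ideal.Quotient.mk I).comp ψ.toRingHom
    have hone : ψb e' = 1 := by
      change Ideal.Quotient.mk I (ψ e') = 1
      rw [← sub_eq_zero, ← map_one (Ideal.Quotient.mk I), ← map_sub,
        Ideal.Quotient.eq_zero_iff_mem, ← Ideal.neg_mem_iff, neg_sub]
      exact Ideal.mem_span_singleton_self _
    have hunit : IsUnit (ψb e') := by rw [hone]; exact isUnit_one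
    let ψT : Localization.Away e' →+* S ⧸ I := IsLocalization.Away.lift e' (g := ψb) hunit
    have hψT : ∀ w, ψT (algebraMap _ _ w) = ψb w := fun w => IsLocalization.Away.lift_eq _ _ _
    obtain ⟨G, hG⟩ := hfin.fg_top
    refine ⟨⟨G.image ψT, ?_⟩⟩
    rw [Submodule.eq_top_iff']
    intro z
    obtain ⟨y, rfl⟩ := Ideal.Quotient.mk_surjective z
    have hz : Ideal.Quotient.mk I y = ψT (algebraMap _ _ ((1 : R') ⊗ₜ[R] y)) := by
      rw [hψT]
      change _ = Ideal.Quotient.mk I (ψ (1 ⊗ₜ y))
      rw [hψr]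
    rw [hz]
    have hall : ∀ t : Localization.Away e', ψT t ∈ Submodule.span R (↑(G.image ψT) : Set (S ⧸ I)) := by
      intro t
      have ht : t ∈ Submodule.span R' (↑G : Set (Localization.Away e')) := by rw [hG]; trivial
      induction ht using Submodule.span_induction with
      | mem t ht => exact Submodule.subset_span (Finset.mem_image_of_mem _ (by exact_mod_cast ht))
      | zero => rw [map_zero]; exact Submodule.zero_mem _
      | add t₁ t₂ _ _ h₁ h₂ => rw [map_add]; exact Submodule.add_mem _ h₁ h₂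
      | smul r' t _ h =>
        have h1 : ψT (r' • t) = (s r') • ψT t := by
          rw [Algebra.smul_def, map_mul, IsScalarTower.algebraMap_apply R' (R' ⊗[R] S)
            (Localization.Away e'), hψT, Algebra.TensorProduct.algebraMap_apply,
            Algebra.algebraMap_self, RingHom.id_apply, Algebra.smul_def]
          congr 1
          change Ideal.Quotient.mk I (ψ (r' ⊗ₜ 1)) = _
          rw [hψl]
          rfl
        rw [h1]
        exact Submodule.smul_mem _ _ h
    exact hall _
  · intro q' hq'prime hq'over heq'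
    haveI := hq'prime
    haveI : (q'.comap ψ.toRingHom).LiesOver P := hover q' hq'prime hq'over
    have h1 : q'.comap ψ.toRingHom = P' :=
      huniq _ inferInstance inferInstance (fun hmem => heq' hmem)
    rw [← hincl q', h1, hP'q]

theorem quasiFinite_split_of_henselian (R : Type u) [CommRing R] [HenselianLocalRing R]
    (S : Type u) [CommRing S] [Algebra R S] [Algebra.FiniteType R S] [Algebra.QuasiFinite R S] :
    ∃ e : S, IsIdempotentElem e ∧ Module.Finite R (S ⧸ Ideal.span ({1 - e} : Set S)) ∧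
      Ideal.map (algebraMap R (S ⧸ Ideal.span ({e} : Set S))) (IsLocalRing.maximalIdeal R) = ⊤ := by
  classical
  have hfinite := Algebra.QuasiFinite.finite_primesOver (S := S) (maximalIdeal R)
  haveI : Fintype ((maximalIdeal R).primesOver S) := hfinite.fintype
  have H : ∀ q : (maximalIdeal R).primesOver S, ∃ e : S, IsIdempotentElem e ∧ e ∉ q.1 ∧
      Module.Finite R (S ⧸ Ideal.span {1 - e}) := by
    intro q
    haveI := q.2.1
    haveI := q.2.2
    obtain ⟨e, h1, h2, h3, -⟩ := exists_idempotent_finite_of_quasiFiniteAt (R := R) q.1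
    exact ⟨e, h1, h2, h3⟩
  choose ε hε1 hε2 hε3 using H
  have hprod_idem : ∀ s : Finset ((maximalIdeal R).primesOver S),
      IsIdempotentElem (∏ q ∈ s, (1 - ε q)) := by
    intro s
    unfold IsIdempotentElem
    rw [← Finset.prod_mul_distrib]
    exact Finset.prod_congr rfl fun q _ => (hε1 q).one_sub.eq
  have hprod_fin : ∀ s : Finset ((maximalIdeal R).primesOver S),
      Module.Finite R (S ⧸ Ideal.span {∏ q ∈ s, (1 - ε q)}) := by
    intro s
    induction s using Finset.induction_on with
    | empty =>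
      rw [Finset.prod_empty, Ideal.span_singleton_one]
      infer_instance
    | insert q s hq ih =>
      rw [Finset.prod_insert hq]
      haveI := ih
      haveI : Module.Finite R (S ⧸ Ideal.span {1 - ε q}) := hε3 q
      exact finite_quotient_mul_of_idempotent (hε1 q).one_sub (hprod_idem s)
  set a := ∏ q, (1 - ε q) with ha
  refine ⟨1 - a, (hprod_idem _).one_sub, ?_, ?_⟩
  · rw [sub_sub_cancel]; exact hprod_fin _
  · by_contra hne
    obtain ⟨𝔫, h𝔫max, hle⟩ := Ideal.exists_le_maximal _ hne
    let 𝔮 : Ideal S := 𝔫.comap (Ideal.Quotient.mk (Ideal.span {1 - a}))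
    haveI h𝔮prime : 𝔮.IsPrime := Ideal.comap_isPrime _ _
    have he𝔮 : 1 - a ∈ 𝔮 := by
      rw [Ideal.mem_comap, Ideal.Quotient.eq_zero_iff_mem.mpr (Ideal.mem_span_singleton_self _)]
      exact Ideal.zero_mem _
    have h𝔮over : 𝔮.LiesOver (maximalIdeal R) := by
      constructor
      apply le_antisymm
      · intro r hr
        rw [Ideal.under_def, Ideal.mem_comap, Ideal.mem_comap]
        exact hle (Ideal.mem_map_of_mem _ hr)
      · exact IsLocalRing.le_maximalIdeal (Ideal.IsPrime.ne_top (Ideal.comap_isPrime _ _))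
    let q₀ : (maximalIdeal R).primesOver S := ⟨𝔮, h𝔮prime, h𝔮over⟩
    have h1 : 1 - ε q₀ ∈ 𝔮 := by
      have : ε q₀ * (1 - ε q₀) ∈ 𝔮 := by
        rw [mul_sub, mul_one, (hε1 q₀).eq, sub_self]; exact Ideal.zero_mem _
      exact (h𝔮prime.mem_or_mem this).resolve_left (hε2 q₀)
    have h2 : a ∈ 𝔮 := Ideal.mem_of_dvd _ (Finset.dvd_prod_of_mem _ (Finset.mem_univ q₀)) h1
    have h3 : (1 : S) ∈ 𝔮 := by
      have := Ideal.add_mem _ he𝔮 h2
      rwa [sub_add_cancel] at this
    exact h𝔮prime.ne_top ((Ideal.eq_top_iff_one _).mpr h3)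

end Groth.Agent.H3
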