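import Groth.Agent.H3.HPair8
import Mathlib.RingTheory.TensorProduct.Quotient

set_option autoImplicit false
set_option linter.unusedSimpArgs false
set_option linter.unusedVariables false
set_option linter.style.haveILetI false
universe u

namespace Groth.Agent.H3

open Polynomial TensorProduct

/-- Integral extensions of Henselian pairs are Henselian pairs. -/
theorem henselianRing_map_of_isIntegral {A : Type u} [CommRing A] (I : Ideal A)
    [HenselianRing A I] (B : Type u) [CommRing B] [Algebra A B] [Algebra.IsIntegral A B] :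
    HenselianRing B (I.map (algebraMap A B)) := by
  apply henselianRing_of_bijOn_idempotents
  intro C _ _ hfin
  haveI := hfin
  letI : Algebra A C := ((algebraMap B C).comp (algebraMap A B)).toAlgebra
  haveI : IsScalarTower A B C := IsScalarTower.of_algebraMap_eq (fun _ => rfl)
  haveI : Algebra.IsIntegral B C := Algebra.IsIntegral.of_finite B C
  haveI : Algebra.IsIntegral A C := Algebra.IsIntegral.trans (R := A) (A := B) (B := C)
  have hideal : I.map (algebraMap A C) = (I.map (algebraMap A B)).map (algebraMap B C) := by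
    rw [Ideal.map_map]; rfl
  have := bijOn_idempotents_of_henselianRing I C
  rw [hideal] at this
  exact this

/-- Two maps out of an unramified algebra into an integral algebra that agree modulo `I ≤ Jac`
are equal. -/
theorem algHom_eq_of_sub_mem {A : Type*} [CommRing A] (I : Ideal A)
    (hjac : I ≤ Ideal.jacobson ⊥)
    {B₁ B₂ : Type*} [CommRing B₁] [CommRing B₂] [Algebra A B₁] [Algebra A B₂]
    [Algebra.EssFiniteType A B₁] [Algebra.FormallyUnramified A B₁] [Algebra.IsIntegral A B₂]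
    (φ ψ : B₁ →ₐ[A] B₂) (h : ∀ s, ψ s - φ s ∈ I.map (algebraMap A B₂)) : φ = ψ := by
  obtain ⟨tt, htt1, htt2⟩ :=
    (Algebra.FormallyUnramified.iff_exists_tensorProduct (R := A) (S := B₁)).mp inferInstance
  set 𝔟 := I.map (algebraMap A B₂) with h𝔟
  let Ψ : B₁ ⊗[A] B₁ →ₐ[A] B₂ := Algebra.TensorProduct.lift φ ψ (fun _ _ => Commute.all _ _)
  have hΨ : ∀ x y, Ψ (x ⊗ₜ[A] y) = φ x * ψ y := fun x y =>
    Algebra.TensorProduct.lift_tmul _ _ _ x y
  have hdiff : ∀ z : B₁ ⊗[A] B₁, Ψ z - φ (Algebra.TensorProduct.lmul' A z) ∈ 𝔟 := by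
    intro z
    induction z using TensorProduct.induction_on with
    | zero => simp
    | tmul x y =>
      rw [hΨ, Algebra.TensorProduct.lmul'_apply_tmul, map_mul]
      have : φ x * ψ y - φ x * φ y = φ x * (ψ y - φ y) := by ring
      rw [this]; exact 𝔟.mul_mem_left _ (h y)
    | add z₁ z₂ h₁ h₂ =>
      rw [map_add, map_add, map_add]
      have : Ψ z₁ + Ψ z₂ - (φ (Algebra.TensorProduct.lmul' A z₁) +
          φ (Algebra.TensorProduct.lmul' A z₂)) =
          (Ψ z₁ - φ (Algebra.TensorProduct.lmul' A z₁)) +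
          (Ψ z₂ - φ (Algebra.TensorProduct.lmul' A z₂)) := by ring
      rw [this]; exact 𝔟.add_mem h₁ h₂
  have hε : IsUnit (Ψ tt) := by
    have h1 := hdiff tt
    rw [htt2, map_one] at h1
    have hj : 𝔟 ≤ Ideal.jacobson ⊥ := map_le_jacobson_of_isIntegral I hjac
    refine isUnit_of_sub_mem 𝔟 hj isUnit_one ?_
    rw [← neg_sub]; exact 𝔟.neg_mem h1
  ext s
  have h2 := congr_arg Ψ (htt1 s)
  rw [map_mul, map_zero, map_sub, hΨ, hΨ, map_one, map_one, one_mul, mul_one] at h2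
  have := hε.mul_left_eq_zero.mp h2
  exact (sub_eq_zero.mp this).symm

/-- Base change to `A ⧸ I` is fully faithful on finite étale algebras over a Henselian pair. -/
theorem tensorProduct_map_bijective_of_henselianRing {A : Type u} [CommRing A] (I : Ideal A)
    [hI : HenselianRing A I]
    (B₁ B₂ : Type u) [CommRing B₁] [CommRing B₂] [Algebra A B₁] [Algebra A B₂]
    [Module.Finite A B₁] [Algebra.Etale A B₁] [Module.Finite A B₂] [Algebra.Etale A B₂] :
    Function.Bijective (fun φ : B₁ →ₐ[A] B₂ =>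
      Algebra.TensorProduct.map (AlgHom.id (A ⧸ I) (A ⧸ I)) φ) := by
  haveI : Algebra.IsIntegral A B₂ := Algebra.IsIntegral.of_finite A B₂
  let Θ₂ := Algebra.TensorProduct.quotIdealMapEquivQuotTensor B₂ I
  have hΘ : ∀ b : B₂, Θ₂.symm ((1 : A ⧸ I) ⊗ₜ[A] b) = Ideal.Quotient.mk _ b := by
    intro b
    rw [AlgEquiv.symm_apply_eq]
    exact (Algebra.TensorProduct.quotIdealMapEquivQuotTensor_mk B₂ I b).symm
  constructor
  · intro φ ψ hφψ
    apply algHom_eq_of_sub_mem I hI.jac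
    intro s
    have h1 := AlgHom.congr_fun (show Algebra.TensorProduct.map (AlgHom.id (A ⧸ I) (A ⧸ I)) φ =
      Algebra.TensorProduct.map (AlgHom.id (A ⧸ I) (A ⧸ I)) ψ from hφψ) ((1 : A ⧸ I) ⊗ₜ[A] s)
    rw [Algebra.TensorProduct.map_tmul, Algebra.TensorProduct.map_tmul, AlgHom.id_apply] at h1
    have h2 := congr_arg Θ₂.symm h1
    rw [hΘ, hΘ] at h2
    exact Ideal.Quotient.eq.mp h2.symm
  · intro χ
    set 𝔟 := I.map (algebraMap A B₂) with h𝔟
    haveI : HenselianRing B₂ 𝔟 := henselianRing_map_of_isIntegral I B₂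
    let g₁ : B₁ →ₐ[A] B₂ ⧸ 𝔟 :=
      (((Θ₂.symm : (A ⧸ I) ⊗[A] B₂ →ₐ[A ⧸ I] B₂ ⧸ 𝔟).comp χ).restrictScalars A).comp
        (Algebra.TensorProduct.includeRight : B₁ →ₐ[A] (A ⧸ I) ⊗[A] B₁)
    have hg₁ : ∀ b, g₁ b = Θ₂.symm (χ ((1 : A ⧸ I) ⊗ₜ[A] b)) := fun b => rfl
    let σ : B₂ ⊗[A] B₁ →ₐ[B₂] B₂ ⧸ 𝔟 :=
      Algebra.TensorProduct.lift (Algebra.ofId B₂ (B₂ ⧸ 𝔟)) g₁ (fun _ _ => Commute.all _ _)
    obtain ⟨τ, hτ⟩ := exists_lift_of_etale_of_henselianRing 𝔟 (B₂ ⊗[A] B₁) σ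
    let φ : B₁ →ₐ[A] B₂ := (τ.restrictScalars A).comp
      (Algebra.TensorProduct.includeRight : B₁ →ₐ[A] B₂ ⊗[A] B₁)
    have hφ : ∀ b, Ideal.Quotient.mk 𝔟 (φ b) = g₁ b := by
      intro b
      have h3 := AlgHom.congr_fun hτ ((1 : B₂) ⊗ₜ[A] b)
      rw [AlgHom.comp_apply] at h3
      change Ideal.Quotient.mkₐ B₂ 𝔟 (τ ((1 : B₂) ⊗ₜ[A] b)) = _
      rw [h3]
      change Algebra.TensorProduct.lift (Algebra.ofId B₂ (B₂ ⧸ 𝔟)) g₁ _ ((1 : B₂) ⊗ₜ[A] b) = _
      rw [Algebra.TensorProduct.lift_tmul, map_one, one_mul]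
    refine ⟨φ, ?_⟩
    change Algebra.TensorProduct.map (AlgHom.id (A ⧸ I) (A ⧸ I)) φ = χ
    apply AlgHom.ext
    intro z
    induction z using TensorProduct.induction_on with
    | zero => simp
    | tmul c b =>
      have hcb : c ⊗ₜ[A] b = c • ((1 : A ⧸ I) ⊗ₜ[A] b) := by
        rw [TensorProduct.smul_tmul', smul_eq_mul, mul_one]
      rw [hcb, map_smul, map_smul]
      congr 1
      rw [Algebra.TensorProduct.map_tmul, AlgHom.id_apply]
      apply Θ₂.symm.injective
      rw [hΘ, hφ, hg₁]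
    | add z₁ z₂ h₁ h₂ => rw [map_add, map_add, h₁, h₂]

end Groth.Agent.H3
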