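import Groth.Agent.H3.Hensel
import Mathlib.Algebra.Polynomial.Identities
import Mathlib.Algebra.Polynomial.Lifts

set_option autoImplicit false
universe u

namespace Groth.Agent.H3

open Polynomial

variable {A : Type*} [CommRing A]

theorem isUnit_of_isUnit_mk (I : Ideal A) (hI : I ≤ Ideal.jacobson ⊥) {x : A}
    (h : IsUnit (Ideal.Quotient.mk I x)) : IsUnit x := by
  have := isLocalHom_of_le_jacobson_bot I hI
  exact IsUnit.of_map (Ideal.Quotient.mk I) x h

theorem isUnit_of_sub_mem (J : Ideal A) (hJ : J ≤ Ideal.jacobson ⊥) {u v : A} (hu : IsUnit u)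
    (h : u - v ∈ J) : IsUnit v := by
  apply isUnit_of_isUnit_mk J hJ
  have : Ideal.Quotient.mk J v = Ideal.Quotient.mk J u := by
    rw [eq_comm, Ideal.Quotient.eq]; exact h
  rw [this]
  exact hu.map _

theorem eval_sub_mem (J : Ideal A) (f : A[X]) {a b : A} (h : a - b ∈ J) :
    f.eval a - f.eval b ∈ J := by
  obtain ⟨z, hz⟩ := f.evalSubFactor a b
  rw [hz]
  exact J.mul_mem_left _ h

/-- If `a` is a root of `f` close to `a₀` modulo `J` (in the Jacobson radical), with
`f' a₀` a unit, and `f a₀ ∈ I`, then `a` is close to `a₀` modulo `I`. -/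
theorem sub_mem_of_isRoot (I J : Ideal A) (hJ : J ≤ Ideal.jacobson ⊥) (f : A[X]) {a a₀ : A}
    (ha : f.IsRoot a) (haJ : a - a₀ ∈ J) (hu : IsUnit (f.derivative.eval a₀))
    (h₁ : f.eval a₀ ∈ I) : a - a₀ ∈ I := by
  obtain ⟨k, hk⟩ := f.binomExpansion a (a₀ - a)
  rw [add_sub_cancel, ha, zero_add] at hk
  have hy : a₀ - a ∈ J := by rw [← neg_sub]; exact J.neg_mem haJ
  have hu' : IsUnit (f.derivative.eval a + k * (a₀ - a)) := by
    refine isUnit_of_sub_mem J hJ hu ?_
    have h1 : f.derivative.eval a₀ - f.derivative.eval a ∈ J := eval_sub_mem J _ hy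
    have h2 : k * (a₀ - a) ∈ J := J.mul_mem_left _ hy
    have : f.derivative.eval a₀ - (f.derivative.eval a + k * (a₀ - a)) =
        (f.derivative.eval a₀ - f.derivative.eval a) - k * (a₀ - a) := by ring
    rw [this]
    exact J.sub_mem h1 h2
  have h3 : (f.derivative.eval a + k * (a₀ - a)) * (a₀ - a) ∈ I := by
    have : (f.derivative.eval a + k * (a₀ - a)) * (a₀ - a) = f.eval a₀ := by rw [hk]; ring
    rw [this]; exact h₁
  have h4 : a₀ - a ∈ I := by
    obtain ⟨w, hw⟩ := hu'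
    have : a₀ - a = ↑w⁻¹ * ((f.derivative.eval a + k * (a₀ - a)) * (a₀ - a)) := by
      rw [← hw, ← mul_assoc, Units.inv_mul, one_mul]
    rw [this]
    exact I.mul_mem_left _ h3
  rw [← neg_sub]; exact I.neg_mem h4

theorem map_le_jacobson_bot (I J : Ideal A) (hJ : J ≤ Ideal.jacobson ⊥) :
    J.map (Ideal.Quotient.mk I) ≤ Ideal.jacobson ⊥ := by
  intro x hx
  obtain ⟨j, hj, rfl⟩ := (Ideal.mem_map_iff_of_surjective _ Ideal.Quotient.mk_surjective).mp hx
  rw [Ideal.mem_jacobson_bot]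
  intro y
  obtain ⟨y, rfl⟩ := Ideal.Quotient.mk_surjective y
  have := (Ideal.mem_jacobson_bot.mp (hJ hj)) y
  rw [← map_mul, ← map_one (Ideal.Quotient.mk I), ← map_add]
  exact this.map _

theorem mem_of_mk_mem_map (I J : Ideal A) (hIJ : I ≤ J) {x : A}
    (hx : Ideal.Quotient.mk I x ∈ J.map (Ideal.Quotient.mk I)) : x ∈ J := by
  obtain ⟨j, hj, hjx⟩ := (Ideal.mem_map_iff_of_surjective _ Ideal.Quotient.mk_surjective).mp hx
  rw [Ideal.Quotient.eq] at hjx
  have : x = j - (j - x) := by ring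
  rw [this]
  exact J.sub_mem hj (hIJ hjx)

theorem henselianRing_of_le (I J : Ideal A) (hIJ : I ≤ J) [hJ : HenselianRing A J] :
    HenselianRing A I where
  jac := hIJ.trans hJ.jac
  is_henselian := by
    intro f hf a₀ h₁ h₂
    have hu : IsUnit (f.derivative.eval a₀) := isUnit_of_isUnit_mk I (hIJ.trans hJ.jac) h₂
    obtain ⟨a, ha, haJ⟩ := hJ.is_henselian f hf a₀ (hIJ h₁) (hu.map _)
    exact ⟨a, ha, sub_mem_of_isRoot I J hJ.jac f ha haJ hu h₁⟩

theorem henselianRing_quotient (I J : Ideal A) (hIJ : I ≤ J) [hJ : HenselianRing A J] :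
    HenselianRing (A ⧸ I) (J.map (Ideal.Quotient.mk I)) where
  jac := map_le_jacobson_bot I J hJ.jac
  is_henselian := by
    intro f hf a₀ h₁ h₂
    obtain ⟨g, hg, -, hgm⟩ := lifts_and_natDegree_eq_and_monic
      ((mem_lifts f).mpr (map_surjective _ Ideal.Quotient.mk_surjective f)) hf
    obtain ⟨b₀, rfl⟩ := Ideal.Quotient.mk_surjective a₀
    subst hg
    rw [eval_map_apply] at h₁
    rw [derivative_map, eval_map_apply] at h₂
    have h₁' : g.eval b₀ ∈ J := mem_of_mk_mem_map I J hIJ h₁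
    have hu1 : IsUnit (Ideal.Quotient.mk I (g.derivative.eval b₀)) :=
      isUnit_of_isUnit_mk _ (map_le_jacobson_bot I J hJ.jac) h₂
    have hu : IsUnit (g.derivative.eval b₀) := isUnit_of_isUnit_mk I (hIJ.trans hJ.jac) hu1
    obtain ⟨a, ha, haJ⟩ := hJ.is_henselian g hgm b₀ h₁' (hu.map _)
    refine ⟨Ideal.Quotient.mk I a, ?_, ?_⟩
    · rw [IsRoot.def, eval_map_apply, ha, map_zero]
    · rw [← map_sub]
      exact Ideal.mem_map_of_mem _ haJ

theorem henselianRing_of_quotient (I J : Ideal A) (hIJ : I ≤ J) [hI : HenselianRing A I]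
    [hQ : HenselianRing (A ⧸ I) (J.map (Ideal.Quotient.mk I))] : HenselianRing A J := by
  have hjac : J ≤ Ideal.jacobson ⊥ := by
    intro x hx
    rw [Ideal.mem_jacobson_bot]
    intro y
    apply isUnit_of_isUnit_mk I hI.jac
    rw [map_add, map_one, map_mul]
    exact Ideal.mem_jacobson_bot.mp (hQ.jac (Ideal.mem_map_of_mem _ hx)) _
  refine ⟨hjac, ?_⟩
  intro f hf a₀ h₁ h₂
  have hu : IsUnit (f.derivative.eval a₀) := isUnit_of_isUnit_mk J hjac h₂
  obtain ⟨b', hb', hb'J⟩ := hQ.is_henselian (f.map (Ideal.Quotient.mk I)) (hf.map _)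
    (Ideal.Quotient.mk I a₀) (by rw [eval_map_apply]; exact Ideal.mem_map_of_mem _ h₁)
    (by rw [derivative_map, eval_map_apply]; exact (hu.map _).map _)
  obtain ⟨b, rfl⟩ := Ideal.Quotient.mk_surjective b'
  rw [IsRoot.def, eval_map_apply, Ideal.Quotient.eq_zero_iff_mem] at hb'
  rw [← map_sub] at hb'J
  have hbJ : b - a₀ ∈ J := mem_of_mk_mem_map I J hIJ hb'J
  have hub : IsUnit (f.derivative.eval b) := by
    refine isUnit_of_sub_mem J hjac hu ?_
    apply eval_sub_mem
    rw [← neg_sub]; exact J.neg_mem hbJ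
  obtain ⟨a, ha, haI⟩ := hI.is_henselian f hf b hb' (hub.map _)
  refine ⟨a, ha, ?_⟩
  have : a - a₀ = (a - b) + (b - a₀) := by ring
  rw [this]
  exact J.add_mem (hIJ haI) hbJ

end Groth.Agent.H3

namespace Groth.Agent.H3

variable {A : Type*} [CommRing A]

theorem henselianRing_radical_iff (I : Ideal A) : HenselianRing A I.radical ↔ HenselianRing A I := by
  constructor
  · intro h
    exact henselianRing_of_le I I.radical Ideal.le_radical
  · intro h
    have hnil : ∀ x ∈ I.radical.map (Ideal.Quotient.mk I), IsNilpotent x := by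
      intro x hx
      obtain ⟨y, hy, rfl⟩ := (Ideal.mem_map_iff_of_surjective _ Ideal.Quotient.mk_surjective).mp hx
      obtain ⟨n, hn⟩ := hy
      exact ⟨n, by rw [← map_pow, Ideal.Quotient.eq_zero_iff_mem]; exact hn⟩
    have := henselianRing_of_forall_isNilpotent _ hnil
    exact henselianRing_of_quotient I I.radical Ideal.le_radical

end Groth.Agent.H3
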