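import Groth.Agent.H3.PH7
import Groth.Agent.H3.HPair9
import Groth.Agent.H3.Hensel2

/-!
# Henselization of a pair commutes with integral base change; quotients; neighbourhoods
-/

set_option autoImplicit false
set_option linter.unusedSimpArgs false
set_option linter.unusedVariables false
set_option linter.style.haveILetI false
universe u
open TensorProduct Polynomial

namespace Groth.Agent.H3.PH

section BaseChange

variable {A : Type u} [CommRing A] (I : Ideal A)

/-- `Ah ⊗_A B` is henselian along `J (Ah ⊗_A B)` for `B` integral over `A` and `rad J = rad IB`. -/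
theorem henselianRing_tensor_of_isIntegral (Ah : Type u) [CommRing Ah] [Algebra A Ah]
    (hA : Hens2.IsPairHenselization A I Ah) (B : Type u) [CommRing B] [Algebra A B]
    [Algebra.IsIntegral A B] (J : Ideal B) (hIJ : I.map (algebraMap A B) ≤ J)
    (hrad : J.radical = (I.map (algebraMap A B)).radical) :
    HenselianRing (Ah ⊗[A] B)
      (J.map (Algebra.TensorProduct.includeRight : B →ₐ[A] Ah ⊗[A] B).toRingHom) := by
  let iR : B →ₐ[A] Ah ⊗[A] B := Algebra.TensorProduct.includeRight
  haveI := hA.1
  have h1 : HenselianRing (Ah ⊗[A] B)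
      ((I.map (algebraMap A Ah)).map (algebraMap Ah (Ah ⊗[A] B))) :=
    Groth.Agent.H3.henselianRing_map_of_isIntegral (I.map (algebraMap A Ah)) (Ah ⊗[A] B)
  have hK : (I.map (algebraMap A Ah)).map (algebraMap Ah (Ah ⊗[A] B)) =
      (I.map (algebraMap A B)).map iR.toRingHom := by
    rw [Ideal.map_map, Ideal.map_map]
    congr 1
    ext a
    show algebraMap Ah (Ah ⊗[A] B) (algebraMap A Ah a) = iR (algebraMap A B a)
    rw [iR.commutes]
    exact (IsScalarTower.algebraMap_apply A Ah _ a).symm
  rw [hK] at h1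
  have hJK : J.map iR.toRingHom ≤ ((I.map (algebraMap A B)).map iR.toRingHom).radical := by
    calc J.map iR.toRingHom ≤ J.radical.map iR.toRingHom := Ideal.map_mono Ideal.le_radical
      _ = (I.map (algebraMap A B)).radical.map iR.toRingHom := by rw [hrad]
      _ ≤ _ := Ideal.map_radical_le _
  haveI h2 : HenselianRing (Ah ⊗[A] B) ((I.map (algebraMap A B)).map iR.toRingHom).radical :=
    (Groth.Agent.H3.henselianRing_radical_iff _).mpr h1
  exact Groth.Agent.H3.henselianRing_of_le _ _ hJK

/-- Henselization of a pair commutes with integral base change. -/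
theorem isPairHenselization_tensor_of_isIntegral (Ah : Type u) [CommRing Ah] [Algebra A Ah]
    (hA : Hens2.IsPairHenselization A I Ah) (B : Type u) [CommRing B] [Algebra A B]
    [Algebra.IsIntegral A B] (J : Ideal B) (hIJ : I.map (algebraMap A B) ≤ J)
    (hrad : J.radical = (I.map (algebraMap A B)).radical) :
    Hens2.IsPairHenselization B J (B ⊗[A] Ah) := by
  have hHT := henselianRing_tensor_of_isIntegral I Ah hA B J hIJ hrad
  let c : Ah ⊗[A] B ≃ₐ[A] B ⊗[A] Ah := Algebra.TensorProduct.comm A Ah B
  have hcR : ∀ b : B, c ((1 : Ah) ⊗ₜ[A] b) = algebraMap B (B ⊗[A] Ah) b := fun b => by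
    rw [Algebra.TensorProduct.algebraMap_apply]
    rfl
  refine ⟨?_, ?_⟩
  · haveI := hHT
    have h := Groth.Agent.H3.henselianRing_map_of_surjective (c : Ah ⊗[A] B →+* B ⊗[A] Ah)
      c.surjective
      (J.map (Algebra.TensorProduct.includeRight : B →ₐ[A] Ah ⊗[A] B).toRingHom)
    have heq : (J.map (Algebra.TensorProduct.includeRight : B →ₐ[A] Ah ⊗[A] B).toRingHom).map
        (c : Ah ⊗[A] B →+* B ⊗[A] Ah) = J.map (algebraMap B (B ⊗[A] Ah)) := by
      rw [Ideal.map_map]
      have hcomp : (c : Ah ⊗[A] B →+* B ⊗[A] Ah).comp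
          (Algebra.TensorProduct.includeRight : B →ₐ[A] Ah ⊗[A] B).toRingHom =
          algebraMap B (B ⊗[A] Ah) := RingHom.ext fun b => hcR b
      rw [hcomp]
    rw [← heq]
    exact h
  · intro C _ K f hC hJK
    letI : Algebra A C := (f.comp (algebraMap A B)).toAlgebra
    have hIK : I.map (f.comp (algebraMap A B)) ≤ K := by
      rw [← Ideal.map_map]
      exact (Ideal.map_mono hIJ).trans hJK
    obtain ⟨g₀, hg₀, hg₀uniq⟩ := hA.2 C K (f.comp (algebraMap A B)) hC hIK
    let fA : B →ₐ[A] C := { toRingHom := f, commutes' := fun a => rfl }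
    let gA : Ah →ₐ[A] C := { toRingHom := g₀, commutes' := fun a => RingHom.congr_fun hg₀ a }
    let g : B ⊗[A] Ah →ₐ[A] C := Algebra.TensorProduct.lift fA gA (fun _ _ => Commute.all _ _)
    have hg : ∀ b x, g (b ⊗ₜ[A] x) = f b * g₀ x := fun b x =>
      Algebra.TensorProduct.lift_tmul _ _ _ b x
    refine ⟨g.toRingHom, ?_, ?_⟩
    · ext b
      show g (algebraMap B (B ⊗[A] Ah) b) = f b
      rw [Algebra.TensorProduct.algebraMap_apply, hg, map_one, mul_one]
      rfl
    · intro g' hg'
      have hg'B : ∀ b, g' (b ⊗ₜ[A] (1 : Ah)) = f b := fun b => by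
        have := RingHom.congr_fun hg' b
        rw [RingHom.comp_apply, Algebra.TensorProduct.algebraMap_apply] at this
        exact this
      have h1 : g'.comp (Algebra.TensorProduct.includeRight : Ah →ₐ[A] B ⊗[A] Ah).toRingHom
          = g₀ := by
        apply hg₀uniq
        ext a
        show g' ((1 : B) ⊗ₜ[A] (algebraMap A Ah a)) = f (algebraMap A B a)
        rw [← hg'B]
        congr 1
        rw [Algebra.algebraMap_eq_smul_one, Algebra.algebraMap_eq_smul_one,
          TensorProduct.tmul_smul, TensorProduct.smul_tmul']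
      apply RingHom.ext
      intro z
      show g' z = g z
      induction z using TensorProduct.induction_on with
      | zero => rw [map_zero, map_zero]
      | tmul b x =>
        have hbx : b ⊗ₜ[A] x = (b ⊗ₜ[A] (1 : Ah)) * ((1 : B) ⊗ₜ[A] x) := by
          rw [Algebra.TensorProduct.tmul_mul_tmul, mul_one, one_mul]
        have h2 : g' ((1 : B) ⊗ₜ[A] x) = g₀ x := RingHom.congr_fun h1 x
        rw [hbx, map_mul, hg'B, h2, ← hbx, hg]
      | add z₁ z₂ h₁ h₂ => rw [map_add, map_add, h₁, h₂]

end BaseChange

section LocalMax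

open IsLocalRing

/-- The henselization of a pair `(B, J)` with `J` maximal is a local ring. -/
theorem isLocalRing_of_isPairHenselization_of_isMaximal {B : Type u} [CommRing B] (J : Ideal B)
    [hJ : J.IsMaximal] (T : Type u) [CommRing T] [Algebra B T]
    (hT : Hens2.IsPairHenselization B J T) :
    IsLocalRing T ∧ ∀ b : B, IsUnit (algebraMap B T b) → b ∉ J := by
  have hbij := quotientMap_pow_bijective J T hT 1
  rw [pow_one] at hbij
  letI : Field (B ⧸ J) := Ideal.Quotient.field J
  -- `T ⧸ JT` is a field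
  have hfield : IsField (T ⧸ J.map (algebraMap B T)) :=
    (RingEquiv.ofBijective _ hbij).symm.toMulEquiv.isField (Field.toIsField (B ⧸ J))
  have hmax : (J.map (algebraMap B T)).IsMaximal :=
    Ideal.Quotient.maximal_of_isField _ hfield
  have hjac : J.map (algebraMap B T) ≤ Ideal.jacobson ⊥ := hT.1.jac
  have hloc : IsLocalRing T := by
    refine IsLocalRing.of_unique_max_ideal ⟨J.map (algebraMap B T), hmax, ?_⟩
    intro K hK
    have hle : J.map (algebraMap B T) ≤ K := hjac.trans (sInf_le ⟨bot_le, hK⟩)
    exact (hmax.eq_of_le hK.ne_top hle).symm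
  refine ⟨hloc, fun b hb hbJ => ?_⟩
  have h1 : algebraMap B T b ∈ J.map (algebraMap B T) := Ideal.mem_map_of_mem _ hbJ
  exact hmax.ne_top (Ideal.eq_top_of_isUnit_mem _ h1 hb)

end LocalMax

end Groth.Agent.H3.PH
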