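import Mathlib
import Groth.Prelude.Def_Smoothing
import Groth.Agent.H44.GlueTrick

/-!
# Singular ideal: general lemmas for the separable residue field case (helper3)
-/

set_option autoImplicit false
set_option linter.style.haveILetI false
universe u

namespace Groth.Agent.H3.Sep

open Groth.Agent.H44.LocTrick TensorProduct

/-- If `B'[1/a]` is formally smooth over `A'` and `a` lies in the singular ideal of `A'` over `R`,
then its image lies in the singular ideal of `B'` over `R`. -/
theorem mem_singularIdeal_of_smooth_away {R A' B' : Type u} [CommRing R] [CommRing A'] [CommRing B']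
    [Algebra R A'] [Algebra A' B'] [Algebra R B'] [IsScalarTower R A' B']
    [Algebra.FinitePresentation R A'] [Algebra.FinitePresentation R B']
    (a : A') (ha : a ∈ Smoothing.singularIdeal R A')
    (hsm : Algebra.FormallySmooth A' (Localization.Away (algebraMap A' B' a))) :
    algebraMap A' B' a ∈ Smoothing.singularIdeal R B' := by
  rw [mem_singularIdeal_iff] at ha ⊢
  have hu : IsUnit (algebraMap A' (Localization.Away (algebraMap A' B' a)) a) := by
    rw [IsScalarTower.algebraMap_apply A' B' (Localization.Away (algebraMap A' B' a))]
    exact IsLocalization.Away.algebraMap_isUnit _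
  letI : Algebra (Localization.Away a) (Localization.Away (algebraMap A' B' a)) :=
    (IsLocalization.Away.lift a hu).toAlgebra
  haveI : IsScalarTower A' (Localization.Away a) (Localization.Away (algebraMap A' B' a)) :=
    IsScalarTower.of_algebraMap_eq fun x => (IsLocalization.Away.lift_eq a hu x).symm
  haveI : IsScalarTower R (Localization.Away a) (Localization.Away (algebraMap A' B' a)) := by
    refine IsScalarTower.of_algebraMap_eq fun r => ?_
    rw [IsScalarTower.algebraMap_apply R A' (Localization.Away a),
      ← IsScalarTower.algebraMap_apply A' (Localization.Away a)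
        (Localization.Away (algebraMap A' B' a)),
      ← IsScalarTower.algebraMap_apply R A' (Localization.Away (algebraMap A' B' a))]
  haveI : Algebra.FormallySmooth (Localization.Away a) (Localization.Away (algebraMap A' B' a)) :=
    Algebra.FormallySmooth.localization_base (Submonoid.powers a)
  haveI : Algebra.FormallySmooth R (Localization.Away a) := ha.formallySmooth
  haveI : Algebra.FormallySmooth R (Localization.Away (algebraMap A' B' a)) :=
    Algebra.FormallySmooth.comp R (Localization.Away a) _
  haveI : Algebra.FinitePresentation R (Localization.Away (algebraMap A' B' a)) :=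
    Algebra.FinitePresentation.trans R B' _
  exact ⟨inferInstance, inferInstance⟩

/-- Base change of the singular ideal. -/
theorem tmul_mem_singularIdeal {k A R : Type u} [CommRing k] [CommRing A] [CommRing R]
    [Algebra k A] [Algebra k R] [Algebra.FinitePresentation k A]
    (a : A) (ha : a ∈ Smoothing.singularIdeal k A) :
    (1 : R) ⊗ₜ[k] a ∈ Smoothing.singularIdeal R (R ⊗[k] A) := by
  rw [mem_singularIdeal_iff] at ha ⊢
  haveI := ha
  exact Algebra.Smooth.of_equiv
    (IsLocalization.Away.tensorProductEquivTMulRight k R a (Localization.Away a))

/-- The singular ideal over a formally smooth base is contained in the absolute one. -/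
theorem singularIdeal_le_of_formallySmooth {k R D : Type u} [CommRing k] [CommRing R] [CommRing D]
    [Algebra k R] [Algebra R D] [Algebra k D] [IsScalarTower k R D] [Algebra.FormallySmooth k R] :
    Smoothing.singularIdeal R D ≤ Smoothing.singularIdeal k D := by
  unfold Smoothing.singularIdeal
  apply PrimeSpectrum.vanishingIdeal_anti_mono
  intro x hx hx'
  apply hx
  have h1 : Algebra.FormallySmooth R (Localization.AtPrime x.asIdeal) := hx'
  show Algebra.FormallySmooth k (Localization.AtPrime x.asIdeal)
  exact Algebra.FormallySmooth.comp k R _

/-- The singular ideal of a smooth algebra is the unit ideal. -/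
theorem singularIdeal_eq_top {R B : Type u} [CommRing R] [CommRing B] [Algebra R B]
    [Algebra.Smooth R B] : Smoothing.singularIdeal R B = ⊤ := by
  rw [Ideal.eq_top_iff_one]
  haveI : Algebra.FinitePresentation R B := Algebra.Smooth.finitePresentation
  rw [mem_singularIdeal_iff]
  haveI : Algebra.FormallySmooth R B := Algebra.Smooth.formallySmooth
  haveI : Algebra.FormallySmooth B (Localization.Away (1 : B)) :=
    Algebra.FormallySmooth.of_isLocalization (Submonoid.powers (1 : B))
  haveI : Algebra.FormallySmooth R (Localization.Away (1 : B)) :=
    Algebra.FormallySmooth.comp R B _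
  haveI : Algebra.FinitePresentation R (Localization.Away (1 : B)) :=
    Algebra.FinitePresentation.trans R B _
  exact ⟨inferInstance, inferInstance⟩

theorem singularIdeal_isRadical {R B : Type u} [CommRing R] [CommRing B] [Algebra R B] :
    (Smoothing.singularIdeal R B).IsRadical :=
  PrimeSpectrum.isRadical_vanishingIdeal _

end Groth.Agent.H3.Sep
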