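import Mathlib
import Groth.Agent.H10.StdSmooth

/-!
# The algebra `T[z_ij]/(u_i - Σ_j a_j z_ij)` (helper3)
-/

set_option autoImplicit false
set_option linter.style.haveILetI false
universe u

namespace Groth.Agent.H3.Sep

open MvPolynomial

section BT

variable {T : Type u} [CommRing T] (d r : ℕ) (u : Fin d → T) (a' : Fin r → T)

/-- the relations `u_i - Σ_j a_j z_ij`. -/
noncomputable def relT (i : Fin d) : MvPolynomial (Fin (d * r)) T :=
  C (u i) - ∑ j, C (a' j) * X (finProdFinEquiv (i, j))

/-- the algebra `T[z_ij]/(u_i - Σ_j a_j z_ij)`. -/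
abbrev BT : Type u := MvPolynomial (Fin (d * r)) T ⧸ Ideal.span (Set.range (relT d r u a'))

theorem pderiv_relT (i i' : Fin d) (j0 : Fin r) :
    pderiv (finProdFinEquiv (i, j0)) (relT d r u a' i') = if i = i' then - C (a' j0) else 0 := by
  classical
  unfold relT
  rw [map_sub, pderiv_C, zero_sub, map_sum]
  have h : ∀ j : Fin r, pderiv (finProdFinEquiv (i, j0)) (C (a' j) * X (finProdFinEquiv (i', j))) =
      if (i', j) = (i, j0) then C (a' j) else 0 := by
    intro j
    rw [Derivation.leibniz, pderiv_C, smul_zero, add_zero, pderiv_X, smul_eq_mul]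
    by_cases hij : (i', j) = (i, j0)
    · rw [if_pos hij, hij, Pi.single_eq_same, mul_one]
    · rw [if_neg hij, Pi.single_eq_of_ne, mul_zero]
      intro h
      exact hij (finProdFinEquiv.injective h)
  rw [Finset.sum_congr rfl (fun j _ => h j)]
  by_cases hii : i = i'
  · subst hii
    rw [if_pos rfl]
    rw [Finset.sum_eq_single j0]
    · rw [if_pos rfl]
    · intro j _ hj
      rw [if_neg]
      intro h
      exact hj (Prod.mk.inj h).2
    · intro h
      exact absurd (Finset.mem_univ _) h
  · rw [if_neg hii]
    simp only [neg_eq_zero]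
    apply Finset.sum_eq_zero
    intro j _
    rw [if_neg]
    intro h
    exact hii (Prod.mk.inj h).1.symm

theorem isStandardSmooth_away (j0 : Fin r) :
    Algebra.IsStandardSmooth T
      (Localization.Away (Ideal.Quotient.mk (Ideal.span (Set.range (relT d r u a')))
        (C (a' j0)))) := by
  classical
  refine Groth.Agent.H10.isStandardSmooth_of_localization_naive (relT d r u a')
    (fun i => finProdFinEquiv (i, j0)) ?_ _
    (Ideal.Quotient.mk (Ideal.span (Set.range (relT d r u a'))) (C (a' j0))) ?_
  · intro i i' h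
    exact (Prod.mk.inj (finProdFinEquiv.injective h)).1
  · have hM : (Matrix.of fun i j : Fin d => pderiv (finProdFinEquiv (i, j0)) (relT d r u a' j)) =
        Matrix.diagonal fun _ => - C (a' j0) := by
      ext i j
      rw [Matrix.of_apply, pderiv_relT, Matrix.diagonal_apply]
    rw [hM, Matrix.det_diagonal, Finset.prod_const, map_pow, map_pow, map_neg, map_neg]
    exact ((IsLocalization.Away.algebraMap_isUnit _).neg).pow _

theorem mk_C_u (i : Fin d) :
    Ideal.Quotient.mk (Ideal.span (Set.range (relT d r u a'))) (C (u i)) =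
      ∑ j, Ideal.Quotient.mk (Ideal.span (Set.range (relT d r u a'))) (C (a' j)) *
        Ideal.Quotient.mk (Ideal.span (Set.range (relT d r u a'))) (X (finProdFinEquiv (i, j))) := by
  have h : Ideal.Quotient.mk (Ideal.span (Set.range (relT d r u a'))) (relT d r u a' i) = 0 :=
    Ideal.Quotient.eq_zero_iff_mem.mpr (Ideal.subset_span ⟨i, rfl⟩)
  have h2 : relT d r u a' i = C (u i) - ∑ j, C (a' j) * X (finProdFinEquiv (i, j)) := rfl
  rw [h2, map_sub, sub_eq_zero, map_sum] at h
  rw [h]
  exact Finset.sum_congr rfl fun j _ => map_mul _ _ _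

/-- the universal property. -/
noncomputable def liftBT {L : Type u} [CommRing L] [Algebra T L] (lam : Fin d → Fin r → L)
    (h : ∀ i, algebraMap T L (u i) = ∑ j, algebraMap T L (a' j) * lam i j) :
    BT d r u a' →ₐ[T] L :=
  Ideal.Quotient.liftₐ _
    (aeval fun t : Fin (d * r) => lam (finProdFinEquiv.symm t).1 (finProdFinEquiv.symm t).2)
    (by
      intro p hp
      refine Submodule.span_induction ?_ ?_ ?_ ?_ hp
      · rintro _ ⟨i, rfl⟩
        unfold relT
        rw [map_sub, aeval_C, map_sum, h i, sub_eq_zero]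
        refine Finset.sum_congr rfl fun j _ => ?_
        rw [map_mul, aeval_C, aeval_X, Equiv.symm_apply_apply]
      · exact map_zero _
      · intro x y _ _ hx hy
        rw [map_add, hx, hy, add_zero]
      · intro c x _ hx
        rw [smul_eq_mul, map_mul, hx, mul_zero])

theorem liftBT_mk_X {L : Type u} [CommRing L] [Algebra T L] (lam : Fin d → Fin r → L)
    (h : ∀ i, algebraMap T L (u i) = ∑ j, algebraMap T L (a' j) * lam i j) (i : Fin d) (j : Fin r) :
    liftBT d r u a' lam h (Ideal.Quotient.mk _ (X (finProdFinEquiv (i, j)))) = lam i j := by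
  unfold liftBT
  rw [Ideal.Quotient.liftₐ_apply, Ideal.Quotient.lift_mk]
  show aeval _ (X (finProdFinEquiv (i, j))) = _
  rw [aeval_X, Equiv.symm_apply_apply]

end BT

end Groth.Agent.H3.Sep
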