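import Mathlib
import Groth.Agent.H3.Sep1
import Groth.Agent.H3.Sep2

/-!
# The algebra `B = A[x_i, z_ij]/(x_i^n - Σ_j a_j z_ij)` over `R = k[x_1..x_d]` (helper3)
-/

set_option autoImplicit false
set_option linter.style.haveILetI false
universe u

namespace Groth.Agent.H3.Sep

open MvPolynomial TensorProduct

section BB

variable (k A : Type u) [CommRing k] [CommRing A] [Algebra k A]
  (d r n : ℕ) (a : Fin r → A)

/-- `x_i^n ⊗ 1`. -/
noncomputable def uu (i : Fin d) : MvPolynomial (Fin d) k ⊗[k] A := (X i ^ n) ⊗ₜ 1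

/-- `1 ⊗ a_j`. -/
noncomputable def aa (j : Fin r) : MvPolynomial (Fin d) k ⊗[k] A := 1 ⊗ₜ a j

/-- The algebra `B`. -/
abbrev BB : Type u := BT d r (uu k A d n) (aa k A d r a)

/-- `A → B`. -/
noncomputable def ιA : A →ₐ[k] BB k A d r n a :=
  (IsScalarTower.toAlgHom k (MvPolynomial (Fin d) k ⊗[k] A) (BB k A d r n a)).comp
    Algebra.TensorProduct.includeRight

theorem ιA_apply (x : A) :
    ιA k A d r n a x = algebraMap (MvPolynomial (Fin d) k ⊗[k] A) (BB k A d r n a) (1 ⊗ₜ x) := rfl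

variable [Algebra.FinitePresentation k A]

instance finitePresentation_BB : Algebra.FinitePresentation (MvPolynomial (Fin d) k) (BB k A d r n a) := by
  have h1 : Algebra.FinitePresentation (MvPolynomial (Fin d) k) (MvPolynomial (Fin d) k ⊗[k] A) :=
    inferInstance
  have h2 : Algebra.FinitePresentation (MvPolynomial (Fin d) k ⊗[k] A)
      (MvPolynomial (Fin (d * r)) (MvPolynomial (Fin d) k ⊗[k] A)) := inferInstance
  haveI : Algebra.FinitePresentation (MvPolynomial (Fin d) k)
      (MvPolynomial (Fin (d * r)) (MvPolynomial (Fin d) k ⊗[k] A)) :=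
    @Algebra.FinitePresentation.trans (MvPolynomial (Fin d) k) (MvPolynomial (Fin d) k ⊗[k] A)
      (MvPolynomial (Fin (d * r)) (MvPolynomial (Fin d) k ⊗[k] A)) _ _ _ _ _ _ _ h1 h2
  exact Algebra.FinitePresentation.quotient ((Submodule.fg_span (Set.finite_range _)))

theorem aa_mem (j : Fin r) (ha : a j ∈ Smoothing.singularIdeal k A) :
    algebraMap (MvPolynomial (Fin d) k ⊗[k] A) (BB k A d r n a) (aa k A d r a j) ∈
      Smoothing.singularIdeal (MvPolynomial (Fin d) k) (BB k A d r n a) := by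
  apply mem_singularIdeal_of_smooth_away
  · exact tmul_mem_singularIdeal (a j) ha
  · haveI : Algebra.IsStandardSmooth (MvPolynomial (Fin d) k ⊗[k] A)
        (Localization.Away (algebraMap (MvPolynomial (Fin d) k ⊗[k] A) (BB k A d r n a)
          (aa k A d r a j))) :=
      isStandardSmooth_away d r (uu k A d n) (aa k A d r a) j
    infer_instance

theorem X_mem (hn : 0 < n) (ha : ∀ j, a j ∈ Smoothing.singularIdeal k A) (i : Fin d) :
    algebraMap (MvPolynomial (Fin d) k) (BB k A d r n a) (X i) ∈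
      Smoothing.singularIdeal (MvPolynomial (Fin d) k) (BB k A d r n a) := by
  apply singularIdeal_isRadical
  refine ⟨n, ?_⟩
  have h1 : algebraMap (MvPolynomial (Fin d) k) (BB k A d r n a) (X i) ^ n =
      algebraMap (MvPolynomial (Fin d) k ⊗[k] A) (BB k A d r n a) (uu k A d n i) := by
    rw [← map_pow, IsScalarTower.algebraMap_apply (MvPolynomial (Fin d) k)
      (MvPolynomial (Fin d) k ⊗[k] A) (BB k A d r n a), Algebra.TensorProduct.algebraMap_apply]
    rfl
  rw [h1]
  have h2 : algebraMap (MvPolynomial (Fin d) k ⊗[k] A) (BB k A d r n a) (uu k A d n i) =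
      Ideal.Quotient.mk _ (C (uu k A d n i)) := rfl
  rw [h2, mk_C_u]
  refine Ideal.sum_mem _ fun j _ => Ideal.mul_mem_right _ _ ?_
  exact aa_mem k A d r n a j (ha j)

/-- The map `B → Λ`. -/
theorem exists_lift {L : Type u} [CommRing L] [Algebra k L] [Algebra (MvPolynomial (Fin d) k) L]
    [IsScalarTower k (MvPolynomial (Fin d) k) L] (φ : A →ₐ[k] L) (lam : Fin d → Fin r → L)
    (h : ∀ i, algebraMap (MvPolynomial (Fin d) k) L (X i) ^ n = ∑ j, φ (a j) * lam i j) :
    ∃ β : BB k A d r n a →ₐ[MvPolynomial (Fin d) k] L, ∀ x, β (ιA k A d r n a x) = φ x := by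
  let ψT : MvPolynomial (Fin d) k ⊗[k] A →ₐ[MvPolynomial (Fin d) k] L :=
    Algebra.TensorProduct.lift (Algebra.ofId (MvPolynomial (Fin d) k) L) φ
      (fun _ _ => Commute.all _ _)
  letI : Algebra (MvPolynomial (Fin d) k ⊗[k] A) L := ψT.toRingHom.toAlgebra
  haveI : IsScalarTower (MvPolynomial (Fin d) k) (MvPolynomial (Fin d) k ⊗[k] A) L :=
    IsScalarTower.of_algebraMap_eq fun x => (ψT.commutes x).symm
  have hψ : ∀ t, algebraMap (MvPolynomial (Fin d) k ⊗[k] A) L t = ψT t := fun _ => rfl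
  have hl : ∀ i, algebraMap (MvPolynomial (Fin d) k ⊗[k] A) L (uu k A d n i) =
      ∑ j, algebraMap (MvPolynomial (Fin d) k ⊗[k] A) L (aa k A d r a j) * lam i j := by
    intro i
    rw [hψ]
    show ψT ((X i ^ n) ⊗ₜ 1) = _
    rw [Algebra.TensorProduct.lift_tmul, map_one, mul_one, Algebra.ofId_apply, map_pow, h i]
    refine Finset.sum_congr rfl fun j _ => ?_
    rw [hψ]
    show _ = ψT (1 ⊗ₜ a j) * _
    rw [Algebra.TensorProduct.lift_tmul, map_one, one_mul]
  refine ⟨(liftBT d r (uu k A d n) (aa k A d r a) lam hl).restrictScalars _, fun x => ?_⟩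
  show liftBT d r (uu k A d n) (aa k A d r a) lam hl (ιA k A d r n a x) = φ x
  rw [ιA_apply, AlgHom.commutes, hψ]
  show ψT (1 ⊗ₜ x) = _
  rw [Algebra.TensorProduct.lift_tmul, map_one, one_mul]

end BB

end Groth.Agent.H3.Sep
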