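import Mathlib
import Groth.Agent.H3.Sep1
import Groth.Agent.S2034

/-!
# Final step in dimension zero: ind-smoothness of the local problem resolves (helper3)
-/

set_option autoImplicit false
set_option linter.style.haveILetI false
universe u

namespace Groth.Agent.H3.Sep

open TensorProduct

/-- A map to an ind-smooth algebra over a local base can be resolved at any proper prime. -/
theorem resolvable_of_indSmooth_local {R A Λ : Type u} [CommRing R] [CommRing A] [Algebra R A]
    [Algebra.FinitePresentation R A] [CommRing Λ] [Algebra R Λ] (hind : Smoothing.IndSmooth R Λ)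
    (φ : A →ₐ[R] Λ) (𝔮 : Ideal Λ) (h𝔮 : 𝔮 ≠ ⊤) : Smoothing.Resolvable R φ 𝔮 := by
  obtain ⟨B, _, _, hB, g, h, hgh⟩ := hind A inferInstance φ
  haveI := hB
  refine ⟨B, inferInstance, inferInstance, hB.finitePresentation, g, h, hgh, ?_, ?_⟩
  · unfold Smoothing.singRad
    rw [singularIdeal_eq_top (R := R) (B := B), Ideal.map_top, Ideal.radical_top]
    exact le_top
  · unfold Smoothing.singRad
    rw [singularIdeal_eq_top (R := R) (B := B), Ideal.map_top, Ideal.radical_top]
    intro hle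
    exact h𝔮 (top_le_iff.mp hle)

theorem resolvable_of_indSmooth {R A Λ Rₚ Λq : Type u} [CommRing R] [IsNoetherianRing R]
    [CommRing A] [Algebra R A] [Algebra.FinitePresentation R A] [CommRing Λ] [Algebra R Λ]
    (φ : A →ₐ[R] Λ) (𝔮 : Ideal Λ) [𝔮.IsPrime]
    [CommRing Rₚ] [Algebra R Rₚ] [IsLocalization.AtPrime Rₚ (𝔮.comap (algebraMap R Λ))]
    [CommRing Λq] [Algebra Λ Λq] [IsLocalization.AtPrime Λq 𝔮] [Algebra R Λq] [IsScalarTower R Λ Λq]
    [Algebra Rₚ Λq] [IsScalarTower R Rₚ Λq] (hdim : ringKrullDim Λq = 0)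
    (hind : Smoothing.IndSmooth Rₚ Λq) : Smoothing.Resolvable R φ 𝔮 := by
  by_cases hle : Smoothing.singRad R φ ≤ 𝔮
  · have hht : 𝔮.height = 0 := by
      have h1 := IsLocalization.AtPrime.ringKrullDim_eq_height 𝔮 Λq
      rw [hdim] at h1
      exact_mod_cast h1.symm
    have hminΛ : 𝔮 ∈ minimalPrimes Λ := Ideal.height_eq_zero_iff.mp hht
    have hmin : 𝔮 ∈ (Smoothing.singRad R φ).minimalPrimes := by
      refine ⟨⟨inferInstance, hle⟩, fun p hp hpq => ?_⟩
      exact hminΛ.2 ⟨hp.1, bot_le⟩ hpq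
    refine Groth.Agent.S2034.result (Rₚ := Rₚ) (Λq := Λq) φ 𝔮 hmin hdim ?_
    apply resolvable_of_indSmooth_local hind
    haveI : IsLocalRing Λq := IsLocalization.AtPrime.isLocalRing Λq 𝔮
    rw [IsLocalization.AtPrime.map_eq_maximalIdeal 𝔮 Λq]
    exact (IsLocalRing.maximalIdeal.isMaximal Λq).ne_top
  · exact ⟨A, inferInstance, inferInstance, inferInstance, AlgHom.id R A, φ, AlgHom.comp_id φ,
      le_rfl, hle⟩

end Groth.Agent.H3.Sep
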