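import Mathlib

/-!
# Auxiliary lemmas for the separable residue field case (helper3)
-/

set_option autoImplicit false
set_option linter.style.haveILetI false
universe u

namespace Groth.Agent.H3.Sep

open MvPolynomial

/-- The annihilator condition passes to powers. -/
theorem ann_pow {Λ : Type u} [CommRing Λ] (J : Ideal Λ) (p : Λ)
    (h : ∀ y, p ^ 2 * y ∈ J → p * y ∈ J) (c : ℕ) (hc : 0 < c) (y : Λ)
    (hy : (p ^ c) ^ 2 * y ∈ J) : p ^ c * y ∈ J := by
  have key : ∀ m : ℕ, p ^ (m + 1) * y ∈ J → p * y ∈ J := by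
    intro m
    induction m with
    | zero => intro h0; simpa using h0
    | succ m ih =>
      intro h1
      apply ih
      have h2 : p ^ (m + 1 + 1) * y = p ^ 2 * (p ^ m * y) := by ring
      rw [h2] at h1
      have h3 := h _ h1
      have h4 : p ^ (m + 1) * y = p * (p ^ m * y) := by ring
      rw [h4]; exact h3
  obtain ⟨c', rfl⟩ : ∃ c', c = c' + 1 := ⟨c - 1, by omega⟩
  have h5 : (p ^ (c' + 1)) ^ 2 * y = p ^ (2 * c' + 1 + 1) * y := by ring
  rw [h5] at hy
  have h6 := key _ hy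
  have h7 : p ^ (c' + 1) * y = p ^ c' * (p * y) := by ring
  rw [h7]
  exact J.mul_mem_left _ h6

/-- A prime minimal over the radical of `I` has a power contained in `I` locally. -/
theorem exists_pow_map_le {Λ : Type u} [CommRing Λ] [IsNoetherianRing Λ] (I 𝔮 : Ideal Λ)
    [𝔮.IsPrime] (hmin : 𝔮 ∈ I.radical.minimalPrimes) :
    ∃ n : ℕ, 0 < n ∧ (𝔮 ^ n).map (algebraMap Λ (Localization.AtPrime 𝔮)) ≤
      I.map (algebraMap Λ (Localization.AtPrime 𝔮)) := by
  have hmax : 𝔮.map (algebraMap Λ (Localization.AtPrime 𝔮)) =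
      IsLocalRing.maximalIdeal (Localization.AtPrime 𝔮) := Localization.AtPrime.map_eq_maximalIdeal
  have hle : IsLocalRing.maximalIdeal (Localization.AtPrime 𝔮) ≤
      (I.map (algebraMap Λ (Localization.AtPrime 𝔮))).radical := by
    rw [Ideal.radical_eq_sInf]
    apply le_sInf
    rintro P ⟨hIP, hP⟩
    haveI := hP
    have hp : (P.comap (algebraMap Λ (Localization.AtPrime 𝔮))).IsPrime := hP.comap _
    have h1 : I ≤ P.comap (algebraMap Λ (Localization.AtPrime 𝔮)) := Ideal.map_le_iff_le_comap.mp hIP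
    have h2 : I.radical ≤ P.comap (algebraMap Λ (Localization.AtPrime 𝔮)) :=
      hp.radical_le_iff.mpr h1
    have h3 : P.comap (algebraMap Λ (Localization.AtPrime 𝔮)) ≤ 𝔮 := by
      have h4 : P ≤ IsLocalRing.maximalIdeal (Localization.AtPrime 𝔮) :=
        IsLocalRing.le_maximalIdeal hP.ne_top
      have h5 := Ideal.comap_mono (f := algebraMap Λ (Localization.AtPrime 𝔮)) h4
      have h7 : Ideal.comap (algebraMap Λ (Localization.AtPrime 𝔮))
          (IsLocalRing.maximalIdeal (Localization.AtPrime 𝔮)) = 𝔮 :=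
        IsLocalization.AtPrime.comap_maximalIdeal (Localization.AtPrime 𝔮) 𝔮
      rwa [h7] at h5
    have h6 : 𝔮 ≤ P.comap (algebraMap Λ (Localization.AtPrime 𝔮)) := hmin.2 ⟨hp, h2⟩ h3
    rw [← hmax, ← IsLocalization.map_comap 𝔮.primeCompl (Localization.AtPrime 𝔮) P]
    exact Ideal.map_mono h6
  obtain ⟨n, hn⟩ := Ideal.exists_radical_pow_le_of_fg
    (I.map (algebraMap Λ (Localization.AtPrime 𝔮))) (IsNoetherian.noetherian _)
  refine ⟨n + 1, Nat.succ_pos _, ?_⟩
  rw [Ideal.map_pow, hmax]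
  calc IsLocalRing.maximalIdeal (Localization.AtPrime 𝔮) ^ (n + 1)
      ≤ IsLocalRing.maximalIdeal (Localization.AtPrime 𝔮) ^ n := Ideal.pow_le_pow_right (Nat.le_succ n)
    _ ≤ (I.map (algebraMap Λ (Localization.AtPrime 𝔮))).radical ^ n := Ideal.pow_right_mono hle n
    _ ≤ _ := hn

/-- Elements of `k[x]/K` not mapping into `𝔮` are units. -/
theorem isUnit_mk_of_notMem {k Λ : Type u} [Field k] [CommRing Λ] [Algebra k Λ] (𝔮 : Ideal Λ)
    [𝔮.IsPrime] (d : ℕ) (π : Fin d → Λ) (hπ : ∀ i, π i ∈ 𝔮)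
    [Algebra (MvPolynomial (Fin d) k) Λ] [IsScalarTower k (MvPolynomial (Fin d) k) Λ]
    (hX : ∀ i, algebraMap (MvPolynomial (Fin d) k) Λ (X i) = π i)
    (K : Ideal (MvPolynomial (Fin d) k)) (E : ℕ)
    (hK : ∀ i, (X i : MvPolynomial (Fin d) k) ^ E ∈ K) (s : MvPolynomial (Fin d) k)
    (hs : algebraMap (MvPolynomial (Fin d) k) Λ s ∉ 𝔮) : IsUnit (Ideal.Quotient.mk K s) := by
  classical
  set s' : MvPolynomial (Fin d) k := s - C (constantCoeff s) with hs'
  have h1 : s' ∈ Ideal.span (Set.range (X : Fin d → MvPolynomial (Fin d) k)) := by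
    rw [← Set.image_univ, mem_ideal_span_X_image]
    intro m hm
    have hm0 : m ≠ 0 := by
      rintro rfl
      rw [mem_support_iff, hs', coeff_sub, coeff_C, if_pos rfl] at hm
      exact hm (sub_self _)
    obtain ⟨i, hi⟩ : ∃ i, m i ≠ 0 := by
      by_contra hcon
      push Not at hcon
      exact hm0 (Finsupp.ext hcon)
    exact ⟨i, Set.mem_univ _, hi⟩
  have h2 : algebraMap (MvPolynomial (Fin d) k) Λ s' ∈ 𝔮 := by
    have : Ideal.span (Set.range (X : Fin d → MvPolynomial (Fin d) k)) ≤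
        𝔮.comap (algebraMap (MvPolynomial (Fin d) k) Λ) := by
      rw [Ideal.span_le]
      rintro _ ⟨i, rfl⟩
      show algebraMap (MvPolynomial (Fin d) k) Λ (X i) ∈ 𝔮
      rw [hX]; exact hπ i
    exact this h1
  have h3 : constantCoeff s ≠ 0 := by
    intro h0
    apply hs
    have : s = s' := by rw [hs', h0, map_zero, sub_zero]
    rw [this]; exact h2
  have h4 : IsNilpotent (Ideal.Quotient.mk K s') := by
    have : Ideal.span (Set.range (X : Fin d → MvPolynomial (Fin d) k)) ≤
        (nilradical (MvPolynomial (Fin d) k ⧸ K)).comap (Ideal.Quotient.mk K) := by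
      rw [Ideal.span_le]
      rintro _ ⟨i, rfl⟩
      show Ideal.Quotient.mk K (X i) ∈ nilradical _
      rw [mem_nilradical]
      refine ⟨E, ?_⟩
      rw [← map_pow]
      exact Ideal.Quotient.eq_zero_iff_mem.mpr (hK i)
    exact mem_nilradical.mp (this h1)
  have h5 : s = C (constantCoeff s) + s' := by rw [hs']; ring
  rw [h5, map_add]
  refine h4.isUnit_add_left_of_commute ?_ (Commute.all _ _)
  exact (IsUnit.mk0 _ h3).map ((Ideal.Quotient.mk K).comp C)

/-- The induced map on quotients, as an algebra map over the quotient base. -/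
noncomputable def quotMapK {R C Λ : Type u} [CommRing R] [CommRing C] [CommRing Λ] [Algebra R C]
    [Algebra R Λ] (ψ : C →ₐ[R] Λ) (K : Ideal R) :
    (C ⧸ K.map (algebraMap R C)) →ₐ[R ⧸ K] (Λ ⧸ K.map (algebraMap R Λ)) :=
  { Ideal.quotientMap (K.map (algebraMap R Λ)) ψ.toRingHom (by
      rw [Ideal.map_le_iff_le_comap]
      intro x hx
      show ψ (algebraMap R C x) ∈ K.map (algebraMap R Λ)
      rw [ψ.commutes]
      exact Ideal.mem_map_of_mem _ hx) with
    commutes' := by
      intro s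
      obtain ⟨p, rfl⟩ := Ideal.Quotient.mk_surjective s
      show Ideal.quotientMap _ ψ.toRingHom _ (Ideal.Quotient.mk _ (algebraMap R C p)) =
        Ideal.Quotient.mk _ (algebraMap R Λ p)
      rw [Ideal.quotientMap_mk]
      show Ideal.Quotient.mk _ (ψ (algebraMap R C p)) = _
      rw [ψ.commutes] }

theorem quotMapK_mk {R C Λ : Type u} [CommRing R] [CommRing C] [CommRing Λ] [Algebra R C]
    [Algebra R Λ] (ψ : C →ₐ[R] Λ) (K : Ideal R) (x : C) :
    quotMapK ψ K (Ideal.Quotient.mk _ x) = Ideal.Quotient.mk _ (ψ x) := rfl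

end Groth.Agent.H3.Sep
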