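import Mathlib
import Groth.Agent.H3.Sep6
import Groth.Agent.H10.LiftTwice
import Groth.Agent.H44.ResStep2
import Groth.Agent.H79.RegCM

/-!
# The reduced problem is resolvable (helper3)
-/

set_option autoImplicit false
set_option linter.style.haveILetI false
universe u

namespace Groth.Agent.H3.Sep

open TensorProduct

theorem final_step_abstract {R Λ C : Type u} [CommRing R] [IsNoetherianRing R] [CommRing Λ]
    [Algebra R Λ] (𝔮 : Ideal Λ) [𝔮.IsPrime] (K : Ideal R)
    (hK𝔮 : K.map (algebraMap R Λ) ≤ 𝔮)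
    (hloc : ∀ s : R, algebraMap R Λ s ∉ 𝔮 → IsUnit (Ideal.Quotient.mk K s))
    (hdim0 : IsLocalRing.maximalIdeal (Localization.AtPrime 𝔮) ≤
      (K.map (algebraMap R (Localization.AtPrime 𝔮))).radical)
    (hKm : K.map (algebraMap R (Localization.AtPrime 𝔮)) ≤
      IsLocalRing.maximalIdeal (Localization.AtPrime 𝔮))
    (hind : Smoothing.IndSmooth (R ⧸ K)
      (Localization.AtPrime 𝔮 ⧸ K.map (algebraMap R (Localization.AtPrime 𝔮))))
    [CommRing C] [Algebra R C] [Algebra.FinitePresentation R C]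
    (φK : (C ⧸ K.map (algebraMap R C)) →ₐ[R ⧸ K] (Λ ⧸ K.map (algebraMap R Λ))) :
    Smoothing.Resolvable (R ⧸ K) φK (𝔮.map (Ideal.Quotient.mk (K.map (algebraMap R Λ)))) := by
  classical
  haveI hprime : (𝔮.map (Ideal.Quotient.mk (K.map (algebraMap R Λ)))).IsPrime :=
    Ideal.map_isPrime_of_surjective Ideal.Quotient.mk_surjective (by rwa [Ideal.mk_ker])
  haveI : Algebra.FinitePresentation (R ⧸ K) (C ⧸ K.map (algebraMap R C)) :=
    Groth.Agent.H44.ResStep2.finitePresentation_quot K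
  have hmem𝔮 : ∀ y : Λ, Ideal.Quotient.mk (K.map (algebraMap R Λ)) y ∈
      𝔮.map (Ideal.Quotient.mk (K.map (algebraMap R Λ))) ↔ y ∈ 𝔮 := by
    intro y
    rw [Ideal.mem_quotient_iff_mem_sup, sup_eq_left.mpr hK𝔮]
  -- the localization of the quotient
  have hsub : Algebra.algebraMapSubmonoid (Λ ⧸ K.map (algebraMap R Λ)) 𝔮.primeCompl =
      (𝔮.map (Ideal.Quotient.mk (K.map (algebraMap R Λ)))).primeCompl := by
    ext x
    constructor
    · rintro ⟨y, hy, rfl⟩
      intro h
      exact hy ((hmem𝔮 y).mp h)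
    · intro hx
      obtain ⟨y, rfl⟩ := Ideal.Quotient.mk_surjective x
      refine ⟨y, ?_, rfl⟩
      show y ∉ 𝔮
      rw [← hmem𝔮]
      exact hx
  haveI hloc' : IsLocalization.AtPrime
      (Localization.AtPrime 𝔮 ⧸ (K.map (algebraMap R Λ)).map (algebraMap Λ (Localization.AtPrime 𝔮)))
      (𝔮.map (Ideal.Quotient.mk (K.map (algebraMap R Λ)))) := by
    show IsLocalization _ _
    rw [← hsub]
    infer_instance
  have hideal : (K.map (algebraMap R Λ)).map (algebraMap Λ (Localization.AtPrime 𝔮)) =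
      K.map (algebraMap R (Localization.AtPrime 𝔮)) := by
    rw [Ideal.map_map, ← IsScalarTower.algebraMap_eq]
  letI algR₀ : Algebra (R ⧸ K)
      (Localization.AtPrime 𝔮 ⧸ (K.map (algebraMap R Λ)).map (algebraMap Λ (Localization.AtPrime 𝔮))) :=
    ((algebraMap (Λ ⧸ K.map (algebraMap R Λ)) _).comp
      (algebraMap (R ⧸ K) (Λ ⧸ K.map (algebraMap R Λ)))).toAlgebra
  haveI : IsScalarTower (R ⧸ K) (Λ ⧸ K.map (algebraMap R Λ))
      (Localization.AtPrime 𝔮 ⧸ (K.map (algebraMap R Λ)).map (algebraMap Λ (Localization.AtPrime 𝔮))) :=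
    IsScalarTower.of_algebraMap_eq fun _ => rfl
  -- `R/K` is its own localization
  haveI hlocR : IsLocalization.AtPrime (R ⧸ K)
      ((𝔮.map (Ideal.Quotient.mk (K.map (algebraMap R Λ)))).comap
        (algebraMap (R ⧸ K) (Λ ⧸ K.map (algebraMap R Λ)))) := by
    apply IsLocalization.of_le_isUnit
    intro s hs
    obtain ⟨p, rfl⟩ := Ideal.Quotient.mk_surjective s
    apply hloc p
    intro hp
    apply hs
    rw [SetLike.mem_coe, Ideal.mem_comap]
    have h1 : algebraMap (R ⧸ K) (Λ ⧸ K.map (algebraMap R Λ)) (Ideal.Quotient.mk K p) =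
        Ideal.Quotient.mk _ (algebraMap R Λ p) := rfl
    rw [h1, hmem𝔮]
    exact hp
  -- dimension zero
  have hdim : ringKrullDim (Localization.AtPrime 𝔮 ⧸
      (K.map (algebraMap R Λ)).map (algebraMap Λ (Localization.AtPrime 𝔮))) = 0 := by
    apply Groth.Agent.H79.RegCM.ringKrullDim_quotient_eq_zero
    · rw [hideal]; exact hKm
    · rw [hideal]; exact hdim0
  -- ind-smoothness
  have hind' : Smoothing.IndSmooth (R ⧸ K) (Localization.AtPrime 𝔮 ⧸
      (K.map (algebraMap R Λ)).map (algebraMap Λ (Localization.AtPrime 𝔮))) := by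
    refine Groth.Agent.H10.LiftTwice.indSmooth_of_ringEquiv (RingEquiv.refl (R ⧸ K))
      (Ideal.quotEquivOfEq hideal) ?_ hind
    intro s
    obtain ⟨p, rfl⟩ := Ideal.Quotient.mk_surjective s
    have h1 : algebraMap (R ⧸ K) (Localization.AtPrime 𝔮 ⧸
        (K.map (algebraMap R Λ)).map (algebraMap Λ (Localization.AtPrime 𝔮)))
        (Ideal.Quotient.mk K p) =
        Ideal.Quotient.mk _ (algebraMap Λ (Localization.AtPrime 𝔮) (algebraMap R Λ p)) := rfl
    rw [h1, Ideal.quotEquivOfEq_mk, RingEquiv.refl_apply,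
      ← IsScalarTower.algebraMap_apply R Λ (Localization.AtPrime 𝔮)]
    rfl
  exact resolvable_of_indSmooth (R := R ⧸ K) (Rₚ := R ⧸ K)
    (Λq := Localization.AtPrime 𝔮 ⧸
      (K.map (algebraMap R Λ)).map (algebraMap Λ (Localization.AtPrime 𝔮))) φK _ hdim hind'

end Groth.Agent.H3.Sep
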