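import Mathlib

/-!
# The lifting lemma: the map `ψ` and compatibility, for an abstract algebra `D` (helper3)
-/

set_option autoImplicit false
universe u

namespace Groth.Agent.H3.Lift

open MvPolynomial

theorem finish {R Λ C' D : Type u} [CommRing R] [CommRing Λ] [Algebra R Λ] (π : R)
    [CommRing C'] [Algebra R C'] [CommRing D] [Algebra R D]
    (g : C' →ₐ[R] Λ ⧸ Ideal.span {algebraMap R Λ (π ^ 2)}) {n : ℕ}
    (φC : MvPolynomial (Fin n) R →ₐ[R] C') (hφC : Function.Surjective φC)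
    (κ : MvPolynomial (Fin n) R →ₐ[R] D)
    (hκ : ∀ p, φC p = 0 → κ p ∈ Ideal.span {algebraMap R D π})
    (δ : D →ₐ[R] Λ)
    (hδ : ∀ p, Ideal.Quotient.mk (Ideal.span {algebraMap R Λ (π ^ 2)}) (δ (κ p)) = g (φC p)) :
    ∃ ψ : C' →ₐ[R] D ⧸ Ideal.span {algebraMap R D π},
      (∀ p, ψ (φC p) = Ideal.Quotient.mk (Ideal.span {algebraMap R D π}) (κ p)) ∧
      (∀ (c : C') (d : D) (l : Λ), Ideal.Quotient.mk (Ideal.span {algebraMap R D π}) d = ψ c →
          Ideal.Quotient.mk (Ideal.span {algebraMap R Λ (π ^ 2)}) l = g c →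
            δ d - l ∈ Ideal.span {algebraMap R Λ π}) := by
  let ψ₀ : MvPolynomial (Fin n) R →ₐ[R] D ⧸ Ideal.span {algebraMap R D π} :=
    (Ideal.Quotient.mkₐ R (Ideal.span {algebraMap R D π})).comp κ
  have hkerle : RingHom.ker φC.toRingHom ≤ RingHom.ker ψ₀.toRingHom := by
    intro p hp
    have hp' : φC p = 0 := hp
    show Ideal.Quotient.mk (Ideal.span {algebraMap R D π}) (κ p) = 0
    exact Ideal.Quotient.eq_zero_iff_mem.mpr (hκ p hp')
  let ψ : C' →ₐ[R] D ⧸ Ideal.span {algebraMap R D π} :=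
    AlgHom.liftOfSurjective φC hφC ψ₀ hkerle
  have hψ : ∀ p, ψ (φC p) = Ideal.Quotient.mk (Ideal.span {algebraMap R D π}) (κ p) := by
    intro p
    show AlgHom.liftOfSurjective φC hφC ψ₀ hkerle (φC p) = _
    rw [AlgHom.liftOfSurjective_apply]
    rfl
  refine ⟨ψ, hψ, ?_⟩
  intro c d l hd hl
  obtain ⟨p, rfl⟩ := hφC c
  rw [hψ, Ideal.Quotient.eq, Ideal.mem_span_singleton'] at hd
  obtain ⟨d', hd'⟩ := hd
  rw [← hδ, Ideal.Quotient.eq, Ideal.mem_span_singleton'] at hl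
  obtain ⟨l', hl'⟩ := hl
  have h1 : δ d - l = algebraMap R Λ π * δ d' + algebraMap R Λ π * (algebraMap R Λ π * -l') := by
    have h2 : δ d = δ (d' * algebraMap R D π) + δ (κ p) := by
      rw [hd', map_sub]; ring
    have h3 : δ (d' * algebraMap R D π) = algebraMap R Λ π * δ d' := by
      rw [map_mul, AlgHom.commutes]; ring
    have h4 : l = δ (κ p) + l' * algebraMap R Λ (π ^ 2) := by rw [hl']; ring
    rw [h2, h3, h4, map_pow]
    ring
  rw [h1]
  exact Ideal.add_mem _ (Ideal.mul_mem_right _ _ (Ideal.mem_span_singleton_self _))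
    (Ideal.mul_mem_right _ _ (Ideal.mem_span_singleton_self _))

end Groth.Agent.H3.Lift
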