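import Groth.Agent.H3.Lift7
import Groth.Agent.H3.Lift8a

/-!
# The lifting lemma: assembly (helper3)
-/

set_option autoImplicit false
universe u

namespace Groth.Agent.H3.Lift

open MvPolynomial Smoothing

set_option maxHeartbeats 4000000 in
theorem lifting {R Λ C' : Type u} [CommRing R] [IsNoetherianRing R] [CommRing Λ]
    [Algebra R Λ] (π : R) (hR : ∀ r : R, π ^ 2 * r = 0 → π * r = 0)
    (hΛ : ∀ x : Λ, π ^ 2 • x = 0 → π • x = 0) [CommRing C'] [Algebra R C']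
    [Algebra (R ⧸ Ideal.span {π ^ 2}) C'] [IsScalarTower R (R ⧸ Ideal.span {π ^ 2}) C']
    [Algebra.FinitePresentation (R ⧸ Ideal.span {π ^ 2}) C']
    (g : C' →ₐ[R] Λ ⧸ Ideal.span {algebraMap R Λ (π ^ 2)}) :
    ∃ (D : Type u) (_ : CommRing D) (_ : Algebra R D), Algebra.FinitePresentation R D ∧
      ∃ (δ : D →ₐ[R] Λ) (ψ : C' →ₐ[R] D ⧸ Ideal.span {algebraMap R D π}),
        (∀ (c : C') (d : D) (l : Λ), Ideal.Quotient.mk (Ideal.span {algebraMap R D π}) d = ψ c →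
          Ideal.Quotient.mk (Ideal.span {algebraMap R Λ (π ^ 2)}) l = g c →
            δ d - l ∈ Ideal.span {algebraMap R Λ π}) ∧
        (∀ (Q : Ideal D) [Q.IsPrime], algebraMap R D π ∉ Q → Algebra.IsSmoothAt R Q) ∧
        (∀ (Q : Ideal (D ⧸ Ideal.span {algebraMap R D π})) [Q.IsPrime],
          Algebra.IsSmoothAt (R ⧸ Ideal.span {π ^ 2}) (Q.comap ψ) →
            Algebra.IsSmoothAt R (Q.comap (Ideal.Quotient.mk (Ideal.span {algebraMap R D π})))) := by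
  classical
  -- presentation of C'
  obtain ⟨n, φb, hφb, hfg⟩ :=
    Algebra.FinitePresentation.out (R := R ⧸ Ideal.span {π ^ 2}) (A := C')
  obtain ⟨m, fb, hfb⟩ := Submodule.fg_iff_exists_fin_generating_family.mp hfg
  obtain ⟨mp, hmp⟩ : ∃ mp : MvPolynomial (Fin n) R →+* MvPolynomial (Fin n) (R ⧸ Ideal.span {π ^ 2}),
      mp = MvPolynomial.map (Ideal.Quotient.mk (Ideal.span {π ^ 2})) := ⟨_, rfl⟩
  have hmpsurj : Function.Surjective mp := by
    rw [hmp]; exact MvPolynomial.map_surjective _ Ideal.Quotient.mk_surjective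
  have hmpker : RingHom.ker mp = Ideal.span {C (π ^ 2)} := by
    rw [hmp, MvPolynomial.ker_map, Ideal.mk_ker, Ideal.map_span, Set.image_singleton]
  choose f hf using fun ℓ => hmpsurj (fb ℓ)
  have hker : RingHom.ker φb.toRingHom = Ideal.span (Set.range fun ℓ => mp (f ℓ)) := by
    have : (fun ℓ => mp (f ℓ)) = fb := funext hf
    rw [this]
    exact hfb.symm
  obtain ⟨K, _, cs, hcover⟩ := exists_charts π f φb hφb (by rw [← hmp]; exact hker)
  rw [← hmp] at hcover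
  -- the algebra D
  obtain ⟨𝔡, h𝔡⟩ : ∃ 𝔡 : Ideal (MvPolynomial (Fin n ⊕ Fin m) R),
      𝔡 = Ideal.span (Set.range (allrel π f cs)) := ⟨_, rfl⟩
  have hL𝔡 : ∀ ℓ, Lrel π f ℓ ∈ 𝔡 := fun ℓ => by
    rw [h𝔡]; exact Ideal.subset_span ⟨Sum.inl ℓ, rfl⟩
  have hM𝔡 : ∀ k ℓ, (cs k).M ℓ ∈ 𝔡 := fun k ℓ => by
    rw [h𝔡]; exact Ideal.subset_span ⟨Sum.inr (k, ℓ), rfl⟩
  -- the map R[x] → C'
  let φC : MvPolynomial (Fin n) R →ₐ[R] C' := aeval (fun i => φb (X i))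
  have hφC : ∀ p, φC p = φb (mp p) := by
    intro p
    have h1 : φb = aeval (fun i => φb (X i)) := MvPolynomial.aeval_unique φb
    rw [hmp]
    conv_rhs => rw [h1]
    exact (Deloc.aeval_map_algebraMap' (Rₛ := R ⧸ Ideal.span {π ^ 2}) _ p).symm
  have hφCsurj : Function.Surjective φC := by
    intro c
    obtain ⟨pb, rfl⟩ := hφb c
    obtain ⟨p, rfl⟩ := hmpsurj pb
    exact ⟨p, hφC p⟩
  have hφCf : ∀ ℓ, φC (f ℓ) = 0 := by
    intro ℓ
    rw [hφC]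
    have : mp (f ℓ) ∈ RingHom.ker φb.toRingHom := by
      rw [hker]; exact Ideal.subset_span ⟨ℓ, rfl⟩
    exact this
  have hkerφC : RingHom.ker φC.toRingHom = Ideal.span (Set.range f) ⊔ Ideal.span {C (π ^ 2)} := by
    ext p
    have h1 : p ∈ RingHom.ker φC.toRingHom ↔ mp p ∈ RingHom.ker φb.toRingHom := by
      show φC p = 0 ↔ φb (mp p) = 0
      rw [hφC]
    rw [h1, hker]
    have h2 : Ideal.span (Set.range fun ℓ => mp (f ℓ)) = (Ideal.span (Set.range f)).map mp := by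
      rw [Ideal.map_span]
      congr 1
      ext x
      constructor
      · rintro ⟨ℓ, rfl⟩; exact ⟨f ℓ, ⟨ℓ, rfl⟩, rfl⟩
      · rintro ⟨_, ⟨ℓ, rfl⟩, rfl⟩; exact ⟨ℓ, rfl⟩
    rw [h2, ← Ideal.mem_comap, Ideal.comap_map_of_surjective mp hmpsurj, ← RingHom.ker_eq_comap_bot,
      hmpker]
  -- the map to Λ
  choose lam hlam using fun i => Ideal.Quotient.mk_surjective (g (φC (X i)))
  have hlamp : ∀ p : MvPolynomial (Fin n) R,
      Ideal.Quotient.mk (Ideal.span {algebraMap R Λ (π ^ 2)}) (aeval lam p) = g (φC p) := by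
    intro p
    have h1 : (Ideal.Quotient.mkₐ R (Ideal.span {algebraMap R Λ (π ^ 2)})).comp (aeval lam) =
        g.comp φC := by
      apply MvPolynomial.algHom_ext
      intro i
      simp only [AlgHom.comp_apply, aeval_X, Ideal.Quotient.mkₐ_eq_mk, hlam]
    exact congrArg (fun h => h p) h1
  have hμ : ∀ ℓ, ∃ μ' : Λ, aeval lam (f ℓ) = algebraMap R Λ (π ^ 2) * μ' := by
    intro ℓ
    have h1 : Ideal.Quotient.mk (Ideal.span {algebraMap R Λ (π ^ 2)}) (aeval lam (f ℓ)) = 0 := by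
      rw [hlamp, hφCf, map_zero]
    rw [Ideal.Quotient.eq_zero_iff_mem, Ideal.mem_span_singleton'] at h1
    obtain ⟨μ', hμ'⟩ := h1
    exact ⟨μ', by rw [← hμ', mul_comm]⟩
  choose μ' hμ' using hμ
  let δ₀ : MvPolynomial (Fin n ⊕ Fin m) R →ₐ[R] Λ :=
    aeval (Sum.elim lam (fun ℓ => algebraMap R Λ π * μ' ℓ))
  have hδ₀ι : ∀ p : MvPolynomial (Fin n) R, δ₀ (ι p) = aeval lam p := by
    intro p
    show aeval _ (rename Sum.inl p) = _
    rw [aeval_rename]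
    rfl
  have hδ₀Z : ∀ ℓ, δ₀ (X (Sum.inr ℓ)) = algebraMap R Λ π * μ' ℓ := by
    intro ℓ
    show aeval _ (X (Sum.inr ℓ)) = _
    rw [aeval_X]
    rfl
  have hδ₀C : ∀ r : R, δ₀ (C r) = algebraMap R Λ r := fun r => by
    show aeval _ (C r) = _
    rw [aeval_C]
  have hδ₀L : ∀ ℓ, δ₀ (Lrel π f ℓ) = 0 := by
    intro ℓ
    unfold Lrel
    rw [map_sub, map_mul, hδ₀ι, hδ₀Z, hδ₀C, hμ', map_pow]
    ring
  have hδ₀M : ∀ k ℓ, δ₀ ((cs k).M ℓ) = 0 := by
    intro k ℓ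
    obtain ⟨Y, hY⟩ : ∃ Y : Λ, Y = aeval lam (cs k).t * μ' ℓ -
        ∑ j, aeval lam ((cs k).h ℓ j) * μ' ((cs k).rows j) - aeval lam ((cs k).g ℓ) := ⟨_, rfl⟩
    have h1 : δ₀ ((cs k).M ℓ) = algebraMap R Λ π * Y := by
      unfold Chart.M Mrel
      rw [map_sub, map_sub, map_mul, map_mul, map_sum, hδ₀ι, hδ₀ι, hδ₀Z, hδ₀C, hY, mul_sub,
        mul_sub, Finset.mul_sum]
      congr 2
      · ring
      · refine Finset.sum_congr rfl fun j _ => ?_
        rw [map_mul, hδ₀ι, hδ₀Z]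
        ring
    have h2 : algebraMap R Λ (π ^ 2) * Y = 0 := by
      have h3 := congrArg (aeval lam) ((cs k).H1 ℓ)
      rw [map_mul, map_add, map_sum, map_mul, aeval_C, hμ'] at h3
      have h4 : ∑ j, aeval lam ((cs k).h ℓ j * f ((cs k).rows j)) =
          algebraMap R Λ (π ^ 2) * ∑ j, aeval lam ((cs k).h ℓ j) * μ' ((cs k).rows j) := by
        rw [Finset.mul_sum]
        refine Finset.sum_congr rfl fun j _ => ?_
        rw [map_mul, hμ']
        ring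
      rw [h4] at h3
      rw [hY, mul_sub, mul_sub]
      linear_combination h3
    have h5 : π ^ 2 • Y = 0 := by rw [Algebra.smul_def]; exact h2
    have h6 := hΛ Y h5
    rw [h1, ← Algebra.smul_def]
    exact h6
  have hδ₀𝔡 : ∀ x ∈ 𝔡, δ₀ x = 0 := by
    have : 𝔡 ≤ RingHom.ker δ₀.toRingHom := by
      rw [h𝔡, Ideal.span_le]
      rintro _ ⟨(ℓ | ⟨k, ℓ⟩), rfl⟩
      · exact hδ₀L ℓ
      · exact hδ₀M k ℓ
    exact fun x hx => this hx
  let δ : (MvPolynomial (Fin n ⊕ Fin m) R ⧸ 𝔡) →ₐ[R] Λ := Ideal.Quotient.liftₐ 𝔡 δ₀ hδ₀𝔡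
  have hδmk : ∀ p, δ (Ideal.Quotient.mk 𝔡 p) = δ₀ p := by
    intro p
    show (Ideal.Quotient.liftₐ 𝔡 δ₀ hδ₀𝔡) (Ideal.Quotient.mk 𝔡 p) = _
    rw [Ideal.Quotient.liftₐ_apply, Ideal.Quotient.lift_mk]
    rfl
  -- the map ψ
  let κ : MvPolynomial (Fin n) R →ₐ[R] (MvPolynomial (Fin n ⊕ Fin m) R ⧸ 𝔡) :=
    (Ideal.Quotient.mkₐ R 𝔡).comp ι
  have hκmk : ∀ p, κ p = Ideal.Quotient.mk 𝔡 (ι p) := fun p => rfl
  have hπmk : algebraMap R (MvPolynomial (Fin n ⊕ Fin m) R ⧸ 𝔡) π = Ideal.Quotient.mk 𝔡 (C π) := rfl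
  have hκ : ∀ p, φC p = 0 → κ p ∈
      Ideal.span {algebraMap R (MvPolynomial (Fin n ⊕ Fin m) R ⧸ 𝔡) π} := by
    have hle : RingHom.ker φC.toRingHom ≤
        (Ideal.span {algebraMap R (MvPolynomial (Fin n ⊕ Fin m) R ⧸ 𝔡) π}).comap κ := by
      rw [hkerφC]
      refine sup_le ?_ ?_
      · rw [Ideal.span_le]
        rintro _ ⟨ℓ, rfl⟩
        show κ (f ℓ) ∈ Ideal.span {algebraMap R (MvPolynomial (Fin n ⊕ Fin m) R ⧸ 𝔡) π}
        rw [hκmk]
        have : (ι (f ℓ) : MvPolynomial (Fin n ⊕ Fin m) R) =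
            Lrel π f ℓ + C π * X (Sum.inr ℓ) := by unfold Lrel; ring
        rw [this, map_add, Ideal.Quotient.eq_zero_iff_mem.mpr (hL𝔡 ℓ), zero_add, map_mul, ← hπmk]
        exact Ideal.mul_mem_right _ _ (Ideal.mem_span_singleton_self _)
      · rw [Ideal.span_le]
        rintro _ rfl
        show κ (C (π ^ 2)) ∈ Ideal.span {algebraMap R (MvPolynomial (Fin n ⊕ Fin m) R ⧸ 𝔡) π}
        rw [hκmk]
        have : (ι (C (π ^ 2)) : MvPolynomial (Fin n ⊕ Fin m) R) = C π * C π := by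
          unfold ι; rw [rename_C, pow_two, C_mul]
        rw [this, map_mul, ← hπmk]
        exact Ideal.mul_mem_right _ _ (Ideal.mem_span_singleton_self _)
    exact fun p hp => hle hp
  have hδκ : ∀ p, Ideal.Quotient.mk (Ideal.span {algebraMap R Λ (π ^ 2)}) (δ (κ p)) =
      g (φC p) := by
    intro p
    rw [hκmk, hδmk, hδ₀ι, hlamp]
  obtain ⟨ψ, hψ, hcompat⟩ := finish π g φC hφCsurj κ hκ δ hδκ
  refine ⟨MvPolynomial (Fin n ⊕ Fin m) R ⧸ 𝔡, inferInstance, inferInstance, ?_, δ, ψ, hcompat,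
    ?_, ?_⟩
  · rw [h𝔡]
    exact Algebra.FinitePresentation.quotient (Submodule.fg_span (Set.finite_range _))
  · intro Q _ hQ
    rw [hπmk] at hQ
    exact away_smooth π f cs 𝔡 h𝔡 Q hQ
  · intro Q _ hsm
    obtain ⟨k, hk⟩ := hcover (Q.comap ψ) hsm
    have h1 : ψ (φb (mp ((cs k).t * (cs k).minor))) ∉ Q := hk
    rw [← hφC, hψ, hκmk] at h1
    exact chart_smooth π hR f cs 𝔡 h𝔡 k _ h1

end Groth.Agent.H3.Lift
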