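import Groth.Agent.H3.Desing8

/-!
# `Smoothing.desingularize_strictly_standard` (helper3)
-/

set_option autoImplicit false
universe u

namespace Groth.Agent.H3.Desing

open MvPolynomial Smoothing TensorProduct

/-- Smoothness of a composite at a prime: if `D_d` is formally smooth over `R` and `B` is smooth
over `D` at a prime `Q` not containing `d`, then `B` is smooth over `R` at `Q`. -/
theorem isSmoothAt_comp {R D B : Type u} [CommRing R] [CommRing D] [Algebra R D] [CommRing B]
    [Algebra D B] [Algebra R B] [IsScalarTower R D B] (d : D)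
    [Algebra.FormallySmooth R (Localization.Away d)] (Q : Ideal B) [Q.IsPrime]
    (hd : algebraMap D B d ∉ Q) (hQ : Algebra.IsSmoothAt D Q) : Algebra.IsSmoothAt R Q := by
  have hunit : IsUnit (algebraMap D (Localization.AtPrime Q) d) := by
    rw [IsScalarTower.algebraMap_apply D B (Localization.AtPrime Q)]
    exact IsLocalization.map_units (Localization.AtPrime Q) (⟨_, hd⟩ : Q.primeCompl)
  letI : Algebra (Localization.Away d) (Localization.AtPrime Q) :=
    (IsLocalization.Away.lift d hunit).toAlgebra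
  haveI : IsScalarTower D (Localization.Away d) (Localization.AtPrime Q) :=
    IsScalarTower.of_algebraMap_eq fun x => (IsLocalization.Away.lift_eq d hunit x).symm
  haveI : IsScalarTower R (Localization.Away d) (Localization.AtPrime Q) := by
    refine IsScalarTower.of_algebraMap_eq fun x => ?_
    rw [IsScalarTower.algebraMap_apply R D (Localization.Away d),
      ← IsScalarTower.algebraMap_apply D (Localization.Away d) (Localization.AtPrime Q),
      IsScalarTower.algebraMap_apply R B (Localization.AtPrime Q),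
      IsScalarTower.algebraMap_apply R D B,
      ← IsScalarTower.algebraMap_apply D B (Localization.AtPrime Q)]
  haveI : Algebra.FormallySmooth D (Localization.AtPrime Q) := hQ
  haveI : Algebra.FormallySmooth (Localization.Away d) (Localization.AtPrime Q) :=
    Algebra.FormallySmooth.localization_base (Submonoid.powers d)
  exact Algebra.FormallySmooth.comp R (Localization.Away d) (Localization.AtPrime Q)

set_option maxHeartbeats 1600000 in
theorem desing_ss {R Λ A D : Type u} [CommRing R] [IsNoetherianRing R]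
    [CommRing Λ] [Algebra R Λ] (π : R) (hR : ∀ r : R, π ^ 2 * r = 0 → π * r = 0)
    (hΛ : ∀ x : Λ, π ^ 2 • x = 0 → π • x = 0) [CommRing A] [Algebra R A]
    [Algebra.FinitePresentation R A] [CommRing D] [Algebra R D] [Algebra.FinitePresentation R D]
    (φ : A →ₐ[R] Λ) (δ : D →ₐ[R] Λ) (hπ : Smoothing.IsStrictlyStandard R A (algebraMap R A π))
    (ψ : A →ₐ[R] D ⧸ Ideal.span {algebraMap R D (π ^ 4)})
    (hψ : ∀ (a : A) (d : D), Ideal.Quotient.mk (Ideal.span {algebraMap R D (π ^ 4)}) d = ψ a →
      δ d - φ a ∈ Ideal.span {algebraMap R Λ (π ^ 4)}) :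
    ∃ (B : Type u) (_ : CommRing B) (_ : Algebra R B) (_ : Algebra D B) (_ : IsScalarTower R D B),
      Algebra.FinitePresentation R B ∧
      ∃ (α : A →ₐ[R] B) (β : B →ₐ[R] Λ), β.comp α = φ ∧
        β.comp (IsScalarTower.toAlgHom R D B) = δ ∧
        (Smoothing.singularIdeal R D).map (algebraMap D B) ≤ Smoothing.singularIdeal D B ∧
        (Smoothing.singularIdeal R D).map (algebraMap D B) ≤ Smoothing.singularIdeal R B := by
  classical
  letI : Algebra D Λ := δ.toRingHom.toAlgebra
  haveI : IsScalarTower R D Λ := IsScalarTower.of_algebraMap_eq fun r => (δ.commutes r).symm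
  have hδalg : ∀ d, algebraMap D Λ d = δ d := fun d => rfl
  have hΛ' : ∀ x : Λ, algebraMap R D π ^ 2 • x = 0 → algebraMap R D π • x = 0 := by
    intro x hx
    rw [← map_pow, algebraMap_smul] at hx
    rw [algebraMap_smul]
    exact hΛ x hx
  have hπ' : IsStrictlyStandard D (D ⊗[R] A) (algebraMap D (D ⊗[R] A) (algebraMap R D π)) := by
    have h1 := (Groth.Agent.S6829.result (R := R) (A := A) (R' := D) (algebraMap R A π)).2 hπ
    have h2 : algebraMap D (D ⊗[R] A) (algebraMap R D π) = (1 : D) ⊗ₜ[R] algebraMap R A π := by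
      rw [Algebra.TensorProduct.algebraMap_apply, Algebra.algebraMap_self, RingHom.id_apply,
        Algebra.algebraMap_eq_smul_one, Algebra.algebraMap_eq_smul_one, TensorProduct.smul_tmul]
    rw [h2]
    exact h1
  let φ' : D ⊗[R] A →ₐ[D] Λ :=
    Algebra.TensorProduct.lift (Algebra.ofId D Λ) φ (fun _ _ => Commute.all _ _)
  let ρ' : D ⊗[R] A →ₐ[D] D ⧸ Ideal.span {algebraMap R D (π ^ 4)} :=
    Algebra.TensorProduct.lift (Algebra.ofId D _) ψ (fun _ _ => Commute.all _ _)
  have hkey : ∀ a' : D ⊗[R] A, ∃ d : D,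
      Ideal.Quotient.mk (Ideal.span {algebraMap R D (π ^ 4)}) d = ρ' a' ∧
      δ d - φ' a' ∈ Ideal.span {algebraMap R Λ (π ^ 4)} := by
    intro a'
    induction a' using TensorProduct.induction_on with
    | zero => exact ⟨0, by simp, by simp⟩
    | tmul d₁ a =>
      obtain ⟨da, hda⟩ := Ideal.Quotient.mk_surjective (ψ a)
      refine ⟨d₁ * da, ?_, ?_⟩
      · rw [map_mul, hda]
        show _ = Algebra.TensorProduct.lift (Algebra.ofId D _) ψ _ (d₁ ⊗ₜ[R] a)
        rw [Algebra.TensorProduct.lift_tmul]
        rfl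
      · have h1 := hψ a da hda
        have h2 : φ' (d₁ ⊗ₜ[R] a) = δ d₁ * φ a := by
          show Algebra.TensorProduct.lift (Algebra.ofId D Λ) φ _ (d₁ ⊗ₜ[R] a) = _
          rw [Algebra.TensorProduct.lift_tmul]
          rfl
        rw [h2, map_mul, ← mul_sub]
        exact Ideal.mul_mem_left _ _ h1
    | add x y hx hy =>
      obtain ⟨dx, hdx, hdx'⟩ := hx
      obtain ⟨dy, hdy, hdy'⟩ := hy
      refine ⟨dx + dy, by rw [map_add, map_add, hdx, hdy], ?_⟩
      have : δ (dx + dy) - φ' (x + y) = (δ dx - φ' x) + (δ dy - φ' y) := by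
        rw [map_add, map_add]; ring
      rw [this]
      exact Ideal.add_mem _ hdx' hdy'
  have hρ' : ∀ (a' : D ⊗[R] A) (d : D),
      Ideal.Quotient.mk (Ideal.span {algebraMap R D (π ^ 4)}) d = ρ' a' →
      algebraMap D Λ d - φ' a' ∈ Ideal.span {algebraMap R Λ (π ^ 4)} := by
    intro a' d hd
    obtain ⟨d₀, hd₀, hd₀'⟩ := hkey a'
    have h1 : d - d₀ ∈ Ideal.span {algebraMap R D (π ^ 4)} := by
      rw [← Ideal.Quotient.eq, hd, hd₀]
    obtain ⟨c, hc⟩ := Ideal.mem_span_singleton'.mp h1
    have h2 : δ d - φ' a' = δ c * algebraMap R Λ (π ^ 4) + (δ d₀ - φ' a') := by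
      have : δ (d - d₀) = δ c * algebraMap R Λ (π ^ 4) := by
        rw [← hc, map_mul, δ.commutes]
      rw [← this, map_sub]; ring
    rw [hδalg, h2]
    exact Ideal.add_mem _ (Ideal.mul_mem_left _ _ (Ideal.mem_span_singleton_self _)) hd₀'
  obtain ⟨B, _, _, hfp, α', β', hβα, hsing⟩ :=
    desingularize' (R := D) (Λ := Λ) (A := D ⊗[R] A) (algebraMap R D π) (algebraMap R D (π ^ 4))
      (map_pow _ _ _) (algebraMap R Λ (π ^ 4))
      (by rw [← map_pow, ← IsScalarTower.algebraMap_apply]) hΛ' φ' hπ' ρ' hρ'
  letI : Algebra R B := ((algebraMap D B).comp (algebraMap R D)).toAlgebra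
  haveI : IsScalarTower R D B := IsScalarTower.of_algebraMap_eq fun _ => rfl
  haveI : Algebra.FinitePresentation D B := hfp
  have hfpR : Algebra.FinitePresentation R B := Algebra.FinitePresentation.trans R D B
  have hsmd : ∀ d ∈ Smoothing.singularIdeal R D,
      Algebra.FormallySmooth R (Localization.Away d) := by
    intro d hd
    rw [← Algebra.basicOpen_subset_smoothLocus_iff]
    intro p hp
    by_contra hps
    have : d ∈ p.asIdeal := by
      unfold singularIdeal at hd
      rw [PrimeSpectrum.mem_vanishingIdeal] at hd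
      exact hd p hps
    exact hp this
  have h3 : (Smoothing.singularIdeal R D).map (algebraMap D B) ≤ Smoothing.singularIdeal D B := by
    rw [Ideal.map_le_iff_le_comap]
    intro d hd
    haveI := hsmd d hd
    obtain ⟨N, hN⟩ := exists_pow_ann π hR d
    have h4 := hsing (d ^ N) hN
    show algebraMap D B d ∈ singularIdeal D B
    unfold singularIdeal at h4 ⊢
    rw [PrimeSpectrum.mem_vanishingIdeal] at h4 ⊢
    intro Q hQ
    have := h4 Q hQ
    rw [map_pow] at this
    exact Ideal.IsPrime.mem_of_pow_mem Q.isPrime _ this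
  refine ⟨B, inferInstance, inferInstance, inferInstance, inferInstance, hfpR,
    (α'.restrictScalars R).comp (Algebra.TensorProduct.includeRight : A →ₐ[R] D ⊗[R] A),
    β'.restrictScalars R, ?_, ?_, h3, ?_⟩
  · apply AlgHom.ext
    intro a
    have := congrArg (fun f => f ((1 : D) ⊗ₜ[R] a)) hβα
    simp only [AlgHom.comp_apply] at this
    show β' (α' ((1 : D) ⊗ₜ[R] a)) = φ a
    rw [this]
    show Algebra.TensorProduct.lift (Algebra.ofId D Λ) φ _ ((1 : D) ⊗ₜ[R] a) = _
    rw [Algebra.TensorProduct.lift_tmul, map_one, one_mul]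
  · apply AlgHom.ext
    intro d
    show β' (algebraMap D B d) = δ d
    rw [AlgHom.commutes]
    rfl
  · rw [Ideal.map_le_iff_le_comap]
    intro d hd
    haveI := hsmd d hd
    show algebraMap D B d ∈ singularIdeal R B
    unfold singularIdeal
    rw [PrimeSpectrum.mem_vanishingIdeal]
    intro Q hQ
    by_contra hdQ
    apply hQ
    have h5 : algebraMap D B d ∈ singularIdeal D B := h3 (Ideal.mem_map_of_mem _ hd)
    have h6 : Q ∈ Algebra.smoothLocus D B := by
      by_contra h7
      unfold singularIdeal at h5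
      rw [PrimeSpectrum.mem_vanishingIdeal] at h5
      exact hdQ (h5 Q h7)
    exact isSmoothAt_comp d Q.asIdeal hdQ h6

end Groth.Agent.H3.Desing
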