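import Mathlib.RingTheory.Flat.FaithfullyFlat.Basic
import Mathlib.RingTheory.Flat.Stability
import Mathlib.LinearAlgebra.TensorProduct.Tower

set_option autoImplicit false
universe u

namespace Groth.Agent.H3

open TensorProduct

/-- If `C` is flat over `A` and faithfully flat over `B`, then `B` is flat over `A`. -/
theorem flat_of_flat_of_faithfullyFlat (A B C : Type*) [CommRing A] [CommRing B] [CommRing C]
    [Algebra A B] [Algebra B C] [Algebra A C] [IsScalarTower A B C] [Module.Flat A C]
    [Module.FaithfullyFlat B C] : Module.Flat A B := by
  rw [Module.Flat.iff_lTensor_preserves_injective_linearMap]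
  intro N N' _ _ _ _ φ hφ
  have h1 : Function.Injective (φ.lTensor C) :=
    Module.Flat.lTensor_preserves_injective_linearMap φ hφ
  have h2 : Function.Injective ((φ.baseChange B).lTensor C) := by
    have hcomm : ∀ z, (AlgebraTensorModule.cancelBaseChange A B B C N')
        (((φ.baseChange B).lTensor C) z) =
        (φ.lTensor C) ((AlgebraTensorModule.cancelBaseChange A B B C N) z) := by
      intro z
      induction z using TensorProduct.induction_on with
      | zero => simp
      | tmul c w =>
        induction w using TensorProduct.induction_on with
        | zero => simp
        | tmul b n => simp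
        | add x y hx hy => simp only [tmul_add, map_add, hx, hy]
      | add x y hx hy => simp only [map_add, hx, hy]
    intro z₁ z₂ hz
    have := congrArg (AlgebraTensorModule.cancelBaseChange A B B C N') hz
    rw [hcomm, hcomm] at this
    exact (AlgebraTensorModule.cancelBaseChange A B B C N).injective (h1 this)
  exact (Module.FaithfullyFlat.lTensor_injective_iff_injective B C (φ.baseChange B)).mp h2

end Groth.Agent.H3
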