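import Mathlib
import Groth.Agent.H44.MacLaneAll

/-!
# Small glue lemmas for the inseparable case of Popescu (helper3, for S6824)
-/

set_option autoImplicit false
set_option linter.unusedSimpArgs false
set_option linter.unusedVariables false
set_option linter.style.haveILetI false
universe u

namespace Groth.Agent.H3.InsepGlue

/-- A separable algebraic field extension is geometrically reduced. -/
theorem isGeometricallyReduced_of_isSeparable {κ L : Type u} [Field κ] [Field L] [Algebra κ L]
    [Algebra.IsSeparable κ L] : Algebra.IsGeometricallyReduced κ L := by
  haveI : Algebra.FormallyEtale κ L := Algebra.FormallyEtale.of_isSeparable κ L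
  haveI : Algebra.FormallySmooth κ L := inferInstance
  exact Groth.Agent.H44.MacLane.formallySmooth_iff_isGeometricallyReduced.mp inferInstance

/-- Intermediate fields `κ ≤ F` of `K/k` with every element of `F` separable over `κ`:
`F/κ` is geometrically reduced (for the inclusion algebra structure). -/
theorem isGeometricallyReduced_inclusion {k K : Type u} [Field k] [Field K] [Algebra k K]
    (κ F : IntermediateField k K) (h : κ ≤ F) (hsep : ∀ x ∈ F, IsSeparable κ x) :
    @Algebra.IsGeometricallyReduced κ F _ _ (IntermediateField.inclusion h).toRingHom.toAlgebra := by
  letI : Algebra κ F := (IntermediateField.inclusion h).toRingHom.toAlgebra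
  haveI : IsScalarTower κ F K := IsScalarTower.of_algebraMap_eq fun x => rfl
  haveI : Algebra.IsSeparable κ F := by
    refine ⟨fun x => ?_⟩
    have h1 := hsep x.1 x.2
    unfold IsSeparable at h1 ⊢
    have h2 : minpoly κ (x : K) = minpoly κ x :=
      (minpoly.algebraMap_eq (algebraMap F K).injective x)
    rwa [← h2]
  exact isGeometricallyReduced_of_isSeparable

end Groth.Agent.H3.InsepGlue
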