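import Mathlib
import Groth.Agent.H23.RegularLocal

/-!
# Choice of regular parameters after adjoining polynomial variables (helper3, for S6824)
-/

set_option autoImplicit false
set_option linter.unusedSimpArgs false
set_option linter.unusedVariables false
set_option linter.style.haveILetI false
universe u

namespace Groth.Agent.H3.InsepParams

open IsLocalRing MvPolynomial

/-- Linear algebra: extend an independent family by members of a spanning family to a basis. -/
theorem exists_extension_from_span {K V : Type*} [Field K] [AddCommGroup V] [Module K V]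
    [FiniteDimensional K V] {r d' : ℕ} (v : Fin r → V) (hv : LinearIndependent K v)
    (w : Fin d' → V) (hw : Submodule.span K (Set.range w) = ⊤) :
    ∃ (s : ℕ) (z : Fin s → Fin d'), r + s = Module.finrank K V ∧
      Submodule.span K (Set.range (Sum.elim v (w ∘ z))) = ⊤ := by
  classical
  set u : Fin r ⊕ Fin d' → V := Sum.elim v w with hu
  have hs : LinearIndepOn K u (Set.range (Sum.inl : Fin r → Fin r ⊕ Fin d')) := by
    rw [linearIndepOn_range_iff Sum.inl_injective]
    exact hv
  obtain ⟨b, -, hsb, hspan, hli⟩ := exists_linearIndepOn_extension hs (Set.subset_univ _)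
  obtain ⟨b', hb'⟩ : ∃ b' : Finset (Fin d'), ∀ l, l ∈ b' ↔ Sum.inr l ∈ b :=
    ⟨Finset.univ.filter (fun l => Sum.inr l ∈ b), fun l => by simp⟩
  refine ⟨b'.card, b'.orderEmbOfFin rfl, ?_, ?_⟩
  · -- count
    have hzmem : ∀ l, (Sum.inr (b'.orderEmbOfFin rfl l) : Fin r ⊕ Fin d') ∈ b := by
      intro l
      exact (hb' _).mp (Finset.orderEmbOfFin_mem b' rfl l)
    let f' : Fin r ⊕ Fin b'.card → b := fun x =>
      match x with
      | Sum.inl i => ⟨Sum.inl i, hsb ⟨i, rfl⟩⟩
      | Sum.inr l => ⟨Sum.inr (b'.orderEmbOfFin rfl l), hzmem l⟩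
    have hf'inj : Function.Injective f' := by
      rintro (i | l) (i' | l') h
      · have := congrArg Subtype.val h
        simp only [f'] at this
        rw [Sum.inl.injEq] at this
        rw [this]
      · have := congrArg Subtype.val h
        simp only [f'] at this
        exact absurd this (by simp)
      · have := congrArg Subtype.val h
        simp only [f'] at this
        exact absurd this (by simp)
      · have := congrArg Subtype.val h
        simp only [f'] at this
        rw [Sum.inr.injEq] at this
        rw [(b'.orderEmbOfFin rfl).injective this]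
    have hf'surj : Function.Surjective f' := by
      rintro ⟨x, hx⟩
      rcases x with i | l
      · exact ⟨Sum.inl i, rfl⟩
      · have hl : l ∈ b' := (hb' l).mpr hx
        have : l ∈ Set.range (b'.orderEmbOfFin rfl) := by
          rw [Finset.range_orderEmbOfFin]; exact hl
        obtain ⟨l', hl'⟩ := this
        refine ⟨Sum.inr l', ?_⟩
        apply Subtype.ext
        simp only [f']
        rw [hl']
    have hli' : LinearIndependent K (fun x : b => u x) := hli
    have hspan' : ⊤ ≤ Submodule.span K (Set.range (fun x : b => u x)) := by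
      have h1 : Set.range (fun x : b => u x) = u '' b := by
        ext y; constructor
        · rintro ⟨⟨x, hx⟩, rfl⟩; exact ⟨x, hx, rfl⟩
        · rintro ⟨x, hx, rfl⟩; exact ⟨⟨x, hx⟩, rfl⟩
      rw [h1, ← hw]
      apply Submodule.span_le.mpr
      rintro _ ⟨l, rfl⟩
      exact hspan ⟨Sum.inr l, Set.mem_univ _, rfl⟩
    let B : Module.Basis b K V := Module.Basis.mk hli' hspan'
    haveI : Fintype b := Fintype.ofBijective f' ⟨hf'inj, hf'surj⟩
    have h2 : Module.finrank K V = Fintype.card b := Module.finrank_eq_card_basis B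
    rw [h2, ← Fintype.card_of_bijective ⟨hf'inj, hf'surj⟩, Fintype.card_sum, Fintype.card_fin,
      Fintype.card_fin]
  · -- span
    rw [eq_top_iff, ← hw]
    apply Submodule.span_le.mpr
    rintro _ ⟨l, rfl⟩
    have h1 := hspan ⟨Sum.inr l, Set.mem_univ _, rfl⟩
    have h2 : u '' b ⊆ Set.range (Sum.elim v (w ∘ (b'.orderEmbOfFin rfl))) := by
      rintro _ ⟨x, hx, rfl⟩
      rcases x with i | l
      · exact ⟨Sum.inl i, rfl⟩
      · have hl : l ∈ b' := (hb' l).mpr hx
        have : l ∈ Set.range (b'.orderEmbOfFin rfl) := by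
          rw [Finset.range_orderEmbOfFin]; exact hl
        obtain ⟨l', hl'⟩ := this
        refine ⟨Sum.inr l', ?_⟩
        simp only [Sum.elim_inr, Function.comp_apply, hu]
        rw [hl']
    exact Submodule.span_mono h2 h1

/-- Spanning the cotangent space versus generating the maximal ideal. -/
theorem span_cot_iff {R : Type*} [CommRing R] [IsLocalRing R] [IsNoetherianRing R] {ι : Type*}
    (g : ι → R) (hg : ∀ i, g i ∈ maximalIdeal R) :
    Submodule.span (ResidueField R)
      (Set.range fun i => (maximalIdeal R).toCotangent ⟨g i, hg i⟩) = ⊤ ↔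
    Ideal.span (Set.range g) = maximalIdeal R := by
  have h0 : (Set.range fun i => (maximalIdeal R).toCotangent ⟨g i, hg i⟩) =
      (maximalIdeal R).toCotangent '' (Set.range fun i => (⟨g i, hg i⟩ : maximalIdeal R)) := by
    rw [← Set.range_comp]; rfl
  rw [h0, CotangentSpace.span_image_eq_top_iff]
  have key : Submodule.map (maximalIdeal R).subtype
      (Submodule.span R (Set.range fun i => (⟨g i, hg i⟩ : maximalIdeal R))) =
      Ideal.span (Set.range g) := by
    rw [Submodule.map_span, ← Set.range_comp]; rfl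
  constructor
  · intro h
    rw [← key, h, Submodule.map_top, Submodule.range_subtype]
  · intro h
    apply Submodule.map_injective_of_injective (maximalIdeal R).injective_subtype
    rw [key, h, Submodule.map_top, Submodule.range_subtype]

/-- Elements of a prime whose images form a basis of the cotangent space of the localization. -/
theorem exists_basis_from_prime {R : Type u} [CommRing R] [IsNoetherianRing R] (p : Ideal R)
    [p.IsPrime] :
    ∃ (r : ℕ) (x : Fin r → R) (_ : ∀ i, x i ∈ p)
      (hxm : ∀ i, algebraMap R (Localization.AtPrime p) (x i) ∈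
        maximalIdeal (Localization.AtPrime p)),
      Ideal.span (Set.range fun i => algebraMap R (Localization.AtPrime p) (x i)) =
        maximalIdeal (Localization.AtPrime p) ∧
      LinearIndependent (ResidueField (Localization.AtPrime p))
        (fun i => (maximalIdeal (Localization.AtPrime p)).toCotangent ⟨_, hxm i⟩) := by
  classical
  obtain ⟨k, y, hk, hy⟩ := Groth.Agent.H23.exists_extension (R := Localization.AtPrime p) (r := 0)
    (fun i => i.elim0) (linearIndependent_empty_type)
  have hsurj : ∀ j, ∃ (a : R) (b : p.primeCompl),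
      IsLocalization.mk' (Localization.AtPrime p) a b = (y j : Localization.AtPrime p) := by
    intro j
    obtain ⟨⟨a, b⟩, h⟩ := IsLocalization.mk'_surjective p.primeCompl (y j : Localization.AtPrime p)
    exact ⟨a, b, h⟩
  choose a b hab using hsurj
  have hap : ∀ j, a j ∈ p := by
    intro j
    have := (y j).2
    rw [← hab j, IsLocalization.AtPrime.mk'_mem_maximal_iff (Localization.AtPrime p) p] at this
    exact this
  have ham : ∀ j, algebraMap R (Localization.AtPrime p) (a j) ∈
      maximalIdeal (Localization.AtPrime p) := fun j =>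
    (IsLocalization.AtPrime.to_map_mem_maximal_iff (Localization.AtPrime p) p (a j)).mpr (hap j)
  have hgen : Ideal.span (Set.range fun j => algebraMap R (Localization.AtPrime p) (a j)) =
      maximalIdeal (Localization.AtPrime p) := by
    apply le_antisymm
    · rw [Ideal.span_le]
      rintro _ ⟨j, rfl⟩
      exact ham j
    · rw [hy, Ideal.span_le]
      rintro _ (⟨i, rfl⟩ | ⟨j, rfl⟩)
      · exact i.elim0
      · show (y j : Localization.AtPrime p) ∈ _
        rw [← hab j, IsLocalization.mk'_eq_mul_mk'_one]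
        exact Ideal.mul_mem_right _ _ (Ideal.subset_span ⟨j, rfl⟩)
  refine ⟨k, a, hap, ham, hgen, ?_⟩
  apply linearIndependent_of_top_le_span_of_card_eq_finrank
  · rw [(span_cot_iff _ ham).mpr hgen]
  · rw [Fintype.card_fin, ← hk, zero_add]

theorem exists_decomp {R : Type*} [CommRing R] {d : ℕ} (q : MvPolynomial (Fin d) R) :
    ∃ r : Fin d → MvPolynomial (Fin d) R, q = C (constantCoeff q) + ∑ i, X i * r i := by
  classical
  induction q using MvPolynomial.induction_on with
  | C a => exact ⟨0, by simp⟩
  | add p q hp hq =>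
    obtain ⟨rp, hp⟩ := hp
    obtain ⟨rq, hq⟩ := hq
    refine ⟨rp + rq, ?_⟩
    conv_lhs => rw [hp, hq]
    simp only [map_add, Pi.add_apply, mul_add, Finset.sum_add_distrib]
    ring
  | mul_X p i _ =>
    refine ⟨Pi.single i p, ?_⟩
    simp [Pi.single_apply, mul_comm]

theorem exists_parameters {Λ P' : Type u} [CommRing Λ] [IsNoetherianRing Λ] (𝔮 : Ideal Λ)
    [𝔮.IsPrime] [IsRegularLocalRing (Localization.AtPrime 𝔮)] (d : ℕ)
    (hd : ringKrullDim (Localization.AtPrime 𝔮) = d)
    [CommRing P'] [IsRegularRing P'] [Algebra P' Λ]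
    (hcot : ∀ (r : ℕ) (x : Fin r → P')
      (hx : ∀ i, algebraMap P' (Localization.AtPrime (𝔮.comap (algebraMap P' Λ))) (x i) ∈
        maximalIdeal (Localization.AtPrime (𝔮.comap (algebraMap P' Λ))))
      (hxS : ∀ i, algebraMap Λ (Localization.AtPrime 𝔮) (algebraMap P' Λ (x i)) ∈
        maximalIdeal (Localization.AtPrime 𝔮)),
      LinearIndependent (ResidueField (Localization.AtPrime (𝔮.comap (algebraMap P' Λ))))
        (fun i => (maximalIdeal (Localization.AtPrime (𝔮.comap (algebraMap P' Λ)))).toCotangent
          ⟨_, hx i⟩) →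
      LinearIndependent (ResidueField (Localization.AtPrime 𝔮))
        (fun i => (maximalIdeal (Localization.AtPrime 𝔮)).toCotangent ⟨_, hxS i⟩))
    {d' : ℕ} (q : Fin d' → Λ) (hq : Ideal.span (Set.range q) = 𝔮) :
    ∃ (s : ℕ) (z : Fin s → Fin d') (π : Fin d → MvPolynomial (Fin s) P'),
      (∀ i, aeval (fun l => q (z l)) (π i) ∈ 𝔮) ∧
      Ideal.span (Set.range fun i => algebraMap (MvPolynomial (Fin s) P')
        (Localization.AtPrime (𝔮.comap
          (aeval (fun l => q (z l)) : MvPolynomial (Fin s) P' →ₐ[P'] Λ))) (π i)) =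
        maximalIdeal (Localization.AtPrime (𝔮.comap
          (aeval (fun l => q (z l)) : MvPolynomial (Fin s) P' →ₐ[P'] Λ))) ∧
      Ideal.span (Set.range fun i => algebraMap Λ (Localization.AtPrime 𝔮)
        (aeval (fun l => q (z l)) (π i))) = maximalIdeal (Localization.AtPrime 𝔮) := by
  classical
  have hq𝔮 : ∀ l, q l ∈ 𝔮 := fun l => hq ▸ Ideal.subset_span ⟨l, rfl⟩
  -- Step 1
  obtain ⟨r₀, x', hx'mem, hx'm, hx'gen, hx'li⟩ :=
    exists_basis_from_prime (𝔮.comap (algebraMap P' Λ))
  have hx'𝔮 : ∀ i, algebraMap P' Λ (x' i) ∈ 𝔮 := fun i => hx'mem i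
  have hxS : ∀ i, algebraMap Λ (Localization.AtPrime 𝔮) (algebraMap P' Λ (x' i)) ∈
      maximalIdeal (Localization.AtPrime 𝔮) := fun i =>
    (IsLocalization.AtPrime.to_map_mem_maximal_iff (Localization.AtPrime 𝔮) 𝔮 _).mpr (hx'𝔮 i)
  have hvli := hcot r₀ x' hx'm hxS hx'li
  have hqm : ∀ l, algebraMap Λ (Localization.AtPrime 𝔮) (q l) ∈
      maximalIdeal (Localization.AtPrime 𝔮) := fun l =>
    (IsLocalization.AtPrime.to_map_mem_maximal_iff (Localization.AtPrime 𝔮) 𝔮 _).mpr (hq𝔮 l)
  have hw : Submodule.span (ResidueField (Localization.AtPrime 𝔮))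
      (Set.range fun l => (maximalIdeal (Localization.AtPrime 𝔮)).toCotangent ⟨_, hqm l⟩) = ⊤ := by
    rw [span_cot_iff _ hqm]
    have h1 : (Set.range fun l => algebraMap Λ (Localization.AtPrime 𝔮) (q l)) =
        algebraMap Λ (Localization.AtPrime 𝔮) '' Set.range q := by
      rw [← Set.range_comp]; rfl
    rw [h1, ← Ideal.map_span, hq]
    exact Localization.AtPrime.map_eq_maximalIdeal
  obtain ⟨s, z, hcard, hspan⟩ := exists_extension_from_span _ hvli _ hw
  have hds : r₀ + s = d := by
    have h1 := (IsRegularLocalRing.iff_finrank_cotangentSpace (Localization.AtPrime 𝔮)).mp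
      inferInstance
    rw [hd, ← hcard] at h1
    exact_mod_cast h1
  let e : Fin d ≃ Fin r₀ ⊕ Fin s := (finCongr hds.symm).trans finSumFinEquiv.symm
  let π' : Fin r₀ ⊕ Fin s → MvPolynomial (Fin s) P' :=
    Sum.elim (fun i => C (x' i)) (fun l => X l)
  have hπ'𝔮 : ∀ y, aeval (fun l => q (z l)) (π' y) ∈ 𝔮 := by
    rintro (i | l)
    · show aeval (fun l => q (z l)) (C (x' i)) ∈ 𝔮
      rw [aeval_C]; exact hx'𝔮 i
    · show aeval (fun l => q (z l)) (X l : MvPolynomial (Fin s) P') ∈ 𝔮
      rw [aeval_X]; exact hq𝔮 _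
  refine ⟨s, z, π' ∘ e, fun i => hπ'𝔮 _, ?_, ?_⟩
  · -- generation of the maximal ideal of `P_𝔭`
    have hrange : (Set.range fun i => algebraMap (MvPolynomial (Fin s) P')
        (Localization.AtPrime (𝔮.comap
          (aeval (fun l => q (z l)) : MvPolynomial (Fin s) P' →ₐ[P'] Λ))) ((π' ∘ e) i)) =
        Set.range fun y => algebraMap (MvPolynomial (Fin s) P')
        (Localization.AtPrime (𝔮.comap
          (aeval (fun l => q (z l)) : MvPolynomial (Fin s) P' →ₐ[P'] Λ))) (π' y) :=
      e.surjective.range_comp (fun y => algebraMap (MvPolynomial (Fin s) P')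
        (Localization.AtPrime (𝔮.comap
          (aeval (fun l => q (z l)) : MvPolynomial (Fin s) P' →ₐ[P'] Λ))) (π' y))
    rw [hrange]
    apply le_antisymm
    · rw [Ideal.span_le]
      rintro _ ⟨y, rfl⟩
      exact (IsLocalization.AtPrime.to_map_mem_maximal_iff _ (𝔮.comap
          (aeval (fun l => q (z l)) : MvPolynomial (Fin s) P' →ₐ[P'] Λ)) _).mpr (hπ'𝔮 y)
    · rw [← Localization.AtPrime.map_eq_maximalIdeal, Ideal.map_le_iff_le_comap]
      intro f hf
      rw [Ideal.mem_comap]
      have hXJ : ∀ l, algebraMap (MvPolynomial (Fin s) P') (Localization.AtPrime (𝔮.comap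
          (aeval (fun l => q (z l)) : MvPolynomial (Fin s) P' →ₐ[P'] Λ))) (X l) ∈
          Ideal.span (Set.range fun y => algebraMap (MvPolynomial (Fin s) P')
            (Localization.AtPrime (𝔮.comap
              (aeval (fun l => q (z l)) : MvPolynomial (Fin s) P' →ₐ[P'] Λ))) (π' y)) :=
        fun l => Ideal.subset_span ⟨Sum.inr l, rfl⟩
      have hCJ : ∀ i, algebraMap (MvPolynomial (Fin s) P') (Localization.AtPrime (𝔮.comap
          (aeval (fun l => q (z l)) : MvPolynomial (Fin s) P' →ₐ[P'] Λ))) (C (x' i)) ∈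
          Ideal.span (Set.range fun y => algebraMap (MvPolynomial (Fin s) P')
            (Localization.AtPrime (𝔮.comap
              (aeval (fun l => q (z l)) : MvPolynomial (Fin s) P' →ₐ[P'] Λ))) (π' y)) :=
        fun i => Ideal.subset_span ⟨Sum.inl i, rfl⟩
      obtain ⟨h, hdec⟩ := exists_decomp f
      have hf₀ : constantCoeff f ∈ 𝔮.comap (algebraMap P' Λ) := by
        have h1 : aeval (fun l => q (z l)) f ∈ 𝔮 := hf
        rw [hdec, map_add, map_sum, aeval_C] at h1
        have hsum : ∑ l, aeval (fun l => q (z l)) (X l * h l) ∈ 𝔮 :=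
          Ideal.sum_mem _ fun l _ => by
            rw [map_mul, aeval_X]; exact 𝔮.mul_mem_right _ (hq𝔮 _)
        exact (Ideal.add_mem_iff_left _ hsum).mp h1
      have h1 : algebraMap P' (Localization.AtPrime (𝔮.comap (algebraMap P' Λ))) (constantCoeff f) ∈
          Ideal.map (algebraMap P' (Localization.AtPrime (𝔮.comap (algebraMap P' Λ))))
            (Ideal.span (Set.range x')) := by
        rw [Ideal.map_span, ← Set.range_comp]
        show _ ∈ Ideal.span (Set.range fun i =>
          algebraMap P' (Localization.AtPrime (𝔮.comap (algebraMap P' Λ))) (x' i))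
        rw [hx'gen]
        exact (IsLocalization.AtPrime.to_map_mem_maximal_iff _ (𝔮.comap (algebraMap P' Λ)) _).mpr hf₀
      obtain ⟨⟨⟨a, ha⟩, ⟨t, ht⟩⟩, hat⟩ :=
        (IsLocalization.mem_map_algebraMap_iff (𝔮.comap (algebraMap P' Λ)).primeCompl
          (Localization.AtPrime (𝔮.comap (algebraMap P' Λ)))).mp h1
      simp only at hat
      rw [← map_mul, IsLocalization.eq_iff_exists (𝔮.comap (algebraMap P' Λ)).primeCompl] at hat
      obtain ⟨⟨t', ht'⟩, hat'⟩ := hat
      simp only at hat'
      have htt : t' * t ∈ (𝔮.comap (algebraMap P' Λ)).primeCompl :=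
        (𝔮.comap (algebraMap P' Λ)).primeCompl.mul_mem ht' ht
      have hCtt : (C (t' * t) : MvPolynomial (Fin s) P') ∈ (𝔮.comap
          (aeval (fun l => q (z l)) : MvPolynomial (Fin s) P' →ₐ[P'] Λ)).primeCompl := by
        intro hmem
        apply htt
        have : aeval (fun l => q (z l)) (C (t' * t) : MvPolynomial (Fin s) P') ∈ 𝔮 := hmem
        rwa [aeval_C] at this
      have hunit : IsUnit (algebraMap (MvPolynomial (Fin s) P') (Localization.AtPrime (𝔮.comap
          (aeval (fun l => q (z l)) : MvPolynomial (Fin s) P' →ₐ[P'] Λ))) (C (t' * t))) :=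
        IsLocalization.map_units _ (⟨C (t' * t), hCtt⟩ : (𝔮.comap
          (aeval (fun l => q (z l)) : MvPolynomial (Fin s) P' →ₐ[P'] Λ)).primeCompl)
      have hCa : algebraMap (MvPolynomial (Fin s) P') (Localization.AtPrime (𝔮.comap
          (aeval (fun l => q (z l)) : MvPolynomial (Fin s) P' →ₐ[P'] Λ))) (C a) ∈
          Ideal.span (Set.range fun y => algebraMap (MvPolynomial (Fin s) P')
            (Localization.AtPrime (𝔮.comap
              (aeval (fun l => q (z l)) : MvPolynomial (Fin s) P' →ₐ[P'] Λ))) (π' y)) := by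
        have h2 : (C a : MvPolynomial (Fin s) P') ∈
            Ideal.map (C : P' →+* MvPolynomial (Fin s) P') (Ideal.span (Set.range x')) :=
          Ideal.mem_map_of_mem _ ha
        rw [Ideal.map_span] at h2
        have h3 := Ideal.mem_map_of_mem (algebraMap (MvPolynomial (Fin s) P')
          (Localization.AtPrime (𝔮.comap
            (aeval (fun l => q (z l)) : MvPolynomial (Fin s) P' →ₐ[P'] Λ)))) h2
        rw [Ideal.map_span] at h3
        refine Ideal.span_le.mpr ?_ h3
        rintro _ ⟨_, ⟨_, ⟨i, rfl⟩, rfl⟩, rfl⟩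
        exact hCJ i
      have hmem : algebraMap (MvPolynomial (Fin s) P') (Localization.AtPrime (𝔮.comap
          (aeval (fun l => q (z l)) : MvPolynomial (Fin s) P' →ₐ[P'] Λ))) (C (t' * t)) *
          algebraMap (MvPolynomial (Fin s) P') (Localization.AtPrime (𝔮.comap
          (aeval (fun l => q (z l)) : MvPolynomial (Fin s) P' →ₐ[P'] Λ))) (C (constantCoeff f)) ∈
          Ideal.span (Set.range fun y => algebraMap (MvPolynomial (Fin s) P')
            (Localization.AtPrime (𝔮.comap
              (aeval (fun l => q (z l)) : MvPolynomial (Fin s) P' →ₐ[P'] Λ))) (π' y)) := by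
        rw [← map_mul, ← C_mul]
        have h5 : t' * t * constantCoeff f = t' * a := by rw [← hat']; ring
        rw [h5, C_mul, map_mul]
        exact Ideal.mul_mem_left _ _ hCa
      have hCf₀ := (Ideal.unit_mul_mem_iff_mem _ hunit).mp hmem
      rw [hdec, map_add, map_sum]
      refine Ideal.add_mem _ hCf₀ (Ideal.sum_mem _ fun l _ => ?_)
      rw [map_mul]
      exact Ideal.mul_mem_right _ _ (hXJ l)
  · -- generation of the maximal ideal of `Λ_𝔮`
    have hrange : (Set.range fun i => algebraMap Λ (Localization.AtPrime 𝔮)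
        (aeval (fun l => q (z l)) ((π' ∘ e) i))) =
        Set.range fun y => algebraMap Λ (Localization.AtPrime 𝔮)
        (aeval (fun l => q (z l)) (π' y)) :=
      e.surjective.range_comp (fun y => algebraMap Λ (Localization.AtPrime 𝔮)
        (aeval (fun l => q (z l)) (π' y)))
    rw [hrange]
    have hgm : ∀ y, algebraMap Λ (Localization.AtPrime 𝔮) (aeval (fun l => q (z l)) (π' y)) ∈
        maximalIdeal (Localization.AtPrime 𝔮) := fun y =>
      (IsLocalization.AtPrime.to_map_mem_maximal_iff (Localization.AtPrime 𝔮) 𝔮 _).mpr (hπ'𝔮 y)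
    rw [← span_cot_iff _ hgm, ← hspan]
    congr 2
    funext y
    rcases y with i | l
    · show (maximalIdeal (Localization.AtPrime 𝔮)).toCotangent _ =
        (maximalIdeal (Localization.AtPrime 𝔮)).toCotangent _
      congr 1
      apply Subtype.ext
      show algebraMap Λ (Localization.AtPrime 𝔮) (aeval (fun l => q (z l)) (C (x' i))) = _
      rw [aeval_C]
    · show (maximalIdeal (Localization.AtPrime 𝔮)).toCotangent _ =
        (maximalIdeal (Localization.AtPrime 𝔮)).toCotangent _
      congr 1
      apply Subtype.ext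
      show algebraMap Λ (Localization.AtPrime 𝔮)
        (aeval (fun l => q (z l)) (X l : MvPolynomial (Fin s) P')) = _
      rw [aeval_X]

end Groth.Agent.H3.InsepParams
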