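import Groth.Agent.H3.SL5

/-!
# The Jacobian splitting of a smooth presentation (helper3)

For a presentation `φ : R[x₁..xₙ] → A` with kernel `I` and `g` with `A_g` formally smooth over `R`,
the conormal sequence splits after inverting `g`; elementwise: there are `u_i ∈ I` and `K` with
`g^N (g^K w - Σ ∂_i w · u_i) ∈ I²` for all `w ∈ I`.
-/

set_option autoImplicit false
set_option linter.style.haveILetI false
universe u

namespace Groth.Agent.H3.Jac

open MvPolynomial

theorem exists_splitting {R A : Type u} [CommRing R] [CommRing A] [Algebra R A] {n : ℕ}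
    (φ : MvPolynomial (Fin n) R →ₐ[R] A) (hφ : Function.Surjective φ)
    (gt : MvPolynomial (Fin n) R) (Ag : Type u) [CommRing Ag] [Algebra A Ag] [Algebra R Ag]
    [IsScalarTower R A Ag] [IsLocalization.Away (φ gt) Ag] [Algebra.FormallySmooth R Ag] :
    ∃ (u : Fin n → MvPolynomial (Fin n) R) (K : ℕ), (∀ i, u i ∈ RingHom.ker φ.toRingHom) ∧
      ∀ w ∈ RingHom.ker φ.toRingHom, ∃ N : ℕ,
        gt ^ N * (gt ^ K * w - ∑ i, pderiv i w * u i) ∈ (RingHom.ker φ.toRingHom) ^ 2 := by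
  classical
  obtain ⟨I, hI⟩ : ∃ I : Ideal (MvPolynomial (Fin n) R), I = RingHom.ker φ.toRingHom := ⟨_, rfl⟩
  rw [← hI]
  have hmemI : ∀ w, w ∈ I ↔ φ w = 0 := fun w => by rw [hI]; rfl
  have hI2 : ∀ a ∈ I ^ 2, φ a = 0 := fun a ha =>
    (hmemI a).mp (Ideal.pow_le_self two_ne_zero ha)
  let π₀ : (MvPolynomial (Fin n) R ⧸ I ^ 2) →ₐ[R] A := Ideal.Quotient.liftₐ (I ^ 2) φ hI2
  have hπ₀mk : ∀ a, π₀ (Ideal.Quotient.mk _ a) = φ a := fun a => rfl
  have hπ₀surj : Function.Surjective π₀ := fun a => by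
    obtain ⟨x, rfl⟩ := hφ a; exact ⟨Ideal.Quotient.mk _ x, rfl⟩
  have hkerπ₀ : ∀ t : MvPolynomial (Fin n) R ⧸ I ^ 2, π₀ t = 0 →
      ∃ w ∈ I, Ideal.Quotient.mk (I ^ 2) w = t := by
    intro t ht
    obtain ⟨w, rfl⟩ := Ideal.Quotient.mk_surjective t
    exact ⟨w, (hmemI w).mpr ht, rfl⟩
  obtain ⟨g₀, hg₀⟩ : ∃ g₀ : MvPolynomial (Fin n) R ⧸ I ^ 2, g₀ = Ideal.Quotient.mk _ gt := ⟨_, rfl⟩
  have hπ₀g₀ : π₀ g₀ = φ gt := by rw [hg₀]; rfl
  have hu : IsUnit ((algebraMap A Ag) (φ gt)) := IsLocalization.Away.algebraMap_isUnit (φ gt)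
  have hu' : IsUnit (((algebraMap A Ag).comp π₀.toRingHom) g₀) := by
    show IsUnit (algebraMap A Ag (π₀ g₀)); rw [hπ₀g₀]; exact hu
  let πr : Localization.Away g₀ →+* Ag :=
    IsLocalization.Away.lift g₀ (g := (algebraMap A Ag).comp π₀.toRingHom) hu'
  have hπr : ∀ t, πr (algebraMap _ (Localization.Away g₀) t) = algebraMap A Ag (π₀ t) := fun t =>
    IsLocalization.Away.lift_eq g₀ hu' t
  let π : Localization.Away g₀ →ₐ[R] Ag :=
    { πr with
      commutes' := fun r => by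
        show πr (algebraMap R (Localization.Away g₀) r) = algebraMap R Ag r
        rw [IsScalarTower.algebraMap_apply R (MvPolynomial (Fin n) R ⧸ I ^ 2)
          (Localization.Away g₀), hπr, AlgHom.commutes, ← IsScalarTower.algebraMap_apply] }
  have hπ : ∀ t, π (algebraMap _ (Localization.Away g₀) t) = algebraMap A Ag (π₀ t) := hπr
  have hunit : IsUnit (algebraMap _ (Localization.Away g₀) g₀) :=
    IsLocalization.Away.algebraMap_isUnit g₀
  have hπsurj : Function.Surjective π := by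
    intro x
    obtain ⟨⟨a, ⟨_, k, rfl⟩⟩, hx⟩ := IsLocalization.surj (Submonoid.powers (φ gt)) x
    obtain ⟨t, rfl⟩ := hπ₀surj a
    obtain ⟨v, hv⟩ := hunit
    refine ⟨algebraMap _ (Localization.Away g₀) t * ↑(v⁻¹ ^ k), ?_⟩
    have h1 : π (algebraMap _ (Localization.Away g₀) t * ↑(v⁻¹ ^ k)) *
        (algebraMap A Ag (φ gt)) ^ k = algebraMap A Ag (π₀ t) := by
      rw [← hπ₀g₀, ← hπ g₀, ← map_pow, ← map_mul, ← hπ t, ← hv]
      congr 1
      rw [mul_assoc, ← Units.val_pow_eq_pow_val, ← Units.val_mul, ← mul_pow, inv_mul_cancel,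
        one_pow, Units.val_one, mul_one]
    have h2 : x * (algebraMap A Ag (φ gt)) ^ k = algebraMap A Ag (π₀ t) := by
      rw [← map_pow]; exact hx
    exact (hu.pow k).mul_left_injective (h1.trans h2.symm)
  have hker : ∀ y : Localization.Away g₀, π y = 0 → ∃ (w : MvPolynomial (Fin n) R) (j : ℕ),
      w ∈ I ∧ algebraMap _ (Localization.Away g₀) (g₀ ^ j) * y =
        algebraMap _ (Localization.Away g₀) (Ideal.Quotient.mk (I ^ 2) w) := by
    intro y hy
    obtain ⟨⟨t, ⟨_, k, rfl⟩⟩, hyt⟩ := IsLocalization.surj (Submonoid.powers g₀) y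
    have h1 : algebraMap A Ag (π₀ t) = 0 := by
      rw [← hπ t, ← hyt, map_mul, hy, zero_mul]
    obtain ⟨⟨_, j, rfl⟩, hj⟩ := (IsLocalization.map_eq_zero_iff (Submonoid.powers (φ gt)) Ag _).mp h1
    have h2 : π₀ (g₀ ^ j * t) = 0 := by
      rw [map_mul, map_pow, hπ₀g₀]; exact hj
    obtain ⟨w, hw, hwt⟩ := hkerπ₀ _ h2
    refine ⟨w, j + k, hw, ?_⟩
    rw [hwt, pow_add, map_mul, map_mul, mul_assoc, mul_comm _ y]
    congr 1
  have hsq : ∀ y₁ y₂ : Localization.Away g₀, π y₁ = 0 → π y₂ = 0 → y₁ * y₂ = 0 := by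
    intro y₁ y₂ h₁ h₂
    obtain ⟨w₁, j₁, hw₁, e₁⟩ := hker y₁ h₁
    obtain ⟨w₂, j₂, hw₂, e₂⟩ := hker y₂ h₂
    have h0 : Ideal.Quotient.mk (I ^ 2) (w₁ * w₂) = 0 := by
      rw [Ideal.Quotient.eq_zero_iff_mem, pow_two]; exact Ideal.mul_mem_mul hw₁ hw₂
    have h3 : algebraMap _ (Localization.Away g₀) (g₀ ^ (j₁ + j₂)) * (y₁ * y₂) = 0 := by
      have : algebraMap _ (Localization.Away g₀) (g₀ ^ (j₁ + j₂)) * (y₁ * y₂) =
          (algebraMap _ (Localization.Away g₀) (g₀ ^ j₁) * y₁) *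
            (algebraMap _ (Localization.Away g₀) (g₀ ^ j₂) * y₂) := by
        rw [pow_add, map_mul]; ring
      rw [this, e₁, e₂, ← map_mul, ← map_mul, h0, map_zero]
    have hunit' : IsUnit (algebraMap _ (Localization.Away g₀) (g₀ ^ (j₁ + j₂))) := by
      rw [map_pow]; exact hunit.pow _
    exact hunit'.mul_right_eq_zero.mp h3
  have hnil : IsNilpotent (RingHom.ker (π : Localization.Away g₀ →+* Ag)) := by
    refine ⟨2, ?_⟩
    have hmul : RingHom.ker (π : Localization.Away g₀ →+* Ag) *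
        RingHom.ker (π : Localization.Away g₀ →+* Ag) = ⊥ := by
      rw [eq_bot_iff, Ideal.mul_le]
      intro a ha b hb
      exact Ideal.mem_bot.mpr (hsq a b ha hb)
    exact (pow_two _).trans (hmul.trans Ideal.zero_eq_bot.symm)
  let σ : Ag →ₐ[R] Localization.Away g₀ :=
    Algebra.FormallySmooth.liftOfSurjective (AlgHom.id R Ag) π hπsurj hnil
  have hσ : ∀ x, π (σ x) = x := fun x =>
    Algebra.FormallySmooth.liftOfSurjective_apply (AlgHom.id R Ag) π hπsurj hnil x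
  let F : MvPolynomial (Fin n) R →ₐ[R] Localization.Away g₀ :=
    (IsScalarTower.toAlgHom R (MvPolynomial (Fin n) R ⧸ I ^ 2) (Localization.Away g₀)).comp
      (Ideal.Quotient.mkₐ R (I ^ 2))
  let G : MvPolynomial (Fin n) R →ₐ[R] Localization.Away g₀ :=
    σ.comp ((IsScalarTower.toAlgHom R A Ag).comp φ)
  have hF : ∀ x, F x = algebraMap _ (Localization.Away g₀) (Ideal.Quotient.mk (I ^ 2) x) :=
    fun x => rfl
  have hG : ∀ x, G x = σ (algebraMap A Ag (φ x)) := fun x => rfl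
  have hFG : ∀ x, π (F x - G x) = 0 := by
    intro x
    rw [map_sub, hF, hπ, hG, hσ, hπ₀mk, sub_self]
  have htaylor := fun w => Groth.Agent.H3.SL.taylor_of_mul_eq_zero F G
    (fun j k => hsq _ _ (hFG _) (hFG _)) w
  choose uu kk huu hkk using fun j : Fin n => hker (F (X j) - G (X j)) (hFG (X j))
  refine ⟨fun j => gt ^ (Finset.univ.sup kk - kk j) * uu j, Finset.univ.sup kk,
    fun j => Ideal.mul_mem_left _ _ (huu j), ?_⟩
  intro w hw
  have hGw : G w = 0 := by rw [hG, (hmemI w).mp hw, map_zero, map_zero]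
  have hkey : algebraMap _ (Localization.Away g₀) (Ideal.Quotient.mk (I ^ 2)
      (gt ^ Finset.univ.sup kk * w - ∑ i, pderiv i w *
        (gt ^ (Finset.univ.sup kk - kk i) * uu i))) = 0 := by
    have h1 := htaylor w
    rw [hGw, sub_zero] at h1
    rw [map_sub, map_sub, map_mul, map_mul, map_pow, ← hg₀, ← hF w, h1, map_sum, map_sum,
      Finset.mul_sum, ← Finset.sum_sub_distrib]
    refine Finset.sum_eq_zero fun j _ => ?_
    have hle : kk j ≤ Finset.univ.sup kk := Finset.le_sup (Finset.mem_univ j)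
    have e1 : algebraMap _ (Localization.Away g₀) (Ideal.Quotient.mk (I ^ 2)
        (gt ^ (Finset.univ.sup kk - kk j) * uu j)) =
        algebraMap _ (Localization.Away g₀) g₀ ^ (Finset.univ.sup kk - kk j) *
          (algebraMap _ (Localization.Away g₀) g₀ ^ kk j * (F (X j) - G (X j))) := by
      rw [← map_pow _ g₀ (kk j), hkk j, hg₀, map_mul, map_mul, map_pow, map_pow]
    rw [map_mul, map_mul, e1, ← hF]
    have : algebraMap _ (Localization.Away g₀) g₀ ^ Finset.univ.sup kk =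
        algebraMap _ (Localization.Away g₀) g₀ ^ (Finset.univ.sup kk - kk j) *
          algebraMap _ (Localization.Away g₀) g₀ ^ kk j := by
      rw [← pow_add, Nat.sub_add_cancel hle]
    rw [map_pow, this]
    ring
  obtain ⟨⟨_, N, rfl⟩, hN⟩ :=
    (IsLocalization.map_eq_zero_iff (Submonoid.powers g₀) (Localization.Away g₀) _).mp hkey
  refine ⟨N, ?_⟩
  rw [← Ideal.Quotient.eq_zero_iff_mem, map_mul, map_pow, ← hg₀]
  exact hN

end Groth.Agent.H3.Jac
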