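import Mathlib
import Groth.Agent.H82.TorLib
import Groth.Agent.H82.TorSymm
import Groth.Agent.H82.TorShift
import Groth.Agent.H82.TorReg2
import Groth.Agent.H82.TorFlat
import Groth.Agent.H23.TorPowGen

/-! Uniform vanishing of `Tor_p(I^n M, N) → Tor_p(M, N)` for `N` killed by `I` (helper3).

Proof: induction on the number of generators of `I`; for `I = I' + (f)` use the two sequences
`0 → (0 :_M f) → M → fM → 0`, `0 → fM → M → M/fM → 0` (the composite `fM → M → fM` is multiplication
by `f`, zero on `Tor(N, -)`), the inductive hypothesis for `M/fM` and `(0 :_M f)`, and Artin–Rees. -/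

set_option autoImplicit false
set_option linter.unusedSectionVars false
set_option linter.unusedVariables false
set_option linter.style.haveILetI false

universe u

open CategoryTheory CategoryTheory.Limits MonoidalCategory

namespace Groth.Agent.H3.TorPow

open Groth.Agent.H82 Groth.Agent.H82.LDer Groth.Agent.H82.TorLib

variable {A : Type u} [CommRing A] (N : Type u) [AddCommGroup N] [Module A N]

/-- `T p = Tor_p(N, -)`. -/
noncomputable abbrev T (p : ℕ) : ModuleCat.{u} A ⥤ ModuleCat.{u} A :=
  (Tor (ModuleCat.{u} A) p).obj (ModuleCat.of A N)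

/-- A linear map inducing zero on all `Tor_p(N, -)`. -/
def TZ {X Y : Type u} [AddCommGroup X] [Module A X] [AddCommGroup Y] [Module A Y]
    (g : X →ₗ[A] Y) : Prop :=
  ∀ p : ℕ, (T (A := A) N p).map (ModuleCat.ofHom g) = 0

section basics

variable {X Y Z : Type u} [AddCommGroup X] [Module A X] [AddCommGroup Y] [Module A Y]
  [AddCommGroup Z] [Module A Z]

theorem TZ.comp_left {g : X →ₗ[A] Y} (hg : TZ N g) (h : Y →ₗ[A] Z) : TZ N (h ∘ₗ g) := by
  intro p
  rw [ModuleCat.ofHom_comp, Functor.map_comp, hg p, zero_comp]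

theorem TZ.comp_right {h : Y →ₗ[A] Z} (hh : TZ N h) (g : X →ₗ[A] Y) : TZ N (h ∘ₗ g) := by
  intro p
  rw [ModuleCat.ofHom_comp, Functor.map_comp, hh p, comp_zero]

end basics


end Groth.Agent.H3.TorPow
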