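import Groth.Agent.H3.HenselEtale2
import Mathlib.RingTheory.TotallySplit

set_option autoImplicit false
set_option linter.unusedSimpArgs false
set_option linter.unusedVariables false
set_option linter.style.haveILetI false
universe u

namespace Groth.Agent.H3

open IsLocalRing TensorProduct

/-- Existence of lifts of residual points of étale algebras into a Henselian local algebra. -/
theorem exists_algHom_of_etale_of_residue (R : Type u) [CommRing R] (S : Type u) [CommRing S]
    [HenselianLocalRing S] [Algebra R S] (A : Type u) [CommRing A] [Algebra R A]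
    [Algebra.Etale R A] (χ₀ : A →ₐ[R] ResidueField S) :
    ∃ f : A →ₐ[R] S, ∀ a, residue S (f a) = χ₀ a := by
  let χ : S ⊗[R] A →ₐ[S] ResidueField S :=
    Algebra.TensorProduct.lift (Algebra.ofId S (ResidueField S)) χ₀ (fun _ _ => Commute.all _ _)
  obtain ⟨σ, hσ⟩ := exists_section_of_etale χ
  refine ⟨(σ.restrictScalars R).comp Algebra.TensorProduct.includeRight, fun a => ?_⟩
  have h1 := AlgHom.congr_fun hσ ((1 : S) ⊗ₜ[R] a)
  simp only [AlgHom.comp_apply, χ, Algebra.TensorProduct.lift_tmul, map_one, one_mul] at h1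
  rw [← h1]
  rfl

/-- Uniqueness of lifts of residual points of étale algebras into a local algebra. -/
theorem algHom_ext_of_etale_of_residue (R : Type u) [CommRing R] (S : Type u) [CommRing S]
    [IsLocalRing S] [Algebra R S] (A : Type u) [CommRing A] [Algebra R A]
    [Algebra.Etale R A] (g₁ g₂ : A →ₐ[R] S) (h : ∀ a, residue S (g₁ a) = residue S (g₂ a)) :
    g₁ = g₂ := by
  let G₁ : S ⊗[R] A →ₐ[S] S :=
    Algebra.TensorProduct.lift (AlgHom.id S S) g₁ (fun _ _ => Commute.all _ _)
  let G₂ : S ⊗[R] A →ₐ[S] S :=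
    Algebra.TensorProduct.lift (AlgHom.id S S) g₂ (fun _ _ => Commute.all _ _)
  have h12 : (IsScalarTower.toAlgHom S S (ResidueField S)).comp G₁ =
      (IsScalarTower.toAlgHom S S (ResidueField S)).comp G₂ := by
    apply Algebra.TensorProduct.ext'
    intro s a
    simp only [AlgHom.comp_apply, G₁, G₂, Algebra.TensorProduct.lift_tmul, AlgHom.id_apply,
      map_mul]
    have : (IsScalarTower.toAlgHom S S (ResidueField S)) (g₁ a) =
        (IsScalarTower.toAlgHom S S (ResidueField S)) (g₂ a) := h a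
    rw [this]
  have hG : G₁ = G₂ := section_unique_of_etale _ _ h12
  apply AlgHom.ext
  intro a
  have h1 := AlgHom.congr_fun hG ((1 : S) ⊗ₜ[R] a)
  simpa only [G₁, G₂, Algebra.TensorProduct.lift_tmul, map_one, one_mul] using h1

/-- Over a local ring with separably closed residue field, points of an étale algebra in a field
extension of the residue field are rational. -/
theorem exists_algHom_residueField_of_isSepClosed (R : Type u) [CommRing R] [IsLocalRing R]
    [IsSepClosed (ResidueField R)] (T : Type u) [CommRing T] [Algebra R T] [Algebra.Etale R T]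
    (L : Type u) [Field L] [Algebra R L] [Algebra (ResidueField R) L]
    [IsScalarTower R (ResidueField R) L] (χ : T →ₐ[R] L) :
    ∃ χ₀ : T →ₐ[R] ResidueField R, ∀ t, algebraMap (ResidueField R) L (χ₀ t) = χ t := by
  let Ψ : (ResidueField R) ⊗[R] T →ₐ[ResidueField R] L :=
    Algebra.TensorProduct.lift (Algebra.ofId (ResidueField R) L) χ (fun _ _ => Commute.all _ _)
  obtain ⟨p, hp⟩ : ∃ p : Ideal ((ResidueField R) ⊗[R] T), p = RingHom.ker Ψ.toRingHom :=
    ⟨_, rfl⟩
  haveI hpp : p.IsPrime := hp ▸ RingHom.ker_isPrime _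
  haveI : Algebra.IsFiniteSplit (ResidueField R) ((ResidueField R) ⊗[R] T) := inferInstance
  have bij := Algebra.IsFiniteSplit.bijective_algebraMap_quotient (ResidueField R) p
  let ε : ResidueField R ≃ₐ[ResidueField R] ((ResidueField R) ⊗[R] T) ⧸ p :=
    AlgEquiv.ofBijective (Algebra.ofId (ResidueField R) (((ResidueField R) ⊗[R] T) ⧸ p)) bij
  let χ₁ : (ResidueField R) ⊗[R] T →ₐ[ResidueField R] ResidueField R :=
    ε.symm.toAlgHom.comp (Ideal.Quotient.mkₐ (ResidueField R) p)
  refine ⟨(χ₁.restrictScalars R).comp Algebra.TensorProduct.includeRight, fun t => ?_⟩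
  change algebraMap (ResidueField R) L (χ₁ ((1 : ResidueField R) ⊗ₜ[R] t)) = χ t
  obtain ⟨c, hc⟩ : ∃ c, c = χ₁ ((1 : ResidueField R) ⊗ₜ[R] t) := ⟨_, rfl⟩
  rw [← hc]
  have h1 : algebraMap (ResidueField R) (((ResidueField R) ⊗[R] T) ⧸ p) c =
      Ideal.Quotient.mk p ((1 : ResidueField R) ⊗ₜ[R] t) := by
    rw [hc]
    change ε (ε.symm (Ideal.Quotient.mk p ((1 : ResidueField R) ⊗ₜ[R] t))) = _
    rw [AlgEquiv.apply_symm_apply]
  have h1' : Ideal.Quotient.mk p (algebraMap (ResidueField R) ((ResidueField R) ⊗[R] T) c) =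
      algebraMap (ResidueField R) (((ResidueField R) ⊗[R] T) ⧸ p) c := rfl
  have h2 : algebraMap (ResidueField R) ((ResidueField R) ⊗[R] T) c -
      (1 : ResidueField R) ⊗ₜ[R] t ∈ p := by
    rw [← Ideal.Quotient.eq, h1', h1]
  have h3 : Ψ (algebraMap (ResidueField R) ((ResidueField R) ⊗[R] T) c -
      (1 : ResidueField R) ⊗ₜ[R] t) = 0 := by
    rw [hp] at h2
    exact h2
  rw [map_sub, sub_eq_zero, AlgHom.commutes] at h3
  rw [h3]
  simp only [Ψ, Algebra.TensorProduct.lift_tmul, map_one, one_mul]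

theorem aeval_eq_zero_of_mem_span {R : Type*} [CommRing R] {σ : Type*} {S' : Type*}
    [CommRing S'] [Algebra R S'] (Ps : Set (MvPolynomial σ R)) (s : σ → S')
    (hs : ∀ p ∈ Ps, MvPolynomial.aeval s p = 0) :
    ∀ a ∈ Ideal.span Ps, MvPolynomial.aeval s a = 0 := by
  intro a ha
  have hle : Ideal.span Ps ≤
      RingHom.ker (MvPolynomial.aeval s : MvPolynomial σ R →ₐ[R] S').toRingHom := by
    rw [Ideal.span_le]
    intro p hp
    exact (RingHom.mem_ker).mpr (hs p hp)
  exact (RingHom.mem_ker).mp (hle ha)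

theorem liftₐ_aeval_mk_X {R : Type*} [CommRing R] {σ : Type*} {S' : Type*} [CommRing S']
    [Algebra R S'] (J : Ideal (MvPolynomial σ R)) (s : σ → S')
    (h : ∀ a ∈ J, MvPolynomial.aeval s a = 0) (i : σ) :
    Ideal.Quotient.liftₐ J (MvPolynomial.aeval s) h (Ideal.Quotient.mk J (MvPolynomial.X i)) =
      s i := by
  rw [Ideal.Quotient.liftₐ_apply, Ideal.Quotient.lift_mk]
  exact MvPolynomial.aeval_X s i

theorem etale_solutions_bijOn (R : Type u) [CommRing R] [HenselianLocalRing R]
    [IsSepClosed (ResidueField R)] (S : Type u) [CommRing S] [HenselianLocalRing S]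
    (φ : R →+* S) [hφ : IsLocalHom φ] (n : ℕ) (P : Fin n → MvPolynomial (Fin n) R)
    [hE : Algebra.Etale R (MvPolynomial (Fin n) R ⧸ Ideal.span (Set.range P))] :
    Set.BijOn (fun r : Fin n → R => φ ∘ r)
      {r : Fin n → R | ∀ i, MvPolynomial.eval r (P i) = 0}
      {s : Fin n → S | ∀ i, MvPolynomial.eval s (MvPolynomial.map φ (P i)) = 0} := by
  classical
  letI : Algebra R S := φ.toAlgebra
  haveI hloc : IsLocalHom (algebraMap R S) := hφ
  obtain ⟨J, hJ⟩ : ∃ J : Ideal (MvPolynomial (Fin n) R), J = Ideal.span (Set.range P) :=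
    ⟨_, rfl⟩
  haveI : Algebra.Etale R (MvPolynomial (Fin n) R ⧸ J) := hJ ▸ hE
  have hPJ : ∀ i, Ideal.Quotient.mk J (P i) = 0 := fun i =>
    Ideal.Quotient.eq_zero_iff_mem.mpr (hJ ▸ Ideal.subset_span ⟨i, rfl⟩)
  have hRJ : ∀ r : Fin n → R, (∀ i, MvPolynomial.eval r (P i) = 0) →
      ∀ a ∈ J, MvPolynomial.aeval r a = 0 := by
    intro r hr
    rw [hJ]
    apply aeval_eq_zero_of_mem_span
    rintro _ ⟨i, rfl⟩
    exact hr i
  have hSJ : ∀ s : Fin n → S, (∀ i, MvPolynomial.eval s (MvPolynomial.map φ (P i)) = 0) →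
      ∀ a ∈ J, MvPolynomial.aeval s a = 0 := by
    intro s hs
    rw [hJ]
    apply aeval_eq_zero_of_mem_span
    rintro _ ⟨i, rfl⟩
    exact (MvPolynomial.eval_map φ s (P i)).symm.trans (hs i)
  refine ⟨?_, ?_, ?_⟩
  · -- maps to
    intro r hr i
    have hr' : MvPolynomial.eval r (P i) = 0 := hr i
    change MvPolynomial.eval (φ ∘ r) (MvPolynomial.map φ (P i)) = 0
    rw [MvPolynomial.eval_map, ← MvPolynomial.eval₂_comp, hr', map_zero]
  · -- injective
    intro r hr r' hr' heq
    have heq' : φ ∘ r = φ ∘ r' := heq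
    have hff : Ideal.Quotient.liftₐ J (MvPolynomial.aeval r) (hRJ r hr) =
        Ideal.Quotient.liftₐ J (MvPolynomial.aeval r') (hRJ r' hr') := by
      apply section_unique_of_etale
      apply Ideal.Quotient.algHom_ext
      apply MvPolynomial.algHom_ext
      intro i
      change (IsScalarTower.toAlgHom R R (ResidueField R))
          (Ideal.Quotient.liftₐ J (MvPolynomial.aeval r) (hRJ r hr)
            (Ideal.Quotient.mk J (MvPolynomial.X i))) =
        (IsScalarTower.toAlgHom R R (ResidueField R))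
          (Ideal.Quotient.liftₐ J (MvPolynomial.aeval r') (hRJ r' hr')
            (Ideal.Quotient.mk J (MvPolynomial.X i)))
      rw [liftₐ_aeval_mk_X, liftₐ_aeval_mk_X]
      change residue R (r i) = residue R (r' i)
      rw [← sub_eq_zero, ← map_sub, residue_eq_zero_iff]
      by_contra hu
      rw [mem_maximalIdeal, mem_nonunits_iff, not_not] at hu
      have h1 := hu.map φ
      have h2 : φ (r i) = φ (r' i) := congr_fun heq' i
      rw [map_sub, h2, sub_self] at h1
      exact not_isUnit_zero h1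
    funext i
    calc r i = Ideal.Quotient.liftₐ J (MvPolynomial.aeval r) (hRJ r hr)
          (Ideal.Quotient.mk J (MvPolynomial.X i)) := (liftₐ_aeval_mk_X J r _ i).symm
      _ = Ideal.Quotient.liftₐ J (MvPolynomial.aeval r') (hRJ r' hr')
          (Ideal.Quotient.mk J (MvPolynomial.X i)) := by rw [hff]
      _ = r' i := liftₐ_aeval_mk_X J r' _ i
  · -- surjective
    intro s hs
    obtain ⟨g, hg⟩ : ∃ g : (MvPolynomial (Fin n) R ⧸ J) →ₐ[R] S,
        g = Ideal.Quotient.liftₐ J (MvPolynomial.aeval s) (hSJ s hs) := ⟨_, rfl⟩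
    have hgX : ∀ i, g (Ideal.Quotient.mk J (MvPolynomial.X i)) = s i := by
      intro i; rw [hg]; exact liftₐ_aeval_mk_X J s _ i
    obtain ⟨χ₀, hχ₀⟩ := exists_algHom_residueField_of_isSepClosed R
      (MvPolynomial (Fin n) R ⧸ J) (ResidueField S)
      ((IsScalarTower.toAlgHom R S (ResidueField S)).comp g)
    obtain ⟨σ, hσ⟩ := exists_section_of_etale χ₀
    obtain ⟨r, hr⟩ : ∃ r : Fin n → R, r = fun i => σ (Ideal.Quotient.mk J (MvPolynomial.X i)) :=
      ⟨_, rfl⟩
    have hσa : σ.comp (Ideal.Quotient.mkₐ R J) = MvPolynomial.aeval r := by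
      apply MvPolynomial.algHom_ext
      intro i
      rw [MvPolynomial.aeval_X, hr]
      rfl
    have hrsol : ∀ i, MvPolynomial.eval r (P i) = 0 := by
      intro i
      have h1 : MvPolynomial.aeval r (P i) = σ (Ideal.Quotient.mk J (P i)) := by
        rw [← hσa]; rfl
      rw [hPJ i, map_zero] at h1
      exact h1
    refine ⟨r, hrsol, ?_⟩
    have hgg : (Algebra.ofId R S).comp σ = g := by
      apply algHom_ext_of_etale_of_residue
      intro t
      have h1 : (IsScalarTower.toAlgHom R R (ResidueField R)) (σ t) = χ₀ t :=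
        AlgHom.congr_fun hσ t
      have h2 := hχ₀ t
      rw [← h1] at h2
      change residue S (algebraMap R S (σ t)) = residue S (g t)
      exact h2
    funext i
    have h3 := AlgHom.congr_fun hgg (Ideal.Quotient.mk J (MvPolynomial.X i))
    rw [hgX] at h3
    rw [← h3, hr]
    rfl

end Groth.Agent.H3
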