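import Groth.Agent.H3.Hensel5
import Mathlib.RingTheory.Spectrum.Prime.Topology
import Mathlib.Topology.Connected.Clopen

set_option autoImplicit false
universe u

namespace Groth.Agent.H3

open Polynomial

variable {B : Type*} [CommRing B]

/-- Idempotents lift along a Henselian pair. -/
theorem exists_isIdempotentElem_of_henselianRing (J : Ideal B) [hJ : HenselianRing B J] (b : B)
    (hb : b ^ 2 - b ∈ J) : ∃ e : B, IsIdempotentElem e ∧ e - b ∈ J := by
  rcases subsingleton_or_nontrivial B with hsub | hnt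
  · exact ⟨0, by simp [IsIdempotentElem], by rw [Subsingleton.elim (0 - b) 0]; exact J.zero_mem⟩
  have hmonic : (X ^ 2 - X : B[X]).Monic := by
    apply monic_X_pow_sub
    rw [degree_X]
    norm_num
  have h1 : (X ^ 2 - X : B[X]).eval b ∈ J := by
    simpa using hb
  have h2 : IsUnit (Ideal.Quotient.mk J ((X ^ 2 - X : B[X]).derivative.eval b)) := by
    have hd : (X ^ 2 - X : B[X]).derivative.eval b = 2 * b - 1 := by
      simp
      ring
    rw [hd]
    apply IsUnit.of_mul_eq_one (Ideal.Quotient.mk J (2 * b - 1))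
    rw [← map_mul, ← map_one (Ideal.Quotient.mk J), Ideal.Quotient.eq]
    have : (2 * b - 1) * (2 * b - 1) - 1 = 4 * (b ^ 2 - b) := by ring
    rw [this]
    exact J.mul_mem_left _ hb
  obtain ⟨e, he, heJ⟩ := hJ.is_henselian _ hmonic b h1 h2
  refine ⟨e, ?_, heJ⟩
  rw [IsRoot.def] at he
  simp only [eval_sub, eval_pow, eval_X] at he
  rw [IsIdempotentElem, ← pow_two]
  exact sub_eq_zero.mp he

theorem connectedSpace_primeSpectrum_of_idempotents (R : Type*) [CommRing R] [Nontrivial R]
    (h : ∀ e : R, IsIdempotentElem e → e = 0 ∨ e = 1) : ConnectedSpace (PrimeSpectrum R) := by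
  have : PreconnectedSpace (PrimeSpectrum R) := by
    rw [preconnectedSpace_iff_clopen]
    intro s hs
    obtain ⟨e, he, rfl⟩ := PrimeSpectrum.isClopen_iff.mp hs
    rcases h e he with rfl | rfl
    · left; simp
    · right; simp
  exact { toNonempty := inferInstance }

theorem connectedSpace_zeroLocus_of_henselianRing (A : Type*) [CommRing A] (I : Ideal A)
    [hI : HenselianRing A I] (p : Ideal A) [hp : p.IsPrime] :
    ConnectedSpace (PrimeSpectrum (A ⧸ p ⊔ I)) := by
  have hne : p ⊔ I ≠ ⊤ := by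
    obtain ⟨m, hm, hpm⟩ := Ideal.exists_le_maximal p hp.ne_top
    have hIm : I ≤ m := hI.jac.trans (sInf_le ⟨bot_le, hm⟩)
    exact fun h => hm.ne_top (top_le_iff.mp (h ▸ sup_le hpm hIm))
  have : Nontrivial (A ⧸ p ⊔ I) := Ideal.Quotient.nontrivial_iff.mpr hne
  apply connectedSpace_primeSpectrum_of_idempotents
  intro e he
  obtain ⟨a, rfl⟩ := Ideal.Quotient.mk_surjective e
  have ha : a ^ 2 - a ∈ p ⊔ I := by
    rw [← Ideal.Quotient.eq, map_pow, pow_two]
    exact he
  obtain ⟨x, hx, y, hy, hxy⟩ := Submodule.mem_sup.mp ha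
  have hH : HenselianRing (A ⧸ p) (I.map (Ideal.Quotient.mk p)) :=
    henselianRing_map_of_surjective _ Ideal.Quotient.mk_surjective I
  have hb : (Ideal.Quotient.mk p a) ^ 2 - Ideal.Quotient.mk p a ∈ I.map (Ideal.Quotient.mk p) := by
    rw [← map_pow, ← map_sub, ← hxy, map_add, Ideal.Quotient.eq_zero_iff_mem.mpr hx, zero_add]
    exact Ideal.mem_map_of_mem _ hy
  obtain ⟨e', he', hee⟩ := exists_isIdempotentElem_of_henselianRing _ _ hb
  have hdom : IsDomain (A ⧸ p) := Ideal.Quotient.isDomain p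
  obtain ⟨c, rfl⟩ := Ideal.Quotient.mk_surjective e'
  rw [← map_sub] at hee
  obtain ⟨z, hz, hzc⟩ := (Ideal.mem_map_iff_of_surjective _ Ideal.Quotient.mk_surjective).mp hee
  rw [Ideal.Quotient.eq] at hzc
  have hca : Ideal.Quotient.mk (p ⊔ I) c = Ideal.Quotient.mk (p ⊔ I) a := by
    rw [Ideal.Quotient.eq]
    have : c - a = z - (z - (c - a)) := by ring
    rw [this]
    exact Ideal.sub_mem _ (Ideal.mem_sup_right hz) (Ideal.mem_sup_left hzc)
  rcases IsIdempotentElem.iff_eq_zero_or_one.mp he' with h0 | h1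
  · left
    rw [← hca, Ideal.Quotient.eq_zero_iff_mem]
    exact Ideal.mem_sup_left (Ideal.Quotient.eq_zero_iff_mem.mp h0)
  · right
    rw [← hca, ← map_one (Ideal.Quotient.mk (p ⊔ I)), Ideal.Quotient.eq]
    rw [← map_one (Ideal.Quotient.mk p), Ideal.Quotient.eq] at h1
    exact Ideal.mem_sup_left h1

end Groth.Agent.H3
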