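import Groth.Agent.H3.HPair9
import Groth.Agent.H3.HenselConn

set_option autoImplicit false
set_option linter.style.haveILetI false
set_option linter.unusedSimpArgs false
set_option linter.unusedVariables false
universe u

namespace Groth.Agent.H3

open Polynomial TensorProduct

/-- Lifting idempotent matrices along a Henselian pair. -/
theorem exists_idempotent_matrix_lift {R : Type u} [CommRing R] (I : Ideal R) [HenselianRing R I]
    (n : ℕ) (ā : Matrix (Fin n) (Fin n) (R ⧸ I)) (hā : ā * ā = ā) :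
    ∃ E : Matrix (Fin n) (Fin n) R, E * E = E ∧ E.map (Ideal.Quotient.mk I) = ā := by
  classical
  obtain ⟨a, ha⟩ : ∃ a : Matrix (Fin n) (Fin n) R, a.map (Ideal.Quotient.mk I) = ā := by
    refine ⟨Matrix.of fun i j => Classical.choose (Ideal.Quotient.mk_surjective (ā i j)), ?_⟩
    ext i j
    simp only [Matrix.map_apply, Matrix.of_apply]
    exact Classical.choose_spec (Ideal.Quotient.mk_surjective (ā i j))
  let ρ : Matrix (Fin n) (Fin n) R →ₐ[R] Matrix (Fin n) (Fin n) (R ⧸ I) :=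
    (Ideal.Quotient.mkₐ R I).mapMatrix
  have hρ : ∀ M, ρ M = M.map (Ideal.Quotient.mk I) := fun M => rfl
  obtain ⟨b, hb⟩ : ∃ b, b = a * a - a := ⟨_, rfl⟩
  have hρb : b.map (Ideal.Quotient.mk I) = 0 := by
    rw [← hρ, hb, map_sub, map_mul, hρ, ha, hā, sub_self]
  obtain ⟨χ, hχ⟩ : ∃ χ, χ = b.charpoly := ⟨_, rfl⟩
  have hχm : χ.Monic := by rw [hχ]; exact b.charpoly_monic
  have hχmap : χ.map (Ideal.Quotient.mk I) = X ^ n := by
    rw [hχ, ← Matrix.charpoly_map, hρb, Matrix.charpoly_zero, Fintype.card_fin]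
  have hχb : aeval b χ = 0 := by rw [hχ]; exact Matrix.aeval_self_charpoly b
  have hr : ∀ i, (χ - X ^ n).coeff i ∈ I := coeff_mem_of_map_eq_zero I _
    (by rw [Polynomial.map_sub, hχmap, Polynomial.map_pow, Polynomial.map_X, sub_self])
  obtain ⟨Pp, hPp⟩ : ∃ Pp : R[X], Pp = χ.comp (X ^ 2 - X) := ⟨_, rfl⟩
  have hPm : Pp.Monic := by
    rcases subsingleton_or_nontrivial R with h | h
    · show Pp.leadingCoeff = 1
      exact Subsingleton.elim _ _
    have hqm : (X ^ 2 - X : R[X]).Monic := by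
      apply monic_X_pow_sub
      rw [degree_X]
      norm_num
    rw [hPp]
    refine hχm.comp hqm ?_
    rw [natDegree_sub_eq_left_of_natDegree_lt (by rw [natDegree_X, natDegree_X_pow]; norm_num),
      natDegree_X_pow]
    norm_num
  have hPa : aeval a Pp = 0 := by
    rw [hPp, aeval_comp]
    have : aeval a (X ^ 2 - X : R[X]) = b := by
      rw [map_sub, map_pow, aeval_X, hb, pow_two]
    rw [this, hχb]
  haveI : Module.Finite R (AdjoinRoot Pp) := hPm.finite_adjoinRoot
  haveI : Algebra.IsIntegral R (AdjoinRoot Pp) := Algebra.IsIntegral.of_finite R _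
  haveI h1 : HenselianRing (AdjoinRoot Pp) (I.map (algebraMap R (AdjoinRoot Pp))) :=
    henselianRing_map_of_isIntegral I (AdjoinRoot Pp)
  haveI h2 : HenselianRing (AdjoinRoot Pp) (I.map (algebraMap R (AdjoinRoot Pp))).radical :=
    (henselianRing_radical_iff _).mpr h1
  obtain ⟨x, hx⟩ : ∃ x : AdjoinRoot Pp, x = AdjoinRoot.root Pp := ⟨_, rfl⟩
  obtain ⟨z, hz⟩ : ∃ z : AdjoinRoot Pp, z = x ^ 2 - x := ⟨_, rfl⟩
  have hzχ : aeval z χ = 0 := by
    have : aeval x (X ^ 2 - X : R[X]) = z := by rw [map_sub, map_pow, aeval_X, hz]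
    rw [← this, ← aeval_comp, ← hPp, hx, AdjoinRoot.aeval_eq, AdjoinRoot.mk_self]
  have hzn : z ^ n ∈ I.map (algebraMap R (AdjoinRoot Pp)) := by
    have h3 := aeval_mem_map_of_coeff_mem I z (χ - X ^ n) hr
    rw [map_sub, hzχ, map_pow, aeval_X, zero_sub] at h3
    exact (Ideal.neg_mem_iff _).mp h3
  have hzrad : x ^ 2 - x ∈ (I.map (algebraMap R (AdjoinRoot Pp))).radical := by
    rw [← hz]
    exact Ideal.mem_radical_iff.mpr ⟨n, hzn⟩
  obtain ⟨e, he, hex⟩ := exists_isIdempotentElem_of_henselianRing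
    (I.map (algebraMap R (AdjoinRoot Pp))).radical x hzrad
  obtain ⟨k, hk⟩ := Ideal.mem_radical_iff.mp hex
  let φ : AdjoinRoot Pp →ₐ[R] Matrix (Fin n) (Fin n) R :=
    Ideal.Quotient.liftₐ (Ideal.span {Pp}) (aeval a) (by
      intro p hp
      obtain ⟨c, rfl⟩ := Ideal.mem_span_singleton'.mp hp
      rw [map_mul, hPa, mul_zero])
  have hφmk : ∀ p : R[X], φ (AdjoinRoot.mk Pp p) = aeval a p := fun p => rfl
  have hφx : φ x = a := by rw [hx, ← AdjoinRoot.mk_X, hφmk, aeval_X]
  let ψ : AdjoinRoot Pp →ₐ[R] Matrix (Fin n) (Fin n) (R ⧸ I) := ρ.comp φ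
  obtain ⟨K, hK⟩ : ∃ K : Ideal (AdjoinRoot Pp),
      K = RingHom.ker (ψ : AdjoinRoot Pp →+* Matrix (Fin n) (Fin n) (R ⧸ I)) := ⟨_, rfl⟩
  have hKmem : ∀ y, y ∈ K ↔ ψ y = 0 := by
    intro y
    rw [hK, RingHom.mem_ker]
    rfl
  have hIK : I.map (algebraMap R (AdjoinRoot Pp)) ≤ K := by
    rw [Ideal.map_le_iff_le_comap]
    intro r hr
    rw [Ideal.mem_comap, hKmem, AlgHom.commutes]
    have h0 : algebraMap R (R ⧸ I) r = 0 := Ideal.Quotient.eq_zero_iff_mem.mpr hr
    ext i j
    rw [Matrix.algebraMap_matrix_apply, h0]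
    simp
  have hzK : x ^ 2 - x ∈ K := by
    rw [hKmem]
    show ρ (φ (x ^ 2 - x)) = 0
    rw [map_sub, map_pow, hφx, pow_two, ← hb, hρ, hρb]
  have hpq : Ideal.Quotient.mk K e = Ideal.Quotient.mk K x := by
    apply eq_of_isIdempotentElem_of_sub_mem_jacobson (he.map (Ideal.Quotient.mk K))
    · show Ideal.Quotient.mk K x * Ideal.Quotient.mk K x = Ideal.Quotient.mk K x
      rw [← map_mul, ← sub_eq_zero, ← map_sub, Ideal.Quotient.eq_zero_iff_mem, ← pow_two]
      exact hzK
    · refine Ideal.radical_le_jacobson (Ideal.mem_radical_iff.mpr ⟨k, ?_⟩)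
      rw [← map_sub, ← map_pow, Ideal.mem_bot, Ideal.Quotient.eq_zero_iff_mem]
      exact hIK hk
  have heK : ψ e = ā := by
    have h3 : e - x ∈ K := by
      rw [← Ideal.Quotient.eq_zero_iff_mem, map_sub, sub_eq_zero]
      exact hpq
    have h4 := (hKmem _).mp h3
    rw [map_sub, sub_eq_zero] at h4
    rw [h4]
    show ρ (φ x) = ā
    rw [hφx, hρ, ha]
  refine ⟨φ e, ?_, ?_⟩
  · rw [← map_mul, he.eq]
  · rw [← hρ]
    exact heK

/-- Finite projective modules lift along a Henselian pair. -/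
theorem exists_finite_projective_lift (R : Type u) [CommRing R] (I : Ideal R)
    [HenselianRing R I] (Q : Type u) [AddCommGroup Q] [Module (R ⧸ I) Q] [Module.Finite (R ⧸ I) Q]
    [Module.Projective (R ⧸ I) Q] :
    ∃ (P : Type u) (_ : AddCommGroup P) (_ : Module R P), Module.Finite R P ∧
      Module.Projective R P ∧ Nonempty (TensorProduct R (R ⧸ I) P ≃ₗ[R ⧸ I] Q) := by
  classical
  obtain ⟨n, π, s, hπsurj, hsinj, hπs⟩ :=
    Module.Finite.exists_comp_eq_id_of_projective (R ⧸ I) Q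
  have hπs' : ∀ w, π (s w) = w := fun w => LinearMap.congr_fun hπs w
  obtain ⟨ā, hā_def⟩ : ∃ ā : Matrix (Fin n) (Fin n) (R ⧸ I),
      ā = LinearMap.toMatrix' (s ∘ₗ π) := ⟨_, rfl⟩
  have hsπ : (s ∘ₗ π) ∘ₗ (s ∘ₗ π) = s ∘ₗ π := by
    refine LinearMap.ext fun v => ?_
    show s (π (s (π v))) = s (π v)
    rw [hπs']
  have hā : ā * ā = ā := by rw [hā_def, ← LinearMap.toMatrix'_comp, hsπ]
  obtain ⟨E, hEE, hEā⟩ := exists_idempotent_matrix_lift I n ā hā
  let L : (Fin n → R) →ₗ[R] (Fin n → R) := Matrix.toLin' E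
  have hLL : ∀ v, L (L v) = L v := by
    intro v
    show Matrix.toLin' E (Matrix.toLin' E v) = Matrix.toLin' E v
    rw [← LinearMap.comp_apply, ← Matrix.toLin'_mul, hEE]
  let red : (Fin n → R) →ₗ[R] (Fin n → R ⧸ I) :=
    (Ideal.Quotient.mkₐ R I).toLinearMap.compLeft (Fin n)
  have hredapp : ∀ (v : Fin n → R) (i : Fin n), red v i = Ideal.Quotient.mk I (v i) :=
    fun v i => rfl
  have hredsurj : Function.Surjective red := by
    intro w
    refine ⟨fun i => Classical.choose (Ideal.Quotient.mk_surjective (w i)), ?_⟩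
    funext i
    rw [hredapp]
    exact Classical.choose_spec (Ideal.Quotient.mk_surjective (w i))
  have hred : ∀ v : Fin n → R, red (L v) = s (π (red v)) := by
    intro v
    have h1 : s (π (red v)) = Matrix.toLin' ā (red v) := by
      rw [hā_def, Matrix.toLin'_toMatrix']
      rfl
    rw [h1, ← hEā]
    funext i
    rw [hredapp]
    simp only [L, Matrix.toLin'_apply, Matrix.mulVec, dotProduct, Matrix.map_apply, map_sum,
      map_mul, hredapp]
  let P : Submodule R (Fin n → R) := LinearMap.range L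
  have hPfix : ∀ v : P, L v.1 = v.1 := by
    rintro ⟨_, w, rfl⟩
    exact hLL w
  refine ⟨P, inferInstance, inferInstance, ?_, ?_, ?_⟩
  · exact Module.Finite.range L
  · exact Module.Projective.of_split P.subtype L.rangeRestrict
      (LinearMap.ext fun v => Subtype.ext (hPfix v))
  · letI : Module R Q := Module.compHom Q (Ideal.Quotient.mk I)
    haveI : IsScalarTower R (R ⧸ I) Q := ⟨fun r s q => by
      show (r • s) • q = (Ideal.Quotient.mk I r) • (s • q)
      rw [Algebra.smul_def, mul_smul]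
      rfl⟩
    let f : P →ₗ[R] Q := (π.restrictScalars R) ∘ₗ red ∘ₗ P.subtype
    have hf : ∀ v : P, f v = π (red v.1) := fun v => rfl
    let F : (R ⧸ I) ⊗[R] P →ₗ[R ⧸ I] Q := LinearMap.liftBaseChange (R ⧸ I) f
    have hF : ∀ v : P, F ((1 : R ⧸ I) ⊗ₜ[R] v) = π (red v.1) := by
      intro v
      show LinearMap.liftBaseChange (R ⧸ I) f ((1 : R ⧸ I) ⊗ₜ[R] v) = _
      rw [LinearMap.liftBaseChange_tmul, one_smul, hf]
    have hrep : ∀ z : (R ⧸ I) ⊗[R] P, ∃ v : P, z = (1 : R ⧸ I) ⊗ₜ[R] v := by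
      intro z
      induction z using TensorProduct.induction_on with
      | zero => exact ⟨0, (TensorProduct.tmul_zero _ _).symm⟩
      | tmul r v =>
        obtain ⟨r, rfl⟩ := Ideal.Quotient.mk_surjective r
        refine ⟨r • v, ?_⟩
        rw [← TensorProduct.smul_tmul, Algebra.smul_def, mul_one]
        rfl
      | add z₁ z₂ h₁ h₂ =>
        obtain ⟨v₁, rfl⟩ := h₁
        obtain ⟨v₂, rfl⟩ := h₂
        exact ⟨v₁ + v₂, (TensorProduct.tmul_add _ _ _).symm⟩
    have hinj : Function.Injective F := by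
      rw [injective_iff_map_eq_zero]
      intro z hz
      obtain ⟨v, rfl⟩ := hrep z
      rw [hF] at hz
      have h1 : red v.1 = 0 := by
        have := hred v.1
        rw [hz, map_zero, hPfix] at this
        exact this
      have hvI : ∀ i, v.1 i ∈ I := by
        intro i
        have := congr_fun h1 i
        rw [hredapp] at this
        exact Ideal.Quotient.eq_zero_iff_mem.mp this
      let p : Fin n → P := fun i => ⟨L (fun j => if i = j then 1 else 0), LinearMap.mem_range_self _ _⟩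
      have hv : v = ∑ i, v.1 i • p i := by
        apply Subtype.ext
        rw [Submodule.coe_sum]
        simp only [Submodule.coe_smul, p]
        rw [← LinearMap.pi_apply_eq_sum_univ L v.1, hPfix]
      rw [hv, TensorProduct.tmul_sum]
      refine Finset.sum_eq_zero fun i _ => ?_
      rw [← TensorProduct.smul_tmul, Algebra.smul_def, mul_one]
      have : algebraMap R (R ⧸ I) (v.1 i) = 0 := Ideal.Quotient.eq_zero_iff_mem.mpr (hvI i)
      rw [this, TensorProduct.zero_tmul]
    have hsurj : Function.Surjective F := by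
      intro w
      obtain ⟨v', hv'⟩ := hredsurj (s w)
      refine ⟨(1 : R ⧸ I) ⊗ₜ[R] (⟨L v', LinearMap.mem_range_self _ _⟩ : P), ?_⟩
      rw [hF]
      show π (red (L v')) = w
      rw [hred, hv', hπs', hπs']
    exact ⟨LinearEquiv.ofBijective F ⟨hinj, hsurj⟩⟩

end Groth.Agent.H3
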