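import Groth.Agent.H3.HPair4
import Mathlib.RingTheory.Etale.StandardEtale

set_option autoImplicit false
set_option linter.unusedSimpArgs false
set_option linter.unusedVariables false
set_option linter.style.haveILetI false
universe u

namespace Groth.Agent.H3

open Polynomial TensorProduct

/-- Étale lifting for Henselian pairs. -/
theorem exists_lift_of_etale_of_henselianRing {A : Type u} [CommRing A] (I : Ideal A)
    [h : HenselianRing A I] (A' : Type u) [CommRing A'] [Algebra A A'] [Algebra.Etale A A']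
    (σ : A' →ₐ[A] A ⧸ I) : ∃ τ : A' →ₐ[A] A, (Ideal.Quotient.mkₐ A I).comp τ = σ :=
  exists_lift_of_etale_of_gabber I h.jac
    (fun n _ p hp hpI => (gabber_existsUnique_of_henselianRing I n p hp hpI).exists) A' σ

/-- The étale lifting property implies Henselian. -/
theorem henselianRing_of_etale_lift {A : Type u} [CommRing A] (I : Ideal A)
    (h : ∀ (A' : Type u) [CommRing A'] [Algebra A A'] [Algebra.Etale A A']
      (σ : A' →ₐ[A] A ⧸ I), ∃ τ : A' →ₐ[A] A, (Ideal.Quotient.mkₐ A I).comp τ = σ) :
    HenselianRing A I where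
  jac := by
    intro x hx
    rw [Ideal.mem_jacobson_bot]
    intro y
    obtain ⟨u, hu⟩ : ∃ u, u = x * y + 1 := ⟨_, rfl⟩
    rw [← hu]
    have hmk : IsUnit (Ideal.Quotient.mkₐ A I u) := by
      have : Ideal.Quotient.mkₐ A I u = 1 := by
        rw [Ideal.Quotient.mkₐ_eq_mk, hu, map_add, map_one,
          Ideal.Quotient.eq_zero_iff_mem.mpr (I.mul_mem_right _ hx), zero_add]
      rw [this]; exact isUnit_one
    let σ : Localization.Away u →ₐ[A] A ⧸ I :=
      IsLocalization.Away.liftAlgHom (f := Ideal.Quotient.mkₐ A I) u hmk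
    obtain ⟨τ, -⟩ := h (Localization.Away u) σ
    have h1 : IsUnit (algebraMap A (Localization.Away u) u) :=
      IsLocalization.Away.algebraMap_isUnit u
    have h2 := h1.map τ
    rw [AlgHom.commutes] at h2
    exact h2
  is_henselian := by
    intro f hf a₀ h₁ h₂
    let P : StandardEtalePair A := ⟨f, hf, derivative f, ⟨1, 0, 1, by ring⟩⟩
    have hmap₀ : P.HasMap (Ideal.Quotient.mk I a₀) := by
      refine ⟨?_, ?_⟩
      · change aeval (Ideal.Quotient.mk I a₀) f = 0
        rw [aeval_def, Ideal.Quotient.algebraMap_eq, eval₂_at_apply,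
          Ideal.Quotient.eq_zero_iff_mem]
        exact h₁
      · change IsUnit (aeval (Ideal.Quotient.mk I a₀) (derivative f))
        rw [aeval_def, Ideal.Quotient.algebraMap_eq, eval₂_at_apply]
        exact h₂
    let σ : P.Ring →ₐ[A] A ⧸ I := P.lift _ hmap₀
    obtain ⟨τ, hτ⟩ := h P.Ring σ
    have hmap : P.HasMap (τ P.X) := P.hasMap_X.map τ
    refine ⟨τ P.X, ?_, ?_⟩
    · have hfa : f.eval (τ P.X) = 0 := by simpa using hmap.1
      exact hfa
    · rw [← Ideal.Quotient.eq]
      have := AlgHom.congr_fun hτ P.X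
      rw [AlgHom.comp_apply, Ideal.Quotient.mkₐ_eq_mk] at this
      rw [this]
      exact P.lift_X _ hmap₀

end Groth.Agent.H3
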