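import Groth.Agent.H3.Hensel3
import Mathlib.RingTheory.LocalRing.ResidueField.Basic

set_option autoImplicit false
universe u

namespace Groth.Agent.H3

open Polynomial

variable {A : Type*} [CommRing A] {B : Type*} [CommRing B]

theorem map_le_jacobson_bot' (φ : A →+* B) (hφ : Function.Surjective φ) (J : Ideal A)
    (hJ : J ≤ Ideal.jacobson ⊥) : J.map φ ≤ Ideal.jacobson ⊥ := by
  intro x hx
  obtain ⟨j, hj, rfl⟩ := (Ideal.mem_map_iff_of_surjective _ hφ).mp hx
  rw [Ideal.mem_jacobson_bot]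
  intro y
  obtain ⟨y, rfl⟩ := hφ y
  have := (Ideal.mem_jacobson_bot.mp (hJ hj)) y
  rw [← map_mul, ← map_one φ, ← map_add]
  exact this.map _

/-- The image of a Henselian pair under a surjective ring homomorphism is Henselian. -/
theorem henselianRing_map_of_surjective (φ : A →+* B) (hφ : Function.Surjective φ) (J : Ideal A)
    [hJ : HenselianRing A J] : HenselianRing B (J.map φ) where
  jac := map_le_jacobson_bot' φ hφ J hJ.jac
  is_henselian := by
    intro f hf a₀ h₁ h₂
    have hjac := map_le_jacobson_bot' φ hφ J hJ.jac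
    have hu : IsUnit (f.derivative.eval a₀) := isUnit_of_isUnit_mk _ hjac h₂
    obtain ⟨h, rfl⟩ := map_surjective φ hφ f
    obtain ⟨b₀, rfl⟩ := hφ a₀
    rw [eval_map_apply] at h₁
    rw [derivative_map, eval_map_apply] at hu
    obtain ⟨j, hj, hjφ⟩ := (Ideal.mem_map_iff_of_surjective _ hφ).mp h₁
    obtain ⟨w, hw⟩ := hu
    obtain ⟨v, hv⟩ := hφ (↑w⁻¹ : B)
    have hφuv : φ (h.derivative.eval b₀) * φ v = 1 := by
      rw [hv, ← hw, Units.mul_inv]
    set c := h.eval b₀ - j with hc
    set k := h.derivative.eval b₀ * v - 1 with hk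
    have hcφ : φ c = 0 := by rw [hc, map_sub, hjφ, sub_self]
    have hkφ : φ k = 0 := by rw [hk, map_sub, map_mul, hφuv, map_one, sub_self]
    set Q : A[X] := C v * (h - C c) - C k * (X - C b₀) with hQ
    have hQ0 : Q.eval b₀ = v * j := by
      simp only [hQ, eval_sub, eval_mul, eval_C, eval_X, sub_self, mul_zero, sub_zero, hc]
      ring
    have hQ1 : Q.derivative.eval b₀ = 1 := by
      simp only [hQ, derivative_sub, derivative_mul, derivative_C, derivative_X, eval_sub, eval_mul,
        eval_C, zero_mul, sub_zero, zero_add, mul_one, hk]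
      ring
    obtain ⟨a, ha, haJ⟩ := exists_root_of_henselianRing J Q b₀
      (by rw [hQ0]; exact J.mul_mem_left _ hj) (by rw [hQ1]; exact isUnit_one)
    refine ⟨φ a, ?_, ?_⟩
    · rw [IsRoot.def] at ha ⊢
      have h3 : φ (Q.eval a) = φ v * (h.map φ).eval (φ a) := by
        simp only [hQ, eval_sub, eval_mul, eval_C, eval_X, map_sub, map_mul, hcφ, hkφ, zero_mul,
          sub_zero, eval_map_apply]
      rw [ha, map_zero] at h3
      have hvu : IsUnit (φ v) := by rw [hv]; exact w⁻¹.isUnit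
      exact hvu.mul_right_eq_zero.mp h3.symm
    · rw [← map_sub]
      exact Ideal.mem_map_of_mem _ haJ

theorem henselianRing_sup (I₁ I₂ : Ideal A) [h1 : HenselianRing A I₁] [h2 : HenselianRing A I₂] :
    HenselianRing A (I₁ ⊔ I₂) := by
  have h3 : HenselianRing (A ⧸ I₁) (I₂.map (Ideal.Quotient.mk I₁)) :=
    henselianRing_map_of_surjective _ Ideal.Quotient.mk_surjective I₂
  have h4 : (I₁ ⊔ I₂).map (Ideal.Quotient.mk I₁) = I₂.map (Ideal.Quotient.mk I₁) := by
    rw [Ideal.map_sup, Ideal.map_quotient_self, bot_sup_eq]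
  rw [← h4] at h3
  exact henselianRing_of_quotient I₁ (I₁ ⊔ I₂) le_sup_left

theorem henselianRing_bot : HenselianRing A (⊥ : Ideal A) :=
  henselianRing_of_forall_isNilpotent ⊥ (fun x hx => by
    rw [Ideal.mem_bot] at hx; rw [hx]; exact IsNilpotent.zero)

theorem henselianRing_sSup : HenselianRing A (sSup {J : Ideal A | HenselianRing A J}) := by
  set S := {J : Ideal A | HenselianRing A J} with hS
  have hne : S.Nonempty := ⟨⊥, henselianRing_bot⟩
  have hdir : DirectedOn (· ≤ ·) S := by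
    intro I₁ h1 I₂ h2
    have h1' : HenselianRing A I₁ := h1
    have h2' : HenselianRing A I₂ := h2
    exact ⟨I₁ ⊔ I₂, henselianRing_sup I₁ I₂, le_sup_left, le_sup_right⟩
  have hjac : sSup S ≤ Ideal.jacobson ⊥ := sSup_le fun J hJ => HenselianRing.jac (I := J) (self := hJ)
  refine ⟨hjac, ?_⟩
  intro f hf a₀ h₁ h₂
  have hu : IsUnit (f.derivative.eval a₀) := isUnit_of_isUnit_mk _ hjac h₂
  obtain ⟨J, hJ, hJ1⟩ := (Submodule.mem_sSup_of_directed hne hdir).mp h₁
  have hJ' : HenselianRing A J := hJ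
  obtain ⟨a, ha, haJ⟩ := hJ'.is_henselian f hf a₀ hJ1 (hu.map _)
  exact ⟨a, ha, le_sSup hJ haJ⟩

end Groth.Agent.H3
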