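import Groth.Agent.H3.PH2
import Groth.Agent.H3.HInt
import Groth.Agent.H3.Hensel4

/-!
# Uniqueness, flatness and the local case of the henselization of a pair
-/

set_option autoImplicit false
set_option linter.unusedSimpArgs false
set_option linter.unusedVariables false
set_option linter.style.haveILetI false
universe u
open TensorProduct Polynomial

namespace Groth.Agent.H3.PH

section Uniq

variable {A : Type u} [CommRing A] (I : Ideal A)

/-- Two henselizations of the same pair are isomorphic as `A`-algebras. -/
theorem nonempty_algEquiv_of_isPairHenselization (B B' : Type u) [CommRing B] [CommRing B']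
    [Algebra A B] [Algebra A B'] (hB : Hens2.IsPairHenselization A I B)
    (hB' : Hens2.IsPairHenselization A I B') : Nonempty (B ≃ₐ[A] B') := by
  obtain ⟨g, hg, -⟩ := hB.2 B' (I.map (algebraMap A B')) (algebraMap A B') hB'.1 le_rfl
  obtain ⟨g', hg', -⟩ := hB'.2 B (I.map (algebraMap A B)) (algebraMap A B) hB.1 le_rfl
  obtain ⟨i, -, hi⟩ := hB.2 B (I.map (algebraMap A B)) (algebraMap A B) hB.1 le_rfl
  obtain ⟨i', -, hi'⟩ := hB'.2 B' (I.map (algebraMap A B')) (algebraMap A B') hB'.1 le_rfl
  have h1 : g'.comp g = RingHom.id B := by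
    rw [hi (g'.comp g) (by
      show (g'.comp g).comp (algebraMap A B) = algebraMap A B
      rw [RingHom.comp_assoc, hg, hg']),
      hi (RingHom.id B) (RingHom.id_comp _)]
  have h2 : g.comp g' = RingHom.id B' := by
    rw [hi' (g.comp g') (by
      show (g.comp g').comp (algebraMap A B') = algebraMap A B'
      rw [RingHom.comp_assoc, hg', hg]),
      hi' (RingHom.id B') (RingHom.id_comp _)]
  let e : B ≃+* B' :=
    { toFun := g
      invFun := g'
      left_inv := fun x => RingHom.congr_fun h1 x
      right_inv := fun x => RingHom.congr_fun h2 x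
      map_mul' := map_mul g
      map_add' := map_add g }
  exact ⟨AlgEquiv.ofRingEquiv (f := e) (fun a => RingHom.congr_fun hg a)⟩

/-- Being a henselization of a pair transfers along algebra isomorphisms. -/
theorem isPairHenselization_of_algEquiv (B B' : Type u) [CommRing B] [CommRing B']
    [Algebra A B] [Algebra A B'] (e : B ≃ₐ[A] B') (hB : Hens2.IsPairHenselization A I B) :
    Hens2.IsPairHenselization A I B' := by
  refine ⟨?_, ?_⟩
  · haveI := hB.1
    have h := Groth.Agent.H3.henselianRing_map_of_surjective (e : B →+* B') e.surjective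
      (I.map (algebraMap A B))
    have heq : (I.map (algebraMap A B)).map (e : B →+* B') = I.map (algebraMap A B') := by
      rw [Ideal.map_map]
      congr 1
      ext a
      exact e.commutes a
    rw [← heq]
    exact h
  · intro C _ J f hC hIJ
    obtain ⟨g, hg, hguniq⟩ := hB.2 C J f hC hIJ
    refine ⟨g.comp (e.symm : B' →+* B), ?_, ?_⟩
    · ext a
      have : (e.symm : B' →+* B) (algebraMap A B' a) = algebraMap A B a := e.symm.commutes a
      rw [RingHom.comp_apply, RingHom.comp_apply, this]
      exact RingHom.congr_fun hg a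
    · intro g' hg'
      have h1 := hguniq (g'.comp (e : B →+* B')) (by
        ext a
        have : (e : B →+* B') (algebraMap A B a) = algebraMap A B' a := e.commutes a
        rw [RingHom.comp_apply, RingHom.comp_apply, this]
        exact RingHom.congr_fun hg' a)
      ext b
      rw [← h1]
      show g' b = g' (e (e.symm b))
      rw [e.apply_symm_apply]

theorem exists_sub_mem_map_of_isPairHenselization (B : Type u) [CommRing B] [Algebra A B]
    (hB : Hens2.IsPairHenselization A I B) (b : B) :
    ∃ a : A, b - algebraMap A B a ∈ I.map (algebraMap A B) := by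
  obtain ⟨e⟩ := nonempty_algEquiv_of_isPairHenselization I _ B (isPairHenselization_H A I) hB
  obtain ⟨r, hr⟩ := exists_sub_mem_map A I (e.symm b)
  refine ⟨r, ?_⟩
  have h1 := Ideal.mem_map_of_mem (e : H A (A ⧸ I) →+* B) hr
  rw [Ideal.map_map] at h1
  have h2 : (e : H A (A ⧸ I) →+* B).comp (algebraMap A (H A (A ⧸ I))) = algebraMap A B := by
    ext a
    exact e.commutes a
  rw [h2] at h1
  have h3 : (e : H A (A ⧸ I) →+* B) (e.symm b - algebraMap A _ r) = b - algebraMap A B r := by
    rw [map_sub]
    have h4 : (e : H A (A ⧸ I) →+* B) (e.symm b) = b := e.apply_symm_apply b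
    have h5 : (e : H A (A ⧸ I) →+* B) (algebraMap A _ r) = algebraMap A B r := e.commutes r
    rw [h4, h5]
  rw [h3] at h1
  exact h1

theorem flat_of_isPairHenselization (B : Type u) [CommRing B] [Algebra A B]
    (hB : Hens2.IsPairHenselization A I B) : Module.Flat A B := by
  obtain ⟨e⟩ := nonempty_algEquiv_of_isPairHenselization I B _ hB (isPairHenselization_H A I)
  exact Module.Flat.of_linearEquiv e.toLinearEquiv

theorem top_le_range_sup_pow_smul {A B : Type*} [CommRing A] [CommRing B] [Algebra A B]
    (I : Ideal A)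
    (h1 : (⊤ : Submodule A B) ≤ LinearMap.range (Algebra.linearMap A B) ⊔ I • ⊤) (n : ℕ) :
    (⊤ : Submodule A B) ≤ LinearMap.range (Algebra.linearMap A B) ⊔ (I ^ n) • ⊤ := by
  induction n with
  | zero =>
    rw [pow_zero, Ideal.one_eq_top, Submodule.top_smul]
    exact le_sup_right
  | succ n ih =>
    have h2 : (I ^ n) • (⊤ : Submodule A B) ≤
        LinearMap.range (Algebra.linearMap A B) ⊔ (I ^ (n + 1)) • ⊤ := by
      calc (I ^ n) • (⊤ : Submodule A B)
          ≤ (I ^ n) • (LinearMap.range (Algebra.linearMap A B) ⊔ I • ⊤) :=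
            Submodule.smul_mono le_rfl h1
        _ = (I ^ n) • LinearMap.range (Algebra.linearMap A B) ⊔ (I ^ n) • (I • ⊤) :=
            Submodule.smul_sup _ _ _
        _ ≤ LinearMap.range (Algebra.linearMap A B) ⊔ (I ^ (n + 1)) • ⊤ := by
          apply sup_le_sup Submodule.smul_le_right
          rw [← Submodule.mul_smul, ← pow_succ]
    calc (⊤ : Submodule A B) ≤ LinearMap.range (Algebra.linearMap A B) ⊔ (I ^ n) • ⊤ := ih
      _ ≤ LinearMap.range (Algebra.linearMap A B) ⊔ (I ^ (n + 1)) • ⊤ :=
          sup_le le_sup_left h2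

theorem quotientMap_pow_bijective (B : Type u) [CommRing B] [Algebra A B]
    (hB : Hens2.IsPairHenselization A I B) (n : ℕ) :
    Function.Bijective
      (Ideal.quotientMap ((I ^ n).map (algebraMap A B)) (algebraMap A B) Ideal.le_comap_map) := by
  constructor
  · have hnil : ∀ x ∈ I.map (Ideal.Quotient.mk (I ^ n)), IsNilpotent x := by
      intro x hx
      refine ⟨n, ?_⟩
      have h1 := Ideal.pow_mem_pow hx n
      rw [← Ideal.map_pow, Ideal.map_quotient_self] at h1
      exact (Ideal.mem_bot).mp h1
    have hC := Groth.Agent.H3.henselianRing_of_forall_isNilpotent _ hnil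
    obtain ⟨g, hg, -⟩ := hB.2 (A ⧸ I ^ n) (I.map (Ideal.Quotient.mk (I ^ n)))
      (Ideal.Quotient.mk (I ^ n)) hC le_rfl
    rw [injective_iff_map_eq_zero]
    intro x hx
    obtain ⟨a, rfl⟩ := Ideal.Quotient.mk_surjective x
    rw [Ideal.quotientMap_mk, Ideal.Quotient.eq_zero_iff_mem] at hx
    have h1 := Ideal.mem_map_of_mem g hx
    rw [Ideal.map_map, hg, Ideal.map_quotient_self] at h1
    have h2 : g (algebraMap A B a) = Ideal.Quotient.mk (I ^ n) a := RingHom.congr_fun hg a
    rw [h2] at h1
    exact (Ideal.mem_bot).mp h1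
  · have h1 : (⊤ : Submodule A B) ≤ LinearMap.range (Algebra.linearMap A B) ⊔ I • ⊤ := by
      intro b _
      obtain ⟨r, hr⟩ := exists_sub_mem_map_of_isPairHenselization I B hB b
      refine Submodule.mem_sup.mpr
        ⟨algebraMap A B r, ⟨r, rfl⟩, b - algebraMap A B r, ?_, by ring⟩
      rw [Ideal.smul_top_eq_map]
      exact hr
    have h2 := top_le_range_sup_pow_smul I h1 n
    intro y
    obtain ⟨b, rfl⟩ := Ideal.Quotient.mk_surjective y
    obtain ⟨y1, ⟨a, rfl⟩, z, hz, hb⟩ := Submodule.mem_sup.mp (h2 (Submodule.mem_top : b ∈ ⊤))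
    rw [Ideal.smul_top_eq_map] at hz
    have hz' : z ∈ (I ^ n).map (algebraMap A B) := hz
    refine ⟨Ideal.Quotient.mk _ a, ?_⟩
    rw [Ideal.quotientMap_mk, Ideal.Quotient.eq, ← hb]
    have : algebraMap A B a - (Algebra.linearMap A B a + z) = -z := by
      rw [Algebra.linearMap_apply]
      ring
    rw [this]
    exact neg_mem hz'

end Uniq

section Local

open IsLocalRing

variable (A : Type u) [CommRing A] [IsLocalRing A]

theorem map_maximalIdeal_eq_of_isPairHenselization (B : Type u) [CommRing B] [IsLocalRing B]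
    [Algebra A B] [IsLocalHom (algebraMap A B)]
    (hB : Hens2.IsPairHenselization A (maximalIdeal A) B) :
    (maximalIdeal A).map (algebraMap A B) = maximalIdeal B := by
  have hle : (maximalIdeal A).map (algebraMap A B) ≤ maximalIdeal B :=
    ((IsLocalRing.local_hom_TFAE (algebraMap A B)).out 0 2).mp
      (inferInstance : IsLocalHom (algebraMap A B))
  refine le_antisymm hle (fun b hb => ?_)
  obtain ⟨a, ha⟩ := exists_sub_mem_map_of_isPairHenselization (maximalIdeal A) B hB b
  have h1 : algebraMap A B a ∈ maximalIdeal B := by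
    have : algebraMap A B a = b - (b - algebraMap A B a) := by ring
    rw [this]
    exact sub_mem hb (hle ha)
  have h2 : a ∈ maximalIdeal A := by
    rw [mem_maximalIdeal, mem_nonunits_iff] at h1 ⊢
    intro hu
    exact h1 (hu.map _)
  have : b = (b - algebraMap A B a) + algebraMap A B a := by ring
  rw [this]
  exact add_mem ha (Ideal.mem_map_of_mem _ h2)

theorem isHenselization_of_isPairHenselization (B : Type u) [CommRing B] [IsLocalRing B]
    [Algebra A B] [IsLocalHom (algebraMap A B)]
    (hB : Hens2.IsPairHenselization A (maximalIdeal A) B) :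
    Hensel.IsHenselization A B := by
  have heq := map_maximalIdeal_eq_of_isPairHenselization A B hB
  refine ⟨?_, ?_⟩
  · haveI : HenselianRing B (maximalIdeal B) := heq ▸ hB.1
    exact Groth.Agent.H3.henselianLocalRing_of_henselianRing_maximalIdeal B
  · intro T _ _ f hf
    have hle : (maximalIdeal A).map f ≤ maximalIdeal T :=
      ((IsLocalRing.local_hom_TFAE f).out 0 2).mp hf
    exact hB.2 T (maximalIdeal T) f inferInstance hle

theorem isLocalRing_H : IsLocalRing (H A (A ⧸ maximalIdeal A)) := by
  letI : Field (A ⧸ maximalIdeal A) := Ideal.Quotient.field _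
  have hsurj : Function.Surjective (ε A (A ⧸ maximalIdeal A)) := by
    intro y
    obtain ⟨a, rfl⟩ := Ideal.Quotient.mk_surjective y
    exact ⟨algebraMap A _ a, ε_algebraMap A _ a⟩
  have hmax : (RingHom.ker (ε A (A ⧸ maximalIdeal A))).IsMaximal :=
    RingHom.ker_isMaximal_of_surjective _ hsurj
  refine IsLocalRing.of_unique_max_ideal ⟨RingHom.ker (ε A (A ⧸ maximalIdeal A)), hmax, ?_⟩
  intro J hJ
  have hle : RingHom.ker (ε A (A ⧸ maximalIdeal A)) ≤ J := by
    rw [ker_ε_eq_map]
    exact (map_le_jacobson A (maximalIdeal A)).trans (sInf_le ⟨bot_le, hJ⟩)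
  exact (hmax.eq_of_le hJ.ne_top hle).symm

theorem isLocalHom_algebraMap_H :
    IsLocalHom (algebraMap A (H A (A ⧸ maximalIdeal A))) := by
  constructor
  intro a ha
  by_contra hna
  have hmem : a ∈ maximalIdeal A := (mem_maximalIdeal a).mpr hna
  have h1 : IsUnit (ε A (A ⧸ maximalIdeal A) (algebraMap A _ a)) := ha.map _
  rw [ε_algebraMap] at h1
  have h2 : algebraMap A (A ⧸ maximalIdeal A) a = 0 :=
    Ideal.Quotient.eq_zero_iff_mem.mpr hmem
  rw [h2] at h1
  haveI : Nontrivial (A ⧸ maximalIdeal A) :=
    Ideal.Quotient.nontrivial_iff.mpr (Ideal.IsMaximal.ne_top inferInstance)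
  exact not_isUnit_zero h1

theorem nonempty_algEquiv_of_isHenselization (B B' : Type u) [CommRing B] [IsLocalRing B]
    [Algebra A B] [IsLocalHom (algebraMap A B)] [CommRing B'] [IsLocalRing B'] [Algebra A B']
    [IsLocalHom (algebraMap A B')] (hB : Hensel.IsHenselization A B)
    (hB' : Hensel.IsHenselization A B') : Nonempty (B ≃ₐ[A] B') := by
  haveI := hB.henselian
  haveI := hB'.henselian
  obtain ⟨g, hg, -⟩ := hB.universal B' (algebraMap A B') inferInstance
  obtain ⟨g', hg', -⟩ := hB'.universal B (algebraMap A B) inferInstance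
  obtain ⟨i, -, hi⟩ := hB.universal B (algebraMap A B) inferInstance
  obtain ⟨i', -, hi'⟩ := hB'.universal B' (algebraMap A B') inferInstance
  have h1 : g'.comp g = RingHom.id B := by
    rw [hi (g'.comp g) (by
      show (g'.comp g).comp (algebraMap A B) = algebraMap A B
      rw [RingHom.comp_assoc, hg, hg']),
      hi (RingHom.id B) (RingHom.id_comp _)]
  have h2 : g.comp g' = RingHom.id B' := by
    rw [hi' (g.comp g') (by
      show (g.comp g').comp (algebraMap A B') = algebraMap A B'
      rw [RingHom.comp_assoc, hg', hg]),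
      hi' (RingHom.id B') (RingHom.id_comp _)]
  let e : B ≃+* B' :=
    { toFun := g
      invFun := g'
      left_inv := fun x => RingHom.congr_fun h1 x
      right_inv := fun x => RingHom.congr_fun h2 x
      map_mul' := map_mul g
      map_add' := map_add g }
  exact ⟨AlgEquiv.ofRingEquiv (f := e) (fun a => RingHom.congr_fun hg a)⟩

theorem isPairHenselization_of_isHenselization (B : Type u) [CommRing B] [IsLocalRing B]
    [Algebra A B] [IsLocalHom (algebraMap A B)] (hB : Hensel.IsHenselization A B) :
    Hens2.IsPairHenselization A (maximalIdeal A) B := by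
  haveI := isLocalRing_H A
  haveI := isLocalHom_algebraMap_H A
  have hM := isPairHenselization_H A (maximalIdeal A)
  have hM' := isHenselization_of_isPairHenselization A _ hM
  obtain ⟨e⟩ := nonempty_algEquiv_of_isHenselization A _ B hM' hB
  exact isPairHenselization_of_algEquiv (maximalIdeal A) _ B e hM

end Local

end Groth.Agent.H3.PH
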