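import Groth.Agent.H3.HPair6
import Mathlib.RingTheory.IntegralClosure.Algebra.Ideal
import Mathlib.RingTheory.Polynomial.Resultant.Basic

set_option autoImplicit false
set_option linter.unusedSimpArgs false
set_option linter.unusedVariables false
set_option linter.style.haveILetI false
universe u

namespace Groth.Agent.H3

open Polynomial

theorem isCoprime_of_isCoprime_map_mk {A : Type*} [CommRing A] (I : Ideal A)
    (hjac : I ≤ Ideal.jacobson ⊥) {G H : A[X]} (hG : G.Monic) (hH : H.Monic)
    (h : IsCoprime (G.map (Ideal.Quotient.mk I)) (H.map (Ideal.Quotient.mk I))) :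
    IsCoprime G H := by
  rcases subsingleton_or_nontrivial (A ⧸ I) with hs | hnt
  · have hA : Subsingleton A := subsingleton_of_quotient_subsingleton I hjac hs
    exact ⟨0, 0, Subsingleton.elim _ _⟩
  rw [← isUnit_resultant_iff_isCoprime hG]
  rw [← isUnit_resultant_iff_isCoprime (hG.map _), hG.natDegree_map, hH.natDegree_map,
    resultant_map_map] at h
  exact isUnit_of_isUnit_mk I hjac h

/-- Idempotents in the Jacobson radical direction are unique. -/
theorem eq_of_isIdempotentElem_of_sub_mem_jacobson {S : Type*} [CommRing S] {e₁ e₂ : S}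
    (h₁ : IsIdempotentElem e₁) (h₂ : IsIdempotentElem e₂)
    (hj : e₁ - e₂ ∈ Ideal.jacobson (⊥ : Ideal S)) : e₁ = e₂ := by
  have h1 : IsUnit ((e₁ - e₂) * (-(e₁ - e₂)) + 1) := Ideal.mem_jacobson_bot.mp hj _
  have h2 : (e₁ - e₂) * ((e₁ - e₂) * (-(e₁ - e₂)) + 1) = 0 := by
    have a1 := h₁.eq
    have a2 := h₂.eq
    linear_combination (-(e₁ + 1 - 3 * e₂)) * a1 + (-(3 * e₁ - e₂ - 1)) * a2
  exact sub_eq_zero.mp (h1.mul_left_eq_zero.mp h2)

/-- Idempotent lifting in integral algebras over a Henselian pair. -/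
theorem exists_isIdempotentElem_sub_mem_of_henselianRing {A : Type u} [CommRing A] (I : Ideal A)
    [hI : HenselianRing A I] {B : Type*} [CommRing B] [Algebra A B] [Algebra.IsIntegral A B]
    (b : B) (hb2 : b ^ 2 - b ∈ I.map (algebraMap A B)) :
    ∃ e : B, IsIdempotentElem e ∧ e - b ∈ I.map (algebraMap A B) := by
  rcases subsingleton_or_nontrivial (A ⧸ I) with hs | hnt
  · have hA : Subsingleton A := subsingleton_of_quotient_subsingleton I hI.jac hs
    haveI : Subsingleton B := (algebraMap A B).codomain_trivial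
    exact ⟨0, by simp [IsIdempotentElem], by rw [Subsingleton.elim (0 - b) 0]; exact zero_mem _⟩
  haveI : Nontrivial A := (Ideal.Quotient.mk I).domain_nontrivial
  set 𝔟 := I.map (algebraMap A B) with h𝔟
  have hx : b * (b - 1) ∈ 𝔟 := by
    have : b * (b - 1) = b ^ 2 - b := by ring
    rw [this]; exact hb2
  obtain ⟨p, hpm, hpx, hpI⟩ := exists_monic_aeval_eq_zero_forall_mem_of_mem_map (R := A) hx
  obtain ⟨k, hk⟩ : ∃ k, k = p.natDegree := ⟨_, rfl⟩
  rcases Nat.eq_zero_or_pos k with hk0 | hkpos
  · -- degenerate case: `B` is trivial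
    have hp1 : p = 1 := by
      apply hpm.natDegree_eq_zero.mp
      rw [← hk, hk0]
    rw [hp1, map_one] at hpx
    haveI : Subsingleton B := subsingleton_of_zero_eq_one hpx.symm
    exact ⟨0, by simp [IsIdempotentElem], by rw [Subsingleton.elim (0 - b) 0]; exact zero_mem _⟩
  set mk := Ideal.Quotient.mk I with hmk
  have hpmap : p.map mk = X ^ k := by
    ext i
    rw [coeff_map, coeff_X_pow]
    split_ifs with hik
    · rw [hik, hk, hpm.coeff_natDegree, map_one]
    · rw [hmk, Ideal.Quotient.eq_zero_iff_mem]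
      exact hpI i (by rw [← hk]; exact hik)
  set q₂ : A[X] := X * (X - C 1) with hq₂
  have hq₂m : q₂.Monic := monic_X.mul (monic_X_sub_C 1)
  have hq₂deg : q₂.natDegree ≠ 0 := by
    rw [hq₂, monic_X.natDegree_mul (monic_X_sub_C 1), natDegree_X, natDegree_X_sub_C]
    norm_num
  set F : A[X] := p.comp q₂ with hF
  have hFm : F.Monic := hpm.comp hq₂m hq₂deg
  have hFb : aeval b F = 0 := by
    rw [hF, aeval_comp]
    have : aeval b q₂ = b * (b - 1) := by simp [hq₂]
    rw [this, hpx]
  have hFmap : F.map mk = X ^ k * (X - C 1) ^ k := by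
    rw [hF, Polynomial.map_comp, hpmap, X_pow_comp, hq₂, Polynomial.map_mul, map_X,
      Polynomial.map_sub, map_X, map_C, map_one, mul_pow]
  have hcop₀ : IsCoprime (X ^ k : (A ⧸ I)[X]) ((X - C 1) ^ k) := by
    apply IsCoprime.pow
    exact ⟨1, -1, by rw [C_1]; ring⟩
  obtain ⟨G, H, hGm, hHm, hFGH, hGmap, hHmap⟩ :=
    exists_monic_factorization_of_henselianRing I F hFm (X ^ k) ((X - C 1) ^ k)
      (monic_X_pow k) ((monic_X_sub_C 1).pow k) hcop₀ hFmap
  have hcop : IsCoprime G H := by
    apply isCoprime_of_isCoprime_map_mk I hI.jac hGm hHm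
    rw [hGmap, hHmap]; exact hcop₀
  obtain ⟨u, v, huv⟩ := hcop
  -- the idempotent
  refine ⟨aeval b (u * G), ?_, ?_⟩
  · change aeval b (u * G) * aeval b (u * G) = aeval b (u * G)
    have h1 : aeval b ((u * G) * (v * H)) = 0 := by
      have : (u * G) * (v * H) = (u * v) * F := by rw [hFGH]; ring
      rw [this, map_mul, hFb, mul_zero]
    have h2 : aeval b (u * G) + aeval b (v * H) = 1 := by
      rw [← map_add, huv, map_one]
    rw [map_mul (aeval b)] at h1
    linear_combination (-1 : B) * h1 + (aeval b (u * G)) * h2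
  · -- congruence
    let π := Ideal.Quotient.mk 𝔟
    have hβ : π b * π b = π b := by
      rw [← map_mul, ← sub_eq_zero, ← map_sub, Ideal.Quotient.eq_zero_iff_mem]
      have : b * b - b = b ^ 2 - b := by ring
      rw [this]; exact hb2
    have hβk : π b ^ k = π b := by
      have hid : IsIdempotentElem (π b) := hβ
      obtain ⟨j, rfl⟩ : ∃ j, k = j + 1 := ⟨k - 1, by omega⟩
      exact hid.pow_succ_eq j
    have hGb : π (aeval b G) = π b ^ k := by
      rw [← map_pow, ← sub_eq_zero, ← map_sub, Ideal.Quotient.eq_zero_iff_mem]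
      have h1 : aeval b G - b ^ k = aeval b (G - X ^ k) := by simp
      rw [h1]
      apply aeval_mem_map_of_coeff_mem
      apply coeff_mem_of_map_eq_zero
      rw [Polynomial.map_sub, hGmap]; simp
    have hHb : π (aeval b H) = (π b - 1) ^ k := by
      rw [← map_one π, ← map_sub, ← map_pow, ← sub_eq_zero, ← map_sub,
        Ideal.Quotient.eq_zero_iff_mem]
      have h1 : aeval b H - (b - 1) ^ k = aeval b (H - (X - C 1) ^ k) := by simp
      rw [h1]
      apply aeval_mem_map_of_coeff_mem
      apply coeff_mem_of_map_eq_zero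
      rw [Polynomial.map_sub, hHmap]; simp
    have hβH : π b * (π b - 1) ^ k = 0 := by
      obtain ⟨j, rfl⟩ : ∃ j, k = j + 1 := ⟨k - 1, by omega⟩
      rw [pow_succ]
      have : π b * (π b - 1) = 0 := by linear_combination hβ
      linear_combination ((π b - 1) ^ j) * this
    have h2 : π (aeval b u) * π (aeval b G) + π (aeval b v) * π (aeval b H) = 1 := by
      have := congr_arg (fun z => π (aeval b z)) huv
      simpa [map_add, map_mul] using this
    rw [← Ideal.Quotient.eq_zero_iff_mem, map_sub, sub_eq_zero, map_mul (aeval b), map_mul]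
    change π (aeval b u) * π (aeval b G) = π b
    rw [hGb, hHb, hβk] at h2
    rw [hGb, hβk]
    linear_combination (π b) * h2 - (π (aeval b v)) * hβH + (-(π (aeval b u))) * hβ

/-- Reduction of idempotents is bijective for integral algebras over a Henselian pair. -/
theorem bijOn_idempotents_of_henselianRing {A : Type u} [CommRing A] (I : Ideal A)
    [hI : HenselianRing A I] (B : Type*) [CommRing B] [Algebra A B] [Algebra.IsIntegral A B] :
    Set.BijOn (Ideal.Quotient.mk (Ideal.map (algebraMap A B) I))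
      {e : B | IsIdempotentElem e} {e | IsIdempotentElem e} := by
  refine ⟨?_, ?_, ?_⟩
  · intro e he
    exact IsIdempotentElem.map he (Ideal.Quotient.mk _)
  · intro e₁ h₁ e₂ h₂ h
    apply eq_of_isIdempotentElem_of_sub_mem_jacobson h₁ h₂
    apply map_le_jacobson_of_isIntegral I hI.jac
    exact Ideal.Quotient.eq.mp h
  · intro ē hē
    obtain ⟨b, rfl⟩ := Ideal.Quotient.mk_surjective ē
    have hb2 : b ^ 2 - b ∈ I.map (algebraMap A B) := by
      rw [← Ideal.Quotient.eq_zero_iff_mem, map_sub, map_pow, pow_two, sub_eq_zero]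
      exact hē
    obtain ⟨e, he, heb⟩ := exists_isIdempotentElem_sub_mem_of_henselianRing I b hb2
    exact ⟨e, he, Ideal.Quotient.eq.mpr heb⟩

end Groth.Agent.H3
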