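import Groth.Agent.H3.SL3

/-!
# The étale neighbourhood on which the lifted equations cut out `P ⧸ 𝔞` modulo `𝔦` (helper3)
-/

set_option autoImplicit false
set_option linter.unusedSimpArgs false
set_option linter.unusedVariables false
set_option linter.style.haveILetI false
universe u

namespace Groth.Agent.H3.SL

theorem exists_etale_nbhd {P : Type u} [CommRing P] (𝔞 𝔦 : Ideal P) (h𝔦 : 𝔦 ≤ 𝔞) (n : ℕ)
    (u : Fin n → P) (hu : ∀ j, u j ∈ 𝔞) (c : Matrix (Fin n) (Fin n) P)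
    (hU1 : 𝔞 ≤ Ideal.span (Set.range u) ⊔ 𝔞 ^ 2 ⊔ 𝔦)
    (hU2 : ∀ k, u k - ∑ l, c k l * u l ∈ 𝔞 ^ 2 ⊔ 𝔦)
    (S₀ : Finset P) (hS₀ : 𝔞 = 𝔦 ⊔ Ideal.span (S₀ : Set P))
    (hp : (c.map (Ideal.Quotient.mk 𝔞)) * (c.map (Ideal.Quotient.mk 𝔞)) =
      c.map (Ideal.Quotient.mk 𝔞)) :
    ∃ (Q : Type u) (_ : CommRing Q) (_ : Algebra P Q) (_ : Algebra.Etale P Q)
      (χ : Q →ₐ[P] P ⧸ 𝔞) (e : Matrix (Fin n) (Fin n) Q),
      e * e = e ∧ e.map χ = c.map (Ideal.Quotient.mk 𝔞) ∧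
      RingHom.ker χ = Ideal.span (Set.range (e.mulVec (fun l => algebraMap P Q (u l)))) ⊔
        𝔦.map (algebraMap P Q) := by
  classical
  obtain ⟨P', _, _, _, χ', e', he', he'χ⟩ :=
    exists_etale_idempotent_lift 𝔞 n (c.map (Ideal.Quotient.mk 𝔞)) hp
  obtain ⟨𝔨, h𝔨⟩ : ∃ 𝔨 : Ideal P', 𝔨 = RingHom.ker χ' := ⟨_, rfl⟩
  have hmem𝔨 : ∀ x, x ∈ 𝔨 ↔ χ' x = 0 := fun x => by rw [h𝔨, RingHom.mem_ker]
  obtain ⟨a', ha'⟩ : ∃ a' : Fin n → P', a' = e'.mulVec (fun l => algebraMap P P' (u l)) :=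
    ⟨_, rfl⟩
  have ha'k : ∀ k, a' k = ∑ l, e' k l * algebraMap P P' (u l) := fun k => by rw [ha']; rfl
  obtain ⟨𝔡, h𝔡⟩ : ∃ 𝔡 : Ideal P', 𝔡 = Ideal.span (Set.range a') ⊔ 𝔦.map (algebraMap P P') :=
    ⟨_, rfl⟩
  have hχalg : ∀ r : P, χ' (algebraMap P P' r) = Ideal.Quotient.mk 𝔞 r := fun r =>
    χ'.commutes r
  have h𝔞𝔨 : ∀ a ∈ 𝔞, algebraMap P P' a ∈ 𝔨 := by
    intro a ha
    rw [hmem𝔨, hχalg]
    exact Ideal.Quotient.eq_zero_iff_mem.mpr ha
  have h𝔞map : 𝔞.map (algebraMap P P') ≤ 𝔨 := by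
    rw [Ideal.map_le_iff_le_comap]
    exact fun a ha => h𝔞𝔨 a ha
  have h𝔞2map : (𝔞 ^ 2).map (algebraMap P P') ≤ 𝔨 ^ 2 := by
    rw [Ideal.map_pow]
    exact Ideal.pow_right_mono h𝔞map 2
  have h𝔦map : 𝔦.map (algebraMap P P') ≤ 𝔡 := by rw [h𝔡]; exact le_sup_right
  have ha'𝔡 : ∀ k, a' k ∈ 𝔡 := fun k => by
    rw [h𝔡]; exact Ideal.mem_sup_left (Ideal.subset_span ⟨k, rfl⟩)
  have ha'𝔨 : ∀ k, a' k ∈ 𝔨 := by
    intro k
    rw [ha'k]
    exact Ideal.sum_mem _ fun l _ => Ideal.mul_mem_left _ _ (h𝔞𝔨 _ (hu l))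
  have h𝔡𝔨 : 𝔡 ≤ 𝔨 := by
    rw [h𝔡]
    refine sup_le ?_ ((Ideal.map_mono h𝔦).trans h𝔞map)
    rw [Ideal.span_le]
    rintro _ ⟨k, rfl⟩
    exact ha'𝔨 k
  have he'c : ∀ k l, e' k l - algebraMap P P' (c k l) ∈ 𝔨 := by
    intro k l
    rw [hmem𝔨, map_sub, hχalg, sub_eq_zero]
    have := congrFun (congrFun he'χ k) l
    simpa only [Matrix.map_apply] using this
  -- the elements `u k` lie in `𝔡 ⊔ 𝔨²`
  have hrem : ∀ r ∈ 𝔞 ^ 2 ⊔ 𝔦, algebraMap P P' r ∈ 𝔡 ⊔ 𝔨 ^ 2 := by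
    intro r hr
    obtain ⟨r₁, hr₁, r₂, hr₂, rfl⟩ := Submodule.mem_sup.mp hr
    rw [map_add]
    exact Ideal.add_mem _ (Ideal.mem_sup_right (h𝔞2map (Ideal.mem_map_of_mem _ hr₁)))
      (Ideal.mem_sup_left (h𝔦map (Ideal.mem_map_of_mem _ hr₂)))
  have huk : ∀ k, algebraMap P P' (u k) ∈ 𝔡 ⊔ 𝔨 ^ 2 := by
    intro k
    have h1 : algebraMap P P' (u k) = a' k
        - ∑ l, (e' k l - algebraMap P P' (c k l)) * algebraMap P P' (u l)
        + algebraMap P P' (u k - ∑ l, c k l * u l) := by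
      rw [ha'k, map_sub, map_sum, ← Finset.sum_sub_distrib]
      simp only [map_mul, sub_mul, sub_sub_cancel]
      ring
    rw [h1]
    refine Ideal.add_mem _ (Ideal.sub_mem _ (Ideal.mem_sup_left (ha'𝔡 k)) ?_) (hrem _ (hU2 k))
    refine Ideal.mem_sup_right (Ideal.sum_mem _ fun l _ => ?_)
    rw [pow_two]
    exact Ideal.mul_mem_mul (he'c k l) (h𝔞𝔨 _ (hu l))
  have hsq : 𝔨 ≤ 𝔡 ⊔ 𝔨 ^ 2 := by
    have h1 : 𝔨 ≤ 𝔞.map (algebraMap P P') ⊔ 𝔨 ^ 2 := by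
      rw [h𝔨]; exact ker_le_map_sup_sq 𝔞 χ'
    refine h1.trans (sup_le ?_ le_sup_right)
    rw [Ideal.map_le_iff_le_comap]
    intro a ha
    rw [Ideal.mem_comap]
    obtain ⟨y, hy, r₂, hr₂, rfl⟩ := Submodule.mem_sup.mp (hU1 ha)
    obtain ⟨y₁, hy₁, r₁, hr₁, rfl⟩ := Submodule.mem_sup.mp hy
    rw [map_add, map_add]
    refine Ideal.add_mem _ (Ideal.add_mem _ ?_ ?_) ?_
    · have hle : Ideal.span (Set.range u) ≤ (𝔡 ⊔ 𝔨 ^ 2).comap (algebraMap P P') := by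
        rw [Ideal.span_le]
        rintro _ ⟨k, rfl⟩
        exact huk k
      exact hle hy₁
    · exact hrem _ (Ideal.mem_sup_left hr₁)
    · exact hrem _ (Ideal.mem_sup_right hr₂)
  -- finite generation
  obtain ⟨S, hS⟩ := exists_finset_ker_eq 𝔞 χ'
  have hfg : 𝔨 = 𝔦.map (algebraMap P P') ⊔
      Ideal.span ((S₀.image (algebraMap P P') ∪ S : Finset P') : Set P') := by
    rw [h𝔨, hS]
    conv_lhs => rw [hS₀]
    rw [Ideal.map_sup, Ideal.map_span, Finset.coe_union, Ideal.span_union, Finset.coe_image,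
      sup_assoc]
  obtain ⟨h, hh1, hh2⟩ := exists_mul_mem_of_le_sup_sq 𝔨 𝔡 (𝔦.map (algebraMap P P')) h𝔦map hsq _
    hfg
  have hχh : χ' h = 1 := by
    have := (hmem𝔨 _).mp hh1
    rwa [map_sub, map_one, sub_eq_zero] at this
  -- the localization
  haveI : Algebra.Etale P' (Localization.Away h) := Algebra.Etale.of_isLocalizationAway h
  haveI : Algebra.Etale P (Localization.Away h) := Algebra.Etale.comp P P' _
  have hunits : ∀ y : Submonoid.powers h, IsUnit (χ' y) := by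
    rintro ⟨_, k, rfl⟩
    show IsUnit (χ' (h ^ k))
    rw [map_pow, hχh, one_pow]
    exact isUnit_one
  let χ : Localization.Away h →ₐ[P] P ⧸ 𝔞 :=
    IsLocalization.liftAlgHom (M := Submonoid.powers h) (f := χ') hunits
  have hχ : ∀ x : P', χ (algebraMap P' (Localization.Away h) x) = χ' x := fun x =>
    IsLocalization.lift_eq _ _
  refine ⟨Localization.Away h, inferInstance, inferInstance, inferInstance, χ,
    e'.map (algebraMap P' (Localization.Away h)), ?_, ?_, ?_⟩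
  · rw [← Matrix.map_mul, he']
  · rw [← he'χ]
    ext i j
    simp only [Matrix.map_apply]
    exact hχ _
  · have hvec : (e'.map (algebraMap P' (Localization.Away h))).mulVec
        (fun l => algebraMap P (Localization.Away h) (u l)) =
        fun k => algebraMap P' (Localization.Away h) (a' k) := by
      funext k
      rw [ha'k, map_sum]
      show ∑ l, algebraMap P' (Localization.Away h) (e' k l) *
        algebraMap P (Localization.Away h) (u l) = _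
      refine Finset.sum_congr rfl fun l _ => ?_
      rw [map_mul, ← IsScalarTower.algebraMap_apply]
    have hmap𝔡 : 𝔡.map (algebraMap P' (Localization.Away h)) =
        Ideal.span (Set.range fun k => algebraMap P' (Localization.Away h) (a' k)) ⊔
          𝔦.map (algebraMap P (Localization.Away h)) := by
      rw [h𝔡, Ideal.map_sup, Ideal.map_span, Ideal.map_map, ← Set.range_comp,
        ← IsScalarTower.algebraMap_eq]
      rfl
    rw [hvec, ← hmap𝔡]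
    refine le_antisymm ?_ ?_
    · intro z hz
      rw [RingHom.mem_ker] at hz
      obtain ⟨x, s, rfl⟩ := IsLocalization.exists_mk'_eq (Submonoid.powers h) z
      rw [IsLocalization.mk'_mem_map_algebraMap_iff (Submonoid.powers h)]
      refine ⟨h, ⟨1, pow_one h⟩, hh2 x ?_⟩
      rw [hmem𝔨]
      have h1 := IsLocalization.mk'_spec (Localization.Away h) x s
      have h2 := congrArg χ h1
      rw [map_mul, hz, zero_mul, hχ] at h2
      exact h2.symm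
    · rw [Ideal.map_le_iff_le_comap]
      intro x hx
      rw [Ideal.mem_comap, RingHom.mem_ker, hχ]
      exact (hmem𝔨 x).mp (h𝔡𝔨 hx)

end Groth.Agent.H3.SL
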