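import Groth.Agent.H3.PH4

/-!
# A presentation of a smooth `R ⧸ I`-algebra with its infinitesimal retraction data (helper3)
-/

set_option autoImplicit false
set_option linter.unusedSimpArgs false
set_option linter.unusedVariables false
set_option linter.style.haveILetI false
universe u

namespace Groth.Agent.H3.SL

open MvPolynomial

/-- Taylor expansion to first order of two algebra maps out of a polynomial ring which differ by
elements with pairwise zero products. -/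
theorem taylor_of_mul_eq_zero {R T : Type u} [CommRing R] [CommRing T] [Algebra R T] {n : ℕ}
    (F G : MvPolynomial (Fin n) R →ₐ[R] T)
    (hν : ∀ j k, (F (X j) - G (X j)) * (F (X k) - G (X k)) = 0)
    (f : MvPolynomial (Fin n) R) :
    F f - G f = ∑ j, F (pderiv j f) * (F (X j) - G (X j)) := by
  classical
  induction f using MvPolynomial.induction_on with
  | C r =>
    simp only [pderiv_C, map_zero, zero_mul, Finset.sum_const_zero]
    rw [MvPolynomial.algHom_C, MvPolynomial.algHom_C, sub_self]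
  | add f g hf hg =>
    simp only [map_add, add_mul, Finset.sum_add_distrib]
    rw [← hf, ← hg]; ring
  | mul_X f i hf =>
    have h1 : ∀ j, F (pderiv j (f * X i)) * (F (X j) - G (X j)) =
        F (pderiv j f) * (F (X j) - G (X j)) * F (X i) +
          F f * (F (Pi.single (M := fun _ => MvPolynomial (Fin n) R) j 1 i) *
            (F (X j) - G (X j))) := by
      intro j
      rw [pderiv_mul, pderiv_X, map_add, map_mul, map_mul]
      ring
    simp_rw [h1, Finset.sum_add_distrib, ← Finset.sum_mul, ← Finset.mul_sum, ← hf]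
    have h2 : ∑ j, F (Pi.single (M := fun _ => MvPolynomial (Fin n) R) j 1 i) *
        (F (X j) - G (X j)) = F (X i) - G (X i) := by
      rw [Finset.sum_eq_single i]
      · rw [Pi.single_eq_same, map_one, one_mul]
      · intro j _ hji
        rw [Pi.single_eq_of_ne (Ne.symm hji), map_zero, zero_mul]
      · intro h; exact absurd (Finset.mem_univ i) h
    rw [h2]
    have h3 : (F f - G f) * (F (X i) - G (X i)) = 0 := by
      rw [hf, Finset.sum_mul]
      refine Finset.sum_eq_zero fun j _ => ?_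
      rw [mul_assoc, hν, mul_zero]
    rw [map_mul, map_mul]
    linear_combination (-1 : T) * h3

/-- A smooth `R ⧸ I`-algebra is a quotient of a polynomial ring over `R` by an ideal `𝔞` carrying
elements `u j ∈ 𝔞` with `a ≡ ∑ ∂_j a * u j` modulo `𝔞² + I` for all `a ∈ 𝔞`. -/
theorem exists_presentation {R A₀ : Type u} [CommRing R] (I : Ideal R) [CommRing A₀]
    [Algebra (R ⧸ I) A₀] [Algebra R A₀] [IsScalarTower R (R ⧸ I) A₀]
    [Algebra.Smooth (R ⧸ I) A₀] :
    ∃ (n : ℕ) (π : MvPolynomial (Fin n) R →ₐ[R] A₀) (u : Fin n → MvPolynomial (Fin n) R),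
      Function.Surjective π ∧ I.map (algebraMap R (MvPolynomial (Fin n) R)) ≤ RingHom.ker π ∧
      (∀ j, u j ∈ RingHom.ker π) ∧
      (∀ a ∈ RingHom.ker π, a - ∑ j, pderiv j a * u j ∈
        (RingHom.ker π) ^ 2 ⊔ I.map (algebraMap R (MvPolynomial (Fin n) R))) ∧
      ∃ S₀ : Finset (MvPolynomial (Fin n) R), RingHom.ker π =
        I.map (algebraMap R (MvPolynomial (Fin n) R)) ⊔
          Ideal.span (S₀ : Set (MvPolynomial (Fin n) R)) := by
  classical
  haveI : Algebra.FiniteType R (R ⧸ I) :=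
    Algebra.FiniteType.of_surjective (Algebra.ofId R (R ⧸ I)) Ideal.Quotient.mk_surjective
  haveI : Algebra.FiniteType R A₀ := Algebra.FiniteType.trans
    (inferInstance : Algebra.FiniteType R (R ⧸ I)) inferInstance
  obtain ⟨n, π, hπ⟩ := Algebra.FiniteType.iff_quotient_mvPolynomial''.mp
    (inferInstance : Algebra.FiniteType R A₀)
  obtain ⟨𝔞, h𝔞⟩ : ∃ 𝔞 : Ideal (MvPolynomial (Fin n) R), 𝔞 = RingHom.ker π := ⟨_, rfl⟩
  have hmem𝔞 : ∀ x, x ∈ 𝔞 ↔ π x = 0 := fun x => by rw [h𝔞, RingHom.mem_ker]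
  have h𝔦𝔞 : I.map (algebraMap R (MvPolynomial (Fin n) R)) ≤ 𝔞 := by
    rw [Ideal.map_le_iff_le_comap]
    intro r hr
    rw [Ideal.mem_comap, hmem𝔞, AlgHom.commutes, IsScalarTower.algebraMap_apply R (R ⧸ I) A₀,
      Ideal.Quotient.algebraMap_eq, Ideal.Quotient.eq_zero_iff_mem.mpr hr, map_zero]
  -- the finite generation part
  have hfg : ∃ S₀ : Finset (MvPolynomial (Fin n) R), 𝔞 =
      I.map (algebraMap R (MvPolynomial (Fin n) R)) ⊔
        Ideal.span (S₀ : Set (MvPolynomial (Fin n) R)) := by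
    have h0 : ∀ x ∈ I.map (algebraMap R (MvPolynomial (Fin n) R)), π.toRingHom x = 0 :=
      fun x hx => (hmem𝔞 x).mp (h𝔦𝔞 hx)
    let πbar : (MvPolynomial (Fin n) R ⧸ I.map (algebraMap R (MvPolynomial (Fin n) R)))
        →ₐ[R ⧸ I] A₀ :=
      { toRingHom := Ideal.Quotient.lift _ π.toRingHom h0
        commutes' := fun x => by
          obtain ⟨r, rfl⟩ := Ideal.Quotient.mk_surjective x
          show Ideal.Quotient.lift _ π.toRingHom h0
            (Ideal.quotientMap _ (algebraMap R (MvPolynomial (Fin n) R)) Ideal.le_comap_map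
              (Ideal.Quotient.mk I r)) = _
          rw [Ideal.quotientMap_mk, Ideal.Quotient.lift_mk]
          show π (algebraMap R _ r) = _
          rw [AlgHom.commutes, IsScalarTower.algebraMap_apply R (R ⧸ I) A₀]
          rfl }
    have hπbar : ∀ x, πbar (Ideal.Quotient.mk _ x) = π x := fun x => rfl
    have hsurj : Function.Surjective πbar := by
      intro y
      obtain ⟨x, rfl⟩ := hπ y
      exact ⟨Ideal.Quotient.mk _ x, hπbar x⟩
    obtain ⟨S₁, hS₁⟩ := Algebra.FinitePresentation.ker_fG_of_surjective πbar hsurj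
    refine ⟨S₁.image (Function.surjInv Ideal.Quotient.mk_surjective), ?_⟩
    have h1 : 𝔞 = (RingHom.ker πbar.toRingHom).comap
        (Ideal.Quotient.mk (I.map (algebraMap R (MvPolynomial (Fin n) R)))) := by
      ext x
      rw [hmem𝔞, Ideal.mem_comap, RingHom.mem_ker]
      rfl
    have h2 : Ideal.span (S₁ : Set _) = (Ideal.span ((S₁.image
        (Function.surjInv Ideal.Quotient.mk_surjective) : Finset (MvPolynomial (Fin n) R)) :
          Set (MvPolynomial (Fin n) R))).map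
        (Ideal.Quotient.mk (I.map (algebraMap R (MvPolynomial (Fin n) R)))) := by
      rw [Ideal.map_span, Finset.coe_image, ← Set.image_comp]
      congr 1
      ext y
      simp only [Set.mem_image, Function.comp_apply, Finset.mem_coe]
      constructor
      · intro hy
        exact ⟨y, hy, Function.surjInv_eq _ y⟩
      · rintro ⟨z, hz, rfl⟩
        rw [Function.surjInv_eq (Ideal.Quotient.mk_surjective) z]
        exact hz
    rw [h1, ← hS₁, h2, Ideal.comap_map_of_surjective _ Ideal.Quotient.mk_surjective,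
      ← RingHom.ker_eq_comap_bot, Ideal.mk_ker, sup_comm]
  refine ⟨n, π, ?_⟩
  rw [← h𝔞]
  -- the infinitesimal section
  obtain ⟨𝔠, h𝔠⟩ : ∃ 𝔠 : Ideal (MvPolynomial (Fin n) R),
      𝔠 = 𝔞 ^ 2 ⊔ I.map (algebraMap R (MvPolynomial (Fin n) R)) := ⟨_, rfl⟩
  have h𝔠𝔞 : 𝔠 ≤ 𝔞 := by
    rw [h𝔠]
    exact sup_le (Ideal.pow_le_self two_ne_zero) h𝔦𝔞
  have hI0 : ∀ r ∈ I, algebraMap R (MvPolynomial (Fin n) R ⧸ 𝔠) r = 0 := by
    intro r hr
    rw [IsScalarTower.algebraMap_apply R (MvPolynomial (Fin n) R) (MvPolynomial (Fin n) R ⧸ 𝔠),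
      Ideal.Quotient.algebraMap_eq, Ideal.Quotient.eq_zero_iff_mem, h𝔠]
    exact Ideal.mem_sup_right (Ideal.mem_map_of_mem _ hr)
  letI : Algebra (R ⧸ I) (MvPolynomial (Fin n) R ⧸ 𝔠) :=
    (Ideal.Quotient.lift I (algebraMap R (MvPolynomial (Fin n) R ⧸ 𝔠)) hI0).toAlgebra
  haveI : IsScalarTower R (R ⧸ I) (MvPolynomial (Fin n) R ⧸ 𝔠) :=
    IsScalarTower.of_algebraMap_eq (fun r => rfl)
  let τR : (MvPolynomial (Fin n) R ⧸ 𝔠) →ₐ[R] A₀ :=
    Ideal.Quotient.liftₐ 𝔠 π (fun x hx => (hmem𝔞 x).mp (h𝔠𝔞 hx))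
  have hτR : ∀ x, τR (Ideal.Quotient.mk 𝔠 x) = π x := fun x => rfl
  let τ : (MvPolynomial (Fin n) R ⧸ 𝔠) →ₐ[R ⧸ I] A₀ :=
    { toRingHom := τR.toRingHom
      commutes' := fun x => by
        obtain ⟨r, rfl⟩ := Ideal.Quotient.mk_surjective x
        show τR (algebraMap (R ⧸ I) _ (algebraMap R (R ⧸ I) r)) =
          algebraMap (R ⧸ I) A₀ (algebraMap R (R ⧸ I) r)
        rw [← IsScalarTower.algebraMap_apply, ← IsScalarTower.algebraMap_apply, AlgHom.commutes] }
  have hτ : ∀ x, τ (Ideal.Quotient.mk 𝔠 x) = π x := fun x => rfl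
  have hτsurj : Function.Surjective τ := by
    intro y
    obtain ⟨x, rfl⟩ := hπ y
    exact ⟨Ideal.Quotient.mk 𝔠 x, hτ x⟩
  have hkerτ : RingHom.ker (τ : (MvPolynomial (Fin n) R ⧸ 𝔠) →+* A₀) ≤
      𝔞.map (Ideal.Quotient.mk 𝔠) := by
    intro x hx
    obtain ⟨y, rfl⟩ := Ideal.Quotient.mk_surjective x
    rw [RingHom.mem_ker] at hx
    exact Ideal.mem_map_of_mem _ ((hmem𝔞 y).mpr hx)
  have hnil : IsNilpotent (RingHom.ker (τ : (MvPolynomial (Fin n) R ⧸ 𝔠) →+* A₀)) := by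
    refine ⟨2, ?_⟩
    rw [Ideal.zero_eq_bot, eq_bot_iff]
    refine (Ideal.pow_right_mono hkerτ 2).trans ?_
    rw [← Ideal.map_pow, Ideal.map_le_iff_le_comap]
    intro x hx
    rw [Ideal.mem_comap, Ideal.mem_bot, Ideal.Quotient.eq_zero_iff_mem, h𝔠]
    exact Ideal.mem_sup_left hx
  let σ : A₀ →ₐ[R ⧸ I] (MvPolynomial (Fin n) R ⧸ 𝔠) :=
    Algebra.FormallySmooth.liftOfSurjective (AlgHom.id (R ⧸ I) A₀) τ hτsurj hnil
  have hσ : ∀ y, τ (σ y) = y := fun y =>
    Algebra.FormallySmooth.liftOfSurjective_apply (AlgHom.id (R ⧸ I) A₀) τ hτsurj hnil y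
  let Φ : MvPolynomial (Fin n) R →ₐ[R] (MvPolynomial (Fin n) R ⧸ 𝔠) :=
    (σ.restrictScalars R).comp π
  have hΦ : ∀ x, Φ x = σ (π x) := fun x => rfl
  let F : MvPolynomial (Fin n) R →ₐ[R] (MvPolynomial (Fin n) R ⧸ 𝔠) := Ideal.Quotient.mkₐ R 𝔠
  have hF : ∀ x, F x = Ideal.Quotient.mk 𝔠 x := fun x => rfl
  choose u hu using fun j : Fin n => Ideal.Quotient.mk_surjective (F (X j) - Φ (X j))
  have hu𝔞 : ∀ j, u j ∈ 𝔞 := by
    intro j
    rw [hmem𝔞, ← hτ, hu j, map_sub, hΦ, hσ, hF, hτ, sub_self]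
  have hν : ∀ j k, (F (X j) - Φ (X j)) * (F (X k) - Φ (X k)) = 0 := by
    intro j k
    rw [← hu j, ← hu k, ← map_mul, Ideal.Quotient.eq_zero_iff_mem, h𝔠]
    refine Ideal.mem_sup_left ?_
    rw [pow_two]
    exact Ideal.mul_mem_mul (hu𝔞 j) (hu𝔞 k)
  refine ⟨u, hπ, h𝔦𝔞, hu𝔞, ?_, hfg⟩
  intro a ha
  rw [← h𝔠, ← Ideal.Quotient.eq_zero_iff_mem, map_sub, sub_eq_zero]
  have h1 := taylor_of_mul_eq_zero F Φ hν a
  rw [hΦ a, (hmem𝔞 a).mp ha, map_zero, sub_zero] at h1
  rw [← hF, h1, map_sum]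
  refine Finset.sum_congr rfl fun j _ => ?_
  rw [map_mul, ← hu j, hF]

end Groth.Agent.H3.SL
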