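import Groth.Agent.H3.SL1
import Groth.Agent.H3.SL4
import Groth.Agent.H3.SL5

/-!
# Lifting smooth algebras along `R → R ⧸ I` (helper3)
-/

set_option autoImplicit false
set_option linter.unusedSimpArgs false
set_option linter.unusedVariables false
set_option linter.style.haveILetI false
universe u

namespace Groth.Agent.H3.SL

open MvPolynomial KaehlerDifferential TensorProduct

/-- A basis of `Ω[Q⁄R]` for `Q` formally étale over a polynomial ring, with its coordinate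
derivations extending the partial derivatives. -/
theorem exists_basis {R Q : Type u} [CommRing R] [CommRing Q] {n : ℕ}
    [Algebra (MvPolynomial (Fin n) R) Q] [Algebra R Q] [IsScalarTower R (MvPolynomial (Fin n) R) Q]
    [Algebra.FormallyEtale (MvPolynomial (Fin n) R) Q] :
    ∃ b : Module.Basis (Fin n) Q Ω[Q⁄R],
      (∀ k, b k = D R Q (algebraMap (MvPolynomial (Fin n) R) Q (X k))) ∧
      ∀ k f, coordDer b k (algebraMap (MvPolynomial (Fin n) R) Q f) =
        algebraMap (MvPolynomial (Fin n) R) Q (pderiv k f) := by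
  classical
  let E := tensorKaehlerEquivOfFormallyEtale R (MvPolynomial (Fin n) R) Q
  let b : Module.Basis (Fin n) Q Ω[Q⁄R] :=
    (Algebra.TensorProduct.basis Q (mvPolynomialBasis R (Fin n))).map E
  have hE : ∀ f, E (1 ⊗ₜ D R (MvPolynomial (Fin n) R) f) =
      D R Q (algebraMap (MvPolynomial (Fin n) R) Q f) := by
    intro f
    exact ((LinearEquiv.symm_apply_eq E).mp
      (tensorKaehlerEquivOfFormallyEtale_symm_D_algebraMap R (MvPolynomial (Fin n) R) Q f)).symm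
  refine ⟨b, fun k => ?_, fun k f => ?_⟩
  · show E ((Algebra.TensorProduct.basis Q (mvPolynomialBasis R (Fin n))) k) = _
    rw [Algebra.TensorProduct.basis_apply, mvPolynomialBasis_apply, hE]
  · rw [coordDer_apply, ← hE]
    show ((Algebra.TensorProduct.basis Q (mvPolynomialBasis R (Fin n))).map E).repr
      (E (1 ⊗ₜ D R (MvPolynomial (Fin n) R) f)) k = _
    rw [Module.Basis.map_repr, LinearEquiv.trans_apply, LinearEquiv.symm_apply_apply,
      Algebra.TensorProduct.basis_repr_tmul, one_smul, Finsupp.mapRange_apply,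
      mvPolynomialBasis_repr_apply]

theorem pderiv_mem_of_mem_mul {R : Type u} [CommRing R] {n : ℕ}
    (𝔞 : Ideal (MvPolynomial (Fin n) R)) (l : Fin n) (w : MvPolynomial (Fin n) R)
    (hw : w ∈ 𝔞 • (𝔞 : Submodule (MvPolynomial (Fin n) R) (MvPolynomial (Fin n) R))) :
    pderiv l w ∈ 𝔞 := by
  refine Submodule.smul_induction_on hw ?_ ?_
  · intro r hr m hm
    rw [smul_eq_mul, pderiv_mul]
    exact Ideal.add_mem _ (Ideal.mul_mem_left _ _ hm) (Ideal.mul_mem_right _ _ hr)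
  · intro x y hx hy
    rw [map_add]; exact Ideal.add_mem _ hx hy

theorem pderiv_mem_map {R : Type u} [CommRing R] {n : ℕ} (I : Ideal R) (l : Fin n)
    (w : MvPolynomial (Fin n) R)
    (hw : w ∈ Ideal.span (algebraMap R (MvPolynomial (Fin n) R) '' (I : Set R))) :
    pderiv l w ∈ Ideal.span (algebraMap R (MvPolynomial (Fin n) R) '' (I : Set R)) := by
  induction hw using Submodule.span_induction with
  | mem x hx =>
    obtain ⟨r, hr, rfl⟩ := hx
    rw [MvPolynomial.algebraMap_eq, pderiv_C]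
    exact Ideal.zero_mem _
  | zero => rw [map_zero]; exact Ideal.zero_mem _
  | add x y _ _ hx hy => rw [map_add]; exact Ideal.add_mem _ hx hy
  | smul q x hx hx' =>
    rw [smul_eq_mul, pderiv_mul]
    exact Ideal.add_mem _ (Ideal.mul_mem_left _ _ hx) (Ideal.mul_mem_left _ _ hx')

/-- Partial derivatives map `𝔞² + 𝔦` into `𝔞`. -/
theorem pderiv_mem {R : Type u} [CommRing R] {n : ℕ} (I : Ideal R)
    (𝔞 : Ideal (MvPolynomial (Fin n) R))
    (h𝔦𝔞 : I.map (algebraMap R (MvPolynomial (Fin n) R)) ≤ 𝔞) (l : Fin n)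
    (w : MvPolynomial (Fin n) R)
    (hw : w ∈ 𝔞 ^ 2 ⊔ I.map (algebraMap R (MvPolynomial (Fin n) R))) :
    pderiv l w ∈ 𝔞 := by
  obtain ⟨w₁, hw₁, w₂, hw₂, rfl⟩ := Submodule.mem_sup.mp hw
  rw [map_add]
  refine Ideal.add_mem _ ?_ ?_
  · rw [pow_two] at hw₁
    exact pderiv_mem_of_mem_mul 𝔞 l w₁ hw₁
  · exact h𝔦𝔞 (pderiv_mem_map I l w₂ hw₂)

/-- **Lifting smooth algebras** (Elkik, Arabia; Stacks 07M8): a smooth `R ⧸ I`-algebra is the
reduction of a smooth `R`-algebra. -/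
theorem exists_smooth_lift {R A₀ : Type u} [CommRing R] (I : Ideal R) [CommRing A₀]
    [Algebra (R ⧸ I) A₀] [Algebra R A₀] [IsScalarTower R (R ⧸ I) A₀]
    [Algebra.Smooth (R ⧸ I) A₀] :
    ∃ (A : Type u) (_ : CommRing A) (_ : Algebra R A), Algebra.Smooth R A ∧
      ∃ Ψ : A →ₐ[R] A₀, Function.Surjective Ψ ∧ RingHom.ker Ψ = I.map (algebraMap R A) := by
  classical
  obtain ⟨n, π, u, hπ, h𝔦𝔞, hu, hU, S₀, hS₀⟩ := exists_presentation (A₀ := A₀) I
  obtain ⟨𝔞, h𝔞⟩ : ∃ 𝔞 : Ideal (MvPolynomial (Fin n) R), 𝔞 = RingHom.ker π := ⟨_, rfl⟩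
  rw [← h𝔞] at h𝔦𝔞 hu hU hS₀
  obtain ⟨𝔦, h𝔦⟩ : ∃ 𝔦 : Ideal (MvPolynomial (Fin n) R),
      𝔦 = I.map (algebraMap R (MvPolynomial (Fin n) R)) := ⟨_, rfl⟩
  obtain ⟨c, hc⟩ : ∃ c : Matrix (Fin n) (Fin n) (MvPolynomial (Fin n) R),
      c = Matrix.of fun k l => pderiv l (u k) := ⟨_, rfl⟩
  have hckl : ∀ k l, c k l = pderiv l (u k) := fun k l => by rw [hc]; rfl
  have hsum_mem : ∀ a : MvPolynomial (Fin n) R, ∑ j, pderiv j a * u j ∈
      Ideal.span (Set.range u) := fun a =>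
    Ideal.sum_mem _ fun j _ => Ideal.mul_mem_left _ _ (Ideal.subset_span ⟨j, rfl⟩)
  have hU1 : 𝔞 ≤ Ideal.span (Set.range u) ⊔ 𝔞 ^ 2 ⊔ 𝔦 := by
    intro a ha
    have h1 := hU a ha
    have h2 : a = ∑ j, pderiv j a * u j + (a - ∑ j, pderiv j a * u j) := by ring
    rw [h2, sup_assoc, h𝔦]
    exact Ideal.add_mem _ (Ideal.mem_sup_left (hsum_mem a)) (Ideal.mem_sup_right h1)
  have hU2 : ∀ k, u k - ∑ l, c k l * u l ∈ 𝔞 ^ 2 ⊔ 𝔦 := by
    intro k
    simp_rw [hckl]
    rw [h𝔦]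
    exact hU (u k) (hu k)
  have hder : ∀ a ∈ 𝔞, ∀ l, pderiv l a - ∑ j, pderiv j a * pderiv l (u j) ∈ 𝔞 := by
    intro a ha l
    have h1 := pderiv_mem I 𝔞 h𝔦𝔞 l _ (hU a ha)
    have h2 : pderiv l a - ∑ j, pderiv j a * pderiv l (u j) =
        pderiv l (a - ∑ j, pderiv j a * u j) + ∑ j, pderiv l (pderiv j a) * u j := by
      rw [map_sub, map_sum]
      simp_rw [pderiv_mul]
      rw [Finset.sum_add_distrib]
      ring
    rw [h2]
    exact Ideal.add_mem _ h1 (Ideal.sum_mem _ fun j _ => Ideal.mul_mem_left _ _ (hu j))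
  have hp : (c.map (Ideal.Quotient.mk 𝔞)) * (c.map (Ideal.Quotient.mk 𝔞)) =
      c.map (Ideal.Quotient.mk 𝔞) := by
    ext k l
    rw [Matrix.mul_apply]
    simp only [Matrix.map_apply, hckl]
    have := hder (u k) (hu k) l
    rw [← Ideal.Quotient.eq_zero_iff_mem, map_sub, map_sum] at this
    simp only [map_mul] at this
    exact (sub_eq_zero.mp this).symm
  have hS₀' : 𝔞 = 𝔦 ⊔ Ideal.span (S₀ : Set (MvPolynomial (Fin n) R)) := by rw [h𝔦]; exact hS₀
  obtain ⟨Q, _, _, _, χ, e, he, heχ, hker⟩ :=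
    exists_etale_nbhd 𝔞 𝔦 (h𝔦 ▸ h𝔦𝔞) n u hu c hU1 hU2 S₀ hS₀' hp
  letI : Algebra R Q := ((algebraMap (MvPolynomial (Fin n) R) Q).comp
    (algebraMap R (MvPolynomial (Fin n) R))).toAlgebra
  haveI : IsScalarTower R (MvPolynomial (Fin n) R) Q := IsScalarTower.of_algebraMap_eq (fun _ => rfl)
  haveI : Algebra.FormallySmooth R Q := Algebra.FormallySmooth.comp R (MvPolynomial (Fin n) R) Q
  haveI : Algebra.FinitePresentation R Q :=
    Algebra.FinitePresentation.trans R (MvPolynomial (Fin n) R) Q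
  obtain ⟨b, hb, hbP⟩ := exists_basis (R := R) (Q := Q) (n := n)
  obtain ⟨a, ha⟩ : ∃ a : Fin n → Q,
      a = e.mulVec (fun l => algebraMap (MvPolynomial (Fin n) R) Q (u l)) := ⟨_, rfl⟩
  have hak : ∀ j, a j = ∑ l, e j l * algebraMap (MvPolynomial (Fin n) R) Q (u l) := fun j => by
    rw [ha]; rfl
  have hea : e.mulVec a = a := by rw [ha, Matrix.mulVec_mulVec, he]
  rw [← ha] at hker
  have hχalg : ∀ r, χ (algebraMap (MvPolynomial (Fin n) R) Q r) = Ideal.Quotient.mk 𝔞 r :=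
    fun r => χ.commutes r
  have hχu : ∀ l, χ (algebraMap (MvPolynomial (Fin n) R) Q (u l)) = 0 := fun l => by
    rw [hχalg]; exact Ideal.Quotient.eq_zero_iff_mem.mpr (hu l)
  have hχe : ∀ j l, χ (e j l) = Ideal.Quotient.mk 𝔞 (c j l) := by
    intro j l
    have := congrFun (congrFun heχ j) l
    simpa only [Matrix.map_apply] using this
  -- the determinant is `1` at the point
  have hχjac : ∀ j k, χ (jac b a j k) = Ideal.Quotient.mk 𝔞 (c j k) := by
    intro j k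
    show χ (coordDer b k (a j)) = _
    rw [hak, map_sum, map_sum]
    have h1 : ∀ l, χ (coordDer b k (e j l * algebraMap (MvPolynomial (Fin n) R) Q (u l))) =
        Ideal.Quotient.mk 𝔞 (c j l) * Ideal.Quotient.mk 𝔞 (c l k) := by
      intro l
      rw [Derivation.leibniz, smul_eq_mul, smul_eq_mul, map_add, map_mul, map_mul, hχu, zero_mul,
        add_zero, hbP, hχalg, hχe, hckl l k]
    simp_rw [h1]
    have := congrFun (congrFun hp j) k
    rw [Matrix.mul_apply] at this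
    simpa only [Matrix.map_apply] using this
  obtain ⟨g, hg⟩ : ∃ g : Q, g = (jac b a + 1 - e).det := ⟨_, rfl⟩
  have hχg : χ g = 1 := by
    rw [hg, AlgHom.map_det]
    have : χ.mapMatrix (jac b a + 1 - e) = 1 := by
      ext j k
      rw [AlgHom.mapMatrix_apply, Matrix.map_apply, Matrix.sub_apply, Matrix.add_apply, map_sub,
        map_add, hχjac, hχe, add_sub_cancel_left]
      by_cases hjk : j = k
      · subst hjk; rw [Matrix.one_apply_eq, Matrix.one_apply_eq, map_one]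
      · rw [Matrix.one_apply_ne hjk, Matrix.one_apply_ne hjk, map_zero]
    rw [this, Matrix.det_one]
  obtain ⟨𝔟, h𝔟⟩ : ∃ 𝔟 : Ideal Q, 𝔟 = Ideal.span (Set.range a) := ⟨_, rfl⟩
  rw [← h𝔟] at hker
  have hfs : Algebra.FormallySmooth R (Localization.Away (Ideal.Quotient.mk 𝔟 g)) := by
    rw [h𝔟, hg]
    exact formallySmooth_away b _ hb a e he hea
  have h𝔟fg : 𝔟.FG := by
    rw [h𝔟]
    exact Submodule.fg_span (Set.finite_range a)
  haveI : Algebra.FinitePresentation R (Q ⧸ 𝔟) := Algebra.FinitePresentation.quotient h𝔟fg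
  haveI : Algebra.FinitePresentation (Q ⧸ 𝔟) (Localization.Away (Ideal.Quotient.mk 𝔟 g)) :=
    IsLocalization.Away.finitePresentation (Ideal.Quotient.mk 𝔟 g)
  haveI : Algebra.FinitePresentation R (Localization.Away (Ideal.Quotient.mk 𝔟 g)) :=
    Algebra.FinitePresentation.trans R (Q ⧸ 𝔟) _
  refine ⟨Localization.Away (Ideal.Quotient.mk 𝔟 g), inferInstance, inferInstance,
    ⟨hfs, inferInstance⟩, ?_⟩
  -- the point
  let ebar : (MvPolynomial (Fin n) R ⧸ RingHom.ker π) ≃ₐ[R] A₀ :=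
    Ideal.quotientKerAlgEquivOfSurjective hπ
  have hebar : ∀ x, ebar (Ideal.Quotient.mk _ x) = π x := fun x => rfl
  subst h𝔞
  let χ0 : Q →ₐ[R] A₀ := ebar.toAlgHom.comp (χ.restrictScalars R)
  have hχ0 : ∀ q, χ0 q = ebar (χ q) := fun q => rfl
  have hχ0ker : ∀ q, χ0 q = 0 ↔ q ∈ RingHom.ker χ := by
    intro q
    rw [hχ0, RingHom.mem_ker]
    exact ebar.map_eq_zero_iff
  have h𝔟ker : ∀ q ∈ 𝔟, χ0 q = 0 := by
    intro q hq
    rw [hχ0ker, hker]
    exact Ideal.mem_sup_left hq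
  let χA : (Q ⧸ 𝔟) →ₐ[R] A₀ := Ideal.Quotient.liftₐ 𝔟 χ0 h𝔟ker
  have hχA : ∀ q, χA (Ideal.Quotient.mk 𝔟 q) = χ0 q := fun q => rfl
  have hunits : ∀ y : Submonoid.powers (Ideal.Quotient.mk 𝔟 g), IsUnit (χA y) := by
    rintro ⟨_, k, rfl⟩
    show IsUnit (χA (Ideal.Quotient.mk 𝔟 g ^ k))
    rw [map_pow, hχA, hχ0, hχg, map_one, one_pow]
    exact isUnit_one
  let Ψ : Localization.Away (Ideal.Quotient.mk 𝔟 g) →ₐ[R] A₀ :=
    IsLocalization.liftAlgHom (M := Submonoid.powers (Ideal.Quotient.mk 𝔟 g)) (f := χA) hunits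
  have hΨ : ∀ y : Q ⧸ 𝔟, Ψ (algebraMap (Q ⧸ 𝔟) _ y) = χA y := fun y =>
    IsLocalization.lift_eq _ _
  refine ⟨Ψ, ?_, ?_⟩
  · intro y
    obtain ⟨x, rfl⟩ := hπ y
    refine ⟨algebraMap (Q ⧸ 𝔟) _ (Ideal.Quotient.mk 𝔟 (algebraMap (MvPolynomial (Fin n) R) Q x)), ?_⟩
    rw [hΨ, hχA, hχ0, hχalg, hebar]
  · have hmapI : (I.map (algebraMap R (Q ⧸ 𝔟))).map
        (algebraMap (Q ⧸ 𝔟) (Localization.Away (Ideal.Quotient.mk 𝔟 g))) =
        I.map (algebraMap R (Localization.Away (Ideal.Quotient.mk 𝔟 g))) := by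
      rw [Ideal.map_map, ← IsScalarTower.algebraMap_eq]
    refine le_antisymm ?_ ?_
    · intro z hz
      rw [RingHom.mem_ker] at hz
      obtain ⟨y, s, rfl⟩ := IsLocalization.exists_mk'_eq
        (Submonoid.powers (Ideal.Quotient.mk 𝔟 g)) z
      rw [← hmapI, IsLocalization.mk'_mem_map_algebraMap_iff
        (Submonoid.powers (Ideal.Quotient.mk 𝔟 g))]
      refine ⟨1, one_mem _, ?_⟩
      rw [one_mul]
      have h1 := IsLocalization.mk'_spec (Localization.Away (Ideal.Quotient.mk 𝔟 g)) y s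
      have h2 := congrArg Ψ h1
      rw [map_mul, hz, zero_mul, hΨ] at h2
      obtain ⟨q, rfl⟩ := Ideal.Quotient.mk_surjective y
      rw [hχA] at h2
      have h3 : q ∈ RingHom.ker χ := (hχ0ker q).mp h2.symm
      rw [hker] at h3
      obtain ⟨q₁, hq₁, q₂, hq₂, rfl⟩ := Submodule.mem_sup.mp h3
      rw [map_add, Ideal.Quotient.eq_zero_iff_mem.mpr hq₁, zero_add]
      have h4 : q₂ ∈ I.map (algebraMap R Q) := by
        rw [h𝔦, Ideal.map_map, ← IsScalarTower.algebraMap_eq] at hq₂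
        exact hq₂
      have h5 := Ideal.mem_map_of_mem (Ideal.Quotient.mk 𝔟) h4
      rw [Ideal.map_map] at h5
      exact h5
    · rw [Ideal.map_le_iff_le_comap]
      intro r hr
      rw [Ideal.mem_comap, RingHom.mem_ker, AlgHom.commutes,
        IsScalarTower.algebraMap_apply R (R ⧸ I) A₀, Ideal.Quotient.algebraMap_eq,
        Ideal.Quotient.eq_zero_iff_mem.mpr hr, map_zero]

end Groth.Agent.H3.SL
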