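import Groth.Agent.H3.HenselSplit
import Groth.Agent.H3.HenselFinite

set_option autoImplicit false
set_option linter.style.haveILetI false
set_option linter.unusedSimpArgs false
set_option linter.unusedVariables false
universe u

namespace Groth.Agent.H3

open Polynomial IsLocalRing TensorProduct

/-- `R[X]/(f)` is quasi-finite over `R` as soon as some coefficient of `f` is a unit. -/
theorem quasiFinite_adjoinRoot_of_isUnit_coeff {R : Type*} [CommRing R] (f : R[X]) (i : ℕ)
    (hi : IsUnit (f.coeff i)) : Algebra.QuasiFinite R (AdjoinRoot f) := by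
  refine ⟨fun P _ => ?_⟩
  have hfK0 : f.map (algebraMap R P.ResidueField) ≠ 0 := by
    intro h0
    have := congr_arg (fun p => p.coeff i) h0
    simp only [coeff_map, coeff_zero] at this
    exact (hi.map (algebraMap R P.ResidueField)).ne_zero this
  haveI : Module.Finite P.ResidueField (AdjoinRoot (f.map (algebraMap R P.ResidueField))) :=
    (AdjoinRoot.powerBasis hfK0).finite
  have key : ∀ q : R[X], eval₂ (Algebra.ofId P.ResidueField (P.ResidueField ⊗[R] AdjoinRoot f))
      ((1 : P.ResidueField) ⊗ₜ[R] AdjoinRoot.root f) (q.map (algebraMap R P.ResidueField)) =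
      (1 : P.ResidueField) ⊗ₜ[R] AdjoinRoot.mk f q := by
    intro q
    have h1 : eval₂ (Algebra.ofId P.ResidueField (P.ResidueField ⊗[R] AdjoinRoot f))
      ((1 : P.ResidueField) ⊗ₜ[R] AdjoinRoot.root f) (q.map (algebraMap R P.ResidueField)) =
      aeval ((1 : P.ResidueField) ⊗ₜ[R] AdjoinRoot.root f)
        (q.map (algebraMap R P.ResidueField)) := by
      rw [aeval_def]; rfl
    rw [h1, aeval_map_algebraMap]
    have h2 : ((1 : P.ResidueField) ⊗ₜ[R] AdjoinRoot.root f) =
      (Algebra.TensorProduct.includeRight : AdjoinRoot f →ₐ[R] P.ResidueField ⊗[R] AdjoinRoot f)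
        (AdjoinRoot.root f) := rfl
    rw [h2, aeval_algHom_apply, AdjoinRoot.aeval_eq]
    rfl
  have hroot : eval₂ (Algebra.ofId P.ResidueField (P.ResidueField ⊗[R] AdjoinRoot f))
      ((1 : P.ResidueField) ⊗ₜ[R] AdjoinRoot.root f) (f.map (algebraMap R P.ResidueField)) = 0 := by
    rw [key, AdjoinRoot.mk_self, TensorProduct.tmul_zero]
  let φ : AdjoinRoot (f.map (algebraMap R P.ResidueField)) →ₐ[P.ResidueField]
      P.ResidueField ⊗[R] AdjoinRoot f :=
    AdjoinRoot.liftAlgHom _ (Algebra.ofId _ _) ((1 : P.ResidueField) ⊗ₜ[R] AdjoinRoot.root f) hroot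
  have hφ : ∀ p : R[X], φ (AdjoinRoot.mk _ (p.map (algebraMap R P.ResidueField))) =
      (1 : P.ResidueField) ⊗ₜ[R] AdjoinRoot.mk f p := by
    intro p
    rw [AdjoinRoot.liftAlgHom_mk]
    exact key p
  have hsurj : Function.Surjective φ := by
    intro x
    induction x using TensorProduct.induction_on with
    | zero => exact ⟨0, map_zero _⟩
    | tmul k s =>
      obtain ⟨p, rfl⟩ := AdjoinRoot.mk_surjective s
      refine ⟨k • AdjoinRoot.mk _ (p.map (algebraMap R P.ResidueField)), ?_⟩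
      rw [map_smul, hφ, TensorProduct.smul_tmul', smul_eq_mul, mul_one]
    | add x y hx hy =>
      obtain ⟨a, rfl⟩ := hx
      obtain ⟨b, rfl⟩ := hy
      exact ⟨a + b, map_add _ _ _⟩
  exact Module.Finite.of_surjective φ.toLinearMap hsurj

/-- Coprimality of a monic polynomial with an arbitrary polynomial can be tested modulo the
maximal ideal. -/
theorem isCoprime_of_monic_of_isCoprime_map_residue {R : Type*} [CommRing R] [IsLocalRing R]
    {G H : R[X]} (hG : G.Monic)
    (h : IsCoprime (G.map (residue R)) (H.map (residue R))) : IsCoprime G H := by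
  obtain ⟨u₀, v₀, huv⟩ := h
  obtain ⟨u', hu'⟩ := Polynomial.map_surjective (residue R) residue_surjective u₀
  obtain ⟨v', hv'⟩ := Polynomial.map_surjective (residue R) residue_surjective v₀
  haveI : Module.Finite R (AdjoinRoot G) := hG.finite_adjoinRoot
  haveI : Algebra.IsIntegral R (AdjoinRoot G) := Algebra.IsIntegral.of_finite R _
  have hjac := map_le_jacobson_of_isIntegral (S := AdjoinRoot G) (maximalIdeal R)
    (IsLocalRing.maximalIdeal_le_jacobson ⊥)
  have hp : (v' * H - 1 + u' * G).map (residue R) = 0 := by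
    simp only [Polynomial.map_add, Polynomial.map_sub, Polynomial.map_mul, Polynomial.map_one,
      hu', hv']
    linear_combination huv
  have h1 : AdjoinRoot.mk G (v' * H - 1 + u' * G) ∈
      (maximalIdeal R).map (algebraMap R (AdjoinRoot G)) := by
    rw [← AdjoinRoot.aeval_eq]
    exact aeval_mem_map_of_map_eq_zero _ _ hp
  rw [map_add, map_sub, map_mul, map_mul, map_one, AdjoinRoot.mk_self, mul_zero, add_zero] at h1
  have h2 := Ideal.mem_jacobson_bot.mp (hjac h1) 1
  have h3 : IsUnit (AdjoinRoot.mk G v' * AdjoinRoot.mk G H) := by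
    convert h2 using 1
    ring
  have h4 : IsUnit (AdjoinRoot.mk G H) := isUnit_of_mul_isUnit_right h3
  obtain ⟨τ, hτ⟩ := h4.exists_right_inv
  obtain ⟨w, rfl⟩ := AdjoinRoot.mk_surjective τ
  have h5 : G ∣ H * w - 1 := by
    rw [← AdjoinRoot.mk_eq_zero, map_sub, map_mul, hτ, map_one, sub_self]
  obtain ⟨k, hk⟩ := h5
  exact ⟨-k, w, by linear_combination hk⟩

theorem exists_map_eq_mul_of_mk_mem {R : Type*} [CommRing R] [IsLocalRing R] (f r : R[X])
    (h : AdjoinRoot.mk f r ∈ (maximalIdeal R).map (algebraMap R (AdjoinRoot f))) :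
    ∃ d : (ResidueField R)[X], r.map (residue R) = f.map (residue R) * d := by
  have h1 : (maximalIdeal R).map (algebraMap R (AdjoinRoot f)) =
      ((maximalIdeal R).map (C : R →+* R[X])).map (AdjoinRoot.mk f) := by
    rw [Ideal.map_map]
    rfl
  rw [h1] at h
  obtain ⟨m, hm, hmr⟩ :=
    (Ideal.mem_map_iff_of_surjective (AdjoinRoot.mk f) AdjoinRoot.mk_surjective).mp h
  have h3 : f ∣ r - m := by
    rw [← AdjoinRoot.mk_eq_zero, map_sub, hmr, sub_self]
  obtain ⟨d, hd⟩ := h3
  refine ⟨d.map (residue R), ?_⟩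
  have hm0 : m.map (residue R) = 0 := by
    have : m ∈ RingHom.ker (mapRingHom (residue R)) := by
      rw [Polynomial.ker_mapRingHom, IsLocalRing.ker_residue]
      exact hm
    exact this
  have : r = m + f * d := by rw [← hd]; ring
  rw [this, Polynomial.map_add, hm0, zero_add, Polynomial.map_mul]

/-- Hensel's lemma in factorization form for a not necessarily monic polynomial. -/
theorem factor_lift_nonmonic (R : Type u) [CommRing R] [HenselianLocalRing R]
    (f : R[X]) (g₀ h₀ : (ResidueField R)[X]) (hg : g₀.Monic)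
    (hc : IsCoprime g₀ h₀) (hf : f.map (residue R) = g₀ * h₀) :
    ∃ g h : R[X], f = g * h ∧ g.Monic ∧ g.map (residue R) = g₀ ∧ h.map (residue R) = h₀ := by
  classical
  by_cases hn : g₀.natDegree = 0
  · have h1 : g₀ = 1 := eq_one_of_monic_natDegree_zero hg hn
    exact ⟨1, f, (one_mul f).symm, monic_one, by rw [Polynomial.map_one, h1],
      by rw [hf, h1, one_mul]⟩
  obtain ⟨n, hndef⟩ : ∃ n, n = g₀.natDegree := ⟨_, rfl⟩
  have hnpos : 0 < n := by rw [hndef]; exact Nat.pos_of_ne_zero hn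
  have hh₀ : h₀ ≠ 0 := by
    rintro rfl
    have : IsUnit g₀ := isCoprime_zero_right.mp hc
    exact hn (natDegree_eq_zero_of_isUnit this)
  have hfbar : f.map (residue R) ≠ 0 := by rw [hf]; exact mul_ne_zero hg.ne_zero hh₀
  obtain ⟨i, hi⟩ : ∃ i, IsUnit (f.coeff i) := by
    by_contra hcon
    push_neg at hcon
    apply hfbar
    ext i
    rw [coeff_map, coeff_zero]
    exact (residue_eq_zero_iff _).mpr ((mem_maximalIdeal _).mpr (hcon i))
  haveI : Algebra.QuasiFinite R (AdjoinRoot f) := quasiFinite_adjoinRoot_of_isUnit_coeff f i hi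
  obtain ⟨e, he, hefin, hetop⟩ := quasiFinite_split_of_henselian R (AdjoinRoot f)
  have he' : e * e = e := he.eq
  obtain ⟨𝔪S, h𝔪S⟩ : ∃ 𝔪S : Ideal (AdjoinRoot f),
      𝔪S = (maximalIdeal R).map (algebraMap R (AdjoinRoot f)) := ⟨_, rfl⟩
  -- `1 - e ∈ 𝔪S`
  have h1e : 1 - e ∈ 𝔪S := by
    have h1 : Ideal.map (algebraMap R (AdjoinRoot f ⧸ Ideal.span ({e} : Set (AdjoinRoot f))))
        (maximalIdeal R) =
        𝔪S.map (Ideal.Quotient.mk (Ideal.span ({e} : Set (AdjoinRoot f)))) := by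
      rw [h𝔪S, Ideal.map_map]
      rfl
    rw [h1] at hetop
    have h2 : (1 : AdjoinRoot f) ∈ 𝔪S ⊔ Ideal.span ({e} : Set (AdjoinRoot f)) := by
      have := Ideal.comap_map_of_surjective
        (Ideal.Quotient.mk (Ideal.span ({e} : Set (AdjoinRoot f)))) Ideal.Quotient.mk_surjective 𝔪S
      rw [hetop, Ideal.comap_top] at this
      have h3 : Ideal.comap (Ideal.Quotient.mk (Ideal.span ({e} : Set (AdjoinRoot f)))) ⊥ =
          Ideal.span {e} := by
        rw [← RingHom.ker_eq_comap_bot, Ideal.mk_ker]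
      rw [h3] at this
      rw [← this]
      trivial
    obtain ⟨m, hm, z, hz, hmz⟩ := Submodule.mem_sup.mp h2
    obtain ⟨s, rfl⟩ := Ideal.mem_span_singleton'.mp hz
    have : 1 - e = m * (1 - e) := by
      calc 1 - e = (m + s * e) * (1 - e) := by rw [hmz, one_mul]
        _ = m * (1 - e) + s * (e - e * e) := by ring
        _ = m * (1 - e) := by rw [he', sub_self, mul_zero, add_zero]
    rw [this]
    exact Ideal.mul_mem_right _ _ hm
  obtain ⟨a₀, b₀, hab⟩ := hc
  have hsurj := Polynomial.map_surjective (residue R) residue_surjective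
  obtain ⟨a', ha'⟩ := hsurj a₀
  obtain ⟨b', hb'⟩ := hsurj b₀
  obtain ⟨h', hh'⟩ := hsurj h₀
  obtain ⟨g', hg'map, hg'deg, hg'm⟩ :=
    lifts_and_natDegree_eq_and_monic ((mem_lifts _).mpr (hsurj g₀)) hg
  rw [← hndef] at hg'deg
  obtain ⟨y', hy'⟩ : ∃ y' : R[X], y' = b' * h' := ⟨_, rfl⟩
  have hy'map : y'.map (residue R) = b₀ * h₀ := by rw [hy', Polynomial.map_mul, hb', hh']
  have hK1 : ∀ p : R[X], p.map (residue R) = 0 → AdjoinRoot.mk f p ∈ 𝔪S := by
    intro p hp
    rw [← AdjoinRoot.aeval_eq, h𝔪S]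
    exact aeval_mem_map_of_map_eq_zero (AdjoinRoot.root f) p hp
  obtain ⟨y, hy⟩ : ∃ y : AdjoinRoot f, y = AdjoinRoot.mk f y' := ⟨_, rfl⟩
  have hy2 : y ^ 2 - y ∈ 𝔪S := by
    have hp : (y' ^ 2 - y' + a' * b' * f).map (residue R) = 0 := by
      simp only [Polynomial.map_add, Polynomial.map_sub, Polynomial.map_mul, Polynomial.map_pow,
        hy'map, ha', hb', hf]
      linear_combination (b₀ * h₀) * hab
    have := hK1 _ hp
    rwa [map_add, map_sub, map_pow, map_mul, AdjoinRoot.mk_self, mul_zero, add_zero, ← hy] at this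
  obtain ⟨b, hb⟩ : ∃ b : AdjoinRoot f, b = e * y := ⟨_, rfl⟩
  have hb2 : b ^ 2 - b ∈ 𝔪S := by
    have : b ^ 2 - b = e * (y ^ 2 - y) := by
      rw [hb]
      calc (e * y) ^ 2 - e * y = (e * e) * y ^ 2 - e * y := by ring
        _ = e * (y ^ 2 - y) := by rw [he']; ring
    rw [this]
    exact Ideal.mul_mem_left _ _ hy2
  have hbint : IsIntegral R b := by
    haveI := hefin
    let q := Ideal.Quotient.mkₐ R (Ideal.span ({1 - e} : Set (AdjoinRoot f)))
    obtain ⟨P, hPm, hP⟩ := Algebra.IsIntegral.isIntegral (R := R) (q b)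
    have h1 : q (aeval b P) = 0 := by
      rw [← aeval_algHom_apply, aeval_def]
      exact hP
    have h2 : aeval b P ∈ Ideal.span ({1 - e} : Set (AdjoinRoot f)) :=
      Ideal.Quotient.eq_zero_iff_mem.mp h1
    obtain ⟨c, hc⟩ := Ideal.mem_span_singleton'.mp h2
    refine ⟨X * P, monic_X.mul hPm, ?_⟩
    rw [eval₂_mul, eval₂_X, ← aeval_def, ← hc, hb]
    calc e * y * (c * (1 - e)) = y * c * (e - e * e) := by ring
      _ = 0 := by rw [he', sub_self, mul_zero]
  rw [h𝔪S] at hb2
  obtain ⟨E₀, hE₀, hE₀b⟩ := exists_isIdempotentElem_sub_mem b hbint hb2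
  rw [← h𝔪S] at hE₀b hb2
  obtain ⟨E, hE⟩ : ∃ E : AdjoinRoot f, E = E₀ * e := ⟨_, rfl⟩
  have hEi : IsIdempotentElem E := by rw [hE]; exact hE₀.mul he
  have hE' : E * E = E := hEi.eq
  have hEy : E - y ∈ 𝔪S := by
    have : E - y = (E₀ - b) * e - (1 - e) * y := by
      rw [hE, hb]
      calc E₀ * e - y = (E₀ - e * y) * e - (1 - e) * y + (e * e - e) * y := by ring
        _ = _ := by rw [he', sub_self, zero_mul, add_zero]
    rw [this]
    exact Ideal.sub_mem _ (Ideal.mul_mem_right _ _ hE₀b) (Ideal.mul_mem_right _ _ h1e)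
  have h1eE : 1 - e = (1 - E) * (1 - e) := by
    rw [hE]
    calc 1 - e = (1 - E₀ * e) * (1 - e) - E₀ * (e * e - e) := by ring
      _ = _ := by rw [he', sub_self, mul_zero, sub_zero]
  obtain ⟨J, hJ⟩ : ∃ J : Ideal (AdjoinRoot f), J = Ideal.span {1 - E} := ⟨_, rfl⟩
  have hJle : Ideal.span ({1 - e} : Set (AdjoinRoot f)) ≤ J := by
    rw [Ideal.span_singleton_le_iff_mem, hJ, h1eE]
    exact Ideal.mul_mem_right _ _ (Ideal.mem_span_singleton_self _)
  haveI : Module.Finite R (AdjoinRoot f ⧸ J) := by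
    haveI := hefin
    exact Module.Finite.of_surjective (Ideal.Quotient.factorₐ R hJle).toLinearMap
      (Ideal.Quotient.factor_surjective hJle)
  let q₁ : AdjoinRoot f →ₐ[R] AdjoinRoot f ⧸ J := Ideal.Quotient.mkₐ R J
  obtain ⟨t, ht⟩ : ∃ t : AdjoinRoot f ⧸ J, t = q₁ (AdjoinRoot.root f) := ⟨_, rfl⟩
  obtain ⟨𝔪A, h𝔪A⟩ : ∃ 𝔪A : Ideal (AdjoinRoot f ⧸ J),
      𝔪A = (maximalIdeal R).map (algebraMap R (AdjoinRoot f ⧸ J)) := ⟨_, rfl⟩
  have h𝔪A' : 𝔪A = 𝔪S.map (Ideal.Quotient.mk J) := by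
    rw [h𝔪A, h𝔪S, Ideal.map_map]
    rfl
  have hψ : ∀ p : R[X], aeval t p = q₁ (AdjoinRoot.mk f p) := by
    intro p
    rw [ht, aeval_algHom_apply, AdjoinRoot.aeval_eq]
  have hq𝔪 : ∀ x ∈ 𝔪S, q₁ x ∈ 𝔪A := by
    intro x hx
    rw [h𝔪A']
    exact Ideal.mem_map_of_mem _ hx
  have hJmem : ∀ x : AdjoinRoot f, q₁ x = 0 ↔ x ∈ J := fun x => Ideal.Quotient.eq_zero_iff_mem
  have hqE : q₁ E = 1 := by
    have : q₁ (1 - E) = 0 := (hJmem _).mpr (by rw [hJ]; exact Ideal.mem_span_singleton_self _)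
    rw [map_sub, map_one, sub_eq_zero] at this
    exact this.symm
  have hqy : q₁ y - 1 ∈ 𝔪A := by
    have := hq𝔪 _ hEy
    rw [map_sub, hqE] at this
    have h2 := 𝔪A.neg_mem this
    rwa [neg_sub] at h2
  have hF3 : ∀ p : R[X], p.map (residue R) = 0 → aeval t p ∈ 𝔪A := fun p hp => by
    rw [h𝔪A]
    exact aeval_mem_map_of_map_eq_zero t p hp
  have hF4 : aeval t g' ∈ 𝔪A := by
    have hp : (g' * y' - b' * f).map (residue R) = 0 := by
      simp only [Polynomial.map_sub, Polynomial.map_mul, hg'map, hy'map, hb', hf]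
      ring
    have h1 := hF3 _ hp
    rw [map_sub, map_mul, map_mul, hψ f, AdjoinRoot.mk_self, map_zero, mul_zero, sub_zero,
      hψ y', ← hy] at h1
    have h2 : aeval t g' * (q₁ y - 1) ∈ 𝔪A := Ideal.mul_mem_left _ _ hqy
    have : aeval t g' = aeval t g' * q₁ y - aeval t g' * (q₁ y - 1) := by ring
    rw [this]
    exact Ideal.sub_mem _ h1 h2
  have hF5 : ∀ p : R[X], aeval t p ∈ 𝔪A → g₀ ∣ p.map (residue R) := by
    intro p hp
    rw [hψ] at hp
    have h1 : AdjoinRoot.mk f p ∈ 𝔪S ⊔ J := by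
      have := Ideal.comap_map_of_surjective (Ideal.Quotient.mk J) Ideal.Quotient.mk_surjective 𝔪S
      have h3 : Ideal.comap (Ideal.Quotient.mk J) ⊥ = J := by
        rw [← RingHom.ker_eq_comap_bot, Ideal.mk_ker]
      rw [h3] at this
      rw [← this, Ideal.mem_comap, ← h𝔪A']
      exact hp
    obtain ⟨m, hm, z, hz, hmz⟩ := Submodule.mem_sup.mp h1
    rw [hJ] at hz
    obtain ⟨c, rfl⟩ := Ideal.mem_span_singleton'.mp hz
    obtain ⟨c', rfl⟩ := AdjoinRoot.mk_surjective c
    have h2 : AdjoinRoot.mk f (p - c' * (1 - y')) ∈ 𝔪S := by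
      have : AdjoinRoot.mk f (p - c' * (1 - y')) = m - AdjoinRoot.mk f c' * (E - y) := by
        rw [map_sub, map_mul, map_sub, map_one, ← hmz, ← hy]
        ring
      rw [this]
      exact Ideal.sub_mem _ hm (Ideal.mul_mem_left _ _ hEy)
    rw [h𝔪S] at h2
    obtain ⟨d, hd⟩ := exists_map_eq_mul_of_mk_mem f _ h2
    rw [Polynomial.map_sub, Polynomial.map_mul, Polynomial.map_sub, Polynomial.map_one, hy'map,
      hf] at hd
    refine ⟨c'.map (residue R) * a₀ + h₀ * d, ?_⟩
    linear_combination hd - (c'.map (residue R)) * hab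
  -- Nakayama
  let v : Fin n → AdjoinRoot f ⧸ J := fun i => t ^ (i : ℕ)
  obtain ⟨N, hN⟩ : ∃ N : Submodule R (AdjoinRoot f ⧸ J), N = Submodule.span R (Set.range v) :=
    ⟨_, rfl⟩
  have hg'ne : g' ≠ 1 := by
    intro h
    rw [h, natDegree_one] at hg'deg
    omega
  have hrem : ∀ r : R[X], r.natDegree < n → aeval t r ∈ N := by
    intro r hr
    rw [as_sum_range' r n hr, map_sum]
    refine Submodule.sum_mem _ fun i hi => ?_
    rw [aeval_monomial, ← Algebra.smul_def, hN]
    exact Submodule.smul_mem _ _ (Submodule.subset_span ⟨⟨i, Finset.mem_range.mp hi⟩, rfl⟩)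
  have hNtop : N = ⊤ := by
    apply top_le_iff.mp
    apply Submodule.le_of_le_smul_of_le_jacobson_bot (I := maximalIdeal R) Module.Finite.fg_top
      (IsLocalRing.maximalIdeal_le_jacobson ⊥)
    intro x _
    obtain ⟨p, rfl⟩ : ∃ p : R[X], aeval t p = x := by
      obtain ⟨s, rfl⟩ := Ideal.Quotient.mk_surjective x
      obtain ⟨p, rfl⟩ := AdjoinRoot.mk_surjective s
      exact ⟨p, hψ p⟩
    rw [← modByMonic_add_div p g', map_add, map_mul]
    refine Submodule.add_mem_sup (hrem _ ?_) ?_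
    · rw [← hg'deg]
      exact natDegree_modByMonic_lt p hg'm hg'ne
    · rw [Ideal.smul_top_eq_map, Submodule.restrictScalars_mem, ← h𝔪A]
      exact Ideal.mul_mem_right _ _ hF4
  have htn : t ^ n ∈ N := by rw [hNtop]; trivial
  rw [hN] at htn
  obtain ⟨c, hc⟩ := (Submodule.mem_span_range_iff_exists_fun R).mp htn
  obtain ⟨g, hg_def⟩ : ∃ g : R[X], g = X ^ n - ∑ i : Fin n, C (c i) * X ^ (i : ℕ) := ⟨_, rfl⟩
  have hdeglt : (∑ i : Fin n, C (c i) * X ^ (i : ℕ)).degree < (n : WithBot ℕ) := degree_sum_fin_lt c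
  have hgm : g.Monic := by rw [hg_def]; exact monic_X_pow_sub hdeglt
  have hgdeg : g.natDegree = n := by
    apply natDegree_eq_of_degree_eq_some
    rw [hg_def, degree_sub_eq_left_of_degree_lt (by rw [degree_X_pow]; exact hdeglt), degree_X_pow]
  have hgt : aeval t g = 0 := by
    rw [hg_def, map_sub, map_pow, aeval_X, map_sum, ← hc, sub_eq_zero]
    refine Finset.sum_congr rfl fun i _ => ?_
    simp only [map_mul, aeval_C, map_pow, aeval_X, Algebra.smul_def, v]
  have hgmap : g.map (residue R) = g₀ := by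
    have hdvd : g₀ ∣ g.map (residue R) := hF5 g (by rw [hgt]; exact 𝔪A.zero_mem)
    exact eq_of_monic_of_dvd_of_natDegree_le hg (hgm.map _) hdvd
      (by rw [hgm.natDegree_map, hgdeg, hndef])
  obtain ⟨ε, hε⟩ := AdjoinRoot.mk_surjective (g := f) E
  have hEg : E * AdjoinRoot.mk f g = 0 := by
    have h1 : q₁ (AdjoinRoot.mk f g) = 0 := by rw [← hψ, hgt]
    have h2 : AdjoinRoot.mk f g ∈ J := (hJmem _).mp h1
    rw [hJ] at h2
    obtain ⟨c₂, hc₂⟩ := Ideal.mem_span_singleton'.mp h2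
    rw [← hc₂]
    calc E * (c₂ * (1 - E)) = c₂ * (E - E * E) := by ring
      _ = 0 := by rw [hE', sub_self, mul_zero]
  have hfdvd : f ∣ ε * g := by
    rw [← AdjoinRoot.mk_eq_zero, map_mul, hε]
    exact hEg
  obtain ⟨s', hs'⟩ := hfdvd
  obtain ⟨d, hd⟩ := exists_map_eq_mul_of_mk_mem f (ε - y')
    (by rw [map_sub, hε, ← hy, ← h𝔪S]; exact hEy)
  rw [Polynomial.map_sub, hy'map, hf] at hd
  have hεs : ε.map (residue R) = h₀ * s'.map (residue R) := by
    have h1 := congr_arg (Polynomial.map (residue R)) hs'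
    rw [Polynomial.map_mul, Polynomial.map_mul, hgmap, hf] at h1
    have : g₀ * ε.map (residue R) = g₀ * (h₀ * s'.map (residue R)) := by
      rw [mul_comm, h1, mul_assoc]
    exact mul_left_cancel₀ hg.ne_zero this
  have hcop : IsCoprime (g.map (residue R)) (s'.map (residue R)) := by
    rw [hgmap]
    have h1 : IsCoprime g₀ (ε.map (residue R)) := by
      refine ⟨a₀ - h₀ * d, 1, ?_⟩
      linear_combination hab + hd
    rw [hεs] at h1
    exact h1.of_mul_right_right
  obtain ⟨u, w, huw⟩ := isCoprime_of_monic_of_isCoprime_map_residue hgm hcop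
  have hfac : f = g * (f * u + w * ε) := by
    have : g * (f * u + w * ε) = f * (u * g + w * s') := by
      calc g * (f * u + w * ε) = f * u * g + w * (ε * g) := by ring
        _ = f * u * g + w * (f * s') := by rw [hs']
        _ = _ := by ring
    rw [this, huw, mul_one]
  refine ⟨g, f * u + w * ε, hfac, hgm, hgmap, ?_⟩
  have h2 := congr_arg (Polynomial.map (residue R)) hfac
  rw [Polynomial.map_mul, hgmap, hf] at h2
  exact (mul_left_cancel₀ hg.ne_zero h2).symm

end Groth.Agent.H3
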