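import Groth.Agent.H3.HenselEtale

set_option autoImplicit false
universe u

namespace Groth.Agent.H3

open Polynomial IsLocalRing

/-- Over a Henselian local ring, coprime monic factorizations of the reduction of a monic
polynomial lift. -/
theorem exists_monic_factorization {R : Type u} [CommRing R] [HenselianLocalRing R]
    (f : R[X]) (hf : f.Monic) (g₀ h₀ : (ResidueField R)[X]) (hg₀ : g₀.Monic) (hh₀ : h₀.Monic)
    (hc : IsCoprime g₀ h₀) (hfac : f.map (residue R) = g₀ * h₀) :
    ∃ g h : R[X], g.Monic ∧ h.Monic ∧ f = g * h ∧ g.map (residue R) = g₀ ∧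
      h.map (residue R) = h₀ := by
  have hn : f.natDegree = g₀.natDegree + h₀.natDegree := by
    have := congr_arg natDegree hfac
    rwa [hf.natDegree_map, hg₀.natDegree_mul hh₀] at this
  let p : MonicDegreeEq R f.natDegree := .mk f hf rfl
  let G₀ : MonicDegreeEq (ResidueField R) g₀.natDegree := .mk g₀ hg₀ rfl
  let H₀ : MonicDegreeEq (ResidueField R) h₀.natDegree := .mk h₀ hh₀ rfl
  let E := UniversalCoprimeFactorizationRing.homEquiv (ResidueField R)
    g₀.natDegree h₀.natDegree hn p
  have hprod : (G₀, H₀).1.1 * (G₀, H₀).2.1 = p.1.map (algebraMap R (ResidueField R)) := by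
    simpa [p, G₀, H₀, ResidueField.algebraMap_eq] using hfac.symm
  let χ := E.symm ⟨(G₀, H₀), hprod, hc⟩
  obtain ⟨σ, hσ⟩ := exists_section_of_etale χ
  let ER := UniversalCoprimeFactorizationRing.homEquiv R g₀.natDegree h₀.natDegree hn p
  let Q := ER σ
  have hEχ : E χ = ⟨(G₀, H₀), hprod, hc⟩ := E.apply_symm_apply _
  refine ⟨Q.1.1.1, Q.1.2.1, Q.1.1.monic, Q.1.2.monic, ?_, ?_, ?_⟩
  · have := Q.2.1
    simpa [p] using this.symm
  · have h1 := UniversalCoprimeFactorizationRing.homEquiv_comp_fst R g₀.natDegree h₀.natDegree hn p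
      σ (IsScalarTower.toAlgHom R R (ResidueField R))
    rw [hσ] at h1
    change (E χ).1.1 = _ at h1
    rw [hEχ] at h1
    have := congr_arg Subtype.val h1
    simpa [G₀, ResidueField.algebraMap_eq] using this.symm
  · have h1 := UniversalCoprimeFactorizationRing.homEquiv_comp_snd R g₀.natDegree h₀.natDegree hn p
      σ (IsScalarTower.toAlgHom R R (ResidueField R))
    rw [hσ] at h1
    change (E χ).1.2 = _ at h1
    rw [hEχ] at h1
    have := congr_arg Subtype.val h1
    simpa [H₀, ResidueField.algebraMap_eq] using this.symm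

end Groth.Agent.H3
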