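import Groth.Agent.H3.HenselFinite
import Groth.Agent.H3.Hensel2
import Mathlib.RingTheory.Etale.StandardEtale
import Mathlib.RingTheory.Etale.Field
import Mathlib.RingTheory.Etale.Pi
import Mathlib.RingTheory.TensorProduct.Pi
import Mathlib.FieldTheory.PrimitiveElement

set_option autoImplicit false
set_option linter.unusedSimpArgs false
set_option linter.unusedVariables false
set_option linter.style.haveILetI false
universe u

namespace Groth.Agent.H3

open IsLocalRing TensorProduct Polynomial

/-- `R[X]/(f)` is étale when `f` is monic with `f'` invertible modulo `f`. -/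
theorem etale_adjoinRoot (R : Type*) [CommRing R] (f : R[X]) (hf : f.Monic)
    (hu : IsUnit (aeval (AdjoinRoot.root f) (derivative f))) : Algebra.Etale R (AdjoinRoot f) := by
  obtain ⟨u, hu1⟩ := hu.exists_right_inv
  obtain ⟨p₁, rfl⟩ := AdjoinRoot.mk_surjective u
  rw [AdjoinRoot.aeval_eq, ← map_mul, ← map_one (AdjoinRoot.mk f), ← sub_eq_zero, ← map_sub,
    AdjoinRoot.mk_eq_zero] at hu1
  obtain ⟨q, hq⟩ := hu1
  let P : StandardEtalePair R :=
    ⟨f, hf, 1, ⟨p₁, -q, 0, by rw [pow_zero]; linear_combination hq⟩⟩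
  have hunits : Submonoid.powers (AdjoinRoot.mk P.f P.g) ≤ IsUnit.submonoid (AdjoinRoot P.f) := by
    rintro _ ⟨n, rfl⟩
    change IsUnit ((AdjoinRoot.mk f (1 : R[X])) ^ n)
    rw [map_one, one_pow]; exact isUnit_one
  let e₂ : AdjoinRoot P.f ≃ₐ[AdjoinRoot P.f] Localization.Away (AdjoinRoot.mk P.f P.g) :=
    IsLocalization.atUnits (AdjoinRoot P.f) (Submonoid.powers (AdjoinRoot.mk P.f P.g)) hunits
  exact Algebra.Etale.of_equiv (P.equivAwayAdjoinRoot.trans (e₂.restrictScalars R).symm)

/-- Over a local ring, a monic polynomial with separable reduction has invertible derivative in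
`R[X]/(f)`. -/
theorem isUnit_aeval_derivative_of_separable (R : Type*) [CommRing R] [IsLocalRing R] (f : R[X])
    (hf : f.Monic) (hsep : (f.map (residue R)).Separable) :
    IsUnit (aeval (AdjoinRoot.root f) (derivative f)) := by
  obtain ⟨a, b, hab⟩ := (Polynomial.separable_def' _).mp hsep
  obtain ⟨a', rfl⟩ := Polynomial.map_surjective (residue R) residue_surjective a
  obtain ⟨b', rfl⟩ := Polynomial.map_surjective (residue R) residue_surjective b
  obtain ⟨c, hc⟩ : ∃ c : R[X], c = a' * f + b' * derivative f - 1 := ⟨_, rfl⟩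
  have hcmap : c.map (residue R) = 0 := by
    rw [hc, Polynomial.map_sub, Polynomial.map_add, Polynomial.map_mul, Polynomial.map_mul,
      Polynomial.map_one, ← Polynomial.derivative_map, hab, sub_self]
  haveI : Module.Finite R (AdjoinRoot f) := hf.finite_adjoinRoot
  haveI : Algebra.IsIntegral R (AdjoinRoot f) := Algebra.IsIntegral.of_finite R _
  obtain ⟨x, hx⟩ : ∃ x, x = AdjoinRoot.root f := ⟨_, rfl⟩
  rw [← hx]
  have hcx : aeval x c ∈ (maximalIdeal R).map (algebraMap R (AdjoinRoot f)) :=
    aeval_mem_map_of_map_eq_zero x c hcmap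
  have hfx : aeval x f = 0 := by rw [hx, AdjoinRoot.aeval_eq, AdjoinRoot.mk_self]
  have h1 : aeval x c = aeval x b' * aeval x (derivative f) - 1 := by
    rw [hc]
    simp only [map_sub, map_add, map_mul, map_one, hfx, mul_zero, zero_add]
  have hjac : (maximalIdeal R).map (algebraMap R (AdjoinRoot f)) ≤ Ideal.jacobson ⊥ :=
    map_le_jacobson_of_isIntegral _ (IsLocalRing.jacobson_eq_maximalIdeal ⊥ bot_ne_top).ge
  have hu : IsUnit (aeval x b' * aeval x (derivative f)) := by
    refine isUnit_of_sub_mem _ hjac isUnit_one ?_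
    have : (1 : AdjoinRoot f) - aeval x b' * aeval x (derivative f) = -(aeval x c) := by
      rw [h1]; ring
    rw [this]; exact neg_mem hcx
  exact isUnit_of_mul_isUnit_right hu

/-- The closed fibre of `R[X]/(f)` is the field generated by a root of the reduction of `f`. -/
theorem tensor_adjoinRoot_equiv (R : Type u) [CommRing R] [IsLocalRing R] (K : Type u) [Field K]
    [Algebra (ResidueField R) K] (pb : PowerBasis (ResidueField R) K) (f : R[X]) (hf : f.Monic)
    (hfg : f.map (residue R) = minpoly (ResidueField R) pb.gen) :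
    Nonempty ((ResidueField R) ⊗[R] AdjoinRoot f ≃ₐ[ResidueField R] K) := by
  letI : Algebra R K := ((algebraMap (ResidueField R) K).comp (residue R)).toAlgebra
  haveI : IsScalarTower R (ResidueField R) K := IsScalarTower.of_algebraMap_eq (fun _ => rfl)
  have h0 : f.eval₂ (algebraMap R K) pb.gen = 0 := by
    have h1 : algebraMap R K = (algebraMap (ResidueField R) K).comp (residue R) := rfl
    rw [h1, ← Polynomial.eval₂_map, hfg, ← Polynomial.aeval_def, minpoly.aeval]
  let φ₀ : AdjoinRoot f →ₐ[R] K :=
    { AdjoinRoot.lift (algebraMap R K) pb.gen h0 with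
      commutes' := fun r => by
        rw [AdjoinRoot.algebraMap_eq]
        exact AdjoinRoot.lift_of h0 }
  have hφ₀root : φ₀ (AdjoinRoot.root f) = pb.gen := AdjoinRoot.lift_root h0
  let Φ : (ResidueField R) ⊗[R] AdjoinRoot f →ₐ[ResidueField R] K :=
    Algebra.TensorProduct.lift (Algebra.ofId (ResidueField R) K) φ₀ (fun _ _ => Commute.all _ _)
  have hsurj : Function.Surjective Φ := by
    have h1 : (⊤ : Subalgebra (ResidueField R) K) ≤ Φ.range := by
      rw [← pb.adjoin_gen_eq_top]
      apply Algebra.adjoin_le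
      intro y hy
      rw [Set.mem_singleton_iff] at hy
      rw [hy]
      refine ⟨(1 : ResidueField R) ⊗ₜ[R] AdjoinRoot.root f, ?_⟩
      change Φ ((1 : ResidueField R) ⊗ₜ[R] AdjoinRoot.root f) = pb.gen
      rw [Algebra.TensorProduct.lift_tmul, map_one, one_mul, hφ₀root]
    intro y
    exact h1 Algebra.mem_top
  haveI : Module.Finite R (AdjoinRoot f) := hf.finite_adjoinRoot
  haveI : Module.Free R (AdjoinRoot f) := Module.Free.of_basis (AdjoinRoot.powerBasis' hf).basis
  haveI : FiniteDimensional (ResidueField R) K := pb.finite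
  have hrank : Module.finrank (ResidueField R) ((ResidueField R) ⊗[R] AdjoinRoot f) =
      Module.finrank (ResidueField R) K := by
    rw [Module.finrank_baseChange, (AdjoinRoot.powerBasis' hf).finrank, AdjoinRoot.powerBasis'_dim,
      pb.finrank, ← pb.natDegree_minpoly, ← hfg, hf.natDegree_map]
  have hinj : Function.Injective Φ :=
    (LinearMap.injective_iff_surjective_of_finrank_eq_finrank hrank (f := Φ.toLinearMap)).mpr hsurj
  exact ⟨AlgEquiv.ofBijective Φ ⟨hinj, hsurj⟩⟩

theorem exists_finite_etale_lift_of_isLocalRing (R : Type u) [CommRing R] [IsLocalRing R]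
    (A : Type u) [CommRing A] [Algebra (ResidueField R) A] [Module.Finite (ResidueField R) A]
    [Algebra.Etale (ResidueField R) A] :
    ∃ (S : Type u) (_ : CommRing S) (_ : Algebra R S), Module.Finite R S ∧ Algebra.Etale R S ∧
      Nonempty ((ResidueField R) ⊗[R] S ≃ₐ[ResidueField R] A) := by
  classical
  obtain ⟨I, hI, Ai, hAi, hAlg, e, hfs⟩ :=
    (Algebra.Etale.iff_exists_algEquiv_prod (ResidueField R) A).mp inferInstance
  haveI := Fintype.ofFinite I
  have key : ∀ i, ∃ f : R[X], f.Monic ∧ IsUnit (aeval (AdjoinRoot.root f) (derivative f)) ∧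
      Nonempty ((ResidueField R) ⊗[R] AdjoinRoot f ≃ₐ[ResidueField R] Ai i) := by
    intro i
    haveI := (hfs i).1
    haveI := (hfs i).2
    obtain ⟨pb, hpb⟩ : ∃ pb : PowerBasis (ResidueField R) (Ai i),
        pb = Field.powerBasisOfFiniteOfSeparable (ResidueField R) (Ai i) := ⟨_, rfl⟩
    have hsep : (minpoly (ResidueField R) pb.gen).Separable :=
      Algebra.IsSeparable.isSeparable _ _
    have hmon : (minpoly (ResidueField R) pb.gen).Monic :=
      minpoly.monic (Algebra.IsIntegral.isIntegral _)
    obtain ⟨f, hfmap, -, hfmonic⟩ := Polynomial.lifts_and_natDegree_eq_and_monic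
      ((Polynomial.mem_lifts _).mpr
        (Polynomial.map_surjective (residue R) residue_surjective _)) hmon
    exact ⟨f, hfmonic, isUnit_aeval_derivative_of_separable R f hfmonic (hfmap ▸ hsep),
      tensor_adjoinRoot_equiv R (Ai i) pb f hfmonic hfmap⟩
  choose f hfm hfu hfe using key
  haveI : ∀ i, Algebra.Etale R (AdjoinRoot (f i)) :=
    fun i => etale_adjoinRoot R (f i) (hfm i) (hfu i)
  haveI : ∀ i, Module.Finite R (AdjoinRoot (f i)) := fun i => (hfm i).finite_adjoinRoot
  refine ⟨∀ i, AdjoinRoot (f i), inferInstance, inferInstance, inferInstance, inferInstance,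
    ⟨?_⟩⟩
  exact ((Algebra.TensorProduct.piRight R (ResidueField R) (ResidueField R)
    (fun i => AdjoinRoot (f i))).trans
      (AlgEquiv.piCongrRight fun i => (hfe i).some)).trans e.symm

end Groth.Agent.H3
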