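import Groth.Agent.H3.PH10
import Groth.Agent.H25.DirLimNoeth

set_option autoImplicit false
set_option linter.style.haveILetI false
set_option linter.unusedSimpArgs false
set_option linter.unusedVariables false
universe u

namespace Groth.Agent.H3.PH

open Groth.Agent.H3

section Completion

variable {R : Type*} [CommRing R] (I : Ideal R) {M N : Type*} [AddCommGroup M] [Module R M]
  [AddCommGroup N] [Module R N]

/-- A linear map which is bijective modulo every power of `I` induces a bijection on completions. -/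
theorem adicCompletion_map_bijective (f : M →ₗ[R] N)
    (h : ∀ n : ℕ, Function.Bijective (f.reduceModIdeal (I ^ n))) :
    Function.Bijective (AdicCompletion.map I f) := by
  constructor
  · rw [injective_iff_map_eq_zero]
    intro x hx
    apply AdicCompletion.ext
    intro n
    have h1 : (AdicCompletion.map I f x).val n = 0 := by rw [hx]; rfl
    rw [AdicCompletion.map_val_apply] at h1
    have h2 := (h n).1 (h1.trans (map_zero _).symm)
    rw [h2]
    rfl
  · intro y
    choose x hx using fun n => (h n).2 (y.val n)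
    have hcompat : ∀ {m n : ℕ} (hmn : m ≤ n),
        AdicCompletion.transitionMap I M hmn (x n) = x m := by
      intro m n hmn
      apply (h m).1
      have h1 := LinearMap.congr_fun (AdicCompletion.transitionMap_comp_reduceModIdeal I f hmn)
        (x n)
      simp only [LinearMap.comp_apply] at h1
      have h2 : (f.reduceModIdeal (I ^ m)) (AdicCompletion.transitionMap I M hmn (x n)) =
          AdicCompletion.transitionMap I N hmn ((f.reduceModIdeal (I ^ n)) (x n)) := h1.symm
      rw [h2, hx n, hx m]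
      exact y.2 hmn
    refine ⟨⟨x, hcompat⟩, ?_⟩
    apply AdicCompletion.ext
    intro n
    rw [AdicCompletion.map_val_apply]
    exact hx n

end Completion

variable {A : Type u} [CommRing A] (I : Ideal A)

/-- Ideals of an étale neighbourhood containing a power of `I` are contracted from the
henselization. -/
theorem comap_map_le_of_pow_le (B : Type u) [CommRing B] [Algebra A B]
    (hB : Hens2.IsPairHenselization A I B) (𝔞 : Ideal A) (k : ℕ) (hk : I ^ k ≤ 𝔞) :
    (𝔞.map (algebraMap A B)).comap (algebraMap A B) ≤ 𝔞 := by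
  intro y hy
  rw [Ideal.mem_comap] at hy
  have hbij := quotientMap_pow_bijective I B hB k
  have h1 : Ideal.Quotient.mk ((I ^ k).map (algebraMap A B)) (algebraMap A B y) ∈
      (𝔞.map (Ideal.Quotient.mk (I ^ k))).map
        (Ideal.quotientMap ((I ^ k).map (algebraMap A B)) (algebraMap A B) Ideal.le_comap_map) := by
    have h2 := Ideal.mem_map_of_mem (Ideal.Quotient.mk ((I ^ k).map (algebraMap A B))) hy
    rw [Ideal.map_map] at h2
    rw [Ideal.map_map]
    have h3 : (Ideal.quotientMap ((I ^ k).map (algebraMap A B)) (algebraMap A B)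
        Ideal.le_comap_map).comp (Ideal.Quotient.mk (I ^ k)) =
        (Ideal.Quotient.mk ((I ^ k).map (algebraMap A B))).comp (algebraMap A B) := by
      apply RingHom.ext
      intro a
      rfl
    rw [h3]
    exact h2
  obtain ⟨z, hz, hzy⟩ := (Ideal.mem_map_iff_of_surjective _ hbij.2).mp h1
  have h4 : z = Ideal.Quotient.mk (I ^ k) y := hbij.1 (by rw [hzy]; rfl)
  rw [h4] at hz
  obtain ⟨a, ha, hay⟩ := (Ideal.mem_map_iff_of_surjective _ Ideal.Quotient.mk_surjective).mp hz
  have h5 : y - a ∈ I ^ k := by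
    rw [← Ideal.Quotient.eq_zero_iff_mem, map_sub, hay, sub_self]
  have : y = a + (y - a) := by ring
  rw [this]
  exact 𝔞.add_mem ha (hk h5)

/-- The henselization of a Noetherian pair is Noetherian. -/
theorem isNoetherianRing_of_isPairHenselization [IsNoetherianRing A] (B : Type u) [CommRing B]
    [Algebra A B] (hB : Hens2.IsPairHenselization A I B) : IsNoetherianRing B := by
  classical
  haveI hBh := hB.1
  have hnfg : (I.map (algebraMap A B)).FG :=
    Ideal.FG.map ((isNoetherianRing_iff_ideal_fg A).mp inferInstance I) _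
  haveI : IsNoetherianRing (B ⧸ I.map (algebraMap A B)) := by
    refine isNoetherianRing_of_surjective A _
      ((Ideal.Quotient.mk (I.map (algebraMap A B))).comp (algebraMap A B)) ?_
    intro q
    obtain ⟨b, rfl⟩ := Ideal.Quotient.mk_surjective q
    obtain ⟨a, ha⟩ := exists_sub_mem_map_of_isPairHenselization I B hB b
    refine ⟨a, ?_⟩
    rw [RingHom.comp_apply, eq_comm, ← sub_eq_zero, ← map_sub, Ideal.Quotient.eq_zero_iff_mem]
    exact ha
  refine Groth.Agent.H25.DirLimNoeth.isNoetherianRing_of_fg_closed (I.map (algebraMap A B)) hnfg ?_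
  intro 𝔟 h𝔟 x hx
  obtain ⟨s, rfl⟩ := h𝔟
  obtain ⟨A', i1, i2, i3, hq, φ, hφ⟩ := exists_nbhd_rep_finset I B hB (insert x s)
  haveI : Algebra.FiniteType A A' := inferInstance
  haveI : IsNoetherianRing A' := Algebra.FiniteType.isNoetherianRing A A'
  letI : Algebra A' B := φ.toRingHom.toAlgebra
  haveI : IsScalarTower A A' B := IsScalarTower.of_algebraMap_eq (fun a => (φ.commutes a).symm)
  have hB' : Hens2.IsPairHenselization A' (I.map (algebraMap A A')) B :=
    isPairHenselization_of_nbhd I B hB A' hq
  have halg : ∀ a' : A', algebraMap A' B a' = φ a' := fun _ => rfl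
  obtain ⟨x', hx'⟩ := hφ x (Finset.mem_insert_self _ _)
  choose! s' hs' using fun y (hy : y ∈ s) => hφ y (Finset.mem_insert_of_mem hy)
  obtain ⟨𝔟', h𝔟'def⟩ : ∃ 𝔟' : Ideal A', 𝔟' = Ideal.span (s' '' (s : Set B)) := ⟨_, rfl⟩
  have h𝔟' : 𝔟'.map (algebraMap A' B) = Ideal.span (s : Set B) := by
    rw [h𝔟'def, Ideal.map_span, ← Set.image_comp]
    congr 1
    ext y
    constructor
    · rintro ⟨z, hz, rfl⟩
      simpa [halg, hs' z hz] using hz
    · intro hy
      exact ⟨y, hy, by simp [halg, hs' y hy]⟩
  have hJ : (I.map (algebraMap A A')).map (algebraMap A' B) = I.map (algebraMap A B) := by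
    rw [Ideal.map_map, ← IsScalarTower.algebraMap_eq]
  -- `x'` lies in the closure of `𝔟'`
  have hkey : ∀ k, x' ∈ 𝔟' ⊔ (I.map (algebraMap A A')) ^ k := by
    intro k
    apply comap_map_le_of_pow_le (I.map (algebraMap A A')) B hB' _ k le_sup_right
    rw [Ideal.mem_comap, Ideal.map_sup, Ideal.map_pow, h𝔟', hJ, halg, hx']
    exact hx k
  -- Krull's intersection theorem
  have hkrull : ∃ r ∈ I.map (algebraMap A A'), (1 - r) * x' ∈ 𝔟' := by
    have hmem : (Ideal.Quotient.mk 𝔟' x' : A' ⧸ 𝔟') ∈
        (⨅ i : ℕ, (I.map (algebraMap A A')) ^ i • ⊤ : Submodule A' (A' ⧸ 𝔟')) := by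
      rw [Submodule.mem_iInf]
      intro k
      obtain ⟨b, hb, c, hc, hbc⟩ := Submodule.mem_sup.mp (hkey k)
      have : (Ideal.Quotient.mk 𝔟' x' : A' ⧸ 𝔟') = c • (1 : A' ⧸ 𝔟') := by
        rw [← hbc, map_add, Ideal.Quotient.eq_zero_iff_mem.mpr hb, zero_add, Algebra.smul_def,
          mul_one]
        rfl
      rw [this]
      exact Submodule.smul_mem_smul hc Submodule.mem_top
    obtain ⟨r, hr⟩ := (Ideal.mem_iInf_smul_pow_eq_bot_iff (I.map (algebraMap A A'))
      (Ideal.Quotient.mk 𝔟' x' : A' ⧸ 𝔟')).mp hmem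
    refine ⟨r.1, r.2, ?_⟩
    rw [← Ideal.Quotient.eq_zero_iff_mem, map_mul, map_sub, map_one, sub_mul, one_mul,
      sub_eq_zero]
    rw [Algebra.smul_def] at hr
    exact hr.symm
  obtain ⟨r, hr, hrx⟩ := hkrull
  have hunit : IsUnit (algebraMap A' B (1 - r)) := by
    have h1 : algebraMap A' B r ∈ I.map (algebraMap A B) := by
      rw [← hJ]
      exact Ideal.mem_map_of_mem _ hr
    have h2 := Ideal.mem_jacobson_bot.mp (hBh.jac h1) (-1)
    have : algebraMap A' B (1 - r) = algebraMap A' B r * -1 + 1 := by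
      rw [map_sub, map_one]
      ring
    rw [this]
    exact h2
  have h3 : algebraMap A' B (1 - r) * x ∈ Ideal.span (s : Set B) := by
    rw [← h𝔟', ← hx', ← halg, ← map_mul]
    exact Ideal.mem_map_of_mem _ hrx
  obtain ⟨u, hu⟩ := hunit
  have : x = ((u⁻¹ : Bˣ) : B) * (algebraMap A' B (1 - r) * x) := by
    rw [← hu, ← mul_assoc, Units.inv_mul, one_mul]
  rw [this]
  exact Ideal.mul_mem_left _ _ h3

/-- The henselization of a pair induces an isomorphism on adic completions. -/
theorem adicCompletion_map_bijective_of_isPairHenselization (B : Type u) [CommRing B]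
    [Algebra A B] (hB : Hens2.IsPairHenselization A I B) :
    Function.Bijective (AdicCompletion.map I (Algebra.linearMap A B) :
      AdicCompletion I A → AdicCompletion I B) := by
  apply adicCompletion_map_bijective
  intro n
  have hbij := quotientMap_pow_bijective I B hB n
  have hmemB : ∀ b : B, b ∈ (I ^ n • ⊤ : Submodule A B) ↔ b ∈ (I ^ n).map (algebraMap A B) := by
    intro b
    rw [Ideal.smul_top_eq_map, Submodule.restrictScalars_mem]
  have hmemA : ∀ a : A, a ∈ (I ^ n • ⊤ : Submodule A A) ↔ a ∈ I ^ n := by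
    intro a
    rw [Ideal.smul_top_eq_map, Submodule.restrictScalars_mem, Algebra.algebraMap_self,
      Ideal.map_id]
  constructor
  · rw [injective_iff_map_eq_zero]
    intro q hq
    obtain ⟨a, rfl⟩ := Submodule.Quotient.mk_surjective _ q
    rw [LinearMap.reduceModIdeal_apply, Submodule.Quotient.mk_eq_zero, hmemB] at hq
    rw [Submodule.Quotient.mk_eq_zero, hmemA]
    have h1 : Ideal.quotientMap ((I ^ n).map (algebraMap A B)) (algebraMap A B)
        Ideal.le_comap_map (Ideal.Quotient.mk (I ^ n) a) = 0 := by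
      show Ideal.Quotient.mk _ (algebraMap A B a) = 0
      exact Ideal.Quotient.eq_zero_iff_mem.mpr hq
    have h2 := hbij.1 (h1.trans (map_zero _).symm)
    exact Ideal.Quotient.eq_zero_iff_mem.mp h2
  · intro q
    obtain ⟨b, rfl⟩ := Submodule.Quotient.mk_surjective _ q
    obtain ⟨z, hz⟩ := hbij.2 (Ideal.Quotient.mk _ b)
    obtain ⟨a, rfl⟩ := Ideal.Quotient.mk_surjective z
    refine ⟨Submodule.Quotient.mk a, ?_⟩
    rw [LinearMap.reduceModIdeal_apply, eq_comm, ← sub_eq_zero, ← Submodule.Quotient.mk_sub,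
      Submodule.Quotient.mk_eq_zero, hmemB]
    have h1 : Ideal.Quotient.mk ((I ^ n).map (algebraMap A B)) (algebraMap A B a) =
        Ideal.Quotient.mk _ b := hz
    rw [← Ideal.Quotient.eq_zero_iff_mem, map_sub, ← h1]
    exact sub_self _

end Groth.Agent.H3.PH
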