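import Mathlib.Algebra.Homology.HomotopyCategory.KInjective
import Mathlib.Algebra.Homology.HomotopyCategory.MappingCone
import Mathlib.CategoryTheory.Limits.Shapes.Products

set_option autoImplicit false
universe u v

namespace Groth.Agent.H3

open CategoryTheory Limits CochainComplex HomComplex

variable {A : Type u} [Category.{v} A] [Abelian A]

/-- A morphism which factors through the cone of the identity is null-homotopic. -/
noncomputable def homotopyInrZero (K : CochainComplex A ℤ) :
    Homotopy (mappingCone.inr (𝟙 K)) 0 :=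
  (Cochain.equivHomotopy _ _).symm ⟨mappingCone.inl (𝟙 K), by simp [mappingCone.δ_inl]⟩

theorem exists_desc_of_homotopy {K L : CochainComplex A ℤ} (f : K ⟶ L) (ho : Homotopy f 0) :
    ∃ g : mappingCone (𝟙 K) ⟶ L, mappingCone.inr (𝟙 K) ≫ g = f := by
  obtain ⟨z, hz⟩ := Cochain.equivHomotopy _ _ ho
  have hz' : δ (-1) 0 z = Cochain.ofHom (𝟙 K ≫ f) := by
    rw [Category.id_comp, hz]
    simp
  exact ⟨mappingCone.desc (𝟙 K) z f hz', mappingCone.inr_desc _ _ _ _⟩

theorem nonempty_homotopy_zero_of_factors {K L : CochainComplex A ℤ} (f : K ⟶ L)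
    (g : mappingCone (𝟙 K) ⟶ L) (hg : mappingCone.inr (𝟙 K) ≫ g = f) :
    Nonempty (Homotopy f 0) :=
  ⟨(Homotopy.ofEq hg.symm).trans (((homotopyInrZero K).compRight g).trans
    (Homotopy.ofEq (by simp)))⟩

theorem isKInjective_pi {T : Type*} (I : T → CochainComplex A ℤ)
    [HasProduct I] (h : ∀ t, (I t).IsKInjective) : (∏ᶜ I).IsKInjective where
  nonempty_homotopy_zero {K} f hK := by
    have hz : ∀ t, ∃ g : mappingCone (𝟙 K) ⟶ I t,
        mappingCone.inr (𝟙 K) ≫ g = f ≫ Pi.π I t := by
      intro t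
      obtain ⟨ho⟩ := (h t).nonempty_homotopy_zero (f ≫ Pi.π I t) hK
      exact exists_desc_of_homotopy _ ho
    choose g hg using hz
    refine nonempty_homotopy_zero_of_factors f (Pi.lift g) ?_
    apply Pi.hom_ext
    intro t
    rw [Category.assoc, Pi.lift_π, hg]

end Groth.Agent.H3

namespace Groth.Agent.H3

open CategoryTheory Limits CochainComplex HomComplex

variable {A : Type u} [Category.{v} A] [Abelian A] {B : Type*} [Category B] [Abelian B]

theorem acyclic_map_of_exact (w : B ⥤ A) [w.Additive] [PreservesFiniteLimits w]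
    [PreservesFiniteColimits w] (K : CochainComplex B ℤ) (hK : K.Acyclic) :
    ((w.mapHomologicalComplex (ComplexShape.up ℤ)).obj K).Acyclic := by
  intro i
  exact (hK i).map w

theorem adj_aux1 (u : A ⥤ B) (w : B ⥤ A) (adj : w ⊣ u) {X X' : B} {Y Y' : A}
    (a : X ⟶ u.obj Y) (a' : X' ⟶ u.obj Y') (dK : X ⟶ X') (dI : Y ⟶ Y')
    (h1 : a ≫ u.map dI = dK ≫ a') :
    (w.map a ≫ adj.counit.app Y) ≫ dI = w.map dK ≫ (w.map a' ≫ adj.counit.app Y') := by
  rw [Category.assoc, ← adj.counit_naturality dI, ← Category.assoc, ← w.map_comp, h1, w.map_comp,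
    Category.assoc]

theorem adj_aux2 (u : A ⥤ B) (w : B ⥤ A) (adj : w ⊣ u) {X : B} {Y : A} (a : X ⟶ u.obj Y) :
    a = adj.unit.app X ≫ u.map (w.map a ≫ adj.counit.app Y) := by
  rw [u.map_comp, ← Category.assoc, adj.unit_naturality a, Category.assoc,
    adj.right_triangle_components, Category.comp_id]

theorem isKInjective_of_rightAdjoint (u : A ⥤ B) (w : B ⥤ A) (adj : w ⊣ u)
    [u.Additive] [w.Additive] [PreservesFiniteLimits w] [PreservesFiniteColimits w]
    (I : CochainComplex A ℤ) (h : I.IsKInjective) :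
    CochainComplex.IsKInjective ((u.mapHomologicalComplex (ComplexShape.up ℤ)).obj I) where
  nonempty_homotopy_zero {K} f hK := by
    let f' : (w.mapHomologicalComplex (ComplexShape.up ℤ)).obj K ⟶ I :=
      { f := fun n => w.map (f.f n) ≫ adj.counit.app (I.X n)
        comm' := fun i j _ => adj_aux1 u w adj (f.f i) (f.f j) (K.d i j) (I.d i j) (f.comm i j) }
    obtain ⟨ho⟩ := h.nonempty_homotopy_zero f' (acyclic_map_of_exact w K hK)
    let η : K ⟶ (u.mapHomologicalComplex (ComplexShape.up ℤ)).obj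
        ((w.mapHomologicalComplex (ComplexShape.up ℤ)).obj K) :=
      { f := fun n => adj.unit.app (K.X n)
        comm' := fun i j _ => (adj.unit.naturality (K.d i j)).symm }
    have hf : f = η ≫ (u.mapHomologicalComplex (ComplexShape.up ℤ)).map f' := by
      ext n
      exact adj_aux2 u w adj (f.f n)
    refine ⟨(Homotopy.ofEq hf).trans ((((u.mapHomotopy ho).compLeft η)).trans
      (Homotopy.ofEq (by simp)))⟩

end Groth.Agent.H3
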