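import Groth.Agent.H3.HenselEtale

set_option autoImplicit false
set_option linter.style.haveILetI false
set_option linter.unusedSimpArgs false
set_option linter.unusedVariables false
universe u

namespace Groth.Agent.H3

open Polynomial IsLocalRing TensorProduct

/-- Sections of an étale algebra over a local ring are determined by their reduction. -/
theorem section_unique_of_etale {R : Type u} [CommRing R] [IsLocalRing R]
    {A : Type u} [CommRing A] [Algebra R A] [Algebra.Etale R A] (σ₁ σ₂ : A →ₐ[R] R)
    (h : (IsScalarTower.toAlgHom R R (ResidueField R)).comp σ₁ =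
      (IsScalarTower.toAlgHom R R (ResidueField R)).comp σ₂) : σ₁ = σ₂ := by
  classical
  set res := IsScalarTower.toAlgHom R R (ResidueField R) with hres
  set χ := res.comp σ₁ with hχ
  let q : Ideal A := RingHom.ker χ.toRingHom
  have hq : q.IsPrime := RingHom.ker_isPrime _
  have het : Algebra.IsEtaleAt R q := by
    have h1 : Algebra.etaleLocus R A = Set.univ :=
      Algebra.etaleLocus_eq_univ_iff.mpr inferInstance
    exact (Set.eq_univ_iff_forall.mp h1 ⟨q, hq⟩)
  obtain ⟨f₀, hf₀, hstd⟩ := Algebra.IsEtaleAt.exists_isStandardEtale (R := R) q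
  obtain ⟨P⟩ := hstd.nonempty_standardEtalePresentation
  have hχf₀ : χ f₀ ≠ 0 := fun h0 => hf₀ h0
  have hu : ∀ σ : A →ₐ[R] R, res.comp σ = χ → IsUnit (σ f₀) := by
    intro σ hσ
    by_contra hnu
    have h1 : residue R (σ f₀) = 0 := (residue_eq_zero_iff _).mpr hnu
    apply hχf₀
    rw [← hσ]
    exact h1
  have key : ∀ σ : A →ₐ[R] R, res.comp σ = χ → ∃ σ' : Localization.Away f₀ →ₐ[R] R,
      σ'.comp (IsScalarTower.toAlgHom R A (Localization.Away f₀)) = σ ∧
      residue R (σ' P.x) = (IsLocalization.Away.liftAlgHom (f := χ) f₀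
        (isUnit_iff_ne_zero.mpr hχf₀) : Localization.Away f₀ →ₐ[R] ResidueField R) P.x := by
    intro σ hσ
    let σ' : Localization.Away f₀ →ₐ[R] R := IsLocalization.Away.liftAlgHom (f := σ) f₀ (hu σ hσ)
    have h1 : σ'.comp (IsScalarTower.toAlgHom R A (Localization.Away f₀)) = σ := by
      ext a; simp [σ']
    refine ⟨σ', h1, ?_⟩
    have h2 : res.comp σ' = (IsLocalization.Away.liftAlgHom (f := χ) f₀
        (isUnit_iff_ne_zero.mpr hχf₀) : Localization.Away f₀ →ₐ[R] ResidueField R) := by
      apply IsLocalization.algHom_ext (.powers f₀)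
      ext a
      have := AlgHom.congr_fun hσ a
      change res (IsLocalization.Away.lift (g := (σ : A →+* R)) f₀ (hu σ hσ)
          (algebraMap A (Localization.Away f₀) a)) =
        IsLocalization.Away.lift (g := (χ : A →+* ResidueField R)) f₀
          (isUnit_iff_ne_zero.mpr hχf₀) (algebraMap A (Localization.Away f₀) a)
      rw [IsLocalization.Away.lift_eq, IsLocalization.Away.lift_eq]
      exact this
    exact AlgHom.congr_fun h2 P.x
  obtain ⟨σ₁', h11, h12⟩ := key σ₁ rfl
  obtain ⟨σ₂', h21, h22⟩ := key σ₂ h.symm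
  have hm1 : P.HasMap (σ₁' P.x) := P.hasMap.map σ₁'
  have hm2 : P.HasMap (σ₂' P.x) := P.hasMap.map σ₂'
  have hx : σ₁' P.x = σ₂' P.x := by
    apply IsLocalRing.eq_of_eval_eq_zero_of_not_isUnit_sub (f := P.f)
    · simpa using hm1.1
    · simpa using hm2.1
    · have : residue R (σ₁' P.x - σ₂' P.x) = 0 := by rw [map_sub, h12, h22, sub_self]
      exact (residue_eq_zero_iff _).mp this
    · simpa using hm1.isUnit_derivative_f
  have : σ₁' = σ₂' := P.hom_ext hx
  rw [← h11, ← h21, this]

/-- Existence and uniqueness of étale lifts into Henselian local rings. -/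
theorem existsUnique_algHom_of_etale (R : Type u) [CommRing R]
    (S : Type u) [CommRing S] [HenselianLocalRing S] [Algebra R S]
    (A : Type u) [CommRing A] [Algebra R A] [Algebra.Etale R A] (q : Ideal A) [q.IsPrime]
    (τ : q.ResidueField →+* ResidueField S)
    (hτ : τ.comp (algebraMap R q.ResidueField) = (residue S).comp (algebraMap R S)) :
    ∃! f : A →ₐ[R] S, Ideal.comap f.toRingHom (maximalIdeal S) = q ∧
      ∀ a : A, residue S (f a) = τ (algebraMap A q.ResidueField a) := by
  let χ₀ : A →ₐ[R] ResidueField S :=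
    { toRingHom := τ.comp (algebraMap A q.ResidueField)
      commutes' := fun r => by
        have h1 := RingHom.congr_fun hτ r
        simp only [RingHom.comp_apply] at h1
        simp only [RingHom.toMonoidHom_eq_coe, OneHom.toFun_eq_coe, MonoidHom.toOneHom_coe,
          MonoidHom.coe_coe, RingHom.comp_apply]
        rw [← IsScalarTower.algebraMap_apply R A q.ResidueField, h1,
          IsScalarTower.algebraMap_apply R S (ResidueField S), ResidueField.algebraMap_eq] }
  have hχ₀ : ∀ a, χ₀ a = τ (algebraMap A q.ResidueField a) := fun a => rfl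
  let χ : S ⊗[R] A →ₐ[S] ResidueField S :=
    Algebra.TensorProduct.lift (Algebra.ofId S (ResidueField S)) χ₀ (fun _ _ => Commute.all _ _)
  set res := IsScalarTower.toAlgHom S S (ResidueField S) with hres
  have hlift : ∀ f : A →ₐ[R] S, (∀ a : A, residue S (f a) = τ (algebraMap A q.ResidueField a)) →
      res.comp (Algebra.TensorProduct.lift (AlgHom.id S S) f (fun _ _ => Commute.all _ _)) = χ := by
    intro f hf
    apply Algebra.TensorProduct.ext'
    intro s a
    simp only [AlgHom.comp_apply, Algebra.TensorProduct.lift_tmul, AlgHom.id_apply, map_mul, χ]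
    have h1 : res (f a) = χ₀ a := by rw [hχ₀, ← hf a]; rfl
    rw [h1]
    rfl
  obtain ⟨σ, hσ⟩ := exists_section_of_etale χ
  let f : A →ₐ[R] S := (σ.restrictScalars R).comp Algebra.TensorProduct.includeRight
  have hfres : ∀ a : A, residue S (f a) = τ (algebraMap A q.ResidueField a) := by
    intro a
    have h1 := AlgHom.congr_fun hσ ((1 : S) ⊗ₜ[R] a)
    simp only [AlgHom.comp_apply, χ, Algebra.TensorProduct.lift_tmul, map_one, one_mul] at h1
    rw [← hχ₀, ← h1]
    rfl
  have hcomap : ∀ g : A →ₐ[R] S,
      (∀ a : A, residue S (g a) = τ (algebraMap A q.ResidueField a)) →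
      Ideal.comap g.toRingHom (maximalIdeal S) = q := by
    intro g hg
    ext x
    rw [Ideal.mem_comap, ← residue_eq_zero_iff]
    change residue S (g x) = 0 ↔ _
    rw [hg x, map_eq_zero_iff τ τ.injective, Ideal.algebraMap_residueField_eq_zero]
  refine ⟨f, ⟨hcomap f hfres, hfres⟩, ?_⟩
  rintro g ⟨-, hg⟩
  have h1 := hlift g hg
  have h2 : Algebra.TensorProduct.lift (AlgHom.id S S) g (fun _ _ => Commute.all _ _) = σ :=
    section_unique_of_etale _ _ (h1.trans hσ.symm)
  have h3 := Algebra.TensorProduct.lift_comp_includeRight (AlgHom.id S S) g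
    (fun _ _ => Commute.all _ _)
  rw [← h3, h2]

end Groth.Agent.H3
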