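import Groth.Prelude.Def_Smoothing
import Mathlib

/-!
# General lemmas for the desingularization lemma (helper3)

Chain rule and second-order Taylor expansion for `MvPolynomial.aeval`, a right pseudo-inverse from
a combination of maximal minors, and an annihilator computation in flat modules.
-/

set_option autoImplicit false
universe u

namespace Groth.Agent.H3.Desing

open MvPolynomial

/-- Chain rule for `aeval`. -/
theorem pderiv_aeval {R : Type*} [CommRing R] {I K : Type*} [Fintype I]
    (ξ : I → MvPolynomial K R) (k : K) (f : MvPolynomial I R) :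
    pderiv k (aeval ξ f) = ∑ i, aeval ξ (pderiv i f) * pderiv k (ξ i) := by
  classical
  induction f using MvPolynomial.induction_on with
  | C a => simp
  | add p q hp hq => simp only [map_add, hp, hq, add_mul, Finset.sum_add_distrib]
  | mul_X p j hp =>
    simp only [map_mul, aeval_X, Derivation.leibniz, smul_eq_mul, hp, pderiv_X, map_add,
      add_mul, Finset.sum_add_distrib]
    have h1 : ∑ i, aeval ξ p * aeval ξ (Pi.single (M := fun _ => MvPolynomial I R) i 1 j) *
        pderiv k (ξ i) = aeval ξ p * pderiv k (ξ j) := by
      rw [Finset.sum_eq_single j]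
      · simp
      · intro i _ hij
        have : (Pi.single (M := fun _ => MvPolynomial I R) i 1 j) = 0 :=
          Pi.single_eq_of_ne (Ne.symm hij) _
        rw [this, map_zero, mul_zero, zero_mul]
      · intro h; exact (h (Finset.mem_univ j)).elim
    rw [h1, Finset.mul_sum]
    congr 1
    exact Finset.sum_congr rfl fun i _ => by ring

/-- Second order Taylor expansion of `aeval` at `r + p η`. -/
theorem taylor2 {R T : Type*} [CommRing R] [CommRing T] [Algebra R T] {I : Type*} [Fintype I]
    (r : I → R) (p : T) (η : I → T) (f : MvPolynomial I R) :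
    ∃ E : T, aeval (fun i => algebraMap R T (r i) + p * η i) f =
      algebraMap R T (eval r f) + p * ∑ i, algebraMap R T (eval r (pderiv i f)) * η i +
        p ^ 2 * E := by
  classical
  induction f using MvPolynomial.induction_on with
  | C a => exact ⟨0, by simp⟩
  | add f g hf hg =>
    obtain ⟨E₁, h₁⟩ := hf
    obtain ⟨E₂, h₂⟩ := hg
    refine ⟨E₁ + E₂, ?_⟩
    simp only [map_add, h₁, h₂, add_mul, Finset.sum_add_distrib]
    ring
  | mul_X q j hq =>
    obtain ⟨E, hE⟩ := hq
    refine ⟨E * algebraMap R T (r j) +
      (∑ i, algebraMap R T (eval r (pderiv i q)) * η i) * η j + p * E * η j, ?_⟩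
    simp only [map_mul, aeval_X, hE, eval_X, Derivation.leibniz, smul_eq_mul, pderiv_X, map_add,
      add_mul, Finset.sum_add_distrib]
    have h1 : ∑ i, algebraMap R T (eval r q) *
        algebraMap R T (eval r (Pi.single (M := fun _ => MvPolynomial I R) i 1 j)) * η i =
        algebraMap R T (eval r q) * η j := by
      rw [Finset.sum_eq_single j]
      · simp
      · intro i _ hij
        have : (Pi.single (M := fun _ => MvPolynomial I R) i 1 j) = 0 :=
          Pi.single_eq_of_ne (Ne.symm hij) _
        rw [this, map_zero, map_zero, mul_zero, zero_mul]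
      · intro h; exact (h (Finset.mem_univ j)).elim
    have h2 : ∑ i, algebraMap R T (r j) * algebraMap R T (eval r (pderiv i q)) * η i =
        algebraMap R T (r j) * ∑ i, algebraMap R T (eval r (pderiv i q)) * η i := by
      rw [Finset.mul_sum]
      exact Finset.sum_congr rfl fun i _ => by ring
    rw [h1, h2]
    ring

/-- A right pseudo-inverse from a linear combination of maximal minors. -/
theorem exists_right_pseudoinverse {R : Type*} [CommRing R] {c n : ℕ}
    (M₀ : Matrix (Fin c) (Fin n) R) (β : (Fin c → Fin n) → R) :
    ∃ s : Matrix (Fin n) (Fin c) R,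
      M₀ * s = (∑ cols, β cols * Matrix.det (M₀.submatrix id cols)) • (1 : Matrix _ _ R) := by
  classical
  let E : (Fin c → Fin n) → Matrix (Fin n) (Fin c) R :=
    fun cols => Matrix.of fun i l => if cols l = i then 1 else 0
  have hE : ∀ cols, M₀ * E cols = M₀.submatrix id cols := by
    intro cols
    refine Matrix.ext fun j l => ?_
    simp [Matrix.mul_apply, E]
  refine ⟨∑ cols, β cols • (E cols * Matrix.adjugate (M₀ * E cols)), ?_⟩
  rw [Matrix.mul_sum, Finset.sum_smul]
  refine Finset.sum_congr rfl fun cols _ => ?_
  rw [Matrix.mul_smul, ← Matrix.mul_assoc, Matrix.mul_adjugate, hE, smul_smul]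

/-- In a flat module, `π³`-torsion is killed by `π r²` when `r` multiplies the annihilator of `π²`
into the annihilator of `π`. -/
theorem flat_ann {R M : Type*} [CommRing R] [AddCommGroup M] [Module R M] [Module.Flat R M]
    (π r : R) (hr : ∀ x : R, π ^ 2 * x = 0 → π * (r * x) = 0) (y : M) (hy : π ^ 3 • y = 0) :
    (π * r ^ 2) • y = 0 := by
  have hring : ∀ a : R, π ^ 3 * a = 0 → π * r ^ 2 * a = 0 := by
    intro a ha
    have h1 : π * (r * (π * a)) = 0 := hr (π * a) (by rw [← ha]; ring)
    have h2 : π * (r * (r * a)) = 0 := hr (r * a) (by rw [← h1]; ring)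
    rw [← h2]; ring
  have h0 : ∑ i : Unit, (fun _ : Unit => π ^ 3) i • (fun _ : Unit => y) i = 0 := by
    simpa using hy
  obtain ⟨k, a, z, hz, ha⟩ := Module.Flat.isTrivialRelation_of_sum_smul_eq_zero h0
  have hy' : y = ∑ j, a () j • z j := hz ()
  rw [hy', Finset.smul_sum]
  refine Finset.sum_eq_zero fun j _ => ?_
  rw [smul_smul, hring (a () j) (by simpa using ha j), zero_smul]

end Groth.Agent.H3.Desing
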