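import Mathlib
import Groth.Prelude.Def_Hens2

/-!
# Compactness of `Hom_A(B, -)` along directed systems of henselian algebras: abstract part
-/

set_option autoImplicit false
set_option linter.unusedSimpArgs false
set_option linter.unusedVariables false
set_option linter.style.haveILetI false
universe u

namespace Groth.Agent.H3.Colim

/-- The hypothesis of the colimit characterisation (both halves). -/
def Compact (A : Type u) [CommRing A] (I : Ideal A) (B : Type u) [CommRing B] [Algebra A B] :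
    Prop :=
  ∀ (κ : Type u) [Preorder κ] [IsDirectedOrder κ] [Nonempty κ]
    (Ra : κ → Type u) [∀ a, CommRing (Ra a)] [∀ a, Algebra A (Ra a)]
    [∀ a, HenselianRing (Ra a) (I.map (algebraMap A (Ra a)))]
    (t : ∀ a b : κ, a ≤ b → (Ra a →+* Ra b)) [DirectedSystem Ra (fun a b hab => t a b hab)],
    (∀ (a b : κ) (hab : a ≤ b), (t a b hab).comp (algebraMap A (Ra a)) = algebraMap A (Ra b)) →
    ∀ [Algebra A (DirectLimit Ra t)],
    (∀ (a : κ) (x : A), algebraMap A (DirectLimit Ra t) x =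
      DirectLimit.Ring.of Ra t a (algebraMap A (Ra a) x)) →
    (∀ χ : B →ₐ[A] DirectLimit Ra t, ∃ (a : κ) (φ : B →ₐ[A] Ra a),
        ∀ x : B, DirectLimit.Ring.of Ra t a (φ x) = χ x) ∧
    ∀ (a : κ) (φ ψ : B →ₐ[A] Ra a),
      (∀ x : B, DirectLimit.Ring.of Ra t a (φ x) = DirectLimit.Ring.of Ra t a (ψ x)) →
      ∃ (b : κ) (hab : a ≤ b), ∀ x : B, t a b hab (φ x) = t a b hab (ψ x)

section
variable {A : Type u} [CommRing A]
  {κ : Type u} [Preorder κ] [IsDirectedOrder κ] [Nonempty κ]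
  (Ra : κ → Type u) [∀ a, CommRing (Ra a)] [∀ a, Algebra A (Ra a)]
  (t : ∀ a b : κ, a ≤ b → (Ra a →+* Ra b)) [DirectedSystem Ra (fun a b h => t a b h)]

theorem of_eq_of_iff {a b : κ} (x : Ra a) (y : Ra b) :
    DirectLimit.Ring.of Ra t a x = DirectLimit.Ring.of Ra t b y ↔
      ∃ (c : κ) (hac : a ≤ c) (hbc : b ≤ c), t a c hac x = t b c hbc y := by
  constructor
  · intro h
    have h' : (⟦⟨a, x⟩⟧ : DirectLimit Ra t) = ⟦⟨b, y⟩⟧ := h
    obtain ⟨c, hac, hbc, e⟩ := Quotient.eq.mp h'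
    exact ⟨c, hac, hbc, e⟩
  · rintro ⟨c, hac, hbc, e⟩
    have h' : (⟦⟨a, x⟩⟧ : DirectLimit Ra t) = ⟦⟨b, y⟩⟧ := Quotient.sound ⟨c, hac, hbc, e⟩
    exact h'

/-- The `A`-algebra structure on the direct limit. -/
noncomputable def algL : Algebra A (DirectLimit Ra t) :=
  ((DirectLimit.Ring.of Ra t (Classical.arbitrary κ)).comp
    (algebraMap A (Ra (Classical.arbitrary κ)))).toAlgebra

theorem algL_spec
    (ht : ∀ (a b : κ) (h : a ≤ b), (t a b h).comp (algebraMap A (Ra a)) = algebraMap A (Ra b))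
    (a : κ) (x : A) :
    @algebraMap A (DirectLimit Ra t) _ _ (algL Ra t) x =
      DirectLimit.Ring.of Ra t a (algebraMap A (Ra a) x) := by
  obtain ⟨c, h1, h2⟩ := exists_ge_ge (Classical.arbitrary κ) a
  show DirectLimit.Ring.of Ra t (Classical.arbitrary κ)
    (algebraMap A (Ra (Classical.arbitrary κ)) x) = _
  rw [← DirectLimit.Ring.of_f h1, ← DirectLimit.Ring.of_f h2]
  have e1 := RingHom.congr_fun (ht _ _ h1) x
  have e2 := RingHom.congr_fun (ht _ _ h2) x
  simp only [RingHom.comp_apply] at e1 e2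
  rw [e1, e2]

/-- Abstract retraction lemma: if `B` maps to the direct limit compatibly with maps
`lam a : Ra a → B`, then `B` is a retract of some stage. -/
theorem exists_section (I : Ideal A) (B : Type u) [CommRing B] [Algebra A B]
    (h : Compact A I B)
    [∀ a, HenselianRing (Ra a) (I.map (algebraMap A (Ra a)))]
    (ht : ∀ (a b : κ) (h : a ≤ b), (t a b h).comp (algebraMap A (Ra a)) = algebraMap A (Ra b))
    (lam : ∀ a, Ra a →+* B)
    (hlam : ∀ (a b : κ) (hab : a ≤ b) (x : Ra a), lam b (t a b hab x) = lam a x)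
    (χ : B →+* DirectLimit Ra t)
    (hχA : ∀ x : A, χ (algebraMap A B x) = @algebraMap A (DirectLimit Ra t) _ _ (algL Ra t) x)
    (hχ : ∀ b : B, ∃ (a : κ) (y : Ra a), χ b = DirectLimit.Ring.of Ra t a y ∧ lam a y = b) :
    ∃ (a : κ) (φ : B →ₐ[A] Ra a), (∀ b : B, lam a (φ b) = b) ∧
      ∀ b : B, DirectLimit.Ring.of Ra t a (φ b) = χ b := by
  letI : Algebra A (DirectLimit Ra t) := algL Ra t
  obtain ⟨h1, -⟩ := h κ Ra t ht (algL_spec Ra t ht)
  obtain ⟨a, φ, hφ⟩ := h1 { χ with commutes' := hχA }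
  refine ⟨a, φ, fun b => ?_, hφ⟩
  obtain ⟨a', y, e1, e2⟩ := hχ b
  have e3 : DirectLimit.Ring.of Ra t a (φ b) = DirectLimit.Ring.of Ra t a' y := by
    rw [hφ b]; exact e1
  obtain ⟨c, hac, hbc, e⟩ := (of_eq_of_iff Ra t _ _).mp e3
  rw [← hlam a c hac, e, hlam a' c hbc, e2]

end

end Groth.Agent.H3.Colim
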