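import Groth.Agent.H3.PH9

/-!
# Quotients, neighbourhoods and base isomorphisms for henselizations of pairs
-/

set_option autoImplicit false
set_option linter.unusedSimpArgs false
set_option linter.unusedVariables false
set_option linter.style.haveILetI false
universe u
open TensorProduct Polynomial

namespace Groth.Agent.H3.PH

/-- The henselization of a quotient is the quotient of the henselization. -/
theorem isPairHenselization_quotient {A : Type u} [CommRing A] (I : Ideal A) (Ah : Type u)
    [CommRing Ah] [Algebra A Ah] (hA : Hens2.IsPairHenselization A I Ah) (K : Ideal A) :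
    Hens2.IsPairHenselization (A ⧸ K) (I.map (Ideal.Quotient.mk K))
      (Ah ⧸ K.map (algebraMap A Ah)) := by
  haveI : Algebra.IsIntegral A (A ⧸ K) :=
    Algebra.isIntegral_of_surjective Ideal.Quotient.mk_surjective
  have h1 := isPairHenselization_tensor_of_isIntegral I Ah hA (A ⧸ K)
    (I.map (Ideal.Quotient.mk K)) le_rfl rfl
  exact isPairHenselization_of_algEquiv _ _ _
    (Algebra.TensorProduct.quotIdealMapEquivQuotTensor Ah K).symm h1

/-- The henselization of `(R, I)` is also the henselization of any étale neighbourhood. -/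
theorem isPairHenselization_of_nbhd {R : Type u} [CommRing R] (I : Ideal R) (H : Type u)
    [CommRing H] [Algebra R H] (hH : Hens2.IsPairHenselization R I H) (S : Type u) [CommRing S]
    [Algebra R S] [Algebra.Etale R S]
    (hq : Function.Bijective (Ideal.quotientMap (I.map (algebraMap R S)) (algebraMap R S)
      Ideal.le_comap_map)) [Algebra S H] [IsScalarTower R S H] :
    Hens2.IsPairHenselization S (I.map (algebraMap R S)) H := by
  have hmapeq : (I.map (algebraMap R S)).map (algebraMap S H) = I.map (algebraMap R H) := by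
    rw [Ideal.map_map, ← IsScalarTower.algebraMap_eq]
  refine ⟨hmapeq ▸ hH.1, ?_⟩
  intro C _ J f hC hIJ
  have hIJ0 : I.map (f.comp (algebraMap R S)) ≤ J := by
    rw [← Ideal.map_map]
    exact hIJ
  obtain ⟨g, hg, hguniq⟩ := hH.2 C J (f.comp (algebraMap R S)) hC hIJ0
  letI : Algebra R C := (f.comp (algebraMap R S)).toAlgebra
  let τ₁ : S →ₐ[R] C :=
    { toRingHom := g.comp (algebraMap S H)
      commutes' := fun r => by
        show g (algebraMap S H (algebraMap R S r)) = f (algebraMap R S r)
        rw [← IsScalarTower.algebraMap_apply R S H]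
        exact RingHom.congr_fun hg r }
  let τ₂ : S →ₐ[R] C := { toRingHom := f, commutes' := fun r => rfl }
  have hτ : τ₁ = τ₂ := algHom_unique_of_nbhd I S (nbhd_surj I hq.2) C J hC.jac hIJ0 τ₁ τ₂
  refine ⟨g, congrArg AlgHom.toRingHom hτ, ?_⟩
  intro g' hg'
  apply hguniq
  show g'.comp (algebraMap R H) = f.comp (algebraMap R S)
  rw [IsScalarTower.algebraMap_eq R S H, ← RingHom.comp_assoc, hg']

/-- Transfer along an isomorphism of base rings. -/
theorem isPairHenselization_of_ringEquiv_base {R R' : Type u} [CommRing R] [CommRing R']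
    (e : R ≃+* R') (K : Ideal R) (B : Type u) [CommRing B] [Algebra R B] [Algebra R' B]
    (hcomp : ∀ r, algebraMap R' B (e r) = algebraMap R B r)
    (hB : Hens2.IsPairHenselization R K B) :
    Hens2.IsPairHenselization R' (K.map (e : R →+* R')) B := by
  have hc : (algebraMap R' B).comp (e : R →+* R') = algebraMap R B := RingHom.ext hcomp
  refine ⟨?_, ?_⟩
  · have : (K.map (e : R →+* R')).map (algebraMap R' B) = K.map (algebraMap R B) := by
      rw [Ideal.map_map, hc]
    rw [this]
    exact hB.1
  · intro C _ J f' hC hJ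
    have hJ0 : K.map (f'.comp (e : R →+* R')) ≤ J := by
      rw [← Ideal.map_map]
      exact hJ
    obtain ⟨g, hg, hguniq⟩ := hB.2 C J (f'.comp (e : R →+* R')) hC hJ0
    refine ⟨g, ?_, ?_⟩
    · ext r'
      obtain ⟨r, rfl⟩ := e.surjective r'
      show g (algebraMap R' B (e r)) = f' (e r)
      rw [hcomp]
      exact RingHom.congr_fun hg r
    · intro g' hg'
      apply hguniq
      show g'.comp (algebraMap R B) = f'.comp (e : R →+* R')
      rw [← hc, ← RingHom.comp_assoc, hg']

/-- The map between henselizations induced by a surjection of rings is surjective with the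
expected kernel. -/
theorem surjective_and_ker_of_surjective {S : Type u} [CommRing S] (K₀ : Ideal S) (P : Type u)
    [CommRing P] [Algebra S P] (hP : Hens2.IsPairHenselization S K₀ P)
    {R : Type u} [CommRing R] (f : S →+* R) (hf : Function.Surjective f) (B : Type u)
    [CommRing B] [Algebra R B] (hB : Hens2.IsPairHenselization R (K₀.map f) B)
    (φ : P →+* B) (hφ : φ.comp (algebraMap S P) = (algebraMap R B).comp f) :
    Function.Surjective φ ∧ RingHom.ker φ = (RingHom.ker f).map (algebraMap S P) := by
  have hQ := isPairHenselization_quotient K₀ P hP (RingHom.ker f)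
  let e : S ⧸ RingHom.ker f ≃+* R := RingHom.quotientKerEquivOfSurjective hf
  have he : ∀ s, e (Ideal.Quotient.mk _ s) = f s := fun s => rfl
  letI : Algebra R (P ⧸ (RingHom.ker f).map (algebraMap S P)) :=
    ((algebraMap (S ⧸ RingHom.ker f) (P ⧸ (RingHom.ker f).map (algebraMap S P))).comp
      (e.symm : R →+* S ⧸ RingHom.ker f)).toAlgebra
  have hcomp : ∀ r, algebraMap R (P ⧸ (RingHom.ker f).map (algebraMap S P)) (e r) =
      algebraMap (S ⧸ RingHom.ker f) (P ⧸ (RingHom.ker f).map (algebraMap S P)) r := by
    intro r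
    show algebraMap (S ⧸ RingHom.ker f) _ (e.symm (e r)) = _
    rw [e.symm_apply_apply]
  have hQ' := isPairHenselization_of_ringEquiv_base e _ _ hcomp hQ
  have hid : (K₀.map (Ideal.Quotient.mk (RingHom.ker f))).map (e : S ⧸ RingHom.ker f →+* R) =
      K₀.map f := by
    rw [Ideal.map_map]
    congr 1
  rw [hid] at hQ'
  obtain ⟨ε⟩ := nonempty_algEquiv_of_isPairHenselization (K₀.map f) _ B hQ' hB
  have hle : K₀.map ((algebraMap R B).comp f) ≤ (K₀.map f).map (algebraMap R B) := by
    rw [Ideal.map_map]
  obtain ⟨i, -, hi⟩ := hP.2 B ((K₀.map f).map (algebraMap R B)) ((algebraMap R B).comp f)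
    hB.1 hle
  have h1 : φ = i := hi φ hφ
  have h2 : (ε : _ →+* B).comp (Ideal.Quotient.mk ((RingHom.ker f).map (algebraMap S P))) = i := by
    apply hi
    ext s
    show ε (Ideal.Quotient.mk _ (algebraMap S P s)) = algebraMap R B (f s)
    have h3 : Ideal.Quotient.mk ((RingHom.ker f).map (algebraMap S P)) (algebraMap S P s) =
        algebraMap R (P ⧸ (RingHom.ker f).map (algebraMap S P)) (f s) := by
      rw [← he s, hcomp]
      rfl
    rw [h3]
    exact ε.commutes (f s)
  have h4 : φ = (ε : _ →+* B).comp
      (Ideal.Quotient.mk ((RingHom.ker f).map (algebraMap S P))) := h1.trans h2.symm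
  constructor
  · intro b
    obtain ⟨q, hq⟩ := ε.surjective b
    obtain ⟨p, rfl⟩ := Ideal.Quotient.mk_surjective q
    exact ⟨p, by rw [h4]; exact hq⟩
  · ext x
    rw [RingHom.mem_ker, h4]
    show ε (Ideal.Quotient.mk _ x) = 0 ↔ _
    rw [map_eq_zero_iff ε ε.injective, Ideal.Quotient.eq_zero_iff_mem]

end Groth.Agent.H3.PH
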