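import Groth.Agent.H3.Colim1
import Groth.Agent.H3.PH10

/-!
# The system of henselizations of finitely generated subalgebras
-/

set_option autoImplicit false
set_option linter.unusedSimpArgs false
set_option linter.unusedVariables false
set_option linter.style.haveILetI false
universe u

namespace Groth.Agent.H3.Colim

open Groth.Agent.H3.PH

section
variable (A : Type u) [CommRing A] (I : Ideal A) (B : Type u) [CommRing B] [Algebra A B]

/-- Index set: finitely generated subalgebras. -/
abbrev Idx : Type u := {a : Subalgebra A B // a.FG}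

instance : IsDirectedOrder (Idx A B) :=
  ⟨fun a b => ⟨⟨a.1 ⊔ b.1, a.2.sup b.2⟩, (le_sup_left : a.1 ≤ a.1 ⊔ b.1),
    (le_sup_right : b.1 ≤ a.1 ⊔ b.1)⟩⟩

instance : Nonempty (Idx A B) := ⟨⟨⊥, Subalgebra.fg_bot⟩⟩

variable {A B}

/-- The ideal of the pair structure on a subalgebra. -/
abbrev Jd (a : Idx A B) : Ideal a.1 := I.map (algebraMap A a.1)

/-- The henselization of a finitely generated subalgebra. -/
def Rh (a : Idx A B) : Type u := H a.1 (a.1 ⧸ Jd I a)

noncomputable instance (a : Idx A B) : CommRing (Rh I a) :=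
  inferInstanceAs (CommRing (H a.1 (a.1 ⧸ Jd I a)))

noncomputable instance (a : Idx A B) : Algebra a.1 (Rh I a) :=
  inferInstanceAs (Algebra a.1 (H a.1 (a.1 ⧸ Jd I a)))

noncomputable instance (a : Idx A B) : Algebra A (Rh I a) :=
  ((algebraMap a.1 (Rh I a)).comp (algebraMap A a.1)).toAlgebra

instance (a : Idx A B) : IsScalarTower A a.1 (Rh I a) :=
  IsScalarTower.of_algebraMap_eq (fun _ => rfl)

theorem hP (a : Idx A B) : Hens2.IsPairHenselization a.1 (Jd I a) (Rh I a) :=
  isPairHenselization_H a.1 (Jd I a)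

theorem map_Jd (a : Idx A B) :
    (Jd I a).map (algebraMap a.1 (Rh I a)) = I.map (algebraMap A (Rh I a)) := by
  rw [Jd, Ideal.map_map]
  rfl

instance henselianRing_Rh (a : Idx A B) : HenselianRing (Rh I a) (I.map (algebraMap A (Rh I a))) := by
  rw [← map_Jd]
  exact (hP I a).1

theorem map_Jd_inclusion {a b : Idx A B} (h : a ≤ b) :
    (Jd I a).map (Subalgebra.inclusion h).toRingHom = Jd I b := by
  rw [Jd, Ideal.map_map]
  rfl

theorem exists_t {a b : Idx A B} (h : a ≤ b) :
    ∃! g : Rh I a →+* Rh I b, g.comp (algebraMap a.1 (Rh I a)) =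
      (algebraMap b.1 (Rh I b)).comp (Subalgebra.inclusion h).toRingHom := by
  refine (hP I a).2 (Rh I b) ((Jd I b).map (algebraMap b.1 (Rh I b))) _ (hP I b).1 ?_
  rw [← Ideal.map_map, map_Jd_inclusion]

/-- Transition maps. -/
noncomputable def tr (a b : Idx A B) (h : a ≤ b) : Rh I a →+* Rh I b := (exists_t I h).exists.choose

theorem tr_spec {a b : Idx A B} (h : a ≤ b) :
    (tr I a b h).comp (algebraMap a.1 (Rh I a)) =
      (algebraMap b.1 (Rh I b)).comp (Subalgebra.inclusion h).toRingHom :=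
  (exists_t I h).exists.choose_spec

theorem tr_unique {a b : Idx A B} (h : a ≤ b) (g : Rh I a →+* Rh I b)
    (hg : g.comp (algebraMap a.1 (Rh I a)) =
      (algebraMap b.1 (Rh I b)).comp (Subalgebra.inclusion h).toRingHom) : g = tr I a b h :=
  (exists_t I h).unique hg (tr_spec I h)

theorem tr_algebraMap {a b : Idx A B} (h : a ≤ b) (x : a.1) :
    tr I a b h (algebraMap a.1 (Rh I a) x) = algebraMap b.1 (Rh I b) (Subalgebra.inclusion h x) :=
  RingHom.congr_fun (tr_spec I h) x

instance : DirectedSystem (Rh I (A := A) (B := B)) (fun a b h => tr I a b h) where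
  map_self a x := by
    have : RingHom.id (Rh I a) = tr I a a le_rfl := tr_unique I le_rfl _ (by
      ext x
      simp only [RingHom.comp_apply, RingHom.id_apply]
      rfl)
    exact (RingHom.congr_fun this x).symm
  map_map c b a hab hbc x := by
    have : (tr I b c hbc).comp (tr I a b hab) = tr I a c (hab.trans hbc) :=
      tr_unique I _ _ (by
        ext x
        simp only [RingHom.comp_apply]
        rw [tr_algebraMap, tr_algebraMap]
        rfl)
    exact RingHom.congr_fun this x

theorem tr_comp_algebraMap (a b : Idx A B) (h : a ≤ b) :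
    (tr I a b h).comp (algebraMap A (Rh I a)) = algebraMap A (Rh I b) := by
  ext x
  show tr I a b h (algebraMap a.1 (Rh I a) (algebraMap A a.1 x)) =
    algebraMap b.1 (Rh I b) (algebraMap A b.1 x)
  rw [tr_algebraMap]
  rfl

variable [hB : HenselianRing B (I.map (algebraMap A B))]

theorem exists_lam (a : Idx A B) :
    ∃! g : Rh I a →+* B, g.comp (algebraMap a.1 (Rh I a)) = a.1.val.toRingHom := by
  refine (hP I a).2 B (I.map (algebraMap A B)) _ hB ?_
  rw [Jd, Ideal.map_map]
  exact le_of_eq rfl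

/-- The canonical maps to `B`. -/
noncomputable def lam (a : Idx A B) : Rh I a →+* B := (exists_lam I a).exists.choose

theorem lam_spec (a : Idx A B) :
    (lam I a).comp (algebraMap a.1 (Rh I a)) = a.1.val.toRingHom :=
  (exists_lam I a).exists.choose_spec

theorem lam_algebraMap (a : Idx A B) (x : a.1) : lam I a (algebraMap a.1 (Rh I a) x) = x :=
  RingHom.congr_fun (lam_spec I a) x

theorem lam_tr (a b : Idx A B) (h : a ≤ b) (x : Rh I a) : lam I b (tr I a b h x) = lam I a x := by
  have : (lam I b).comp (tr I a b h) = lam I a :=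
    (exists_lam I a).unique (by
      ext x
      simp only [RingHom.comp_apply]
      rw [tr_algebraMap, lam_algebraMap]
      rfl) (lam_spec I a)
  exact RingHom.congr_fun this x

/-- The element of the limit attached to an element of a stage. -/
noncomputable def elt (a : Idx A B) (x : a.1) : DirectLimit (Rh I (A := A) (B := B)) (tr I) :=
  DirectLimit.Ring.of (Rh I) (tr I) a (algebraMap a.1 (Rh I a) x)

theorem elt_eq {a b : Idx A B} (x : a.1) (y : b.1) (h : (x : B) = y) : elt I a x = elt I b y := by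
  obtain ⟨c, hac, hbc⟩ := exists_ge_ge a b
  unfold elt
  rw [← DirectLimit.Ring.of_f hac, ← DirectLimit.Ring.of_f hbc, tr_algebraMap, tr_algebraMap]
  congr 2
  exact Subtype.ext h

/-- The singleton stage. -/
noncomputable def sg (b : B) : Idx A B := ⟨Algebra.adjoin A {b}, Subalgebra.fg_adjoin_finset {b} |>
  (by simpa using ·)⟩

theorem mem_sg (b : B) : b ∈ (sg (A := A) b).1 := Algebra.subset_adjoin (Set.mem_singleton b)

/-- The map `B → colim`. -/
noncomputable def chiFun (b : B) : DirectLimit (Rh I (A := A) (B := B)) (tr I) :=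
  elt I (sg b) ⟨b, mem_sg b⟩

theorem chiFun_eq (a : Idx A B) (x : a.1) : chiFun I (x : B) = elt I a x :=
  elt_eq I _ _ rfl

theorem chiFun_eq' (a : Idx A B) (b : B) (hb : b ∈ a.1) : chiFun I b = elt I a ⟨b, hb⟩ :=
  chiFun_eq I a ⟨b, hb⟩

theorem elt_add (a : Idx A B) (x y : a.1) : elt I a (x + y) = elt I a x + elt I a y := by
  unfold elt; rw [map_add, map_add]

theorem elt_mul (a : Idx A B) (x y : a.1) : elt I a (x * y) = elt I a x * elt I a y := by
  unfold elt; rw [map_mul, map_mul]

theorem elt_one (a : Idx A B) : elt I a 1 = 1 := by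
  unfold elt; rw [map_one, map_one]

theorem elt_zero (a : Idx A B) : elt I a 0 = 0 := by
  unfold elt; rw [map_zero, map_zero]

theorem chiFun_mul (x y : B) : chiFun I (x * y) = chiFun I x * chiFun I y := by
  obtain ⟨c, hac, hbc⟩ := exists_ge_ge (sg (A := A) x) (sg y)
  have hx : x ∈ c.1 := hac (mem_sg x)
  have hy : y ∈ c.1 := hbc (mem_sg y)
  rw [chiFun_eq' I c x hx, chiFun_eq' I c y hy, ← elt_mul,
    chiFun_eq' I c (x * y) (c.1.mul_mem hx hy)]
  rfl

theorem chiFun_add (x y : B) : chiFun I (x + y) = chiFun I x + chiFun I y := by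
  obtain ⟨c, hac, hbc⟩ := exists_ge_ge (sg (A := A) x) (sg y)
  have hx : x ∈ c.1 := hac (mem_sg x)
  have hy : y ∈ c.1 := hbc (mem_sg y)
  rw [chiFun_eq' I c x hx, chiFun_eq' I c y hy, ← elt_add,
    chiFun_eq' I c (x + y) (c.1.add_mem hx hy)]
  rfl

theorem chiFun_one : chiFun I (1 : B) = 1 := by
  rw [chiFun_eq' I (⟨⊥, Subalgebra.fg_bot⟩ : Idx A B) 1 (Subalgebra.one_mem _), ← elt_one I]
  rfl

theorem chiFun_zero : chiFun I (0 : B) = 0 := by
  rw [chiFun_eq' I (⟨⊥, Subalgebra.fg_bot⟩ : Idx A B) 0 (Subalgebra.zero_mem _), ← elt_zero I]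
  rfl

/-- The ring map `B → colim`. -/
noncomputable def chi : B →+* DirectLimit (Rh I (A := A) (B := B)) (tr I) where
  toFun := chiFun I
  map_one' := chiFun_one I
  map_zero' := chiFun_zero I
  map_mul' := chiFun_mul I
  map_add' := chiFun_add I

theorem chi_apply (b : B) : chi I b = chiFun I b := rfl

theorem chi_algebraMap (x : A) :
    chi I (algebraMap A B x) =
      @algebraMap A (DirectLimit (Rh I (A := A) (B := B)) (tr I)) _ _ (algL (Rh I) (tr I)) x := by
  rw [algL_spec (Rh I) (tr I) (tr_comp_algebraMap I) (⟨⊥, Subalgebra.fg_bot⟩ : Idx A B) x,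
    chi_apply, chiFun_eq' I (⟨⊥, Subalgebra.fg_bot⟩ : Idx A B) _ (Subalgebra.algebraMap_mem _ x)]
  rfl

theorem chi_spec (b : B) : ∃ (a : Idx A B) (y : Rh I a),
    chi I b = DirectLimit.Ring.of (Rh I) (tr I) a y ∧ lam I a y = b :=
  ⟨sg b, algebraMap (sg (A := A) b).1 (Rh I (sg b)) ⟨b, mem_sg b⟩, rfl,
    lam_algebraMap I (sg b) ⟨b, mem_sg b⟩⟩

/-- **Step 1**: `B` is a retract of the henselization of a finitely generated subalgebra. -/
theorem exists_retract (h : Compact A I B) :
    ∃ (a : Idx A B) (φ : B →ₐ[A] Rh I a), ∀ b : B, lam I a (φ b) = b := by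
  obtain ⟨a, φ, h1, -⟩ := exists_section (Rh I) (tr I) I B h (tr_comp_algebraMap I) (lam I)
    (lam_tr I) (chi I) (chi_algebraMap I) (chi_spec I)
  exact ⟨a, φ, h1⟩

end

end Groth.Agent.H3.Colim
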