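import Groth.Agent.H3.Colim1
import Groth.Agent.H3.Hensel4
import Groth.Agent.H87.HenselLim

/-!
# A surjection from a Henselian finitely presented algebra onto a compact one has f.g. kernel
-/

set_option autoImplicit false
set_option linter.unusedSimpArgs false
set_option linter.unusedVariables false
set_option linter.style.haveILetI false
universe u

namespace Groth.Agent.H3.Colim

section
variable {A : Type u} [CommRing A] (I : Ideal A) {P : Type u} [CommRing P] [Algebra A P]
  {B : Type u} [CommRing B] [Algebra A B] (π : P →ₐ[A] B)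

/-- Index set: finitely generated subideals of the kernel. -/
abbrev KIdx : Type u := {K : Ideal P // K.FG ∧ K ≤ RingHom.ker π}

instance : IsDirectedOrder (KIdx π) :=
  ⟨fun a b => ⟨⟨a.1 ⊔ b.1, Submodule.FG.sup a.2.1 b.2.1, sup_le a.2.2 b.2.2⟩,
    (le_sup_left : a.1 ≤ a.1 ⊔ b.1), (le_sup_right : b.1 ≤ a.1 ⊔ b.1)⟩⟩

instance : Nonempty (KIdx π) := ⟨⟨⊥, Submodule.fg_bot, bot_le⟩⟩

/-- The quotient stages. -/
abbrev Q (K : KIdx π) : Type u := P ⧸ K.1

/-- Transition maps. -/
def tq (a b : KIdx π) (h : a ≤ b) : Q π a →+* Q π b := Ideal.Quotient.factor h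

theorem tq_mk {a b : KIdx π} (h : a ≤ b) (p : P) :
    tq π a b h (Ideal.Quotient.mk a.1 p) = Ideal.Quotient.mk b.1 p := Ideal.Quotient.factor_mk h p

instance : DirectedSystem (Q π) (fun a b h => tq π a b h) where
  map_self a x := by
    obtain ⟨p, rfl⟩ := Ideal.Quotient.mk_surjective x
    exact tq_mk π _ p
  map_map c b a hab hbc x := by
    obtain ⟨p, rfl⟩ := Ideal.Quotient.mk_surjective x
    show tq π b c hbc (tq π a b hab _) = tq π a c _ _
    rw [tq_mk, tq_mk, tq_mk]

theorem tq_comp_algebraMap (a b : KIdx π) (h : a ≤ b) :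
    (tq π a b h).comp (algebraMap A (Q π a)) = algebraMap A (Q π b) := by
  ext x
  show tq π a b h (Ideal.Quotient.mk a.1 (algebraMap A P x)) = _
  rw [tq_mk]
  rfl

instance henselianRing_Q [hP : HenselianRing P (I.map (algebraMap A P))] (K : KIdx π) :
    HenselianRing (Q π K) (I.map (algebraMap A (Q π K))) := by
  have := henselianRing_map_of_surjective (Ideal.Quotient.mk K.1) Ideal.Quotient.mk_surjective
    (I.map (algebraMap A P))
  rw [Ideal.map_map] at this
  exact this

/-- The maps to `B`. -/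
def lq (K : KIdx π) : Q π K →+* B := Ideal.Quotient.lift K.1 π.toRingHom (fun p hp => K.2.2 hp)

theorem lq_mk (K : KIdx π) (p : P) : lq π K (Ideal.Quotient.mk K.1 p) = π p := rfl

theorem lq_tq (a b : KIdx π) (h : a ≤ b) (x : Q π a) : lq π b (tq π a b h x) = lq π a x := by
  obtain ⟨p, rfl⟩ := Ideal.Quotient.mk_surjective x
  rw [tq_mk, lq_mk, lq_mk]

/-- The bottom index. -/
def kbot : KIdx π := ⟨⊥, Submodule.fg_bot, bot_le⟩

theorem of_mk_eq (a b : KIdx π) (p : P) :
    DirectLimit.Ring.of (Q π) (tq π) a (Ideal.Quotient.mk a.1 p) =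
      DirectLimit.Ring.of (Q π) (tq π) b (Ideal.Quotient.mk b.1 p) := by
  obtain ⟨c, hac, hbc⟩ := exists_ge_ge a b
  rw [← DirectLimit.Ring.of_f hac, ← DirectLimit.Ring.of_f hbc, tq_mk, tq_mk]

theorem of_mk_eq_zero (p : P) (hp : p ∈ RingHom.ker π) :
    DirectLimit.Ring.of (Q π) (tq π) (kbot π) (Ideal.Quotient.mk _ p) = 0 := by
  let K : KIdx π := ⟨Ideal.span {p}, ⟨{p}, by simp⟩, by
    rw [Ideal.span_le]; intro x hx; rw [Set.mem_singleton_iff.mp hx]; exact hp⟩
  rw [of_mk_eq π (kbot π) K p]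
  have : Ideal.Quotient.mk K.1 p = 0 :=
    Ideal.Quotient.eq_zero_iff_mem.mpr (Ideal.subset_span (Set.mem_singleton p))
  rw [this, map_zero]

/-- The map `P → colim`. -/
noncomputable def toL : P →+* DirectLimit (Q π) (tq π) :=
  (DirectLimit.Ring.of (Q π) (tq π) (kbot π)).comp (Ideal.Quotient.mk _)

variable (hπ : Function.Surjective π)

/-- The map `B → colim`. -/
noncomputable def chiQ : B →+* DirectLimit (Q π) (tq π) :=
  (Ideal.Quotient.lift (RingHom.ker π.toRingHom) (toL π) (fun p hp => of_mk_eq_zero π p hp)).comp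
    (RingHom.quotientKerEquivOfSurjective (f := π.toRingHom) hπ).symm.toRingHom

theorem chiQ_apply (p : P) : chiQ π hπ (π p) = toL π p := by
  unfold chiQ
  have : (RingHom.quotientKerEquivOfSurjective (f := π.toRingHom) hπ).symm (π p) =
      Ideal.Quotient.mk _ p := by
    rw [RingEquiv.symm_apply_eq]
    rfl
  simp only [RingHom.comp_apply, RingEquiv.toRingHom_eq_coe, RingHom.coe_coe]
  rw [this]
  rfl

theorem chiQ_algebraMap (x : A) :
    chiQ π hπ (algebraMap A B x) =
      @algebraMap A (DirectLimit (Q π) (tq π)) _ _ (algL (Q π) (tq π)) x := by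
  rw [algL_spec (Q π) (tq π) (tq_comp_algebraMap π) (kbot π) x, ← π.commutes, chiQ_apply]
  rfl

theorem chiQ_spec (b : B) : ∃ (a : KIdx π) (y : Q π a),
    chiQ π hπ b = DirectLimit.Ring.of (Q π) (tq π) a y ∧ lq π a y = b := by
  obtain ⟨p, rfl⟩ := hπ b
  exact ⟨kbot π, Ideal.Quotient.mk _ p, chiQ_apply π hπ p, rfl⟩

include hπ in
/-- **Step 3**: the kernel is finitely generated. -/
theorem fg_ker (h : Compact A I B)
    (R₀ : Type u) [CommRing R₀] [Algebra A R₀] [Algebra.FinitePresentation A R₀]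
    [Algebra R₀ P] [IsScalarTower A R₀ P]
    (hP : Hens2.IsPairHenselization R₀ (I.map (algebraMap A R₀)) P) :
    (RingHom.ker π).FG := by
  haveI hPh : HenselianRing P (I.map (algebraMap A P)) := by
    have := hP.1
    rw [Ideal.map_map, ← IsScalarTower.algebraMap_eq] at this
    exact this
  obtain ⟨K, ψ, -, hψ⟩ := exists_section (Q π) (tq π) I B h (tq_comp_algebraMap π) (lq π)
    (lq_tq π) (chiQ π hπ) (chiQ_algebraMap π hπ) (chiQ_spec π hπ)
  letI : Algebra A (DirectLimit (Q π) (tq π)) := algL (Q π) (tq π)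
  obtain ⟨-, h2⟩ := Groth.Agent.H87.HenselLim.main A I R₀ P hP (Q π) (tq π)
    (tq_comp_algebraMap π) (algL_spec (Q π) (tq π) (tq_comp_algebraMap π))
  obtain ⟨K', hKK', hK'⟩ := h2 K (Ideal.Quotient.mkₐ A K.1) (ψ.comp π) (fun p => by
    show DirectLimit.Ring.of (Q π) (tq π) K (Ideal.Quotient.mk K.1 p) =
      DirectLimit.Ring.of (Q π) (tq π) K (ψ (π p))
    rw [hψ, chiQ_apply]
    exact of_mk_eq π K (kbot π) p)
  have hle : RingHom.ker π ≤ K'.1 := by
    intro p hp
    have h3 := hK' p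
    have h4 : (ψ.comp π) p = 0 := by
      show ψ (π p) = 0
      rw [show π p = 0 from hp, map_zero]
    rw [h4, map_zero] at h3
    have h5 : tq π K K' hKK' (Ideal.Quotient.mk K.1 p) = 0 := h3
    rw [tq_mk] at h5
    exact Ideal.Quotient.eq_zero_iff_mem.mp h5
  have : RingHom.ker π = K'.1 := le_antisymm hle K'.2.2
  rw [this]
  exact K'.2.1

end

end Groth.Agent.H3.Colim
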