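import Groth.Agent.H3.PH10

/-!
# Henselian finitely presented maps: the two descriptions agree
-/

set_option autoImplicit false
set_option linter.unusedSimpArgs false
set_option linter.unusedVariables false
set_option linter.style.haveILetI false
universe u
open TensorProduct Polynomial

namespace Groth.Agent.H3.PH

theorem exists_henselized_polynomial_surjection {A : Type u} [CommRing A] (I : Ideal A)
    (B : Type u) [CommRing B] [Algebra A B]
    (R : Type u) [CommRing R] [Algebra A R] [Algebra R B] [IsScalarTower A R B]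
    [Algebra.FinitePresentation A R]
    (hB : Hens2.IsPairHenselization R (I.map (algebraMap A R)) B) :
    ∃ (n : ℕ) (P : Type u) (_ : CommRing P) (_ : Algebra (MvPolynomial (Fin n) A) P)
        (_ : Algebra A P) (_ : IsScalarTower A (MvPolynomial (Fin n) A) P),
        Hens2.IsPairHenselization (MvPolynomial (Fin n) A)
          (I.map (algebraMap A (MvPolynomial (Fin n) A))) P ∧
        ∃ φ : P →ₐ[A] B, Function.Surjective φ ∧ (RingHom.ker φ).FG := by
  obtain ⟨n, f, hfsurj, hfg⟩ := Algebra.FinitePresentation.out (R := A) (A := R)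
  have hP : Hens2.IsPairHenselization (MvPolynomial (Fin n) A)
      (I.map (algebraMap A (MvPolynomial (Fin n) A)))
      (H (MvPolynomial (Fin n) A) (MvPolynomial (Fin n) A ⧸
        I.map (algebraMap A (MvPolynomial (Fin n) A)))) := isPairHenselization_H _ _
  letI : Algebra A (H (MvPolynomial (Fin n) A) (MvPolynomial (Fin n) A ⧸
        I.map (algebraMap A (MvPolynomial (Fin n) A)))) :=
    ((algebraMap (MvPolynomial (Fin n) A) _).comp
      (algebraMap A (MvPolynomial (Fin n) A))).toAlgebra
  haveI : IsScalarTower A (MvPolynomial (Fin n) A) (H (MvPolynomial (Fin n) A)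
      (MvPolynomial (Fin n) A ⧸ I.map (algebraMap A (MvPolynomial (Fin n) A)))) :=
    IsScalarTower.of_algebraMap_eq (fun _ => rfl)
  have hI'f : (I.map (algebraMap A (MvPolynomial (Fin n) A))).map f.toRingHom =
      I.map (algebraMap A R) := by
    rw [Ideal.map_map]
    congr 1
    exact f.comp_algebraMap
  have hB' : Hens2.IsPairHenselization R
      ((I.map (algebraMap A (MvPolynomial (Fin n) A))).map f.toRingHom) B := by
    rw [hI'f]
    exact hB
  have hle : (I.map (algebraMap A (MvPolynomial (Fin n) A))).map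
      ((algebraMap R B).comp f.toRingHom) ≤
      ((I.map (algebraMap A (MvPolynomial (Fin n) A))).map f.toRingHom).map (algebraMap R B) :=
    le_of_eq (Ideal.map_map f.toRingHom (algebraMap R B)).symm
  obtain ⟨φ₀, hφ₀, -⟩ := hP.2 B _ ((algebraMap R B).comp f.toRingHom) hB'.1 hle
  obtain ⟨hsurj, hker⟩ := surjective_and_ker_of_surjective _ _ hP f.toRingHom hfsurj B hB' φ₀ hφ₀
  let φ : (H (MvPolynomial (Fin n) A) (MvPolynomial (Fin n) A ⧸
        I.map (algebraMap A (MvPolynomial (Fin n) A)))) →ₐ[A] B :=
    { toRingHom := φ₀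
      commutes' := fun a => by
        show φ₀ (algebraMap (MvPolynomial (Fin n) A) _ (algebraMap A _ a)) = algebraMap A B a
        have h1 := RingHom.congr_fun hφ₀ (algebraMap A _ a)
        rw [RingHom.comp_apply] at h1
        rw [h1]
        show algebraMap R B (f (algebraMap A _ a)) = _
        rw [f.commutes, ← IsScalarTower.algebraMap_apply] }
  refine ⟨n, _, inferInstance, inferInstance, inferInstance, inferInstance, hP, φ, hsurj, ?_⟩
  have hkk : RingHom.ker φ = RingHom.ker φ₀ := Ideal.ext fun x => Iff.rfl
  rw [hkk, hker]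
  exact hfg.map _

theorem exists_fp_of_henselized_polynomial_surjection {A : Type u} [CommRing A] (I : Ideal A)
    (B : Type u) [CommRing B] [Algebra A B]
    (n : ℕ) (P : Type u) [CommRing P] [Algebra (MvPolynomial (Fin n) A) P] [Algebra A P]
    [IsScalarTower A (MvPolynomial (Fin n) A) P]
    (hP : Hens2.IsPairHenselization (MvPolynomial (Fin n) A)
      (I.map (algebraMap A (MvPolynomial (Fin n) A))) P)
    (φ : P →ₐ[A] B) (hφ : Function.Surjective φ) (hfg : (RingHom.ker φ).FG) :
    ∃ (R : Type u) (_ : CommRing R) (_ : Algebra A R) (_ : Algebra R B) (_ : IsScalarTower A R B),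
      Algebra.FinitePresentation A R ∧ Hens2.IsPairHenselization R (I.map (algebraMap A R)) B := by
  classical
  obtain ⟨s, hs⟩ := hfg
  obtain ⟨E, iE1, iE2, iE3, hq, ρ, hρ⟩ :=
    exists_nbhd_rep_finset (I.map (algebraMap A (MvPolynomial (Fin n) A))) P hP s
  letI : Algebra E P := ρ.toRingHom.toAlgebra
  haveI : IsScalarTower (MvPolynomial (Fin n) A) E P :=
    IsScalarTower.of_algebraMap_eq (fun x => (ρ.commutes x).symm)
  have hP' := isPairHenselization_of_nbhd _ P hP E hq
  letI : Algebra A E :=
    ((algebraMap (MvPolynomial (Fin n) A) E).comp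
      (algebraMap A (MvPolynomial (Fin n) A))).toAlgebra
  haveI : IsScalarTower A (MvPolynomial (Fin n) A) E :=
    IsScalarTower.of_algebraMap_eq (fun _ => rfl)
  haveI : IsScalarTower A E P := IsScalarTower.of_algebraMap_eq (fun a => by
    rw [IsScalarTower.algebraMap_apply A (MvPolynomial (Fin n) A) P,
      IsScalarTower.algebraMap_apply (MvPolynomial (Fin n) A) E P]
    rfl)
  haveI : Algebra.FinitePresentation A E :=
    Algebra.FinitePresentation.trans A (MvPolynomial (Fin n) A) E
  choose! y hy using hρ
  let K : Ideal E := Ideal.span ((s.image y : Finset E) : Set E)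
  have hKfg : K.FG := ⟨s.image y, rfl⟩
  have hKmap : K.map (algebraMap E P) = RingHom.ker φ := by
    rw [← hs]
    show (Ideal.span _).map _ = _
    rw [Ideal.map_span]
    congr 1
    ext x
    simp only [Finset.coe_image, Set.mem_image, Finset.mem_coe]
    constructor
    · rintro ⟨_, ⟨x', hx', rfl⟩, rfl⟩
      have : algebraMap E P (y x') = x' := hy x' hx'
      rw [this]
      exact hx'
    · intro hx
      exact ⟨y x, ⟨x, hx, rfl⟩, hy x hx⟩
  have hQ := isPairHenselization_quotient _ P hP' K
  have hψker : ∀ x ∈ K.map (algebraMap E P), φ.toRingHom x = 0 := fun x hx => by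
    rw [hKmap] at hx
    exact hx
  let ψ : P ⧸ K.map (algebraMap E P) →+* B := Ideal.Quotient.lift _ φ.toRingHom hψker
  have hψbij : Function.Bijective ψ := by
    constructor
    · rw [injective_iff_map_eq_zero]
      intro q hq0
      obtain ⟨p, rfl⟩ := Ideal.Quotient.mk_surjective q
      have h0 : φ p = 0 := hq0
      rw [Ideal.Quotient.eq_zero_iff_mem, hKmap]
      exact h0
    · intro b
      obtain ⟨p, rfl⟩ := hφ b
      exact ⟨Ideal.Quotient.mk _ p, rfl⟩
  letI : Algebra (E ⧸ K) B :=
    (ψ.comp (algebraMap (E ⧸ K) (P ⧸ K.map (algebraMap E P)))).toAlgebra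
  let ε : (P ⧸ K.map (algebraMap E P)) ≃ₐ[E ⧸ K] B :=
    AlgEquiv.ofRingEquiv (f := RingEquiv.ofBijective ψ hψbij) (fun x => rfl)
  have hB := isPairHenselization_of_algEquiv _ _ _ ε hQ
  haveI : IsScalarTower A (E ⧸ K) B := IsScalarTower.of_algebraMap_eq (fun a => by
    show algebraMap A B a = φ (algebraMap E P (algebraMap A E a))
    rw [← IsScalarTower.algebraMap_apply A E P, φ.commutes])
  have hideal : ((I.map (algebraMap A (MvPolynomial (Fin n) A))).map
      (algebraMap (MvPolynomial (Fin n) A) E)).map (Ideal.Quotient.mk K) =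
      I.map (algebraMap A (E ⧸ K)) := by
    rw [Ideal.map_map, Ideal.map_map]
    rfl
  rw [hideal] at hB
  exact ⟨E ⧸ K, inferInstance, inferInstance, inferInstance, inferInstance,
    Algebra.FinitePresentation.quotient hKfg, hB⟩

end Groth.Agent.H3.PH
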