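import Groth.Agent.H3.Colim2
import Groth.Agent.H3.Colim3
import Groth.Agent.H3.PH11

/-!
# The colimit characterisation implies Henselian finite presentation
-/

set_option autoImplicit false
set_option linter.unusedSimpArgs false
set_option linter.unusedVariables false
set_option linter.style.haveILetI false
universe u

namespace Groth.Agent.H3.Colim

open Groth.Agent.H3.PH

theorem main (A : Type u) [CommRing A] (I : Ideal A) (B : Type u) [CommRing B] [Algebra A B]
    [hB : HenselianRing B (I.map (algebraMap A B))] (h : Compact A I B) :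
    ∃ (R : Type u) (_ : CommRing R) (_ : Algebra A R) (_ : Algebra R B) (_ : IsScalarTower A R B),
      Algebra.FinitePresentation A R ∧ Hens2.IsPairHenselization R (I.map (algebraMap A R)) B := by
  classical
  obtain ⟨a, φ, hφ⟩ := exists_retract I h
  haveI : Algebra.FiniteType A a.1 := (Subalgebra.fg_iff_finiteType a.1).mp a.2
  obtain ⟨n, f, hf⟩ := Algebra.FiniteType.iff_quotient_mvPolynomial''.mp
    (inferInstance : Algebra.FiniteType A a.1)
  obtain ⟨K₀, hK₀⟩ : ∃ K₀ : Ideal (MvPolynomial (Fin n) A),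
      K₀ = I.map (algebraMap A (MvPolynomial (Fin n) A)) := ⟨_, rfl⟩
  have hPS : Hens2.IsPairHenselization (MvPolynomial (Fin n) A) K₀
      (H (MvPolynomial (Fin n) A) (MvPolynomial (Fin n) A ⧸ K₀)) := isPairHenselization_H _ _
  obtain ⟨P, _, _, hPS⟩ : ∃ (P : Type u) (_ : CommRing P) (_ : Algebra (MvPolynomial (Fin n) A) P),
      Hens2.IsPairHenselization (MvPolynomial (Fin n) A) K₀ P := ⟨_, _, _, hPS⟩
  letI : Algebra A P :=
    ((algebraMap (MvPolynomial (Fin n) A) P).comp (algebraMap A (MvPolynomial (Fin n) A))).toAlgebra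
  haveI : IsScalarTower A (MvPolynomial (Fin n) A) P :=
    IsScalarTower.of_algebraMap_eq (fun _ => rfl)
  have hKf : K₀.map (f : MvPolynomial (Fin n) A →+* a.1) = Jd I a := by
    rw [hK₀, Ideal.map_map]
    congr 1
    exact f.comp_algebraMap
  have hle : K₀.map ((algebraMap a.1 (Rh I a)).comp (f : MvPolynomial (Fin n) A →+* a.1)) ≤
      (Jd I a).map (algebraMap a.1 (Rh I a)) := by
    rw [← Ideal.map_map, hKf]
  obtain ⟨φ₀, hφ₀, -⟩ := hPS.2 (Rh I a) ((Jd I a).map (algebraMap a.1 (Rh I a)))
    ((algebraMap a.1 (Rh I a)).comp (f : MvPolynomial (Fin n) A →+* a.1)) (hP I a).1 hle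
  have hB' : Hens2.IsPairHenselization a.1 (K₀.map (f : MvPolynomial (Fin n) A →+* a.1))
      (Rh I a) := by
    rw [hKf]; exact hP I a
  obtain ⟨hφ₀surj, -⟩ := surjective_and_ker_of_surjective K₀ P hPS
    (f : MvPolynomial (Fin n) A →+* a.1) hf (Rh I a) hB' φ₀ hφ₀
  have hlamsurj : Function.Surjective (lam I a) := fun b => ⟨φ b, hφ b⟩
  let π : P →ₐ[A] B :=
    { (lam I a).comp φ₀ with
      commutes' := fun x => by
        show lam I a (φ₀ (algebraMap (MvPolynomial (Fin n) A) P
          (algebraMap A (MvPolynomial (Fin n) A) x))) = algebraMap A B x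
        have e1 := RingHom.congr_fun hφ₀ (algebraMap A (MvPolynomial (Fin n) A) x)
        simp only [RingHom.comp_apply] at e1
        rw [e1]
        have e2 : (f : MvPolynomial (Fin n) A →+* a.1) (algebraMap A (MvPolynomial (Fin n) A) x) =
            algebraMap A a.1 x := f.commutes x
        rw [e2, lam_algebraMap]
        rfl }
  have hπ : Function.Surjective π := hlamsurj.comp hφ₀surj
  subst hK₀
  have hfg := fg_ker I π hπ h (MvPolynomial (Fin n) A) hPS
  exact exists_fp_of_henselized_polynomial_surjection I B n P hPS π hπ hfg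

end Groth.Agent.H3.Colim
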