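import Mathlib

/-!
# Rescaling the variables of a presentation (helper3)

For `w : I → K`, the substitution `θ_w : X i ↦ C (w i) * X i` on `K[X_I]`, its chain rule, and the
effect on the kernel of an evaluation map.
-/

set_option autoImplicit false
universe u

namespace Groth.Agent.H3.Deloc

open MvPolynomial

section
variable {K : Type*} [CommRing K] {I : Type*}

/-- The rescaling substitution `X i ↦ C (w i) * X i`. -/
noncomputable def scale (w : I → K) : MvPolynomial I K →ₐ[K] MvPolynomial I K :=
  aeval (fun i => C (w i) * X i)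

@[simp] theorem scale_X (w : I → K) (i : I) : scale w (X i) = C (w i) * X i := by
  simp [scale]

@[simp] theorem scale_C (w : I → K) (a : K) : scale w (C a) = C a := by
  simp [scale]

theorem scale_comp_scale (w w' : I → K) (h : ∀ i, w i * w' i = 1) :
    (scale w).comp (scale w') = AlgHom.id K _ := by
  apply MvPolynomial.algHom_ext
  intro i
  simp only [AlgHom.comp_apply, scale_X, map_mul, scale_C, AlgHom.id_apply]
  rw [← mul_assoc, ← C_mul, mul_comm (w' i), h, C_1, one_mul]

theorem scale_scale (w w' : I → K) (h : ∀ i, w i * w' i = 1) (p : MvPolynomial I K) :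
    scale w (scale w' p) = p := by
  have := congrArg (fun f => f p) (scale_comp_scale w w' h)
  simpa using this

/-- Chain rule for the rescaling substitution. -/
theorem pderiv_scale (w : I → K) (i : I) (F : MvPolynomial I K) :
    pderiv i (scale w F) = C (w i) * scale w (pderiv i F) := by
  classical
  induction F using MvPolynomial.induction_on with
  | C a => simp
  | add p q hp hq => simp only [map_add, hp, hq, mul_add]
  | mul_X p j hp =>
    simp only [map_mul, scale_X, Derivation.leibniz, smul_eq_mul, hp, pderiv_X,
      map_add, pderiv_C, mul_zero, add_zero]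
    by_cases hij : i = j
    · subst hij
      simp only [Pi.single_eq_same, map_one]
      ring
    · have h0 : (Pi.single (M := fun _ => MvPolynomial I K) i 1 j) = 0 :=
        Pi.single_eq_of_ne (Ne.symm hij) _
      simp only [h0, map_zero, mul_zero, add_zero, zero_add]
      ring

variable {B : Type*} [CommRing B] [Algebra K B]

theorem aeval_smul_comp_scale (w w' : I → K) (h : ∀ i, w i * w' i = 1) (v₀ : I → B) :
    (aeval (fun i => w' i • v₀ i)).comp (scale w) = (aeval v₀ : MvPolynomial I K →ₐ[K] B) := by
  apply MvPolynomial.algHom_ext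
  intro i
  simp only [AlgHom.comp_apply, scale_X, map_mul, aeval_C, aeval_X, Algebra.algebraMap_eq_smul_one,
    smul_mul_assoc, one_mul]
  rw [smul_smul, h, one_smul]

theorem aeval_smul_scale (w w' : I → K) (h : ∀ i, w i * w' i = 1) (v₀ : I → B)
    (p : MvPolynomial I K) :
    aeval (fun i => w' i • v₀ i) (scale w p) = aeval v₀ p := by
  have := congrArg (fun f => f p) (aeval_smul_comp_scale w w' h v₀)
  simpa using this

theorem aeval_comp_scale (w' : I → K) (v₀ : I → B) :
    (aeval v₀ : MvPolynomial I K →ₐ[K] B).comp (scale w') = aeval (fun i => w' i • v₀ i) := by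
  apply MvPolynomial.algHom_ext
  intro i
  simp only [AlgHom.comp_apply, scale_X, map_mul, aeval_C, aeval_X, Algebra.algebraMap_eq_smul_one,
    smul_mul_assoc, one_mul]

theorem aeval_scale (w' : I → K) (v₀ : I → B) (p : MvPolynomial I K) :
    aeval v₀ (scale w' p) = aeval (fun i => w' i • v₀ i) p := by
  have := congrArg (fun f => f p) (aeval_comp_scale w' v₀)
  simpa using this

/-- Rescaled generators still generate. -/
theorem aeval_smul_surjective (w w' : I → K) (h : ∀ i, w i * w' i = 1) (v₀ : I → B)
    (hs : Function.Surjective (aeval v₀ : MvPolynomial I K →ₐ[K] B)) :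
    Function.Surjective (aeval (fun i => w' i • v₀ i) : MvPolynomial I K →ₐ[K] B) := by
  intro b
  obtain ⟨p, rfl⟩ := hs b
  exact ⟨scale w p, aeval_smul_scale w w' h v₀ p⟩

/-- The kernel of the evaluation at rescaled generators is generated by the rescaled relations. -/
theorem ker_aeval_smul {J : Type*} (w w' : I → K) (h : ∀ i, w i * w' i = 1) (v₀ : I → B)
    (rel₀ : J → MvPolynomial I K)
    (hker : RingHom.ker (aeval v₀ : MvPolynomial I K →ₐ[K] B).toRingHom =
      Ideal.span (Set.range rel₀)) :
    RingHom.ker (aeval (fun i => w' i • v₀ i) : MvPolynomial I K →ₐ[K] B).toRingHom =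
      Ideal.span (Set.range fun j => scale w (rel₀ j)) := by
  have h' : ∀ i, w' i * w i = 1 := fun i => by rw [mul_comm]; exact h i
  apply le_antisymm
  · intro p hp
    have hp' : aeval (fun i => w' i • v₀ i) p = 0 := hp
    rw [← aeval_scale] at hp'
    have h1 : scale w' p ∈ Ideal.span (Set.range rel₀) := by
      rw [← hker]; exact hp'
    have h2 : scale w (scale w' p) ∈ (Ideal.span (Set.range rel₀)).map (scale w) :=
      Ideal.mem_map_of_mem _ h1
    rw [scale_scale w w' h] at h2
    refine (?_ : (Ideal.span (Set.range rel₀)).map (scale w) ≤ _) h2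
    rw [Ideal.map_span, Ideal.span_le]
    rintro _ ⟨_, ⟨j, rfl⟩, rfl⟩
    exact Ideal.subset_span ⟨j, rfl⟩
  · rw [Ideal.span_le]
    rintro _ ⟨j, rfl⟩
    show aeval (fun i => w' i • v₀ i) (scale w (rel₀ j)) = 0
    rw [aeval_smul_scale w w' h]
    have : rel₀ j ∈ RingHom.ker (aeval v₀ : MvPolynomial I K →ₐ[K] B).toRingHom := by
      rw [hker]; exact Ideal.subset_span ⟨j, rfl⟩
    exact this

end

end Groth.Agent.H3.Deloc
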