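import Groth.Agent.H3.Jac4

/-!
# Elementary standard elements from presentations indexed by finite types (helper3)
-/

set_option autoImplicit false
universe u

namespace Groth.Agent.H3.Deloc

open MvPolynomial Smoothing

theorem isElementaryStandard_of_fintype {R A : Type u} [CommRing R] [CommRing A] [Algebra R A]
    {I J K : Type*} [Fintype I] [Fintype J] [Fintype K] [DecidableEq K]
    (f : J → MvPolynomial I R) (φ : MvPolynomial I R →ₐ[R] A)
    (hφ : Function.Surjective φ)
    (hker : RingHom.ker φ.toRingHom = Ideal.span (Set.range f))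
    (rows : K ↪ J) (cols : K ↪ I) (a a' : A)
    (ha : a = a' * φ (Matrix.det (Matrix.of fun j k : K => pderiv (cols k) (f (rows j)))))
    (hkill : ∀ a₁ : MvPolynomial I R, φ a₁ = a → ∀ ℓ : J,
        a₁ * f ℓ ∈ Ideal.span (Set.range (f ∘ rows)) ⊔ Ideal.span (Set.range f) ^ 2) :
    IsElementaryStandard R A a := by
  classical
  let eI : I ≃ Fin (Fintype.card I) := Fintype.equivFin I
  let eJ : J ≃ Fin (Fintype.card J) := Fintype.equivFin J
  let eK : K ≃ Fin (Fintype.card K) := Fintype.equivFin K
  let ρ : MvPolynomial I R ≃ₐ[R] MvPolynomial (Fin (Fintype.card I)) R := renameEquiv R eI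
  have hρ : ∀ x, ρ x = rename eI x := fun x => rfl
  let f' : Fin (Fintype.card J) → MvPolynomial (Fin (Fintype.card I)) R :=
    fun m => ρ (f (eJ.symm m))
  let φ' : MvPolynomial (Fin (Fintype.card I)) R →ₐ[R] A := φ.comp ρ.symm.toAlgHom
  let rows' : Fin (Fintype.card K) ↪ Fin (Fintype.card J) :=
    eK.symm.toEmbedding.trans (rows.trans eJ.toEmbedding)
  let cols' : Fin (Fintype.card K) ↪ Fin (Fintype.card I) :=
    eK.symm.toEmbedding.trans (cols.trans eI.toEmbedding)
  have hmap : (Ideal.span (Set.range f)).map ρ.toAlgHom = Ideal.span (Set.range f') := by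
    rw [Ideal.map_span]
    congr 1
    ext x
    constructor
    · rintro ⟨_, ⟨j, rfl⟩, rfl⟩
      exact ⟨eJ j, by simp [f']⟩
    · rintro ⟨m, rfl⟩
      exact ⟨f (eJ.symm m), ⟨_, rfl⟩, rfl⟩
  have hmap2 : (Ideal.span (Set.range (f ∘ rows))).map ρ.toAlgHom =
      Ideal.span (Set.range (f' ∘ rows')) := by
    rw [Ideal.map_span]
    congr 1
    ext x
    constructor
    · rintro ⟨_, ⟨j, rfl⟩, rfl⟩
      exact ⟨eK j, by simp [f', rows']⟩
    · rintro ⟨m, rfl⟩
      exact ⟨f (rows (eK.symm m)), ⟨_, rfl⟩, by simp [f', rows']⟩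
  refine Jac.isElementaryStandard_of_rows_cols f' φ' (hφ.comp ρ.symm.surjective) ?_ rows' cols'
    a a' ?_ ?_
  · rw [← hmap]
    ext x
    constructor
    · intro hx
      have hx' : ρ.symm x ∈ RingHom.ker φ.toRingHom := hx
      rw [hker] at hx'
      have := Ideal.mem_map_of_mem ρ.toAlgHom hx'
      simpa using this
    · intro hx
      have h1 : (Ideal.span (Set.range f)).map ρ.toAlgHom ≤
          (RingHom.ker φ.toRingHom).comap ρ.symm.toAlgHom := by
        rw [Ideal.map_le_iff_le_comap, hker]
        intro y hy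
        show ρ.symm (ρ y) ∈ Ideal.span (Set.range f)
        rw [AlgEquiv.symm_apply_apply]
        exact hy
      exact h1 hx
  · rw [ha]
    congr 1
    show φ _ = φ (ρ.symm _)
    congr 1
    rw [AlgEquiv.eq_symm_apply]
    unfold jacobianMinor
    rw [AlgEquiv.map_det]
    have : (Matrix.of fun j k : Fin (Fintype.card K) => pderiv (cols' k) (f' (rows' j))) =
        (ρ.mapMatrix (Matrix.of fun j k : K => pderiv (cols k) (f (rows j)))).submatrix
          eK.symm eK.symm := by
      refine Matrix.ext fun j k => ?_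
      simp only [Matrix.of_apply, Matrix.submatrix_apply, AlgEquiv.mapMatrix_apply,
        Matrix.map_apply]
      show pderiv (eI (cols (eK.symm k))) (ρ (f (eJ.symm (eJ (rows (eK.symm j)))))) = _
      rw [Equiv.symm_apply_apply, hρ, hρ, pderiv_rename eI.injective]
    rw [this, Matrix.det_submatrix_equiv_self]
  · intro a₁ ha₁ ℓ
    have h1 := hkill (ρ.symm a₁) ha₁ (eJ.symm ℓ)
    have h2 := Ideal.mem_map_of_mem ρ.toAlgHom h1
    rw [Ideal.map_sup, Ideal.map_pow, hmap, hmap2] at h2
    convert h2 using 1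
    simp [f']

end Groth.Agent.H3.Deloc
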