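import Mathlib

/-!
# Clearing denominators in polynomial rings over a localization (helper3)
-/

set_option autoImplicit false
universe u

namespace Groth.Agent.H3.Deloc

open MvPolynomial

section
variable {R : Type*} [CommRing R] (S : Submonoid R) (Rₛ : Type*) [CommRing Rₛ] [Algebra R Rₛ]
  [IsLocalization S Rₛ] {I : Type*}

attribute [local instance] MvPolynomial.algebraMvPolynomial

/-- Clearing denominators of a polynomial over a localization. -/
theorem exists_clear (F : MvPolynomial I Rₛ) :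
    ∃ (s : R) (_ : s ∈ S) (F' : MvPolynomial I R),
      MvPolynomial.map (algebraMap R Rₛ) F' = C (algebraMap R Rₛ s) * F := by
  obtain ⟨⟨F', ⟨_, s, hs, rfl⟩⟩, h⟩ :=
    IsLocalization.surj (M := S.map (C (σ := I))) (S := MvPolynomial I Rₛ) F
  refine ⟨s, hs, F', ?_⟩
  simp only [MvPolynomial.algebraMap_def, map_C] at h
  rw [← h, mul_comm]

/-- Descent of ideal membership along `R[X] → Rₛ[X]`. -/
theorem exists_mul_mem (𝔟 : Ideal (MvPolynomial I R)) (p : MvPolynomial I R)
    (hp : MvPolynomial.map (algebraMap R Rₛ) p ∈ 𝔟.map (MvPolynomial.map (algebraMap R Rₛ))) :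
    ∃ (s : R) (_ : s ∈ S), C s * p ∈ 𝔟 := by
  have hp' : algebraMap (MvPolynomial I R) (MvPolynomial I Rₛ) p ∈
      𝔟.map (algebraMap (MvPolynomial I R) (MvPolynomial I Rₛ)) := hp
  rw [IsLocalization.mem_map_algebraMap_iff (S.map (C (σ := I)))] at hp'
  obtain ⟨⟨⟨b, hb⟩, ⟨_, s, hs, rfl⟩⟩, h⟩ := hp'
  simp only at h
  rw [← map_mul] at h
  obtain ⟨⟨_, t, ht, rfl⟩, h2⟩ := (IsLocalization.eq_iff_exists (S.map (C (σ := I))) _).mp h
  simp only at h2
  refine ⟨t * s, S.mul_mem ht hs, ?_⟩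
  have : C (t * s) * p = C t * b := by
    rw [← h2, C_mul]; ring
  rw [this]
  exact Ideal.mul_mem_left _ _ hb

end

end Groth.Agent.H3.Deloc
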