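import Groth.Agent.H3.Deloc1
import Groth.Agent.H3.Deloc2
import Groth.Agent.H3.Deloc3

/-!
# Delocalizing a standard smooth presentation (helper3): core of `Smoothing.delocalize_base`
-/

set_option autoImplicit false
universe u

namespace Groth.Agent.H3.Deloc

open MvPolynomial Smoothing

theorem aeval_map_algebraMap' {R Rₛ B' : Type*} [CommRing R] [CommRing Rₛ] [Algebra R Rₛ]
    [CommRing B'] [Algebra Rₛ B'] [Algebra R B'] [IsScalarTower R Rₛ B'] {I : Type*}
    (v : I → B') (p : MvPolynomial I R) :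
    aeval v (MvPolynomial.map (algebraMap R Rₛ) p) = aeval v p := by
  rw [aeval_def, aeval_def, eval₂_map, ← IsScalarTower.algebraMap_eq]

set_option maxHeartbeats 1600000 in
theorem core {R Λ Rₛ L B' : Type u} [CommRing R] [CommRing Λ] [Algebra R Λ] (S : Submonoid R)
    [CommRing Rₛ] [Algebra R Rₛ] [IsLocalization S Rₛ]
    [CommRing L] [Algebra Rₛ L] [Algebra R L] [IsScalarTower R Rₛ L]
    (ιΛ : Λ →ₐ[R] L)
    (hsurj : ∀ z : L, ∃ (s : R) (_ : s ∈ S) (μ : Λ), s • z = ιΛ μ)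
    (hinj : ∀ μ : Λ, ιΛ μ = 0 → ∃ (s : R) (_ : s ∈ S), s • μ = 0)
    [CommRing B'] [Algebra Rₛ B'] [Algebra R B'] [IsScalarTower R Rₛ B']
    (h : B' →ₐ[Rₛ] L)
    {I J : Type} [Finite I] [Fintype J] [DecidableEq J]
    (v₀ : I → B') (rel₀ : J → MvPolynomial I Rₛ) (m : J → I) (hm : Function.Injective m)
    (hsurj₀ : Function.Surjective (aeval v₀ : MvPolynomial I Rₛ →ₐ[Rₛ] B'))
    (hker₀ : RingHom.ker (aeval v₀ : MvPolynomial I Rₛ →ₐ[Rₛ] B').toRingHom =
      Ideal.span (Set.range rel₀))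
    (hunit : IsUnit (aeval v₀ (Matrix.det (Matrix.of fun j k : J => pderiv (m k) (rel₀ j)))))
    {n t : ℕ} (x : Fin n → I) (hx : Function.Injective x) (lam : Fin n → Λ)
    (hlam : ∀ i, h (v₀ (x i)) = ιΛ (lam i))
    (G : Fin t → MvPolynomial (Fin n) R)
    (hG : ∀ k, aeval lam (G k) = 0)
    (hG' : ∀ k, aeval (fun i => v₀ (x i)) (G k) = 0) :
    ∃ (B : Type u) (_ : CommRing B) (_ : Algebra R B) (y : Fin n → B) (β : B →ₐ[R] Λ),
      (∀ i, β (y i) = lam i) ∧ (∀ k, aeval y (G k) = 0) ∧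
      ∃ s ∈ S, Smoothing.IsElementaryStandard R B (algebraMap R B s) := by
  classical
  cases nonempty_fintype I
  -- Step 1: scalars
  have hch : ∀ i' : I, ∃ (s : R) (_ : s ∈ S) (μ : Λ), s • h (v₀ i') = ιΛ μ ∧
      (∀ i, x i = i' → s = 1 ∧ μ = lam i) := by
    intro i'
    by_cases hi : ∃ i, x i = i'
    · obtain ⟨i, rfl⟩ := hi
      refine ⟨1, S.one_mem, lam i, by rw [one_smul, hlam], ?_⟩
      intro i₂ hi₂
      rw [hx hi₂]; exact ⟨rfl, rfl⟩
    · obtain ⟨s, hs, μ, hμ⟩ := hsurj (h (v₀ i'))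
      exact ⟨s, hs, μ, hμ, fun i hi' => (hi ⟨i, hi'⟩).elim⟩
  choose u hu μ hμ hμx using hch
  -- Step 2: rescale
  let w' : I → Rₛ := fun i' => algebraMap R Rₛ (u i')
  let w : I → Rₛ := fun i' => IsLocalization.mk' Rₛ (1 : R) (⟨u i', hu i'⟩ : S)
  have hww : ∀ i', w i' * w' i' = 1 := by
    intro i'
    show IsLocalization.mk' Rₛ (1 : R) (⟨u i', hu i'⟩ : S) * algebraMap R Rₛ (u i') = 1
    have := IsLocalization.mk'_spec Rₛ (1 : R) (⟨u i', hu i'⟩ : S)
    rw [map_one] at this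
    exact this
  let v : I → B' := fun i' => w' i' • v₀ i'
  let F : J → MvPolynomial I Rₛ := fun j => scale w (rel₀ j)
  have hkerv : RingHom.ker (aeval v : MvPolynomial I Rₛ →ₐ[Rₛ] B').toRingHom =
      Ideal.span (Set.range F) := ker_aeval_smul w w' hww v₀ rel₀ hker₀
  have hsurjv : Function.Surjective (aeval v : MvPolynomial I Rₛ →ₐ[Rₛ] B') :=
    aeval_smul_surjective w w' hww v₀ hsurj₀
  have hFv : ∀ j, aeval v (F j) = 0 := by
    intro j
    have : F j ∈ RingHom.ker (aeval v : MvPolynomial I Rₛ →ₐ[Rₛ] B').toRingHom := by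
      rw [hkerv]; exact Ideal.subset_span ⟨j, rfl⟩
    exact this
  have hhv : ∀ i', h (v i') = ιΛ (μ i') := by
    intro i'
    show h (algebraMap R Rₛ (u i') • v₀ i') = _
    rw [map_smul, algebraMap_smul, hμ]
  -- Step 2b: evaluation
  have heval : ∀ p₀ : MvPolynomial I R,
      h (aeval v (MvPolynomial.map (algebraMap R Rₛ) p₀)) = ιΛ (aeval μ p₀) := by
    intro p₀
    induction p₀ using MvPolynomial.induction_on with
    | C r =>
      rw [map_C, aeval_C, aeval_C, AlgHom.commutes, AlgHom.commutes,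
        ← IsScalarTower.algebraMap_apply]
    | add p q hp hq => simp only [map_add, hp, hq]
    | mul_X p i hp => simp only [map_mul, hp, map_X, aeval_X, hhv]
  -- Step 3: clear denominators in the relations
  have hcl : ∀ j, ∃ (d : R) (_ : d ∈ S) (F' : MvPolynomial I R),
      MvPolynomial.map (algebraMap R Rₛ) F' = C (algebraMap R Rₛ d) * F j ∧ aeval μ F' = 0 := by
    intro j
    obtain ⟨d₁, hd₁, F₁, hF₁⟩ := exists_clear S Rₛ (F j)
    have h0 : ιΛ (aeval μ F₁) = 0 := by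
      rw [← heval, hF₁, map_mul, hFv, mul_zero, map_zero]
    obtain ⟨d₂, hd₂, h2⟩ := hinj _ h0
    refine ⟨d₂ * d₁, S.mul_mem hd₂ hd₁, C d₂ * F₁, ?_, ?_⟩
    · rw [map_mul, map_C, hF₁, map_mul, C_mul, mul_assoc]
    · rw [map_mul, aeval_C, ← Algebra.smul_def, h2]
  choose d hd Fh hFh hFhμ using hcl
  -- Step 4: the relations of A
  let Gh : Fin t → MvPolynomial I R := fun k => rename x (G k)
  have hGhμ : ∀ k, aeval μ (Gh k) = 0 := by
    intro k
    show aeval μ (rename x (G k)) = 0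
    rw [aeval_rename]
    have : (μ ∘ x) = lam := funext fun i => (hμx (x i) i rfl).2
    rw [this, hG]
  have hGhv : ∀ k, aeval v (MvPolynomial.map (algebraMap R Rₛ) (Gh k)) = 0 := by
    intro k
    rw [aeval_map_algebraMap']
    show aeval v (rename x (G k)) = 0
    rw [aeval_rename]
    have : (v ∘ x) = fun i => v₀ (x i) := by
      funext i
      show algebraMap R Rₛ (u (x i)) • v₀ (x i) = v₀ (x i)
      rw [(hμx (x i) i rfl).1, map_one, one_smul]
    rw [this, hG']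
  -- Step 5: the algebra B
  let rel : J ⊕ Fin t → MvPolynomial I R := Sum.elim Fh Gh
  let 𝔞 : Ideal (MvPolynomial I R) := Ideal.span (Set.range rel)
  have hFh𝔞 : Ideal.span (Set.range Fh) ≤ 𝔞 := by
    rw [Ideal.span_le]
    rintro _ ⟨j, rfl⟩
    exact Ideal.subset_span ⟨Sum.inl j, rfl⟩
  have hβ : ∀ a ∈ 𝔞, (aeval μ : MvPolynomial I R →ₐ[R] Λ) a = 0 := by
    have : 𝔞 ≤ RingHom.ker (aeval μ : MvPolynomial I R →ₐ[R] Λ).toRingHom := by
      rw [Ideal.span_le]
      rintro _ ⟨j | k, rfl⟩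
      · exact hFhμ j
      · exact hGhμ k
    exact fun a ha => this ha
  let β : (MvPolynomial I R ⧸ 𝔞) →ₐ[R] Λ := Ideal.Quotient.liftₐ 𝔞 (aeval μ) hβ
  let y : Fin n → MvPolynomial I R ⧸ 𝔞 := fun i => Ideal.Quotient.mk 𝔞 (X (x i))
  have hy : ∀ p : MvPolynomial (Fin n) R, aeval y p = Ideal.Quotient.mk 𝔞 (rename x p) := by
    intro p
    have : (aeval y : MvPolynomial (Fin n) R →ₐ[R] _) =
        (Ideal.Quotient.mkₐ R 𝔞).comp (rename x) := by
      apply MvPolynomial.algHom_ext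
      intro i
      simp [y]
    rw [this]
    rfl
  -- the ideal generated by `F` is the extension of the one generated by `Fh`
  have hFle : Ideal.span (Set.range F) ≤
      (Ideal.span (Set.range Fh)).map (MvPolynomial.map (algebraMap R Rₛ)) := by
    rw [Ideal.span_le]
    rintro _ ⟨j, rfl⟩
    have h1 : F j = C (IsLocalization.mk' Rₛ (1 : R) (⟨d j, hd j⟩ : S)) *
        MvPolynomial.map (algebraMap R Rₛ) (Fh j) := by
      rw [hFh, ← mul_assoc, ← C_mul]
      have := IsLocalization.mk'_spec Rₛ (1 : R) (⟨d j, hd j⟩ : S)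
      rw [map_one] at this
      rw [this, C_1, one_mul]
    rw [h1]
    exact Ideal.mul_mem_left _ _ (Ideal.mem_map_of_mem _ (Ideal.subset_span ⟨j, rfl⟩))
  have hdesc : ∀ p : MvPolynomial I R, aeval v (MvPolynomial.map (algebraMap R Rₛ) p) = 0 →
      ∃ (s : R) (_ : s ∈ S), C s * p ∈ Ideal.span (Set.range Fh) := by
    intro p hp
    apply exists_mul_mem S Rₛ
    apply hFle
    rw [← hkerv]
    exact hp
  -- Step 6: the tail relations are killed
  have hb : ∃ s₂ ∈ S, ∀ k, C s₂ * Gh k ∈ Ideal.span (Set.range Fh) := by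
    have : ∀ k, ∃ (s : R) (_ : s ∈ S), C s * Gh k ∈ Ideal.span (Set.range Fh) :=
      fun k => hdesc _ (hGhv k)
    choose sk hsk hsk' using this
    refine ⟨∏ k, sk k, S.prod_mem fun k _ => hsk k, fun k => ?_⟩
    rw [← Finset.prod_erase_mul _ _ (Finset.mem_univ k), C_mul, mul_assoc]
    exact Ideal.mul_mem_left _ _ (hsk' k)
  -- Step 7: the Jacobian minor
  let Δ : MvPolynomial I R := Matrix.det (Matrix.of fun j k : J => pderiv (m k) (Fh j))
  have hΔunit : IsUnit (aeval v (MvPolynomial.map (algebraMap R Rₛ) Δ)) := by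
    have h1 : aeval v (MvPolynomial.map (algebraMap R Rₛ) Δ) =
        Matrix.det (Matrix.of fun j k : J =>
          aeval v (MvPolynomial.map (algebraMap R Rₛ) (pderiv (m k) (Fh j)))) := by
      show aeval v (MvPolynomial.map (algebraMap R Rₛ) (Matrix.det _)) = _
      rw [RingHom.map_det, AlgHom.map_det]
      rfl
    have h2 : (Matrix.of fun j k : J =>
          aeval v (MvPolynomial.map (algebraMap R Rₛ) (pderiv (m k) (Fh j)))) =
        Matrix.diagonal (fun j => algebraMap Rₛ B' (algebraMap R Rₛ (d j))) *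
          (Matrix.of fun j k : J => aeval v₀ (pderiv (m k) (rel₀ j))) *
          Matrix.diagonal (fun k => algebraMap Rₛ B' (w (m k))) := by
      refine Matrix.ext fun j k => ?_
      rw [Matrix.mul_diagonal, Matrix.diagonal_mul, Matrix.of_apply, Matrix.of_apply,
        ← pderiv_map, hFh, pderiv_C_mul]
      show aeval v (C _ * pderiv (m k) (scale w (rel₀ j))) = _
      rw [pderiv_scale, map_mul, map_mul, aeval_C, aeval_C]
      show _ * (_ * aeval (fun i => w' i • v₀ i) (scale w _)) = _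
      rw [aeval_smul_scale w w' hww]
      ring
    have h3 : Matrix.det (Matrix.of fun j k : J => aeval v₀ (pderiv (m k) (rel₀ j))) =
        aeval v₀ (Matrix.det (Matrix.of fun j k : J => pderiv (m k) (rel₀ j))) := by
      rw [AlgHom.map_det]
      rfl
    rw [h1, h2, Matrix.det_mul, Matrix.det_mul, Matrix.det_diagonal, Matrix.det_diagonal, h3]
    refine IsUnit.mul (IsUnit.mul ?_ hunit) ?_
    · rw [IsUnit.prod_univ_iff]
      intro j
      exact (IsLocalization.map_units Rₛ (⟨d j, hd j⟩ : S)).map (algebraMap Rₛ B')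
    · rw [IsUnit.prod_univ_iff]
      intro k
      refine IsUnit.map (algebraMap Rₛ B') ?_
      exact IsUnit.of_mul_eq_one _ (hww (m k))
  have ha : ∃ s₁ ∈ S, ∃ b : MvPolynomial I R,
      C s₁ - b * Δ ∈ Ideal.span (Set.range Fh) := by
    obtain ⟨W', hW'⟩ := hΔunit.exists_left_inv
    obtain ⟨W, rfl⟩ := hsurjv W'
    obtain ⟨dW, hdW, Wh, hWh⟩ := exists_clear S Rₛ W
    have h0 : aeval v (MvPolynomial.map (algebraMap R Rₛ) (C dW - Wh * Δ)) = 0 := by
      rw [map_sub, map_mul, hWh, map_sub, map_mul, map_mul, mul_assoc, hW', map_C, mul_one,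
        sub_self]
    obtain ⟨s', hs', h1⟩ := hdesc _ h0
    refine ⟨s' * dW, S.mul_mem hs' hdW, C s' * Wh, ?_⟩
    have : C (s' * dW) - C s' * Wh * Δ = C s' * (C dW - Wh * Δ) := by
      rw [C_mul]; ring
    rw [this]
    exact h1
  -- Step 8: conclusion
  obtain ⟨s₂, hs₂, hs₂'⟩ := hb
  obtain ⟨s₁, hs₁, b, hb'⟩ := ha
  refine ⟨MvPolynomial I R ⧸ 𝔞, inferInstance, inferInstance, y, β, ?_, ?_, s₁ * s₂,
    S.mul_mem hs₁ hs₂, ?_⟩
  · intro i
    show β (Ideal.Quotient.mk 𝔞 (X (x i))) = lam i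
    show (Ideal.Quotient.liftₐ 𝔞 (aeval μ) hβ) (Ideal.Quotient.mk 𝔞 (X (x i))) = lam i
    rw [Ideal.Quotient.liftₐ_apply, Ideal.Quotient.lift_mk]
    show aeval μ (X (x i)) = lam i
    rw [aeval_X]
    exact (hμx (x i) i rfl).2
  · intro k
    rw [hy, Ideal.Quotient.eq_zero_iff_mem]
    exact Ideal.subset_span ⟨Sum.inr k, rfl⟩
  · have hrange : Ideal.span (Set.range (rel ∘ (⟨Sum.inl, Sum.inl_injective⟩ : J ↪ J ⊕ Fin t))) =
        Ideal.span (Set.range Fh) := rfl
    refine isElementaryStandard_of_fintype (K := J) rel (Ideal.Quotient.mkₐ R 𝔞)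
      (Ideal.Quotient.mkₐ_surjective R 𝔞) ?_ ⟨Sum.inl, Sum.inl_injective⟩ ⟨m, hm⟩
      (algebraMap R _ (s₁ * s₂)) (Ideal.Quotient.mk 𝔞 (C s₂ * b)) ?_ ?_
    · ext p
      show Ideal.Quotient.mk 𝔞 p = 0 ↔ p ∈ 𝔞
      exact Ideal.Quotient.eq_zero_iff_mem
    · show Ideal.Quotient.mk 𝔞 (C (s₁ * s₂)) = Ideal.Quotient.mk 𝔞 (C s₂ * b) *
        Ideal.Quotient.mk 𝔞 Δ
      rw [← map_mul, Ideal.Quotient.eq]
      have : C (s₁ * s₂) - C s₂ * b * Δ = C s₂ * (C s₁ - b * Δ) := by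
        rw [C_mul]; ring
      rw [this]
      exact Ideal.mul_mem_left _ _ (hFh𝔞 hb')
    · intro a₁ ha₁ ℓ
      rw [hrange]
      rcases ℓ with j | k
      · exact Ideal.mem_sup_left (Ideal.mul_mem_left _ _ (Ideal.subset_span ⟨j, rfl⟩))
      · have h1 : a₁ - C (s₁ * s₂) ∈ 𝔞 := by
          rw [← Ideal.Quotient.eq]
          exact ha₁
        have h2 : a₁ * rel (Sum.inr k) = C s₁ * (C s₂ * Gh k) + (a₁ - C (s₁ * s₂)) * Gh k := by
          show a₁ * Gh k = _
          rw [C_mul]; ring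
        rw [h2]
        refine Ideal.add_mem _ (Ideal.mem_sup_left (Ideal.mul_mem_left _ _ (hs₂' k)))
          (Ideal.mem_sup_right ?_)
        rw [pow_two]
        exact Ideal.mul_mem_mul h1 (Ideal.subset_span ⟨Sum.inr k, rfl⟩)

end Groth.Agent.H3.Deloc
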