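import Groth.Agent.H3.Deloc4
import Groth.Agent.H34.SubmExtend
import Groth.Agent.S2025

/-!
# `Smoothing.delocalize_base` (helper3)
-/

set_option autoImplicit false
universe u

namespace Groth.Agent.H3.Deloc

open MvPolynomial Smoothing TensorProduct

/-- The localization properties of `Rₛ ⊗[R] Λ`. -/
theorem tensor_surj {R Λ Rₛ : Type*} [CommRing R] [CommRing Λ] [Algebra R Λ] (S : Submonoid R)
    [CommRing Rₛ] [Algebra R Rₛ] [IsLocalization S Rₛ] (z : Rₛ ⊗[R] Λ) :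
    ∃ (s : R) (_ : s ∈ S) (μ : Λ), s • z = (1 : Rₛ) ⊗ₜ[R] μ := by
  haveI : IsLocalizedModule S (TensorProduct.mk R Rₛ Λ 1) :=
    (isLocalizedModule_iff_isBaseChange S Rₛ _).mpr (TensorProduct.isBaseChange R Λ Rₛ)
  obtain ⟨⟨μ, s⟩, h⟩ := IsLocalizedModule.surj S (TensorProduct.mk R Rₛ Λ 1) z
  exact ⟨s, s.2, μ, h⟩

theorem tensor_inj {R Λ Rₛ : Type*} [CommRing R] [CommRing Λ] [Algebra R Λ] (S : Submonoid R)
    [CommRing Rₛ] [Algebra R Rₛ] [IsLocalization S Rₛ] (μ : Λ)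
    (h : (1 : Rₛ) ⊗ₜ[R] μ = 0) : ∃ (s : R) (_ : s ∈ S), s • μ = 0 := by
  haveI : IsLocalizedModule S (TensorProduct.mk R Rₛ Λ 1) :=
    (isLocalizedModule_iff_isBaseChange S Rₛ _).mpr (TensorProduct.isBaseChange R Λ Rₛ)
  have h' : TensorProduct.mk R Rₛ Λ 1 μ = TensorProduct.mk R Rₛ Λ 1 0 := by
    rw [map_zero]; exact h
  obtain ⟨c, hc⟩ := IsLocalizedModule.exists_of_eq (S := S) h'
  refine ⟨c, c.2, ?_⟩
  rw [smul_zero] at hc
  exact hc

/-- `delocalize_base` when `B'` is standard smooth. -/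
theorem delocalize_std {R A Λ Rₛ B' : Type u} [CommRing R] [CommRing A] [Algebra R A]
    [Algebra.FinitePresentation R A] [CommRing Λ] [Algebra R Λ] (φ : A →ₐ[R] Λ) (S : Submonoid R)
    [CommRing Rₛ] [Algebra R Rₛ] [IsLocalization S Rₛ] [CommRing B'] [Algebra Rₛ B']
    [Algebra.IsStandardSmooth Rₛ B'] (g : Rₛ ⊗[R] A →ₐ[Rₛ] B') (h : B' →ₐ[Rₛ] Rₛ ⊗[R] Λ)
    (hgh : h.comp g = Algebra.TensorProduct.map (AlgHom.id Rₛ Rₛ) φ) :
    ∃ (B : Type u) (_ : CommRing B) (_ : Algebra R B) (α : A →ₐ[R] B) (β : B →ₐ[R] Λ),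
      β.comp α = φ ∧ ∃ s ∈ S, Smoothing.IsElementaryStandard R B (algebraMap R B s) := by
  classical
  letI : Algebra R B' := ((algebraMap Rₛ B').comp (algebraMap R Rₛ)).toAlgebra
  haveI : IsScalarTower R Rₛ B' := IsScalarTower.of_algebraMap_eq fun _ => rfl
  obtain ⟨n, πA, hπA, hfg⟩ := Algebra.FinitePresentation.out (R := R) (A := A)
  obtain ⟨sG, hsG⟩ := hfg
  let G : Fin sG.card → MvPolynomial (Fin n) R := fun k => ((sG.equivFin.symm k : sG) : _)
  have hGmem : ∀ k, πA (G k) = 0 := by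
    intro k
    have : G k ∈ RingHom.ker πA.toRingHom := by
      rw [← hsG]
      exact Ideal.subset_span (sG.equivFin.symm k).2
    exact this
  have hkerG : RingHom.ker πA.toRingHom = Ideal.span (Set.range G) := by
    rw [← hsG]
    congr 1
    ext p
    constructor
    · intro hp
      exact ⟨sG.equivFin ⟨p, hp⟩, by simp [G]⟩
    · rintro ⟨k, rfl⟩
      exact (sG.equivFin.symm k).2
  -- the map `A → B'`
  let ψ : A →ₐ[R] B' := (g.restrictScalars R).comp Algebra.TensorProduct.includeRight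
  have hψ : ∀ a, h (ψ a) = (1 : Rₛ) ⊗ₜ[R] φ a := by
    intro a
    have := congrArg (fun f => f ((1 : Rₛ) ⊗ₜ[R] a)) hgh
    show h (g ((1 : Rₛ) ⊗ₜ[R] a)) = _
    simpa using this
  let e : Fin n → B' := fun i => ψ (πA (X i))
  obtain ⟨ι, σ, hσ, hι, ⟨P⟩⟩ := Algebra.IsStandardSmooth.out (R := Rₛ) (S := B')
  cases nonempty_fintype σ
  let Q : Algebra.SubmersivePresentation Rₛ B' (Fin n ⊕ ι) (Fin n ⊕ σ) :=
    (Groth.Agent.H34.SubmExtend.subm e).comp P
  have hQval : ∀ i, Q.val (Sum.inl i) = e i := fun i => rfl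
  have hQunit : IsUnit (aeval Q.val (Matrix.det (Matrix.of fun j k : Fin n ⊕ σ =>
      pderiv (Q.map k) (Q.relation j)))) := by
    have h1 := Q.jacobian_isUnit
    rw [Algebra.PreSubmersivePresentation.jacobian_eq_jacobiMatrix_det] at h1
    have h2 : (Matrix.of fun j k : Fin n ⊕ σ => pderiv (Q.map k) (Q.relation j)) =
        Q.jacobiMatrix.transpose := by
      refine Matrix.ext fun j k => ?_
      rw [Matrix.transpose_apply, Algebra.PreSubmersivePresentation.jacobiMatrix_apply]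
      rfl
    rw [h2, Matrix.det_transpose]
    rw [Algebra.Generators.algebraMap_eq] at h1
    exact h1
  have hker₀ : RingHom.ker (aeval Q.val : MvPolynomial (Fin n ⊕ ι) Rₛ →ₐ[Rₛ] B').toRingHom =
      Ideal.span (Set.range Q.relation) := by
    rw [Q.span_range_relation_eq_ker, Algebra.Generators.ker_eq_ker_aeval_val]
    rfl
  have hlam : ∀ i, h (Q.val (Sum.inl i)) =
      (Algebra.TensorProduct.includeRight : Λ →ₐ[R] Rₛ ⊗[R] Λ) (φ (πA (X i))) := by
    intro i
    rw [hQval]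
    exact hψ _
  have hG1 : ∀ k, aeval (fun i => φ (πA (X i))) (G k) = 0 := by
    intro k
    have : (aeval (fun i => φ (πA (X i))) : MvPolynomial (Fin n) R →ₐ[R] Λ) = φ.comp πA := by
      apply MvPolynomial.algHom_ext
      intro i
      simp
    rw [this, AlgHom.comp_apply, hGmem, map_zero]
  have hG2 : ∀ k, aeval (fun i => Q.val (Sum.inl i)) (G k) = 0 := by
    intro k
    have : (aeval (fun i => Q.val (Sum.inl i)) : MvPolynomial (Fin n) R →ₐ[R] B') =
        ψ.comp πA := by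
      apply MvPolynomial.algHom_ext
      intro i
      simp [hQval, e]
    rw [this, AlgHom.comp_apply, hGmem, map_zero]
  obtain ⟨B, _, _, y, β, hβy, hyG, s, hs, hstd⟩ :=
    core S (Algebra.TensorProduct.includeRight : Λ →ₐ[R] Rₛ ⊗[R] Λ)
      (fun z => tensor_surj S z) (fun μ hμ => tensor_inj (Rₛ := Rₛ) S μ hμ) h
      Q.val Q.relation Q.map Q.map_inj Q.aeval_val_surjective hker₀ hQunit
      (Sum.inl : Fin n → Fin n ⊕ ι) Sum.inl_injective (fun i => φ (πA (X i))) hlam G hG1 hG2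
  have hle : RingHom.ker πA.toRingHom ≤
      RingHom.ker (aeval y : MvPolynomial (Fin n) R →ₐ[R] B).toRingHom := by
    rw [hkerG, Ideal.span_le]
    rintro _ ⟨k, rfl⟩
    exact hyG k
  refine ⟨B, inferInstance, inferInstance, AlgHom.liftOfSurjective πA hπA (aeval y) hle, β, ?_,
    s, hs, hstd⟩
  apply AlgHom.ext
  intro a
  obtain ⟨p, rfl⟩ := hπA a
  rw [AlgHom.comp_apply, AlgHom.liftOfSurjective_apply]
  have : (β.comp (aeval y) : MvPolynomial (Fin n) R →ₐ[R] Λ) = φ.comp πA := by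
    apply MvPolynomial.algHom_ext
    intro i
    simp [hβy]
  exact congrArg (fun f => f p) this

end Groth.Agent.H3.Deloc
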