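import Groth.Prelude.Def_Smoothing
import Mathlib

/-!
# Strictly standard elements from finite-type-indexed presentations; smoothness at a prime of a
quotient which is locally an isomorphism (helper3)
-/

set_option autoImplicit false
universe u

namespace Groth.Agent.H3.Desing

open MvPolynomial Smoothing

theorem isStrictlyStandard_of_fintype {R A : Type u} [CommRing R] [CommRing A] [Algebra R A]
    {I : Type*} [Fintype I] {c m' : ℕ} (hc : c ≤ Fintype.card I)
    (lead : Fin c → MvPolynomial I R) (tail : Fin m' → MvPolynomial I R)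
    (φ : MvPolynomial I R →ₐ[R] A) (hφ : Function.Surjective φ)
    (hker : RingHom.ker φ.toRingHom = Ideal.span (Set.range lead ∪ Set.range tail))
    (a : A)
    (ha : a ∈ Ideal.span (Set.range fun cols : Fin c → I =>
        φ (Matrix.det (Matrix.of fun j k : Fin c => pderiv (cols k) (lead j)))))
    (hkill : ∀ a₁ : MvPolynomial I R, φ a₁ = a → ∀ j : Fin m',
        a₁ * tail j ∈ Ideal.span (Set.range lead) ⊔
          Ideal.span (Set.range lead ∪ Set.range tail) ^ 2) :
    IsStrictlyStandard R A a := by
  classical
  let eI : I ≃ Fin (Fintype.card I) := Fintype.equivFin I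
  let ρ : MvPolynomial I R ≃ₐ[R] MvPolynomial (Fin (Fintype.card I)) R := renameEquiv R eI
  have hρ : ∀ x, ρ x = rename eI x := fun x => rfl
  let rel : Fin (c + m') → MvPolynomial (Fin (Fintype.card I)) R :=
    fun j => ρ (Fin.append lead tail j)
  have hrange : Set.range rel = ρ '' (Set.range lead ∪ Set.range tail) := by
    ext x
    constructor
    · rintro ⟨j, rfl⟩
      refine ⟨Fin.append lead tail j, ?_, rfl⟩
      induction j using Fin.addCases with
      | left j => rw [Fin.append_left]; exact Or.inl ⟨j, rfl⟩
      | right j => rw [Fin.append_right]; exact Or.inr ⟨j, rfl⟩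
    · rintro ⟨_, (⟨j, rfl⟩ | ⟨j, rfl⟩), rfl⟩
      · exact ⟨Fin.castAdd m' j, by simp [rel]⟩
      · exact ⟨Fin.natAdd c j, by simp [rel]⟩
  have hspan : Ideal.span (Set.range rel) =
      (Ideal.span (Set.range lead ∪ Set.range tail)).map ρ.toAlgHom := by
    rw [Ideal.map_span, hrange]; rfl
  have hcm : c ≤ c + m' := Nat.le_add_right c m'
  have hrel_lead : ∀ j : Fin c, rel (Fin.castLE hcm j) = ρ (lead j) := by
    intro j
    show ρ (Fin.append lead tail (Fin.castAdd m' j)) = _
    rw [Fin.append_left]
  let P : MarkedPresentation R A :=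
    { n := Fintype.card I
      m := c + m'
      c := c
      hcn := hc
      hcm := hcm
      rel := rel
      hom := φ.comp ρ.symm.toAlgHom
      surj := hφ.comp ρ.symm.surjective
      ker_eq := by
        rw [hspan]
        ext x
        constructor
        · intro hx
          have hx' : ρ.symm x ∈ RingHom.ker φ.toRingHom := hx
          rw [hker] at hx'
          have := Ideal.mem_map_of_mem ρ.toAlgHom hx'
          simpa using this
        · intro hx
          have h1 : (Ideal.span (Set.range lead ∪ Set.range tail)).map ρ.toAlgHom ≤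
              (RingHom.ker φ.toRingHom).comap ρ.symm.toAlgHom := by
            rw [Ideal.map_le_iff_le_comap, hker]
            intro y hy
            show ρ.symm (ρ y) ∈ Ideal.span (Set.range lead ∪ Set.range tail)
            rw [AlgEquiv.symm_apply_apply]
            exact hy
          exact h1 hx }
  refine ⟨P, ?_, ?_⟩
  · refine (Ideal.span_le.mpr ?_) ha
    rintro _ ⟨cols, rfl⟩
    refine Ideal.subset_span ⟨fun k => eI (cols k), ?_⟩
    show φ (ρ.symm (jacobianMinor rel (Fin.castLE hcm) fun k => eI (cols k))) = _
    congr 1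
    rw [AlgEquiv.symm_apply_eq]
    unfold jacobianMinor
    rw [AlgEquiv.map_det]
    congr 1
    refine Matrix.ext fun j k => ?_
    simp only [Matrix.of_apply, AlgEquiv.mapMatrix_apply, Matrix.map_apply]
    rw [hrel_lead, hρ, hρ, pderiv_rename eI.injective]
  · intro a₁ ha₁ j hj
    have hj' : c ≤ (j : ℕ) := hj
    have hjlt : (j : ℕ) < c + m' := j.2
    obtain ⟨j'', rfl⟩ : ∃ j'' : Fin m', j = Fin.natAdd c j'' := by
      refine ⟨⟨(j : ℕ) - c, by omega⟩, ?_⟩
      apply Fin.ext
      show (j : ℕ) = c + ((j : ℕ) - c)
      omega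
    have h1 := hkill (ρ.symm a₁) ha₁ j''
    have h2 := Ideal.mem_map_of_mem ρ.toAlgHom h1
    rw [Ideal.map_sup, Ideal.map_pow, ← hspan] at h2
    have h3 : ρ.toAlgHom (ρ.symm a₁ * tail j'') = a₁ * rel (Fin.natAdd c j'') := by
      show ρ (ρ.symm a₁ * tail j'') = a₁ * ρ (Fin.append lead tail (Fin.natAdd c j''))
      rw [Fin.append_right, map_mul, AlgEquiv.apply_symm_apply]
    rw [h3] at h2
    have hle : (Ideal.span (Set.range lead)).map ρ.toAlgHom ≤
        Ideal.span (P.rel '' {j' : Fin P.m | (j' : ℕ) < P.c}) := by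
      rw [Ideal.map_span, Ideal.span_le]
      rintro _ ⟨_, ⟨i, rfl⟩, rfl⟩
      refine Ideal.subset_span ⟨Fin.castLE hcm i, ?_, hrel_lead i⟩
      show ((Fin.castLE hcm i : Fin (c + m')) : ℕ) < c
      simp
    exact (sup_le_sup_right hle _) h2

/-- If `q : B' → B` is surjective and its kernel is killed by an element not in the prime `q⁻¹Q`,
then smoothness of `B'` at `q⁻¹Q` implies smoothness of `B` at `Q`. -/
theorem isSmoothAt_of_surjective {R B' B : Type u} [CommRing R] [CommRing B'] [CommRing B]
    [Algebra R B'] [Algebra R B] (q : B' →ₐ[R] B) (hq : Function.Surjective q)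
    (Q : Ideal B) [Q.IsPrime] (d : B') (hd : q d ∉ Q) (hdk : ∀ x, q x = 0 → d * x = 0)
    (hsm : Algebra.IsSmoothAt R (Q.comap q)) : Algebra.IsSmoothAt R Q := by
  letI : Algebra B' (Localization.AtPrime Q) :=
    ((algebraMap B (Localization.AtPrime Q)).comp q.toRingHom).toAlgebra
  have halg : ∀ x : B', algebraMap B' (Localization.AtPrime Q) x =
      algebraMap B (Localization.AtPrime Q) (q x) := fun x => rfl
  haveI : IsScalarTower R B' (Localization.AtPrime Q) := by
    refine IsScalarTower.of_algebraMap_eq fun x => ?_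
    rw [halg, q.commutes, ← IsScalarTower.algebraMap_apply]
  haveI : IsLocalization (Q.comap q).primeCompl (Localization.AtPrime Q) :=
    { map_units := by
        rintro ⟨y, hy⟩
        rw [halg]
        exact IsLocalization.map_units (Localization.AtPrime Q) (⟨q y, hy⟩ : Q.primeCompl)
      surj := by
        intro z
        obtain ⟨⟨b, ⟨s, hs⟩⟩, h⟩ := IsLocalization.surj Q.primeCompl z
        obtain ⟨b', rfl⟩ := hq b
        obtain ⟨s', rfl⟩ := hq s
        exact ⟨⟨b', ⟨s', hs⟩⟩, h⟩
      exists_of_eq := by
        intro x y hxy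
        rw [halg, halg] at hxy
        obtain ⟨⟨c, hc⟩, hc'⟩ := (IsLocalization.eq_iff_exists Q.primeCompl _).mp hxy
        obtain ⟨c', rfl⟩ := hq c
        have h0 : q (c' * (x - y)) = 0 := by
          rw [map_mul, map_sub, mul_sub]
          exact sub_eq_zero.mpr hc'
        have h1 := hdk _ h0
        refine ⟨⟨d * c', ?_⟩, ?_⟩
        · show q (d * c') ∉ Q
          rw [map_mul]
          exact fun h => (Ideal.IsPrime.mem_or_mem inferInstance h).elim hd hc
        · show d * c' * x = d * c' * y
          have : d * c' * x - d * c' * y = d * (c' * (x - y)) := by ring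
          exact sub_eq_zero.mp (this.trans h1) }
  let e : Localization.AtPrime (Q.comap q) ≃ₐ[B'] Localization.AtPrime Q :=
    IsLocalization.algEquiv (Q.comap q).primeCompl _ _
  haveI : Algebra.FormallySmooth R (Localization.AtPrime (Q.comap q)) := hsm
  exact Algebra.FormallySmooth.of_equiv (e.restrictScalars R)

end Groth.Agent.H3.Desing
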