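import Groth.Agent.H3.Desing1

/-!
# The polynomial construction in the desingularization lemma (helper3)
-/

set_option autoImplicit false
universe u

namespace Groth.Agent.H3.Desing

open MvPolynomial Smoothing

set_option maxHeartbeats 800000 in
theorem construction {R : Type u} [CommRing R] (π : R) {n m c : ℕ} (hcm : c ≤ m)
    (rel : Fin m → MvPolynomial (Fin n) R) (r : Fin n → R)
    (t : Fin m → R) (ht : ∀ j, eval r (rel j) = π ^ 4 * t j)
    (βc : (Fin c → Fin n) → R) (e₀ : R)
    (hβ : ∑ cols, βc cols * eval r (jacobianMinor rel (Fin.castLE hcm) cols) =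
      π * (1 + π ^ 3 * e₀)) :
    ∃ (s : Fin n → Fin c → R) (a : Fin c → Fin n → R)
      (E' : Fin c → MvPolynomial (Fin c ⊕ Fin n) R)
      (b : Fin m → MvPolynomial (Fin c ⊕ Fin n) R),
      let ξ : Fin n → MvPolynomial (Fin c ⊕ Fin n) R := fun i =>
        C (r i) + C (π ^ 2) * (∑ k, C (s i k) * X (Sum.inl k) + C π * X (Sum.inr i))
      let g : Fin c → MvPolynomial (Fin c ⊕ Fin n) R := fun j =>
        C (1 + π ^ 3 * e₀) * X (Sum.inl j) + ∑ i, C (a j i) * X (Sum.inr i) + C π * E' j
      (∀ j : Fin c, aeval ξ (rel (Fin.castLE hcm j)) = C (π ^ 3) * g j) ∧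
      (∀ j, aeval ξ (rel j) = C (π ^ 2) * b j) := by
  classical
  let M₀ : Matrix (Fin c) (Fin n) R :=
    Matrix.of fun j i => eval r (pderiv i (rel (Fin.castLE hcm j)))
  have hminor : ∀ cols : Fin c → Fin n,
      eval r (jacobianMinor rel (Fin.castLE hcm) cols) = Matrix.det (M₀.submatrix id cols) := by
    intro cols
    unfold jacobianMinor
    rw [RingHom.map_det]
    rfl
  obtain ⟨s, hs⟩ := exists_right_pseudoinverse M₀ βc
  have hsum : ∑ cols, βc cols * Matrix.det (M₀.submatrix id cols) = π * (1 + π ^ 3 * e₀) := by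
    rw [← hβ]
    exact Finset.sum_congr rfl fun cols _ => by rw [hminor]
  rw [hsum] at hs
  have hs' : ∀ j k, ∑ i, M₀ j i * s i k = if j = k then π * (1 + π ^ 3 * e₀) else 0 := by
    intro j k
    have := congrFun (congrFun hs j) k
    rw [Matrix.mul_apply, Matrix.smul_apply, Matrix.one_apply, smul_eq_mul, mul_ite, mul_one,
      mul_zero] at this
    exact this
  let η : Fin n → MvPolynomial (Fin c ⊕ Fin n) R :=
    fun i => ∑ k, C (s i k) * X (Sum.inl k) + C π * X (Sum.inr i)
  have hT : ∀ j, ∃ E, aeval (fun i => C (r i) + C (π ^ 2) * η i) (rel j) =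
      C (eval r (rel j)) + C (π ^ 2) * ∑ i, C (eval r (pderiv i (rel j))) * η i +
        (C (π ^ 2)) ^ 2 * E := fun j => taylor2 r (C (π ^ 2)) η (rel j)
  choose E hE using hT
  have hkey : ∀ j : Fin c, ∑ i, C (M₀ j i) * η i =
      C (π * (1 + π ^ 3 * e₀)) * X (Sum.inl j) + C π * ∑ i, C (M₀ j i) * X (Sum.inr i) := by
    intro j
    simp only [η, mul_add, Finset.sum_add_distrib, Finset.mul_sum]
    congr 1
    · rw [Finset.sum_comm]
      have h1 : ∀ k, ∑ i, C (M₀ j i) * (C (s i k) * X (Sum.inl k)) =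
          C (if j = k then π * (1 + π ^ 3 * e₀) else 0) *
            (X (Sum.inl k) : MvPolynomial (Fin c ⊕ Fin n) R) := by
        intro k
        rw [← hs' j k, map_sum, Finset.sum_mul]
        refine Finset.sum_congr rfl fun i _ => ?_
        rw [C_mul]; ring
      simp only [h1]
      rw [Finset.sum_eq_single j]
      · rw [if_pos rfl]
        congr 2
        ring
      · intro k _ hkj
        rw [if_neg (Ne.symm hkj), C_0, zero_mul]
      · intro h; exact (h (Finset.mem_univ j)).elim
    · exact Finset.sum_congr rfl fun i _ => by ring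
  refine ⟨s, fun j i => M₀ j i,
    fun j => C (t (Fin.castLE hcm j)) + E (Fin.castLE hcm j),
    fun j => C (π ^ 2 * t j) + ∑ i, C (eval r (pderiv i (rel j))) * η i + C (π ^ 2) * E j, ?_, ?_⟩
  · intro j
    show aeval (fun i => C (r i) + C (π ^ 2) * η i) (rel (Fin.castLE hcm j)) = _
    rw [hE, ht]
    have : ∑ i, C (eval r (pderiv i (rel (Fin.castLE hcm j)))) * η i = ∑ i, C (M₀ j i) * η i :=
      rfl
    rw [this, hkey]
    simp only [C_mul, C_pow, C_add, C_1]
    ring
  · intro j
    show aeval (fun i => C (r i) + C (π ^ 2) * η i) (rel j) = _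
    rw [hE, ht]
    simp only [C_mul, C_pow]
    ring

end Groth.Agent.H3.Desing
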