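import Mathlib

/-!
# A Nakayama argument used in the desingularization lemma (helper3)
-/

set_option autoImplicit false
universe u

namespace Groth.Agent.H3.Desing

/-- Let `Q'` be a prime of `B'` containing `p` but not `ρ`, and suppose
`ρ * (p * (b j - p * z j)) = 0` with `z j ∈ J ^ 2`, `J = (b j)_j`. Then some `d ∉ Q'` kills all
`p ^ 2 * b j`. -/
theorem local_kill {B' : Type*} [CommRing B'] {m : ℕ} (p ρ : B') (b z : Fin m → B')
    (hz : ∀ j, z j ∈ Ideal.span (Set.range b) ^ 2)
    (hrel : ∀ j, ρ * (p * (b j - p * z j)) = 0)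
    (Q' : Ideal B') [Q'.IsPrime] (hp : p ∈ Q') (hρ : ρ ∉ Q') :
    ∃ d : B', d ∉ Q' ∧ ∀ j, d * (p ^ 2 * b j) = 0 := by
  classical
  let M := Localization.AtPrime Q'
  let ψ : B' →+* M := algebraMap B' M
  have hunit : IsUnit (ψ ρ) :=
    IsLocalization.map_units M (⟨ρ, hρ⟩ : Q'.primeCompl)
  have h1 : ∀ j, ψ (p * b j) = ψ p * (ψ p * ψ (z j)) := by
    intro j
    have := congrArg ψ (hrel j)
    rw [map_mul, map_zero] at this
    have h2 := (hunit.mul_right_eq_zero).mp this
    rw [mul_sub, map_sub, sub_eq_zero] at h2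
    rw [h2, map_mul, map_mul]
  let N : Ideal M := Ideal.span (Set.range fun j => ψ (p * b j))
  have hJ : ∀ x ∈ Ideal.span (Set.range b), ψ (p * x) ∈ N := by
    intro x hx
    induction hx using Submodule.span_induction with
    | mem x hx =>
      obtain ⟨j, rfl⟩ := hx
      exact Ideal.subset_span ⟨j, rfl⟩
    | zero => rw [mul_zero, map_zero]; exact N.zero_mem
    | add x y _ _ hx hy => rw [mul_add, map_add]; exact N.add_mem hx hy
    | smul c x _ hx =>
      rw [smul_eq_mul, mul_left_comm, map_mul]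
      exact Ideal.mul_mem_left _ _ hx
  have hJ2 : ∀ x ∈ Ideal.span (Set.range b) ^ 2, ψ p * ψ x ∈ N := by
    intro x hx
    rw [pow_two] at hx
    refine Submodule.mul_induction_on hx ?_ ?_
    · intro x hx y _
      have := hJ x hx
      rw [map_mul, ← mul_assoc, ← map_mul]
      exact Ideal.mul_mem_right _ _ this
    · intro x y hx hy
      rw [map_add, mul_add]; exact N.add_mem hx hy
  have hN : N = ⊥ := by
    refine Submodule.eq_bot_of_le_smul_of_le_jacobson_bot (Ideal.span {ψ p}) N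
      (Submodule.fg_span (Set.finite_range _)) ?_ ?_
    · rw [smul_eq_mul]
      refine Ideal.span_le.mpr ?_
      rintro _ ⟨j, rfl⟩
      show ψ (p * b j) ∈ Ideal.span {ψ p} * N
      rw [h1]
      exact Ideal.mul_mem_mul (Ideal.mem_span_singleton_self _) (hJ2 _ (hz j))
    · rw [IsLocalRing.jacobson_eq_maximalIdeal ⊥ bot_ne_top, Ideal.span_le]
      rintro _ rfl
      exact (IsLocalization.AtPrime.to_map_mem_maximal_iff M Q' p).mpr hp
  have h0 : ∀ j, ψ (p ^ 2 * b j) = 0 := by
    intro j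
    have : ψ (p * b j) ∈ N := Ideal.subset_span ⟨j, rfl⟩
    rw [hN] at this
    have h2 : ψ (p * b j) = 0 := this
    rw [pow_two, mul_assoc, map_mul, h2, mul_zero]
  have h3 : ∀ j, ∃ d : Q'.primeCompl, (d : B') * (p ^ 2 * b j) = 0 :=
    fun j => (IsLocalization.map_eq_zero_iff Q'.primeCompl M _).mp (h0 j)
  choose d hd using h3
  refine ⟨∏ j, (d j : B'), ?_, fun j => ?_⟩
  · have : (∏ j, (d j : B')) = ((∏ j, d j : Q'.primeCompl) : B') := by
      rw [Submonoid.coe_finset_prod]
    rw [this]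
    exact (∏ j, d j : Q'.primeCompl).2
  · rw [← Finset.prod_erase_mul _ _ (Finset.mem_univ j), mul_assoc, hd, mul_zero]

end Groth.Agent.H3.Desing
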