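import Groth.Agent.H3.Desing1
import Groth.Agent.H3.Desing2

/-!
# Desingularization lemma: the locus where `π` is invertible (helper3)
-/

set_option autoImplicit false
universe u

namespace Groth.Agent.H3.Desing

open MvPolynomial Smoothing

variable {R : Type u} [CommRing R] {n c : ℕ}

/-- The substitution `x_i ↦ r_i + π² (Σ s_ik v_k + π w_i)`. -/
noncomputable def xi (π : R) (rr : Fin n → R) (s : Fin n → Fin c → R) :
    Fin n → MvPolynomial (Fin c ⊕ Fin n) R :=
  fun i => C (rr i) + C (π ^ 2) * (∑ k, C (s i k) * X (Sum.inl k) + C π * X (Sum.inr i))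

/-- The shape of the new relations `g_j`. -/
noncomputable def gg (π e₀ : R) (a : Fin c → Fin n → R)
    (E' : Fin c → MvPolynomial (Fin c ⊕ Fin n) R) : Fin c → MvPolynomial (Fin c ⊕ Fin n) R :=
  fun j => C (1 + π ^ 3 * e₀) * X (Sum.inl j) + ∑ i, C (a j i) * X (Sum.inr i) + C π * E' j

theorem pderiv_inr_xi (π : R) (rr : Fin n → R) (s : Fin n → Fin c → R) (i i' : Fin n) :
    pderiv (Sum.inr i) (xi π rr s i') = if i' = i then C (π ^ 3) else 0 := by
  classical
  have h1 : ∀ k : Fin c, pderiv (Sum.inr i : Fin c ⊕ Fin n)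
      (X (Sum.inl k) : MvPolynomial (Fin c ⊕ Fin n) R) = 0 := by
    intro k
    rw [pderiv_X]
    exact Pi.single_eq_of_ne (by simp) _
  have h2 : pderiv (Sum.inr i : Fin c ⊕ Fin n)
      (X (Sum.inr i') : MvPolynomial (Fin c ⊕ Fin n) R) = if i' = i then 1 else 0 := by
    rw [pderiv_X, Pi.single_apply]
    simp only [Sum.inr.injEq]
  unfold xi
  simp only [map_add, pderiv_C, zero_add, pderiv_C_mul, map_sum, h1, mul_zero,
    Finset.sum_const_zero, h2]
  split_ifs
  · rw [mul_one, ← C_mul]; congr 1; ring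
  · rw [mul_zero, mul_zero]

theorem pderiv_inr_aeval_xi (π : R) (rr : Fin n → R) (s : Fin n → Fin c → R) (i : Fin n)
    (f : MvPolynomial (Fin n) R) :
    pderiv (Sum.inr i) (aeval (xi π rr s) f) = C (π ^ 3) * aeval (xi π rr s) (pderiv i f) := by
  classical
  rw [pderiv_aeval]
  simp only [pderiv_inr_xi, mul_ite, mul_zero]
  rw [Finset.sum_ite_eq' Finset.univ i]
  simp [mul_comm]

theorem pderiv_inl_gg (π e₀ : R) (a : Fin c → Fin n → R)
    (E' : Fin c → MvPolynomial (Fin c ⊕ Fin n) R) (j k : Fin c) :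
    pderiv (Sum.inl k) (gg π e₀ a E' j) =
      (if j = k then C (1 + π ^ 3 * e₀) else 0) + C π * pderiv (Sum.inl k) (E' j) := by
  classical
  have h1 : ∀ i : Fin n, pderiv (Sum.inl k : Fin c ⊕ Fin n)
      (X (Sum.inr i) : MvPolynomial (Fin c ⊕ Fin n) R) = 0 := by
    intro i
    rw [pderiv_X]
    exact Pi.single_eq_of_ne (by simp) _
  have h2 : pderiv (Sum.inl k : Fin c ⊕ Fin n)
      (X (Sum.inl j) : MvPolynomial (Fin c ⊕ Fin n) R) = if j = k then 1 else 0 := by
    rw [pderiv_X, Pi.single_apply]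
    simp only [Sum.inl.injEq]
  unfold gg
  rw [(pderiv _).map_add, (pderiv _).map_add, pderiv_C_mul, pderiv_C_mul, h2, map_sum]
  have h3 : ∑ i, pderiv (Sum.inl k : Fin c ⊕ Fin n) (C (a j i) * X (Sum.inr i)) = 0 :=
    Finset.sum_eq_zero fun i _ => by rw [pderiv_C_mul, h1, mul_zero]
  rw [h3, add_zero, mul_ite, mul_one, mul_zero]

set_option maxHeartbeats 1000000 in
theorem case1 (π : R) {m : ℕ} (hcm : c ≤ m) (rel : Fin m → MvPolynomial (Fin n) R)
    (hK : ∀ j, C π * rel j ∈ Ideal.span (Set.range fun j' : Fin c => rel (Fin.castLE hcm j')) ⊔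
      Ideal.span (Set.range rel) ^ 2)
    (qc : (Fin c → Fin n) → MvPolynomial (Fin n) R)
    (hS : C π - ∑ cols, qc cols * jacobianMinor rel (Fin.castLE hcm) cols ∈
      Ideal.span (Set.range rel))
    (rr : Fin n → R) (s : Fin n → Fin c → R) (g : Fin c → MvPolynomial (Fin c ⊕ Fin n) R)
    (hN2 : ∀ j : Fin c, aeval (xi π rr s) (rel (Fin.castLE hcm j)) = C (π ^ 3) * g j) :
    IsStrictlyStandard R
      (MvPolynomial (Fin c ⊕ Fin n) R ⧸
        Ideal.span (Set.range g ∪ Set.range fun j => aeval (xi π rr s) (rel j)))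
      (algebraMap R _ π ^ (3 * c + 1)) := by
  classical
  set τ : MvPolynomial (Fin n) R →ₐ[R] MvPolynomial (Fin c ⊕ Fin n) R := aeval (xi π rr s) with hτ
  set 𝔟 : Ideal (MvPolynomial (Fin c ⊕ Fin n) R) :=
    Ideal.span (Set.range g ∪ Set.range fun j => τ (rel j)) with h𝔟
  have hg𝔟 : ∀ j, g j ∈ 𝔟 := fun j => Ideal.subset_span (Or.inl ⟨j, rfl⟩)
  have hτ𝔟 : ∀ j, τ (rel j) ∈ 𝔟 := fun j => Ideal.subset_span (Or.inr ⟨j, rfl⟩)
  have hτspan : (Ideal.span (Set.range rel)).map τ ≤ 𝔟 := by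
    rw [Ideal.map_span, Ideal.span_le]
    rintro _ ⟨_, ⟨j, rfl⟩, rfl⟩
    exact hτ𝔟 j
  -- the matrix identity
  have hdet : ∀ cols : Fin c → Fin n,
      C (π ^ 3) ^ c * Matrix.det (Matrix.of fun j k : Fin c =>
        pderiv (Sum.inr (cols k) : Fin c ⊕ Fin n) (g j)) =
      C (π ^ 3) ^ c * τ (jacobianMinor rel (Fin.castLE hcm) cols) := by
    intro cols
    have hent : ∀ j k : Fin c, C (π ^ 3) * pderiv (Sum.inr (cols k) : Fin c ⊕ Fin n) (g j) =
        C (π ^ 3) * τ (pderiv (cols k) (rel (Fin.castLE hcm j))) := by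
      intro j k
      rw [← pderiv_inr_aeval_xi, ← hτ, hN2, pderiv_C_mul]
    have h1 : C (π ^ 3) ^ c * Matrix.det (Matrix.of fun j k : Fin c =>
        pderiv (Sum.inr (cols k) : Fin c ⊕ Fin n) (g j)) =
        Matrix.det ((C (π ^ 3) : MvPolynomial (Fin c ⊕ Fin n) R) •
          (Matrix.of fun j k : Fin c => pderiv (Sum.inr (cols k) : Fin c ⊕ Fin n) (g j) :
            Matrix (Fin c) (Fin c) (MvPolynomial (Fin c ⊕ Fin n) R))) := by
      rw [Matrix.det_smul, Fintype.card_fin]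
    have h2 : C (π ^ 3) ^ c * τ (jacobianMinor rel (Fin.castLE hcm) cols) =
        Matrix.det ((C (π ^ 3) : MvPolynomial (Fin c ⊕ Fin n) R) •
          (Matrix.of fun j k : Fin c => τ (pderiv (cols k) (rel (Fin.castLE hcm j))) :
            Matrix (Fin c) (Fin c) (MvPolynomial (Fin c ⊕ Fin n) R))) := by
      rw [Matrix.det_smul, Fintype.card_fin]
      unfold jacobianMinor
      rw [AlgHom.map_det]
      rfl
    rw [h1, h2]
    congr 1
    refine Matrix.ext fun j k => ?_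
    simp only [Matrix.smul_apply, Matrix.of_apply, smul_eq_mul]
    exact hent j k
  refine isStrictlyStandard_of_fintype (I := Fin c ⊕ Fin n) (c := c) (m' := m) (by simp) g
    (fun j => τ (rel j)) (Ideal.Quotient.mkₐ R 𝔟) (Ideal.Quotient.mkₐ_surjective R 𝔟) ?_ _ ?_ ?_
  · ext p
    show Ideal.Quotient.mk 𝔟 p = 0 ↔ p ∈ 𝔟
    exact Ideal.Quotient.eq_zero_iff_mem
  · -- membership in the span of minors
    have h1 : τ (C π - ∑ cols, qc cols * jacobianMinor rel (Fin.castLE hcm) cols) ∈ 𝔟 :=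
      hτspan (Ideal.mem_map_of_mem _ hS)
    rw [map_sub, map_sum] at h1
    have h2 : Ideal.Quotient.mk 𝔟 (C π) =
        ∑ cols, Ideal.Quotient.mk 𝔟 (τ (qc cols)) *
          Ideal.Quotient.mk 𝔟 (τ (jacobianMinor rel (Fin.castLE hcm) cols)) := by
      have h3 := (Ideal.Quotient.eq.mpr h1)
      rw [hτ] at h3
      simp only [aeval_C, MvPolynomial.algebraMap_eq] at h3
      rw [h3, map_sum]
      refine Finset.sum_congr rfl fun cols _ => ?_
      rw [← map_mul, ← map_mul]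
    have h4 : algebraMap R (MvPolynomial (Fin c ⊕ Fin n) R ⧸ 𝔟) π ^ (3 * c + 1) =
        ∑ cols, Ideal.Quotient.mk 𝔟 (τ (qc cols)) *
          Ideal.Quotient.mk 𝔟 (Matrix.det (Matrix.of fun j k : Fin c =>
            pderiv (Sum.inr (cols k) : Fin c ⊕ Fin n) (g j))) *
          Ideal.Quotient.mk 𝔟 (C (π ^ 3) ^ c) := by
      have h5 : algebraMap R (MvPolynomial (Fin c ⊕ Fin n) R ⧸ 𝔟) π =
          Ideal.Quotient.mk 𝔟 (C π) := rfl
      have h7 : Ideal.Quotient.mk 𝔟 (C π) ^ (3 * c + 1) =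
          (Ideal.Quotient.mk 𝔟 (C π) ^ 3) ^ c *
          ∑ cols, Ideal.Quotient.mk 𝔟 (τ (qc cols)) *
            Ideal.Quotient.mk 𝔟 (τ (jacobianMinor rel (Fin.castLE hcm) cols)) := by
        rw [← h2]; ring
      rw [h5, h7, Finset.mul_sum]
      refine Finset.sum_congr rfl fun cols _ => ?_
      have h6 : Ideal.Quotient.mk 𝔟 (C (π ^ 3) ^ c) = (Ideal.Quotient.mk 𝔟 (C π) ^ 3) ^ c := by
        rw [C_pow, map_pow, map_pow]
      rw [mul_assoc, ← map_mul _ (Matrix.det _), mul_comm (Matrix.det _), hdet, map_mul, h6]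
      ring
    rw [h4]
    refine Ideal.sum_mem _ fun cols _ => ?_
    refine Ideal.mul_mem_right _ _ (Ideal.mul_mem_left _ _ (Ideal.subset_span ?_))
    exact ⟨fun k => Sum.inr (cols k), rfl⟩
  · intro a₁ ha₁ j
    have h1 : a₁ - C π ^ (3 * c + 1) ∈ 𝔟 := by
      rw [← Ideal.Quotient.eq]
      rw [map_pow]
      exact ha₁
    have h2 : a₁ * τ (rel j) = (a₁ - C π ^ (3 * c + 1)) * τ (rel j) +
        C π ^ (3 * c) * τ (C π * rel j) := by
      rw [map_mul, hτ, aeval_C, MvPolynomial.algebraMap_eq]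
      ring
    rw [h2]
    refine Ideal.add_mem _ (Ideal.mem_sup_right ?_) (Ideal.mul_mem_left _ _ ?_)
    · rw [pow_two]
      exact Ideal.mul_mem_mul h1 (hτ𝔟 j)
    · have h3 := Ideal.mem_map_of_mem τ (hK j)
      rw [Ideal.map_sup, Ideal.map_pow] at h3
      refine (sup_le_sup ?_ (Ideal.pow_right_mono hτspan 2)) h3
      rw [Ideal.map_span, Ideal.span_le]
      rintro _ ⟨_, ⟨j', rfl⟩, rfl⟩
      show τ (rel (Fin.castLE hcm j')) ∈ _
      rw [hτ, hN2]
      exact Ideal.mul_mem_left _ _ (Ideal.subset_span ⟨j', rfl⟩)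

end Groth.Agent.H3.Desing
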