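import Groth.Prelude.Def_Smoothing
import Mathlib

/-!
# Reindexing a presentation so that chosen rows/columns become leading (helper3)
-/

set_option autoImplicit false
universe u

namespace Groth.Agent.H3.Jac

open MvPolynomial Smoothing

/-- The output shape of `S2108` yields an elementary standard element: permute relations and
variables so that the chosen rows and columns come first. -/
theorem isElementaryStandard_of_rows_cols {R A : Type u} [CommRing R] [CommRing A] [Algebra R A]
    {n m c : ℕ} (f : Fin m → MvPolynomial (Fin n) R) (φ : MvPolynomial (Fin n) R →ₐ[R] A)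
    (hφ : Function.Surjective φ)
    (hker : RingHom.ker φ.toRingHom = Ideal.span (Set.range f))
    (rows : Fin c ↪ Fin m) (cols : Fin c ↪ Fin n) (a a' : A)
    (ha : a = a' * φ (jacobianMinor f rows cols))
    (hkill : ∀ a₁ : MvPolynomial (Fin n) R, φ a₁ = a → ∀ ℓ : Fin m,
        a₁ * f ℓ ∈ Ideal.span (Set.range (f ∘ rows)) ⊔ Ideal.span (Set.range f) ^ 2) :
    IsElementaryStandard R A a := by
  classical
  have hcm : c ≤ m := by simpa using Fintype.card_le_of_embedding rows
  have hcn : c ≤ n := by simpa using Fintype.card_le_of_embedding cols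
  obtain ⟨σ, hσ⟩ := Equiv.Perm.exists_extending_pair (Fin.castLE hcm) rows
    (Fin.castLE_injective _) rows.injective
  obtain ⟨τ, hτ⟩ := Equiv.Perm.exists_extending_pair (Fin.castLE hcn) cols
    (Fin.castLE_injective _) cols.injective
  obtain ⟨e, he⟩ : ∃ e : MvPolynomial (Fin n) R ≃ₐ[R] MvPolynomial (Fin n) R,
      ∀ x, e x = rename τ x := ⟨renameEquiv R τ, fun x => rfl⟩
  have hfker : ∀ ℓ, φ (f ℓ) = 0 := fun ℓ => by
    have : f ℓ ∈ RingHom.ker φ.toRingHom := by rw [hker]; exact Ideal.subset_span ⟨ℓ, rfl⟩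
    exact this
  have hpd : ∀ (i : Fin n) (q : MvPolynomial (Fin n) R),
      e (pderiv i (e.symm q)) = pderiv (τ i) q := by
    intro i q
    rw [he, ← pderiv_rename τ.injective, ← he, AlgEquiv.apply_symm_apply]
  let P : MarkedPresentation R A :=
    { n := n
      m := m
      c := c
      hcn := hcn
      hcm := hcm
      rel := fun j => e.symm (f (σ j))
      hom := φ.comp e.toAlgHom
      surj := hφ.comp e.surjective
      ker_eq := by
        apply le_antisymm
        · intro x hx
          have hx' : e x ∈ RingHom.ker φ.toRingHom := hx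
          rw [hker] at hx'
          have h1 : e.symm (e x) ∈ (Ideal.span (Set.range f)).map e.symm.toAlgHom :=
            Ideal.mem_map_of_mem _ hx'
          rw [AlgEquiv.symm_apply_apply] at h1
          refine (?_ : (Ideal.span (Set.range f)).map e.symm.toAlgHom ≤ _) h1
          rw [Ideal.map_le_iff_le_comap, Ideal.span_le]
          rintro _ ⟨ℓ, rfl⟩
          refine Ideal.subset_span ⟨σ.symm ℓ, ?_⟩
          simp
        · rw [Ideal.span_le]
          rintro _ ⟨j, rfl⟩
          show φ (e (e.symm (f (σ j)))) = 0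
          rw [AlgEquiv.apply_symm_apply, hfker] }
  refine ⟨P, ⟨a', ?_⟩, ?_⟩
  · show a = a' * φ (e (Matrix.det (Matrix.of fun j k : Fin c =>
      pderiv (Fin.castLE hcn k) (e.symm (f (σ (Fin.castLE hcm j)))))))
    rw [ha]
    congr 2
    rw [AlgEquiv.map_det]
    unfold jacobianMinor
    congr 1
    ext j k
    simp only [AlgEquiv.mapMatrix_apply, Matrix.map_apply, Matrix.of_apply]
    rw [hpd, hτ, hσ]
  · intro b hb j hj
    have hb' : φ (e b) = a := hb
    have h1 := hkill (e b) hb' (σ j)
    have h2 : e.symm (e b * f (σ j)) ∈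
        (Ideal.span (Set.range (f ∘ rows)) ⊔ Ideal.span (Set.range f) ^ 2).map e.symm.toAlgHom :=
      Ideal.mem_map_of_mem _ h1
    rw [map_mul, AlgEquiv.symm_apply_apply] at h2
    refine (?_ : (Ideal.span (Set.range (f ∘ rows)) ⊔
      Ideal.span (Set.range f) ^ 2).map e.symm.toAlgHom ≤ _) h2
    rw [Ideal.map_sup, Ideal.map_pow]
    refine sup_le_sup ?_ (Ideal.pow_right_mono ?_ 2)
    · rw [Ideal.map_le_iff_le_comap, Ideal.span_le]
      rintro _ ⟨i, rfl⟩
      refine Ideal.subset_span ⟨Fin.castLE hcm i, ?_, ?_⟩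
      · show ((Fin.castLE hcm i : Fin m) : ℕ) < c
        simp
      · show e.symm (f (σ (Fin.castLE hcm i))) = e.symm ((f ∘ rows) i)
        rw [hσ]; rfl
    · rw [Ideal.map_le_iff_le_comap, Ideal.span_le]
      rintro _ ⟨ℓ, rfl⟩
      refine Ideal.subset_span ⟨σ.symm ℓ, ?_⟩
      show e.symm (f (σ (σ.symm ℓ))) = _
      simp

end Groth.Agent.H3.Jac
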