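import Groth.Agent.H3.Jac3
import Groth.Agent.H3.Jac4
import Groth.Agent.S2032

/-!
# Standard elements and the smooth locus (helper3)
-/

set_option autoImplicit false
universe u

namespace Groth.Agent.H3.Jac

open MvPolynomial Smoothing

theorem strictly_of_elementary {R A : Type u} [CommRing R] [CommRing A] [Algebra R A] (a : A)
    (h : IsElementaryStandard R A a) : IsStrictlyStandard R A a := by
  obtain ⟨P, ⟨a', ha'⟩, hk⟩ := h
  refine ⟨P, ?_, hk⟩
  rw [ha']
  exact Ideal.mul_mem_left _ _ (Ideal.subset_span ⟨fun k => Fin.castLE P.hcn k, rfl⟩)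

theorem smoothAt_of_strictly {R A : Type u} [CommRing R] [CommRing A] [Algebra R A]
    [Algebra.FinitePresentation R A] (a : A) (ha : IsStrictlyStandard R A a)
    (p : PrimeSpectrum A) (hp : a ∉ p.asIdeal) : p ∈ Algebra.smoothLocus R A := by
  classical
  obtain ⟨P, hspan, hkill⟩ := ha
  obtain ⟨cols, hcols⟩ : ∃ cols : Fin P.c → Fin P.n,
      P.hom (jacobianMinor P.rel (Fin.castLE P.hcm) cols) ∉ p.asIdeal := by
    by_contra hcon
    push_neg at hcon
    exact hp ((Ideal.span_le.mpr (by rintro _ ⟨cols, rfl⟩; exact hcon cols)) hspan)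
  have hinj : Function.Injective cols := by
    by_contra hni
    rw [Function.Injective] at hni; push_neg at hni
    obtain ⟨k₁, k₂, hk, hne⟩ := hni
    apply hcols
    have : jacobianMinor P.rel (Fin.castLE P.hcm) cols = 0 := by
      unfold jacobianMinor
      exact Matrix.det_zero_of_column_eq hne (fun j => by simp [hk])
    rw [this, map_zero]; exact Ideal.zero_mem _
  obtain ⟨mn, hmn⟩ : ∃ mn, mn = jacobianMinor P.rel (Fin.castLE P.hcm) cols := ⟨_, rfl⟩
  rw [← hmn] at hcols
  obtain ⟨b, hbdef⟩ : ∃ b, b = a * P.hom mn := ⟨_, rfl⟩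
  have hb : b ∉ p.asIdeal := fun h => by
    rw [hbdef] at h
    exact (p.isPrime.mem_or_mem h).elim hp hcols
  have hE : IsElementaryStandard R A b := by
    refine isElementaryStandard_of_rows_cols P.rel P.hom P.surj P.ker_eq
      ⟨Fin.castLE P.hcm, Fin.castLE_injective _⟩ ⟨cols, hinj⟩ b a (by rw [hbdef, hmn]; rfl) ?_
    intro b₁ hb₁ ℓ
    by_cases hℓ : (ℓ : ℕ) < P.c
    · refine Ideal.mem_sup_left (Ideal.mul_mem_left _ _ (Ideal.subset_span ⟨⟨ℓ, hℓ⟩, ?_⟩))
      simp
    · obtain ⟨a₁, ha₁⟩ := P.surj a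
      have h1 := hkill a₁ ha₁ ℓ (not_lt.mp hℓ)
      have h2 : b₁ - a₁ * mn ∈ Ideal.span (Set.range P.rel) := by
        rw [← P.ker_eq]
        show P.hom _ = 0
        rw [map_sub, hb₁, map_mul, ha₁, hbdef, sub_self]
      have h3 : b₁ * P.rel ℓ = (b₁ - a₁ * mn) * P.rel ℓ + mn * (a₁ * P.rel ℓ) := by ring
      rw [h3]
      refine Ideal.add_mem _ (Ideal.mem_sup_right ?_) (Ideal.mul_mem_left _ _ ?_)
      · rw [pow_two]; exact Ideal.mul_mem_mul h2 (Ideal.subset_span ⟨ℓ, rfl⟩)
      · have hle : Ideal.span (P.rel '' {j' : Fin P.m | (j' : ℕ) < P.c}) ≤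
            Ideal.span (Set.range (P.rel ∘ (⟨Fin.castLE P.hcm, Fin.castLE_injective _⟩ :
              Fin P.c ↪ Fin P.m))) := by
          refine Ideal.span_mono ?_
          rintro _ ⟨j', hj', rfl⟩
          exact ⟨⟨j', hj'⟩, by simp⟩
        exact (sup_le_sup_right hle _) h1
  have hsm := Groth.Agent.S2032.result b hE
  have hfs : Algebra.FormallySmooth R (Localization.Away b) := inferInstance
  exact (Algebra.basicOpen_subset_smoothLocus_iff.mpr hfs) hb

theorem exists_elementary_of_smoothAt {R A : Type u} [CommRing R] [CommRing A] [Algebra R A]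
    [Algebra.FinitePresentation R A] (p : PrimeSpectrum A) (hp : p ∈ Algebra.smoothLocus R A) :
    ∃ a, IsElementaryStandard R A a ∧ a ∉ p.asIdeal := by
  obtain ⟨n, φ, hφ, hfg⟩ := Algebra.FinitePresentation.out (R := R) (A := A)
  obtain ⟨m, f, hf⟩ := Submodule.fg_iff_exists_fin_generating_family.mp hfg
  have : Algebra.IsSmoothAt R p.asIdeal := hp
  have hker : RingHom.ker φ.toRingHom = Ideal.span (Set.range f) := hf.symm
  obtain ⟨a, haq, c, rows, cols, a', ha, hk⟩ := exists_standard f φ hφ hker p.asIdeal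
  exact ⟨a, isElementaryStandard_of_rows_cols f φ hφ hker rows cols a a' ha hk, haq⟩

theorem singularIdeal_eq {R A : Type u} [CommRing R] [CommRing A]
    [Algebra R A] [Algebra.FinitePresentation R A] :
    Smoothing.singularIdeal R A = (Ideal.span {a : A | Smoothing.IsStrictlyStandard R A a}).radical ∧
      Smoothing.singularIdeal R A =
        (Ideal.span {a : A | Smoothing.IsElementaryStandard R A a}).radical := by
  have hE_T : Ideal.span {a : A | IsElementaryStandard R A a} ≤
      Ideal.span {a : A | IsStrictlyStandard R A a} :=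
    Ideal.span_mono (fun a ha => strictly_of_elementary a ha)
  have hT_S : (Ideal.span {a : A | IsStrictlyStandard R A a}).radical ≤ singularIdeal R A := by
    unfold singularIdeal
    rw [Ideal.IsRadical.radical_le_iff (PrimeSpectrum.isRadical_vanishingIdeal _), Ideal.span_le]
    intro a ha
    show a ∈ PrimeSpectrum.vanishingIdeal _
    rw [PrimeSpectrum.mem_vanishingIdeal]
    intro p hp
    by_contra hap
    exact hp (smoothAt_of_strictly a ha p hap)
  have hS_E : singularIdeal R A ≤ (Ideal.span {a : A | IsElementaryStandard R A a}).radical := by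
    intro x hx
    rw [Ideal.radical_eq_sInf, Ideal.mem_sInf]
    rintro J ⟨hJ, hJp⟩
    have hns : (⟨J, hJp⟩ : PrimeSpectrum A) ∉ Algebra.smoothLocus R A := by
      intro hsm
      obtain ⟨a, haE, haJ⟩ := exists_elementary_of_smoothAt ⟨J, hJp⟩ hsm
      exact haJ (hJ (Ideal.subset_span haE))
    exact (PrimeSpectrum.mem_vanishingIdeal _ _).mp hx ⟨J, hJp⟩ hns
  have hE_T' := Ideal.radical_mono hE_T
  exact ⟨le_antisymm (hS_E.trans hE_T') hT_S, le_antisymm hS_E (hE_T'.trans hT_S)⟩

end Groth.Agent.H3.Jac
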