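import Groth.Agent.H3.Desing4
import Groth.Agent.H3.Desing5
import Groth.Agent.H3.Deloc2
import Groth.Agent.H3.Jac5

/-!
# Desingularization lemma: smoothness statement (helper3)
-/

set_option autoImplicit false
universe u

namespace Groth.Agent.H3.Desing

open MvPolynomial Smoothing

variable {R : Type u} [CommRing R] {n c : ℕ}

set_option maxHeartbeats 2000000 in
theorem smooth_part (π : R) {m : ℕ} (hcm : c ≤ m) (rel : Fin m → MvPolynomial (Fin n) R)
    (hK : ∀ j, C π * rel j ∈ Ideal.span (Set.range fun j' : Fin c => rel (Fin.castLE hcm j')) ⊔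
      Ideal.span (Set.range rel) ^ 2)
    (qc : (Fin c → Fin n) → MvPolynomial (Fin n) R)
    (hS : C π - ∑ cols, qc cols * jacobianMinor rel (Fin.castLE hcm) cols ∈
      Ideal.span (Set.range rel))
    (rr : Fin n → R) (s : Fin n → Fin c → R) (e₀ : R) (a : Fin c → Fin n → R)
    (E' : Fin c → MvPolynomial (Fin c ⊕ Fin n) R) (b : Fin m → MvPolynomial (Fin c ⊕ Fin n) R)
    (hN2 : ∀ j : Fin c, aeval (xi π rr s) (rel (Fin.castLE hcm j)) = C (π ^ 3) * gg π e₀ a E' j)
    (hN3 : ∀ j, aeval (xi π rr s) (rel j) = C (π ^ 2) * b j)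
    (r : R) (hr : ∀ x : R, π ^ 2 * x = 0 → π * (r * x) = 0)
    (𝔟 : Ideal (MvPolynomial (Fin c ⊕ Fin n) R))
    (h𝔟 : 𝔟 = Ideal.span (Set.range (gg π e₀ a E') ∪
      Set.range fun j => aeval (xi π rr s) (rel j)))
    (Q : Ideal (MvPolynomial (Fin c ⊕ Fin n) R ⧸ 𝔟))
    [Q.IsPrime] (hrQ : algebraMap R _ r ∉ Q) : Algebra.IsSmoothAt R Q := by
  classical
  set g := gg π e₀ a E' with hg
  set τ : MvPolynomial (Fin n) R →ₐ[R] MvPolynomial (Fin c ⊕ Fin n) R := aeval (xi π rr s) with hτ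
  set 𝔟' : Ideal (MvPolynomial (Fin c ⊕ Fin n) R) := Ideal.span (Set.range g) with h𝔟'
  haveI : Algebra.FinitePresentation R (MvPolynomial (Fin c ⊕ Fin n) R ⧸ 𝔟') :=
    Algebra.FinitePresentation.quotient (Submodule.fg_span (Set.finite_range g))
  haveI : Algebra.FinitePresentation R (MvPolynomial (Fin c ⊕ Fin n) R ⧸ 𝔟) := by
    rw [h𝔟]
    exact Algebra.FinitePresentation.quotient
      (Submodule.fg_span ((Set.finite_range g).union (Set.finite_range _)))
  by_cases hπQ : algebraMap R (MvPolynomial (Fin c ⊕ Fin n) R ⧸ 𝔟) π ∈ Q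
  swap
  · have hstr := case1 π hcm rel hK qc hS rr s g hN2
    rw [← hτ, ← h𝔟] at hstr
    have hnot : algebraMap R (MvPolynomial (Fin c ⊕ Fin n) R ⧸ 𝔟) π ^ (3 * c + 1) ∉ Q :=
      fun h => hπQ (Ideal.IsPrime.mem_of_pow_mem inferInstance _ h)
    exact Jac.smoothAt_of_strictly _ hstr ⟨Q, inferInstance⟩ hnot
  · have hle : 𝔟' ≤ 𝔟 := by rw [h𝔟]; exact Ideal.span_mono Set.subset_union_left
    let q : (MvPolynomial (Fin c ⊕ Fin n) R ⧸ 𝔟') →ₐ[R] (MvPolynomial (Fin c ⊕ Fin n) R ⧸ 𝔟) :=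
      Ideal.Quotient.factorₐ R hle
    have hq : Function.Surjective q := Ideal.Quotient.factor_surjective hle
    have hqmk : ∀ t, q (Ideal.Quotient.mk 𝔟' t) = Ideal.Quotient.mk 𝔟 t := fun t => rfl
    let Δ : MvPolynomial (Fin c ⊕ Fin n) R :=
      Matrix.det (Matrix.of fun j k : Fin c => pderiv (Sum.inl k : Fin c ⊕ Fin n) (g j))
    have hΔ : Δ - 1 ∈ Ideal.span {(C π : MvPolynomial (Fin c ⊕ Fin n) R)} := by
      rw [← Ideal.Quotient.eq, map_one]
      show Ideal.Quotient.mk _ (Matrix.det _) = 1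
      rw [RingHom.map_det]
      have hπ0 : Ideal.Quotient.mk (Ideal.span {(C π : MvPolynomial (Fin c ⊕ Fin n) R)}) (C π) = 0 :=
        Ideal.Quotient.eq_zero_iff_mem.mpr (Ideal.mem_span_singleton_self _)
      have : (Ideal.Quotient.mk (Ideal.span {(C π : MvPolynomial (Fin c ⊕ Fin n) R)})).mapMatrix
          (Matrix.of fun j k : Fin c => pderiv (Sum.inl k : Fin c ⊕ Fin n) (g j)) = 1 := by
        refine Matrix.ext fun j k => ?_
        simp only [RingHom.mapMatrix_apply, Matrix.map_apply, Matrix.of_apply]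
        rw [hg, pderiv_inl_gg, map_add, Matrix.one_apply, map_mul, hπ0, zero_mul, add_zero]
        split_ifs
        · rw [C_add, C_1, C_mul, C_pow, map_add, map_one, map_mul, map_pow, hπ0]
          simp
        · rw [map_zero]
      rw [this, Matrix.det_one]
    have hπQ' : Ideal.Quotient.mk 𝔟' (C π) ∈ Q.comap q := hπQ
    have hΔQ' : Ideal.Quotient.mk 𝔟' Δ ∉ Q.comap q := by
      intro h
      have h1 : Ideal.Quotient.mk 𝔟 Δ ∈ Q := h
      obtain ⟨w, hw⟩ := Ideal.mem_span_singleton'.mp hΔ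
      have h2 : Ideal.Quotient.mk 𝔟 Δ - 1 ∈ Q := by
        rw [← map_one (Ideal.Quotient.mk 𝔟), ← map_sub, ← hw, map_mul]
        exact Ideal.mul_mem_left _ _ hπQ
      have h3 : (1 : MvPolynomial (Fin c ⊕ Fin n) R ⧸ 𝔟) ∈ Q := by
        have := Q.sub_mem h1 h2
        simpa using this
      exact (Ideal.IsPrime.ne_top inferInstance) ((Ideal.eq_top_iff_one _).mpr h3)
    have hE : IsElementaryStandard R (MvPolynomial (Fin c ⊕ Fin n) R ⧸ 𝔟')
        (Ideal.Quotient.mk 𝔟' Δ) := by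
      refine Deloc.isElementaryStandard_of_fintype (K := Fin c) g (Ideal.Quotient.mkₐ R 𝔟')
        (Ideal.Quotient.mkₐ_surjective R 𝔟') ?_ (Function.Embedding.refl _)
        ⟨Sum.inl, Sum.inl_injective⟩ _ 1 ?_ ?_
      · ext p
        show Ideal.Quotient.mk 𝔟' p = 0 ↔ p ∈ 𝔟'
        exact Ideal.Quotient.eq_zero_iff_mem
      · rw [one_mul]; rfl
      · intro a₁ _ ℓ
        exact Ideal.mem_sup_left (Ideal.mul_mem_left _ _ (Ideal.subset_span ⟨ℓ, rfl⟩))
    have hsmQ' : Algebra.IsSmoothAt R (Q.comap q) :=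
      Jac.smoothAt_of_strictly _ (Jac.strictly_of_elementary _ hE) ⟨Q.comap q, inferInstance⟩ hΔQ'
    haveI : Algebra.IsStandardSmooth R (Localization.Away (Ideal.Quotient.mk 𝔟' Δ)) :=
      Groth.Agent.S2032.result _ hE
    haveI : Module.Flat R (Localization.Away (Ideal.Quotient.mk 𝔟' Δ)) := inferInstance
    -- the elements
    set pb : MvPolynomial (Fin c ⊕ Fin n) R ⧸ 𝔟' := Ideal.Quotient.mk 𝔟' (C π) with hpb
    have hpb' : algebraMap R (MvPolynomial (Fin c ⊕ Fin n) R ⧸ 𝔟') π = pb := rfl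
    let bb : Fin m → MvPolynomial (Fin c ⊕ Fin n) R ⧸ 𝔟' := fun j => Ideal.Quotient.mk 𝔟' (b j)
    have hτb : ∀ j, Ideal.Quotient.mk 𝔟' (τ (rel j)) = pb ^ 2 * bb j := by
      intro j
      rw [hτ, hN3, map_mul, C_pow, map_pow]
    have hlead0 : ∀ j' : Fin c, Ideal.Quotient.mk 𝔟' (τ (rel (Fin.castLE hcm j'))) = 0 := by
      intro j'
      rw [hτ, hN2, Ideal.Quotient.eq_zero_iff_mem]
      exact Ideal.mul_mem_left _ _ (Ideal.subset_span ⟨j', rfl⟩)
    have hI2 : ∀ j, pb * (pb ^ 2 * bb j) ∈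
        Ideal.span {pb ^ 4} * Ideal.span (Set.range bb) ^ 2 := by
      intro j
      let θ : MvPolynomial (Fin n) R →+* MvPolynomial (Fin c ⊕ Fin n) R ⧸ 𝔟' :=
        (Ideal.Quotient.mk 𝔟').comp τ.toRingHom
      have h3 := Ideal.mem_map_of_mem θ (hK j)
      rw [Ideal.map_sup, Ideal.map_pow] at h3
      have h4 : (Ideal.span (Set.range fun j' : Fin c => rel (Fin.castLE hcm j'))).map θ = ⊥ := by
        rw [eq_bot_iff, Ideal.map_span, Ideal.span_le]
        rintro _ ⟨_, ⟨j', rfl⟩, rfl⟩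
        exact hlead0 j'
      have h5 : (Ideal.span (Set.range rel)).map θ ≤
          Ideal.span {pb ^ 2} * Ideal.span (Set.range bb) := by
        rw [Ideal.map_span, Ideal.span_le]
        rintro _ ⟨_, ⟨j', rfl⟩, rfl⟩
        show Ideal.Quotient.mk 𝔟' (τ (rel j')) ∈ _
        rw [hτb]
        exact Ideal.mul_mem_mul (Ideal.mem_span_singleton_self _) (Ideal.subset_span ⟨j', rfl⟩)
      rw [h4, bot_sup_eq] at h3
      have h6 := (Ideal.pow_right_mono h5 2) h3
      have h8 : (Ideal.span {pb ^ 2} * Ideal.span (Set.range bb)) ^ 2 ≤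
          Ideal.span {pb ^ 4} * Ideal.span (Set.range bb) ^ 2 := by
        rw [pow_two (Ideal.span {pb ^ 2} * Ideal.span (Set.range bb)), Ideal.mul_le]
        intro x hx y hy
        obtain ⟨x', hx', rfl⟩ := Ideal.mem_span_singleton_mul.mp hx
        obtain ⟨y', hy', rfl⟩ := Ideal.mem_span_singleton_mul.mp hy
        have : pb ^ 2 * x' * (pb ^ 2 * y') = pb ^ 4 * (x' * y') := by ring
        rw [this, pow_two (Ideal.span (Set.range bb))]
        exact Ideal.mul_mem_mul (Ideal.mem_span_singleton_self _) (Ideal.mul_mem_mul hx' hy')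
      replace h6 := h8 h6
      have h7 : θ (C π * rel j) = pb * (pb ^ 2 * bb j) := by
        show Ideal.Quotient.mk 𝔟' (τ (C π * rel j)) = _
        rw [map_mul, map_mul, hτb, hτ, aeval_C]
        rfl
      rw [h7] at h6
      exact h6
    have hz : ∀ j, ∃ z ∈ Ideal.span (Set.range bb) ^ 2, pb ^ 4 * z = pb * (pb ^ 2 * bb j) :=
      fun j => Ideal.mem_span_singleton_mul.mp (hI2 j)
    choose z hz hz' using hz
    have hy : ∀ j, pb ^ 3 * (bb j - pb * z j) = 0 := by
      intro j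
      have : pb ^ 3 * (bb j - pb * z j) = pb * (pb ^ 2 * bb j) - pb ^ 4 * z j := by ring
      rw [this, hz', sub_self]
    -- flatness
    set rb : MvPolynomial (Fin c ⊕ Fin n) R ⧸ 𝔟' := algebraMap R _ r with hrb
    have hkill : ∀ j, ∃ k : ℕ, Ideal.Quotient.mk 𝔟' Δ ^ k * (pb * rb ^ 2 * (bb j - pb * z j)) = 0 := by
      intro j
      have h1 : π ^ 3 • algebraMap (MvPolynomial (Fin c ⊕ Fin n) R ⧸ 𝔟')
          (Localization.Away (Ideal.Quotient.mk 𝔟' Δ)) (bb j - pb * z j) = 0 := by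
        rw [Algebra.smul_def, IsScalarTower.algebraMap_apply R
          (MvPolynomial (Fin c ⊕ Fin n) R ⧸ 𝔟') (Localization.Away (Ideal.Quotient.mk 𝔟' Δ)),
          ← map_mul, map_pow, hpb', hy, map_zero]
      have h2 := flat_ann π r hr _ h1
      rw [Algebra.smul_def, IsScalarTower.algebraMap_apply R
          (MvPolynomial (Fin c ⊕ Fin n) R ⧸ 𝔟') (Localization.Away (Ideal.Quotient.mk 𝔟' Δ)),
          ← map_mul] at h2
      obtain ⟨⟨_, k, rfl⟩, hk⟩ := (IsLocalization.map_eq_zero_iff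
        (Submonoid.powers (Ideal.Quotient.mk 𝔟' Δ)) _ _).mp h2
      refine ⟨k, ?_⟩
      rw [map_mul, map_pow] at hk
      exact hk
    choose kk hkk using hkill
    have hrbQ' : rb ∉ Q.comap q := by
      intro h
      apply hrQ
      have : q rb = algebraMap R _ r := q.commutes r
      rw [← this]
      exact h
    obtain ⟨d, hdQ', hd⟩ := local_kill pb ((∏ j, Ideal.Quotient.mk 𝔟' Δ ^ kk j) * rb ^ 2) bb z hz
      (by
        intro j
        rw [← Finset.prod_erase_mul _ _ (Finset.mem_univ j)]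
        have := hkk j
        calc _ = (∏ x ∈ Finset.univ.erase j, Ideal.Quotient.mk 𝔟' Δ ^ kk x) *
            (Ideal.Quotient.mk 𝔟' Δ ^ kk j * (pb * rb ^ 2 * (bb j - pb * z j))) := by ring
          _ = 0 := by rw [this, mul_zero])
      (Q.comap q) hπQ'
      (by
        intro h
        rcases Ideal.IsPrime.mem_or_mem inferInstance h with h1 | h1
        · obtain ⟨j, _, hj⟩ := Ideal.IsPrime.prod_mem_iff.mp h1
          exact hΔQ' (Ideal.IsPrime.mem_of_pow_mem inferInstance _ hj)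
        · exact hrbQ' (Ideal.IsPrime.mem_of_pow_mem inferInstance _ h1))
    have hd' : ∀ j, d * Ideal.Quotient.mk 𝔟' (τ (rel j)) = 0 := by
      intro j
      rw [hτb]
      exact hd j
    have hspan0 : ∀ t₂ ∈ Ideal.span (Set.range fun j => τ (rel j)),
        d * Ideal.Quotient.mk 𝔟' t₂ = 0 := by
      intro t₂ ht₂
      induction ht₂ using Submodule.span_induction with
      | mem x hx =>
        obtain ⟨j, rfl⟩ := hx
        exact hd' j
      | zero => rw [map_zero, mul_zero]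
      | add x y _ _ hx hy => rw [map_add, mul_add, hx, hy, add_zero]
      | smul c x _ hx => rw [smul_eq_mul, map_mul, mul_left_comm, hx, mul_zero]
    refine isSmoothAt_of_surjective q hq Q d hdQ' ?_ hsmQ'
    intro x hx
    obtain ⟨t, rfl⟩ := Ideal.Quotient.mk_surjective x
    rw [hqmk, Ideal.Quotient.eq_zero_iff_mem, h𝔟, Ideal.span_union] at hx
    obtain ⟨t₁, ht₁, t₂, ht₂, rfl⟩ := Submodule.mem_sup.mp hx
    have h1 : Ideal.Quotient.mk 𝔟' t₁ = 0 := Ideal.Quotient.eq_zero_iff_mem.mpr ht₁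
    rw [map_add, h1, zero_add]
    exact hspan0 t₂ ht₂

end Groth.Agent.H3.Desing
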