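import Groth.Agent.H3.Desing3
import Groth.Agent.H3.Desing6

/-!
# The desingularization lemma (helper3)
-/

set_option autoImplicit false
universe u

namespace Groth.Agent.H3.Desing

open MvPolynomial Smoothing

set_option maxHeartbeats 2000000 in
theorem desingularize {R Λ A : Type u} [CommRing R] [CommRing Λ]
    [Algebra R Λ] (π : R) (hΛ : ∀ x : Λ, π ^ 2 • x = 0 → π • x = 0) [CommRing A] [Algebra R A]
    (φ : A →ₐ[R] Λ)
    (hπ : Smoothing.IsStrictlyStandard R A (algebraMap R A π))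
    (ρ : A →ₐ[R] R ⧸ Ideal.span {π ^ 4})
    (hρ : ∀ (a : A) (r : R), Ideal.Quotient.mk (Ideal.span {π ^ 4}) r = ρ a →
      algebraMap R Λ r - φ a ∈ Ideal.span {algebraMap R Λ (π ^ 4)}) :
    ∃ (B : Type u) (_ : CommRing B) (_ : Algebra R B), Algebra.FinitePresentation R B ∧
      ∃ (α : A →ₐ[R] B) (β : B →ₐ[R] Λ), β.comp α = φ ∧
        ∀ r : R, (∀ x : R, π ^ 2 * x = 0 → π * (r * x) = 0) →
          algebraMap R B r ∈ Smoothing.singularIdeal R B := by
  classical
  obtain ⟨P, hspan, hkill⟩ := hπ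
  have hr : ∀ i, ∃ r : R, Ideal.Quotient.mk (Ideal.span {π ^ 4}) r = ρ (P.hom (X i)) :=
    fun i => Ideal.Quotient.mk_surjective _
  choose rr hrr using hr
  have hρeval : ∀ p : MvPolynomial (Fin P.n) R,
      ρ (P.hom p) = Ideal.Quotient.mk (Ideal.span {π ^ 4}) (eval rr p) := by
    intro p
    have h1 : (ρ.comp P.hom) = (Ideal.Quotient.mkₐ R (Ideal.span {π ^ 4})).comp (aeval rr) := by
      apply MvPolynomial.algHom_ext
      intro i
      simp [hrr]
    have h2 := congrArg (fun f => f p) h1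
    simpa [coe_aeval_eq_eval] using h2
  have hrel0 : ∀ j, P.hom (P.rel j) = 0 := by
    intro j
    have : P.rel j ∈ RingHom.ker P.hom.toRingHom := by
      rw [P.ker_eq]; exact Ideal.subset_span ⟨j, rfl⟩
    exact this
  have ht : ∀ j, ∃ t, eval rr (P.rel j) = π ^ 4 * t := by
    intro j
    have h1 : Ideal.Quotient.mk (Ideal.span {π ^ 4}) (eval rr (P.rel j)) = 0 := by
      rw [← hρeval, hrel0, map_zero]
    rw [Ideal.Quotient.eq_zero_iff_mem, Ideal.mem_span_singleton'] at h1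
    obtain ⟨t, ht⟩ := h1
    exact ⟨t, by rw [← ht, mul_comm]⟩
  choose t ht using ht
  have hlam : ∀ i, ∃ l : Λ, φ (P.hom (X i)) =
      algebraMap R Λ (rr i) + algebraMap R Λ (π ^ 4) * l := by
    intro i
    have h1 := hρ (P.hom (X i)) (rr i) (hrr i)
    obtain ⟨l, hl⟩ := Ideal.mem_span_singleton'.mp h1
    refine ⟨-l, ?_⟩
    rw [mul_neg, mul_comm, hl]
    ring
  choose lam hlam using hlam
  have hπA : P.hom (C π) = algebraMap R A π := by
    rw [← MvPolynomial.algebraMap_eq, AlgHom.commutes]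
  have hβ : ∃ (βc : (Fin P.c → Fin P.n) → R) (e₀ : R),
      ∑ cols, βc cols * eval rr (jacobianMinor P.rel (Fin.castLE P.hcm) cols) =
        π * (1 + π ^ 3 * e₀) := by
    have h1 := Ideal.mem_map_of_mem ρ hspan
    rw [Ideal.map_span] at h1
    have h2 : (ρ '' Set.range fun cols : Fin P.c → Fin P.n =>
        P.hom (jacobianMinor P.rel (Fin.castLE P.hcm) cols)) =
        Set.range fun cols : Fin P.c → Fin P.n => Ideal.Quotient.mk (Ideal.span {π ^ 4})
          (eval rr (jacobianMinor P.rel (Fin.castLE P.hcm) cols)) := by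
      ext x
      constructor
      · rintro ⟨_, ⟨cols, rfl⟩, rfl⟩
        exact ⟨cols, (hρeval _).symm⟩
      · rintro ⟨cols, rfl⟩
        exact ⟨_, ⟨cols, rfl⟩, hρeval _⟩
    rw [h2, Ideal.mem_span_range_iff_exists_fun] at h1
    obtain ⟨cf, hcf⟩ := h1
    choose βc hβc using fun cols => Ideal.Quotient.mk_surjective (cf cols)
    have h3 : Ideal.Quotient.mk (Ideal.span {π ^ 4})
        (∑ cols, βc cols * eval rr (jacobianMinor P.rel (Fin.castLE P.hcm) cols) - π) = 0 := by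
      rw [map_sub, map_sum]
      simp only [map_mul, hβc]
      rw [hcf, AlgHom.commutes]
      exact sub_self _
    rw [Ideal.Quotient.eq_zero_iff_mem, Ideal.mem_span_singleton'] at h3
    obtain ⟨e₀, he₀⟩ := h3
    exact ⟨βc, e₀, by linear_combination -he₀⟩
  obtain ⟨βc, e₀, hβ⟩ := hβ
  obtain ⟨s, a, E', b, hN2₀, hN3₀⟩ := construction π P.hcm P.rel rr t ht βc e₀ hβ
  have hN2 : ∀ j : Fin P.c, aeval (xi π rr s) (P.rel (Fin.castLE P.hcm j)) =
      C (π ^ 3) * gg π e₀ a E' j := hN2₀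
  have hN3 : ∀ j, aeval (xi π rr s) (P.rel j) = C (π ^ 2) * b j := hN3₀
  obtain ⟨qcA, hqcA⟩ := Ideal.mem_span_range_iff_exists_fun.mp hspan
  choose qc hqc using fun cols => P.surj (qcA cols)
  have hS : C π - ∑ cols, qc cols * jacobianMinor P.rel (Fin.castLE P.hcm) cols ∈
      Ideal.span (Set.range P.rel) := by
    rw [← P.ker_eq]
    show P.hom _ = 0
    rw [map_sub, map_sum, hπA, ← hqcA, sub_eq_zero]
    exact Finset.sum_congr rfl fun cols _ => by rw [map_mul, hqc]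
  have hK : ∀ j, C π * P.rel j ∈
      Ideal.span (Set.range fun j' : Fin P.c => P.rel (Fin.castLE P.hcm j')) ⊔
        Ideal.span (Set.range P.rel) ^ 2 := by
    intro j
    by_cases hj : (j : ℕ) < P.c
    · refine Ideal.mem_sup_left (Ideal.mul_mem_left _ _ (Ideal.subset_span ⟨⟨j, hj⟩, ?_⟩))
      congr 1
    · have h1 := hkill (C π) hπA j (not_lt.mp hj)
      have hle : Ideal.span (P.rel '' {j' : Fin P.m | (j' : ℕ) < P.c}) ≤
          Ideal.span (Set.range fun j' : Fin P.c => P.rel (Fin.castLE P.hcm j')) := by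
        apply Ideal.span_mono
        rintro _ ⟨j', hj', rfl⟩
        exact ⟨⟨j', hj'⟩, by congr 1⟩
      exact (sup_le_sup_right hle _) h1
  -- the algebra B
  let τ : MvPolynomial (Fin P.n) R →ₐ[R] MvPolynomial (Fin P.c ⊕ Fin P.n) R := aeval (xi π rr s)
  let 𝔟 : Ideal (MvPolynomial (Fin P.c ⊕ Fin P.n) R) :=
    Ideal.span (Set.range (gg π e₀ a E') ∪ Set.range fun j => aeval (xi π rr s) (P.rel j))
  let β₀ : MvPolynomial (Fin P.c ⊕ Fin P.n) R →ₐ[R] Λ :=
    aeval (Sum.elim (fun _ => 0) (fun i => algebraMap R Λ π * lam i))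
  have hβ₀ξ : ∀ i, β₀ (xi π rr s i) = φ (P.hom (X i)) := by
    intro i
    rw [hlam]
    simp only [xi, β₀, map_add, map_mul, aeval_C, map_sum, aeval_X, Sum.elim_inl, Sum.elim_inr,
      mul_zero, Finset.sum_const_zero, zero_add, map_pow]
    ring
  have hβ₀τ : β₀.comp τ = φ.comp P.hom := by
    apply MvPolynomial.algHom_ext
    intro i
    simp only [AlgHom.comp_apply, τ, aeval_X, hβ₀ξ]
  have hβ₀rel : ∀ j, β₀ (aeval (xi π rr s) (P.rel j)) = 0 := by
    intro j
    have := congrArg (fun f => f (P.rel j)) hβ₀τ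
    simp only [AlgHom.comp_apply, hrel0, map_zero] at this
    exact this
  have hβ₀g : ∀ j, β₀ (gg π e₀ a E' j) = 0 := by
    intro j
    have h1 : β₀ (gg π e₀ a E' j) = algebraMap R Λ π *
        (∑ i, algebraMap R Λ (a j i) * lam i + β₀ (E' j)) := by
      simp only [gg, β₀, map_add, map_mul, aeval_C, map_sum, aeval_X, Sum.elim_inl, Sum.elim_inr,
        mul_zero, zero_add, mul_add, Finset.mul_sum]
      congr 1
      exact Finset.sum_congr rfl fun i _ => by ring
    obtain ⟨Y, hY⟩ : ∃ Y, Y = ∑ i, algebraMap R Λ (a j i) * lam i + β₀ (E' j) := ⟨_, rfl⟩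
    rw [← hY] at h1
    have h2 : algebraMap R Λ (π ^ 3) * β₀ (gg π e₀ a E' j) = 0 := by
      have := hβ₀rel (Fin.castLE P.hcm j)
      rw [hN2, map_mul, aeval_C] at this
      exact this
    have h4 : π ^ 2 • (π ^ 2 • Y) = 0 := by
      rw [smul_smul, Algebra.smul_def]
      rw [h1, ← mul_assoc, ← map_mul] at h2
      rw [← h2]
      congr 2
      ring
    have h5 : π ^ 2 • (π • Y) = 0 := by
      have := hΛ _ h4
      rw [smul_smul] at this ⊢
      rw [← this]
      congr 1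
      ring
    have h6 : π ^ 2 • Y = 0 := by
      have := hΛ _ h5
      rw [smul_smul] at this
      rw [← this]
      congr 1
      ring
    have h7 := hΛ _ h6
    rw [h1, ← Algebra.smul_def]
    exact h7
  have h𝔟β : ∀ x ∈ 𝔟, β₀ x = 0 := by
    have : 𝔟 ≤ RingHom.ker β₀.toRingHom := by
      rw [Ideal.span_le]
      rintro _ (⟨j, rfl⟩ | ⟨j, rfl⟩)
      · exact hβ₀g j
      · exact hβ₀rel j
    exact fun x hx => this hx
  let β : (MvPolynomial (Fin P.c ⊕ Fin P.n) R ⧸ 𝔟) →ₐ[R] Λ := Ideal.Quotient.liftₐ 𝔟 β₀ h𝔟β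
  have hkerle : RingHom.ker P.hom.toRingHom ≤
      RingHom.ker ((Ideal.Quotient.mkₐ R 𝔟).comp τ).toRingHom := by
    rw [P.ker_eq, Ideal.span_le]
    rintro _ ⟨j, rfl⟩
    show Ideal.Quotient.mk 𝔟 (τ (P.rel j)) = 0
    rw [Ideal.Quotient.eq_zero_iff_mem]
    exact Ideal.subset_span (Or.inr ⟨j, rfl⟩)
  let α : A →ₐ[R] (MvPolynomial (Fin P.c ⊕ Fin P.n) R ⧸ 𝔟) :=
    AlgHom.liftOfSurjective P.hom P.surj ((Ideal.Quotient.mkₐ R 𝔟).comp τ) hkerle
  refine ⟨MvPolynomial (Fin P.c ⊕ Fin P.n) R ⧸ 𝔟, inferInstance, inferInstance,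
    Algebra.FinitePresentation.quotient
      (Submodule.fg_span ((Set.finite_range _).union (Set.finite_range _))), α, β, ?_, ?_⟩
  · apply AlgHom.ext
    intro x
    obtain ⟨p, rfl⟩ := P.surj x
    rw [AlgHom.comp_apply, AlgHom.liftOfSurjective_apply]
    show β (Ideal.Quotient.mk 𝔟 (τ p)) = _
    show (Ideal.Quotient.liftₐ 𝔟 β₀ h𝔟β) (Ideal.Quotient.mk 𝔟 (τ p)) = _
    rw [Ideal.Quotient.liftₐ_apply, Ideal.Quotient.lift_mk]
    exact congrArg (fun f => f p) hβ₀τ
  · intro r hr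
    unfold singularIdeal
    rw [PrimeSpectrum.mem_vanishingIdeal]
    intro Q hQ
    by_contra hrQ
    exact hQ (smooth_part π P.hcm P.rel hK qc hS rr s e₀ a E' b hN2 hN3 r hr 𝔟 rfl Q.asIdeal hrQ)

end Groth.Agent.H3.Desing
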