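import Groth.Agent.H3.Desing7
import Groth.Agent.S6829

/-!
# Desingularization over a finitely presented base (helper3): `desingularize_strictly_standard`
-/

set_option autoImplicit false
universe u

namespace Groth.Agent.H3.Desing

open MvPolynomial Smoothing TensorProduct

theorem desingularize' {R Λ A : Type u} [CommRing R] [CommRing Λ]
    [Algebra R Λ] (π π4 : R) (h4 : π4 = π ^ 4) (l4 : Λ) (hl4 : l4 = algebraMap R Λ (π ^ 4))
    (hΛ : ∀ x : Λ, π ^ 2 • x = 0 → π • x = 0) [CommRing A] [Algebra R A]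
    (φ : A →ₐ[R] Λ)
    (hπ : Smoothing.IsStrictlyStandard R A (algebraMap R A π))
    (ρ : A →ₐ[R] R ⧸ Ideal.span {π4})
    (hρ : ∀ (a : A) (r : R), Ideal.Quotient.mk (Ideal.span {π4}) r = ρ a →
      algebraMap R Λ r - φ a ∈ Ideal.span {l4}) :
    ∃ (B : Type u) (_ : CommRing B) (_ : Algebra R B), Algebra.FinitePresentation R B ∧
      ∃ (α : A →ₐ[R] B) (β : B →ₐ[R] Λ), β.comp α = φ ∧
        ∀ r : R, (∀ x : R, π ^ 2 * x = 0 → π * (r * x) = 0) →
          algebraMap R B r ∈ Smoothing.singularIdeal R B := by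
  subst h4
  subst hl4
  exact desingularize π hΛ φ hπ ρ hρ

theorem flat_ann2 {R M : Type*} [CommRing R] [AddCommGroup M] [Module R M] [Module.Flat R M]
    (π : R) (hR : ∀ x : R, π ^ 2 * x = 0 → π * x = 0) (y : M) (hy : π ^ 2 • y = 0) :
    π • y = 0 := by
  have h0 : ∑ i : Unit, (fun _ : Unit => π ^ 2) i • (fun _ : Unit => y) i = 0 := by
    simpa using hy
  obtain ⟨k, a, z, hz, ha⟩ := Module.Flat.isTrivialRelation_of_sum_smul_eq_zero h0
  have hy' : y = ∑ j, a () j • z j := hz ()
  rw [hy', Finset.smul_sum]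
  refine Finset.sum_eq_zero fun j _ => ?_
  rw [smul_smul, hR (a () j) (by simpa using ha j), zero_smul]

/-- If `d` lies in the singular ideal of the finitely presented `R`-algebra `D` over the Noetherian
ring `R` and `Ann_R π = Ann_R π²`, then some power of `d` multiplies `Ann_D π²` into `Ann_D π`. -/
theorem exists_pow_ann {R D : Type u} [CommRing R] [IsNoetherianRing R] [CommRing D]
    [Algebra R D] [Algebra.FinitePresentation R D] (π : R)
    (hR : ∀ r : R, π ^ 2 * r = 0 → π * r = 0) (d : D)
    [Algebra.FormallySmooth R (Localization.Away d)] :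
    ∃ N : ℕ, ∀ x : D, algebraMap R D π ^ 2 * x = 0 → algebraMap R D π * (d ^ N * x) = 0 := by
  classical
  haveI : IsNoetherianRing D := Algebra.FiniteType.isNoetherianRing R D
  haveI : Algebra.FinitePresentation R (Localization.Away d) :=
    Algebra.FinitePresentation.trans R D (Localization.Away d)
  haveI : Algebra.Smooth R (Localization.Away d) := ⟨inferInstance, inferInstance⟩
  haveI : Module.Flat R (Localization.Away d) := inferInstance
  have h1 : ∀ x : D, algebraMap R D π ^ 2 * x = 0 →
      ∃ k : ℕ, d ^ k * (algebraMap R D π * x) = 0 := by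
    intro x hx
    have h2 : π ^ 2 • algebraMap D (Localization.Away d) x = 0 := by
      rw [Algebra.smul_def, IsScalarTower.algebraMap_apply R D (Localization.Away d), ← map_mul,
        map_pow, hx, map_zero]
    have h3 := flat_ann2 π hR _ h2
    rw [Algebra.smul_def, IsScalarTower.algebraMap_apply R D (Localization.Away d), ← map_mul] at h3
    obtain ⟨⟨_, k, rfl⟩, hk⟩ := (IsLocalization.map_eq_zero_iff (Submonoid.powers d) _ _).mp h3
    exact ⟨k, hk⟩
  let 𝔫 : Ideal D := (Ideal.span {algebraMap R D π ^ 2}).annihilator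
  have h𝔫 : ∀ x, x ∈ 𝔫 ↔ algebraMap R D π ^ 2 * x = 0 := by
    intro x
    rw [Submodule.mem_annihilator_span_singleton, smul_eq_mul, mul_comm]
  obtain ⟨S, hS⟩ := (isNoetherianRing_iff_ideal_fg D).mp inferInstance 𝔫
  have h4 : ∀ x ∈ S, ∃ k : ℕ, d ^ k * (algebraMap R D π * x) = 0 := by
    intro x hx
    exact h1 x ((h𝔫 x).mp (hS ▸ Ideal.subset_span hx))
  choose! kk hkk using h4
  refine ⟨S.sup kk, fun x hx => ?_⟩
  have hx' : x ∈ Ideal.span (S : Set D) := by rw [hS]; exact (h𝔫 x).mpr hx
  clear hx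
  induction hx' using Submodule.span_induction with
  | mem y hy =>
    have h5 : d ^ S.sup kk = d ^ (S.sup kk - kk y) * d ^ kk y := by
      rw [← pow_add, Nat.sub_add_cancel (Finset.le_sup hy)]
    have h6 := hkk y hy
    calc algebraMap R D π * (d ^ S.sup kk * y)
        = d ^ (S.sup kk - kk y) * (d ^ kk y * (algebraMap R D π * y)) := by rw [h5]; ring
      _ = 0 := by rw [h6, mul_zero]
  | zero => rw [mul_zero, mul_zero]
  | add y z _ _ hy hz => rw [mul_add, mul_add, hy, hz, add_zero]
  | smul c y _ hy =>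
    rw [smul_eq_mul]
    calc algebraMap R D π * (d ^ S.sup kk * (c * y))
        = c * (algebraMap R D π * (d ^ S.sup kk * y)) := by ring
      _ = 0 := by rw [hy, mul_zero]

end Groth.Agent.H3.Desing
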