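import Mathlib
import Groth.Prelude
import Groth.Agent.H18.ArtinResidue

set_option autoImplicit false
universe u
open CategoryTheory CategoryTheory.Limits AlgebraicGeometry TensorProduct

namespace Groth.Agent.H3.EssFree_EB0

/-- nilpotent Nakayama, spanning form: a family spanning `k ⊗ M` spans `M` when the maximal ideal
is nilpotent. -/
theorem span_eq_top_of_tmul_eq_basis (A : Type u) [CommRing A] [IsArtinianRing A] [IsLocalRing A]
    (M : Type u) [AddCommGroup M] [Module A M] {ι : Type*} (v : ι → M)
    (b : Module.Basis ι (IsLocalRing.ResidueField A) (IsLocalRing.ResidueField A ⊗[A] M))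
    (hb : ∀ i, (1 : IsLocalRing.ResidueField A) ⊗ₜ[A] v i = b i) :
    Submodule.span A (Set.range v) = ⊤ := by
  apply Groth.Agent.H18.ArtinResidue.eq_top_of_sup_smul_eq_top
    (Groth.Agent.H18.ArtinResidue.isNilpotent_maximalIdeal (A := A))
  rw [eq_top_iff]
  intro x _
  have hmap : (Submodule.span A (Set.range v)).map
      (TensorProduct.mk A (IsLocalRing.ResidueField A) M 1) = ⊤ := by
    rw [Submodule.map_span, ← Submodule.restrictScalars_span A (IsLocalRing.ResidueField A)
      Ideal.Quotient.mk_surjective, Submodule.restrictScalars_eq_top_iff, ← b.span_eq,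
      ← Set.range_comp]
    simp only [Function.comp_def, TensorProduct.mk_apply, hb]
  have hx : TensorProduct.mk A (IsLocalRing.ResidueField A) M 1 x ∈
      (Submodule.span A (Set.range v)).map
        (TensorProduct.mk A (IsLocalRing.ResidueField A) M 1) := by
    rw [hmap]; trivial
  obtain ⟨n, hn, hnx⟩ := hx
  have hker : x - n ∈ LinearMap.ker (TensorProduct.mk A (IsLocalRing.ResidueField A) M 1) := by
    rw [LinearMap.mem_ker, map_sub, hnx, sub_self]
  have hker' : x - n ∈ (IsLocalRing.maximalIdeal A) • (⊤ : Submodule A M) := by
    have := LinearMap.ker_tensorProductMk (R := A) (Q := M) (I := IsLocalRing.maximalIdeal A)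
    rw [← this]
    exact hker
  have : x = n + (x - n) := by abel
  rw [this]
  exact Submodule.add_mem_sup hn hker'

/-- (EB0) flat over an Artinian local ring implies free (no finiteness). -/
theorem free_of_flat_of_isArtinianRing (A : Type u) [CommRing A] [IsArtinianRing A]
    [IsLocalRing A] (M : Type u) [AddCommGroup M] [Module A M] [Module.Flat A M] :
    Module.Free A M := by
  let w := Module.Free.chooseBasis (IsLocalRing.ResidueField A)
    (IsLocalRing.ResidueField A ⊗[A] M)
  obtain ⟨v, eq⟩ := (TensorProduct.mk_surjective A M (IsLocalRing.ResidueField A)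
    Ideal.Quotient.mk_surjective).comp_left w
  have eq' : (TensorProduct.mk A (IsLocalRing.ResidueField A) M 1) ∘ v = w := eq
  have hli : LinearIndependent A v :=
    Module.IsLocalRing.linearIndependent_of_flat _ (eq' ▸ w.linearIndependent)
  have hspan : Submodule.span A (Set.range v) = ⊤ :=
    span_eq_top_of_tmul_eq_basis A M v w (congr_fun eq)
  exact Module.Free.of_basis (Module.Basis.mk hli hspan.ge)

end Groth.Agent.H3.EssFree_EB0
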