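import Mathlib
import Groth.Prelude
import Groth.Agent.H3.EssFree_EB0

set_option autoImplicit false
universe u
open CategoryTheory CategoryTheory.Limits AlgebraicGeometry TensorProduct

namespace Groth.Agent.H3.EssFree_EB1

/-- (EB1) flat over an Artinian ring implies projective (no finiteness). -/
theorem projective_of_flat_of_isArtinianRing (A : Type u) [CommRing A] [IsArtinianRing A]
    (M : Type u) [AddCommGroup M] [Module A M] [Module.Flat A M] : Module.Projective A M := by
  classical
  have : Fintype (MaximalSpectrum A) := Fintype.ofFinite _
  let e : A ≃ₐ[A] MaximalSpectrum.PiLocalization A := MaximalSpectrum.toPiLocalizationEquiv A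
  have hP : Module.Projective A (MaximalSpectrum.PiLocalization A) :=
    Module.Projective.of_equiv e.toLinearEquiv
  have hfac : ∀ m : MaximalSpectrum A, Module.Projective A (Localization.AtPrime m.asIdeal) :=
    fun m => Module.Projective.of_split
      (LinearMap.single A (fun m : MaximalSpectrum A => Localization.AtPrime m.asIdeal) m)
      (LinearMap.proj m) (by ext; simp)
  have hten : ∀ m : MaximalSpectrum A,
      Module.Projective A (Localization.AtPrime m.asIdeal ⊗[A] M) := by
    intro m
    have hfree : Module.Free (Localization.AtPrime m.asIdeal)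
        (Localization.AtPrime m.asIdeal ⊗[A] M) :=
      Groth.Agent.H3.EssFree_EB0.free_of_flat_of_isArtinianRing _ _
    let b := Module.Free.chooseBasis (Localization.AtPrime m.asIdeal)
      (Localization.AtPrime m.asIdeal ⊗[A] M)
    let f : (Localization.AtPrime m.asIdeal ⊗[A] M) ≃ₗ[A]
        (Module.Free.ChooseBasisIndex (Localization.AtPrime m.asIdeal)
          (Localization.AtPrime m.asIdeal ⊗[A] M) →₀ Localization.AtPrime m.asIdeal) :=
      b.repr.restrictScalars A
    have h1 := hfac m
    have h2 : Module.Projective A
        (Module.Free.ChooseBasisIndex (Localization.AtPrime m.asIdeal)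
          (Localization.AtPrime m.asIdeal ⊗[A] M) →₀ Localization.AtPrime m.asIdeal) :=
      Module.Projective.of_equiv (finsuppLequivDFinsupp A).symm
    exact Module.Projective.of_equiv f.symm
  let g : M ≃ₗ[A] (Π m : MaximalSpectrum A, Localization.AtPrime m.asIdeal ⊗[A] M) :=
    (TensorProduct.rid A M).symm ≪≫ₗ
      (TensorProduct.congr (LinearEquiv.refl A M) e.toLinearEquiv) ≪≫ₗ
      (TensorProduct.piRight A A M (fun m : MaximalSpectrum A => Localization.AtPrime m.asIdeal))
      ≪≫ₗ LinearEquiv.piCongrRight (fun m => TensorProduct.comm A M _)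
  have h3 : Module.Projective A
      (Π m : MaximalSpectrum A, Localization.AtPrime m.asIdeal ⊗[A] M) :=
    Module.Projective.of_equiv (DFinsupp.linearEquivFunOnFintype (R := A)
      (M := fun m : MaximalSpectrum A => Localization.AtPrime m.asIdeal ⊗[A] M))
  exact Module.Projective.of_equiv g.symm

end Groth.Agent.H3.EssFree_EB1
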