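import Mathlib

/-!
# Element-wise relative pure inseparability of residue fields (helper3)
-/

set_option autoImplicit false

open TensorProduct

namespace Groth.Agent.H3.EtSplit

universe u

section field

variable {F Λ T : Type*} [Field F] [Field Λ] [CommRing T]

/-- if a generating set of `T` is mapped into the relative perfect closure of `F` in `Λ` and `Λ`
consists of fractions of images of `T`, then everything is in the relative perfect closure -/
theorem exists_pow_mem_range_of_generators (φ : F →+* Λ) (e : ℕ) [ExpChar F e]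
    (ρ : T →+* Λ) (X : Set T) (hX : Subring.closure X = ⊤)
    (hfrac : ∀ x : Λ, ∃ t s : T, ρ s ≠ 0 ∧ x * ρ s = ρ t)
    (h : ∀ t ∈ X, ∃ n : ℕ, (ρ t) ^ (e ^ n) ∈ φ.range) :
    ∀ x : Λ, ∃ n : ℕ, x ^ (e ^ n) ∈ φ.range := by
  letI := φ.toAlgebra
  have key : ∀ x : Λ, x ∈ perfectClosure F Λ ↔ ∃ n : ℕ, x ^ (e ^ n) ∈ φ.range := fun x => by
    rw [mem_perfectClosure_iff_pow_mem e]; rfl
  have hall : ∀ t : T, ρ t ∈ perfectClosure F Λ := by
    intro t
    have hle : Subring.closure X ≤ (perfectClosure F Λ).toSubfield.toSubring.comap ρ := by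
      rw [Subring.closure_le]
      intro t ht
      exact (key _).2 (h t ht)
    rw [hX] at hle
    exact hle (Subring.mem_top t)
  intro x
  rw [← key]
  obtain ⟨t, s, hs, hxs⟩ := hfrac x
  have : x = ρ t / ρ s := by rw [← hxs, mul_div_cancel_right₀ _ hs]
  rw [this]
  exact div_mem (hall t) (hall s)

end field

section PIAt

variable {R S : Type*} [CommRing R] [CommRing S] [Algebra R S]

/-- element-wise relative pure inseparability of `κ(q)` over `κ(p)` -/
def PIAt (e : ℕ) (p : Ideal R) [p.IsPrime] (q : Ideal S) [q.IsPrime]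
    (hq : p = q.comap (algebraMap R S)) : Prop :=
  ∀ s : S, ∃ n : ℕ, (algebraMap S q.ResidueField s) ^ (e ^ n) ∈
    (Ideal.ResidueField.map p q (algebraMap R S) hq).range

theorem exists_frac_residueField (q : Ideal S) [q.IsPrime] (x : q.ResidueField) :
    ∃ t s : S, algebraMap S q.ResidueField s ≠ 0 ∧
      x * algebraMap S q.ResidueField s = algebraMap S q.ResidueField t := by
  obtain ⟨⟨a, b⟩, hab⟩ := IsLocalization.surj (nonZeroDivisors (S ⧸ q)) x
  obtain ⟨t, rfl⟩ := Ideal.Quotient.mk_surjective a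
  obtain ⟨s, hs⟩ := Ideal.Quotient.mk_surjective (b : S ⧸ q)
  refine ⟨t, s, ?_, ?_⟩
  · rw [← Ideal.algebraMap_quotient_residueField_mk, hs]
    exact IsFractionRing.to_map_ne_zero_of_mem_nonZeroDivisors b.2
  · rw [← Ideal.algebraMap_quotient_residueField_mk, ← Ideal.algebraMap_quotient_residueField_mk,
      hs]
    exact hab

theorem isPurelyInseparable_of_PIAt (e : ℕ)
    (p : Ideal R) [p.IsPrime] (q : Ideal S) [q.IsPrime] (hq : p = q.comap (algebraMap R S))
    [ExpChar p.ResidueField e] (h : PIAt e p q hq) :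
    letI := (Ideal.ResidueField.map p q (algebraMap R S) hq).toAlgebra
    IsPurelyInseparable p.ResidueField q.ResidueField := by
  letI := (Ideal.ResidueField.map p q (algebraMap R S) hq).toAlgebra
  rw [isPurelyInseparable_iff_pow_mem _ e]
  exact exists_pow_mem_range_of_generators (Ideal.ResidueField.map p q (algebraMap R S) hq) e
    (algebraMap S q.ResidueField) Set.univ (by simp) (exists_frac_residueField q)
    (fun t _ => h t)

theorem residueField_map_comp {R₁ R₂ R₃ : Type*} [CommRing R₁] [CommRing R₂] [CommRing R₃]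
    (p₁ : Ideal R₁) [p₁.IsPrime] (p₂ : Ideal R₂) [p₂.IsPrime] (p₃ : Ideal R₃) [p₃.IsPrime]
    (f : R₁ →+* R₂) (g : R₂ →+* R₃) (h₁ : p₁ = p₂.comap f) (h₂ : p₂ = p₃.comap g)
    (h₃ : p₁ = p₃.comap (g.comp f)) :
    (Ideal.ResidueField.map p₂ p₃ g h₂).comp (Ideal.ResidueField.map p₁ p₂ f h₁) =
      Ideal.ResidueField.map p₁ p₃ (g.comp f) h₃ := by
  apply Ideal.ResidueField.ringHom_ext
  ext a
  simp only [RingHom.comp_apply, Ideal.ResidueField.map_algebraMap]

end PIAt

end Groth.Agent.H3.EtSplit
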