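import Groth.Agent.H3.EtSplit1

/-!
# Transport of element-wise pure inseparability (helper3)
-/

set_option autoImplicit false

open TensorProduct

namespace Groth.Agent.H3.EtSplit

universe u

section surj

variable {R' T A : Type*} [CommRing R'] [CommRing T] [CommRing A] [Algebra R' T] [Algebra R' A]

theorem PIAt_of_surjective (g : T →ₐ[R'] A) (hg : Function.Surjective g) (e : ℕ)
    (P : Ideal R') [P.IsPrime] (Q : Ideal T) [Q.IsPrime] (r : Ideal A) [r.IsPrime]
    (hQ : P = Q.comap (algebraMap R' T)) (hQr : Q = r.comap g.toRingHom)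
    (hr : P = r.comap (algebraMap R' A)) (h : PIAt e P Q hQ) : PIAt e P r hr := by
  intro a
  obtain ⟨t, rfl⟩ := hg a
  obtain ⟨n, y, hy⟩ := h t
  refine ⟨n, y, ?_⟩
  have h1 : algebraMap A r.ResidueField (g t) =
      Ideal.ResidueField.map Q r g.toRingHom hQr (algebraMap T Q.ResidueField t) := by
    rw [Ideal.ResidueField.map_algebraMap]; rfl
  have h2 : (Ideal.ResidueField.map Q r g.toRingHom hQr).comp
      (Ideal.ResidueField.map P Q (algebraMap R' T) hQ) =
      Ideal.ResidueField.map P r (algebraMap R' A) hr := by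
    apply Ideal.ResidueField.ringHom_ext
    ext a
    simp only [RingHom.comp_apply, Ideal.ResidueField.map_algebraMap]
    congr 1
    exact g.commutes a
  rw [h1, ← map_pow, ← hy, ← h2]
  rfl

end surj

section tensor

variable {R R₁ S : Type*} [CommRing R] [CommRing R₁] [CommRing S] [Algebra R R₁] [Algebra R S]

theorem PIAt_tensor_of_forall (e : ℕ) (P : Ideal R₁) [P.IsPrime] (Q : Ideal (R₁ ⊗[R] S))
    [Q.IsPrime] (hP : P = Q.comap (algebraMap R₁ (R₁ ⊗[R] S))) [ExpChar P.ResidueField e]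
    (h : ∀ s : S, ∃ n : ℕ, (algebraMap (R₁ ⊗[R] S) Q.ResidueField (1 ⊗ₜ s)) ^ (e ^ n) ∈
      (Ideal.ResidueField.map P Q (algebraMap R₁ (R₁ ⊗[R] S)) hP).range) :
    PIAt e P Q hP := by
  intro t
  refine exists_pow_mem_range_of_generators
    (Ideal.ResidueField.map P Q (algebraMap R₁ (R₁ ⊗[R] S)) hP) e
    (algebraMap (R₁ ⊗[R] S) Q.ResidueField)
    (Set.range (fun a : R₁ => (a ⊗ₜ[R] (1 : S))) ∪ Set.range (fun s : S => ((1 : R₁) ⊗ₜ[R] s)))
    ?_ (exists_frac_residueField Q) ?_ _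
  · rw [eq_top_iff]
    intro t ht
    clear ht
    induction t using TensorProduct.induction_on with
    | zero => exact Subring.zero_mem _
    | tmul a s =>
      have : a ⊗ₜ[R] s = (a ⊗ₜ[R] (1 : S)) * ((1 : R₁) ⊗ₜ[R] s) := by
        rw [Algebra.TensorProduct.tmul_mul_tmul, mul_one, one_mul]
      rw [this]
      exact Subring.mul_mem _ (Subring.subset_closure (Or.inl ⟨a, rfl⟩))
        (Subring.subset_closure (Or.inr ⟨s, rfl⟩))
    | add x y hx hy => exact Subring.add_mem _ hx hy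
  · rintro t (⟨a, rfl⟩ | ⟨s, rfl⟩)
    · refine ⟨0, algebraMap R₁ P.ResidueField a, ?_⟩
      rw [pow_zero, pow_one, Ideal.ResidueField.map_algebraMap]
      rfl
    · exact h s

theorem PIAt_tensor (e : ℕ) (p : Ideal R) [p.IsPrime] (q : Ideal S) [q.IsPrime]
    (P : Ideal R₁) [P.IsPrime] (Q : Ideal (R₁ ⊗[R] S)) [Q.IsPrime]
    (hq : p = q.comap (algebraMap R S))
    (hqQ : q = Q.comap (Algebra.TensorProduct.includeRight : S →ₐ[R] R₁ ⊗[R] S).toRingHom)
    (hpP : p = P.comap (algebraMap R R₁))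
    (hP : P = Q.comap (algebraMap R₁ (R₁ ⊗[R] S))) [ExpChar P.ResidueField e]
    (h : PIAt e p q hq) : PIAt e P Q hP := by
  apply PIAt_tensor_of_forall
  intro s
  obtain ⟨n, y, hy⟩ := h s
  refine ⟨n, Ideal.ResidueField.map p P (algebraMap R R₁) hpP y, ?_⟩
  have h1 : algebraMap (R₁ ⊗[R] S) Q.ResidueField (1 ⊗ₜ s) =
      Ideal.ResidueField.map q Q
        (Algebra.TensorProduct.includeRight : S →ₐ[R] R₁ ⊗[R] S).toRingHom hqQ
        (algebraMap S q.ResidueField s) := by
    rw [Ideal.ResidueField.map_algebraMap]; rfl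
  have h2 : (Ideal.ResidueField.map q Q
        (Algebra.TensorProduct.includeRight : S →ₐ[R] R₁ ⊗[R] S).toRingHom hqQ).comp
      (Ideal.ResidueField.map p q (algebraMap R S) hq) =
      (Ideal.ResidueField.map P Q (algebraMap R₁ (R₁ ⊗[R] S)) hP).comp
        (Ideal.ResidueField.map p P (algebraMap R R₁) hpP) := by
    apply Ideal.ResidueField.ringHom_ext
    ext a
    simp only [RingHom.comp_apply, Ideal.ResidueField.map_algebraMap]
    congr 1
    show (1 : R₁) ⊗ₜ[R] (algebraMap R S a) = (algebraMap R R₁ a) ⊗ₜ[R] (1 : S)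
    rw [Algebra.algebraMap_eq_smul_one, Algebra.algebraMap_eq_smul_one, TensorProduct.smul_tmul]
  rw [h1, ← map_pow, ← hy]
  have := congrArg (fun f => f y) h2
  simp only [RingHom.comp_apply] at this
  rw [this]

end tensor

end Groth.Agent.H3.EtSplit
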