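import Groth.Agent.H3.EtSplit2

/-!
# Auxiliary lemmas on integral algebras: killing an idempotent, separating subalgebras (helper3)
-/

set_option autoImplicit false

open TensorProduct

namespace Groth.Agent.H3.EtSplit

universe u

section kill

variable {R' T : Type*} [CommRing R'] [CommRing T] [Algebra R' T] [Algebra.IsIntegral R' T]

theorem exists_smul_eq_zero_of_forall_mem (P : Ideal R') [P.IsPrime] (ε : T)
    (hε : IsIdempotentElem ε)
    (h : ∀ Q : Ideal T, Q.IsPrime → Q.comap (algebraMap R' T) = P → ε ∈ Q) :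
    ∃ f : R', f ∉ P ∧ algebraMap R' T f * ε = 0 := by
  by_cases hle : (Ideal.span {1 - ε}).comap (algebraMap R' T) ≤ P
  · obtain ⟨Q, hQI, hQp, hQP⟩ := Ideal.exists_ideal_over_prime_of_isIntegral P _ hle
    have h1 : 1 - ε ∈ Q := hQI (Ideal.subset_span rfl)
    have h2 : ε ∈ Q := h Q hQp hQP
    exfalso
    apply hQp.ne_top
    rw [Ideal.eq_top_iff_one]
    have := Q.add_mem h1 h2
    rwa [sub_add_cancel] at this
  · obtain ⟨f, hf, hfP⟩ := Set.not_subset.mp hle
    refine ⟨f, hfP, ?_⟩
    obtain ⟨c, hc⟩ := Ideal.mem_span_singleton'.mp (Ideal.mem_comap.mp hf)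
    rw [← hc, mul_assoc, sub_mul, one_mul, hε.eq, sub_self, mul_zero]

end kill

section sep

variable {R S : Type*} [CommRing R] [CommRing S] [Algebra R S] [Algebra.IsIntegral R S]

theorem eq_of_le_of_comap_eq (q q' : Ideal S) [q.IsPrime] [q'.IsPrime] (hle : q ≤ q')
    (h : q.comap (algebraMap R S) = q'.comap (algebraMap R S)) : q = q' := by
  by_contra hne
  have hlt : q < q' := lt_of_le_of_ne hle hne
  obtain ⟨x, hxq', hxq⟩ := Set.exists_of_ssubset hlt
  have := Ideal.comap_lt_comap_of_integral_mem_sdiff (R := R) hle ⟨hxq', hxq⟩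
    (Algebra.IsIntegral.isIntegral x)
  exact this.ne h

theorem exists_finite_subalgebra_separating (p : Ideal R) [p.IsPrime]
    (hfin : (p.primesOver S).Finite) :
    ∃ S₀ : Subalgebra R S, Module.Finite R S₀ ∧ ∀ q ∈ p.primesOver S, ∀ q' ∈ p.primesOver S,
      q.comap S₀.val.toRingHom = q'.comap S₀.val.toRingHom → q = q' := by
  classical
  let sel : Ideal S → Ideal S → S := fun q q' =>
    if h : ∃ x, x ∈ q ∧ x ∉ q' then h.choose else 0
  have hsel : ∀ q q' : Ideal S, (∃ x, x ∈ q ∧ x ∉ q') → sel q q' ∈ q ∧ sel q q' ∉ q' := by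
    intro q q' h
    simp only [sel, dif_pos h]
    exact h.choose_spec
  let F : Finset S := (hfin.toFinset ×ˢ hfin.toFinset).image (fun x => sel x.1 x.2)
  refine ⟨Algebra.adjoin R (F : Set S), ?_, ?_⟩
  · exact Algebra.finite_adjoin_of_finite_of_isIntegral F.finite_toSet
      (fun x _ => Algebra.IsIntegral.isIntegral x)
  · intro q hq q' hq' hcomap
    haveI := hq.1
    haveI := hq'.1
    have hqp : q.comap (algebraMap R S) = q'.comap (algebraMap R S) := by
      have h1 := hq.2.over
      have h2 := hq'.2.over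
      rw [Ideal.under_def] at h1 h2
      rw [← h1, ← h2]
    by_contra hne
    have hnle : ¬ q ≤ q' := fun hle => hne (eq_of_le_of_comap_eq (R := R) q q' hle hqp)
    obtain ⟨x, hxq, hxq'⟩ := Set.not_subset.mp hnle
    obtain ⟨h1, h2⟩ := hsel q q' ⟨x, hxq, hxq'⟩
    have hmem : sel q q' ∈ Algebra.adjoin R (F : Set S) := by
      apply Algebra.subset_adjoin
      rw [Finset.mem_coe, Finset.mem_image]
      exact ⟨(q, q'), Finset.mem_product.mpr ⟨hfin.mem_toFinset.mpr hq, hfin.mem_toFinset.mpr hq'⟩,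
        rfl⟩
    have h3 : (⟨sel q q', hmem⟩ : Algebra.adjoin R (F : Set S)) ∈
        q.comap (Algebra.adjoin R (F : Set S)).val.toRingHom := h1
    rw [hcomap] at h3
    exact h2 h3

end sep

end Groth.Agent.H3.EtSplit
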