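import Groth.Agent.H3.EtSplit3

/-!
# From idempotents with one prime each to the product decomposition (helper3)
-/

set_option autoImplicit false

open TensorProduct

namespace Groth.Agent.H3.EtSplit

universe u

theorem finish {R S : Type u} [CommRing R] [CommRing S] [Algebra R S] [Algebra.IsIntegral R S]
    (e : ℕ) (R' : Type u) [CommRing R'] [Algebra R R'] (P : Ideal R') [P.IsPrime]
    [ExpChar P.ResidueField e]
    (n : ℕ) (ε : Fin n → R' ⊗[R] S) (hε : CompleteOrthogonalIdempotents ε)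
    (hQ : ∀ j, ∃ Q : Ideal (R' ⊗[R] S), Q.IsPrime ∧ Q.comap (algebraMap R' (R' ⊗[R] S)) = P ∧
        ε j ∉ Q ∧ ∀ Q' : Ideal (R' ⊗[R] S), Q'.IsPrime →
          Q'.comap (algebraMap R' (R' ⊗[R] S)) = P → ε j ∉ Q' → Q' = Q)
    (hpi : ∀ (Q : Ideal (R' ⊗[R] S)) [Q.IsPrime]
      (hQP : P = Q.comap (algebraMap R' (R' ⊗[R] S))), PIAt e P Q hQP) :
    ∃ (m : ℕ) (A : Fin m → Type u) (_ : ∀ j, CommRing (A j)) (_ : ∀ j, Algebra R' (A j))
      (_ : R' ⊗[R] S ≃ₐ[R'] (Π j, A j)),
        ∀ j, Algebra.IsIntegral R' (A j) ∧ ∃ (r : PrimeSpectrum (A j))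
          (hr : r.asIdeal.comap (algebraMap R' (A j)) = P),
          (∀ r' : PrimeSpectrum (A j), r'.asIdeal.comap (algebraMap R' (A j)) = P → r' = r) ∧
          letI := (Ideal.ResidueField.map P r.asIdeal (algebraMap R' (A j)) hr.symm).toAlgebra
          IsPurelyInseparable P.ResidueField r.asIdeal.ResidueField := by
  classical
  let T := R' ⊗[R] S
  let I : Fin n → Ideal T := fun j => Ideal.span {1 - ε j}
  let φ : T →ₐ[R'] (Π j, T ⧸ I j) := Pi.algHom R' _ (fun j => Ideal.Quotient.mkₐ R' (I j))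
  have hφ : Function.Bijective φ := hε.bijective_pi
  refine ⟨n, fun j => T ⧸ I j, inferInstance, inferInstance, AlgEquiv.ofBijective φ hφ, ?_⟩
  intro j
  have hsurj : Function.Surjective (Ideal.Quotient.mkₐ R' (I j)) := Ideal.Quotient.mkₐ_surjective R' _
  refine ⟨Algebra.IsIntegral.of_surjective (Ideal.Quotient.mkₐ R' (I j)) hsurj, ?_⟩
  obtain ⟨Q, hQp, hQP, hεQ, huniq⟩ := hQ j
  haveI := hQp
  have hIQ : I j ≤ Q := by
    rw [Ideal.span_le, Set.singleton_subset_iff]
    have h0 : ε j * (1 - ε j) ∈ Q := by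
      rw [mul_sub, mul_one, (hε.idem j).eq, sub_self]; exact Q.zero_mem
    exact (hQp.mem_or_mem h0).resolve_left hεQ
  have hker : RingHom.ker (Ideal.Quotient.mk (I j)) ≤ Q := by rw [Ideal.mk_ker]; exact hIQ
  haveI hrp : (Q.map (Ideal.Quotient.mk (I j))).IsPrime :=
    Ideal.map_isPrime_of_surjective Ideal.Quotient.mk_surjective hker
  have hcm : (Q.map (Ideal.Quotient.mk (I j))).comap (Ideal.Quotient.mk (I j)) = Q :=
    Ideal.comap_map_mk hIQ
  let r : PrimeSpectrum (T ⧸ I j) := ⟨Q.map (Ideal.Quotient.mk (I j)), hrp⟩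
  have hr : r.asIdeal.comap (algebraMap R' (T ⧸ I j)) = P := by
    have : algebraMap R' (T ⧸ I j) = (Ideal.Quotient.mk (I j)).comp (algebraMap R' T) := rfl
    rw [this, ← Ideal.comap_comap, hcm, hQP]
  refine ⟨r, hr, ?_, ?_⟩
  · intro r' hr'
    have hQ'p : (r'.asIdeal.comap (Ideal.Quotient.mk (I j))).IsPrime := inferInstance
    have hQ'P : (r'.asIdeal.comap (Ideal.Quotient.mk (I j))).comap (algebraMap R' T) = P := by
      rw [Ideal.comap_comap]; exact hr'
    have hεQ' : ε j ∉ r'.asIdeal.comap (Ideal.Quotient.mk (I j)) := by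
      intro hmem
      have h1 : (1 - ε j) ∈ r'.asIdeal.comap (Ideal.Quotient.mk (I j)) := by
        rw [Ideal.mem_comap]
        have : Ideal.Quotient.mk (I j) (1 - ε j) = 0 :=
          Ideal.Quotient.eq_zero_iff_mem.mpr (Ideal.subset_span rfl)
        rw [this]; exact Ideal.zero_mem _
      apply hQ'p.ne_top
      rw [Ideal.eq_top_iff_one]
      have := Ideal.add_mem _ h1 hmem
      rwa [sub_add_cancel] at this
    have heq := huniq _ hQ'p hQ'P hεQ'
    apply PrimeSpectrum.ext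
    show r'.asIdeal = Q.map (Ideal.Quotient.mk (I j))
    rw [← heq, Ideal.map_comap_of_surjective _ Ideal.Quotient.mk_surjective]
  · have h1 : PIAt e P Q hQP.symm := hpi Q hQP.symm
    have h2 : PIAt e P r.asIdeal hr.symm :=
      PIAt_of_surjective (Ideal.Quotient.mkₐ R' (I j)) hsurj e P Q r.asIdeal hQP.symm hcm.symm
        hr.symm h1
    exact isPurelyInseparable_of_PIAt e P r.asIdeal hr.symm h2

end Groth.Agent.H3.EtSplit
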