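import Groth.Agent.H3.EtSplit4

/-!
# Étale neighbourhood splitting the fibre of an integral algebra (helper3)
-/

set_option autoImplicit false

open TensorProduct

namespace Groth.Agent.H3.EtSplit

universe u

theorem residueField_map_comp' {R₁ R₂ R₃ : Type*} [CommRing R₁] [CommRing R₂] [CommRing R₃]
    (p₁ : Ideal R₁) [p₁.IsPrime] (p₂ : Ideal R₂) [p₂.IsPrime] (p₃ : Ideal R₃) [p₃.IsPrime]
    (f : R₁ →+* R₂) (g : R₂ →+* R₃) (k : R₁ →+* R₃) (hk : ∀ a, k a = g (f a))
    (h₁ : p₁ = p₂.comap f) (h₂ : p₂ = p₃.comap g)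
    (h₃ : p₁ = p₃.comap k) :
    (Ideal.ResidueField.map p₂ p₃ g h₂).comp (Ideal.ResidueField.map p₁ p₂ f h₁) =
      Ideal.ResidueField.map p₁ p₃ k h₃ := by
  apply Ideal.ResidueField.ringHom_ext
  ext a
  simp only [RingHom.comp_apply, Ideal.ResidueField.map_algebraMap, hk]

theorem core {R S : Type u} [CommRing R] [CommRing S] [Algebra R S] [Algebra.IsIntegral R S]
    (p : Ideal R) [p.IsPrime] (hfin : (p.primesOver S).Finite) :
    ∃ (R'' : Type u) (_ : CommRing R'') (_ : Algebra R R'') (_ : Algebra.Etale R R'')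
      (P'' : Ideal R'') (_ : P''.IsPrime)
      (_ : P''.comap (algebraMap R R'') = p) (n : ℕ) (ε : Fin n → R'' ⊗[R] S),
      CompleteOrthogonalIdempotents ε ∧ ∀ j, ∃ Q : Ideal (R'' ⊗[R] S), Q.IsPrime ∧
        Q.comap (algebraMap R'' (R'' ⊗[R] S)) = P'' ∧ ε j ∉ Q ∧
        ∀ Q' : Ideal (R'' ⊗[R] S), Q'.IsPrime →
          Q'.comap (algebraMap R'' (R'' ⊗[R] S)) = P'' → ε j ∉ Q' → Q' = Q := by
  classical
  obtain ⟨S₀, hS₀fin, hsep⟩ := exists_finite_subalgebra_separating p hfin
  haveI := hS₀fin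
  obtain ⟨R', _, _, _, P, _, hPover, n, e, he, P', hP'prime, hP'over, hbij, heP', H⟩ :=
    Algebra.exists_etale_completeOrthogonalIdempotents_forall_liesOver_eq (R := R) (S := S₀) p
  let ι : R' ⊗[R] S₀ →ₐ[R'] R' ⊗[R] S := Algebra.TensorProduct.map (AlgHom.id R' R') S₀.val
  -- kill the last idempotent
  obtain ⟨f, hfP, hf⟩ := exists_smul_eq_zero_of_forall_mem (R' := R') (T := R' ⊗[R] S) P
    (ι (e (Fin.last n))) ((he.idem _).map ι) (by
      intro Q hQ hQP
      haveI := hQ
      have h1 : (Q.comap ι.toRingHom).IsPrime := inferInstance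
      have h2 : (Q.comap ι.toRingHom).LiesOver P := ⟨by
        rw [Ideal.under_def, Ideal.comap_comap, AlgHom.toRingHom_eq_coe, AlgHom.comp_algebraMap]
        exact hQP.symm⟩
      exact (H _ h1 h2).1)
  let R'' := Localization.Away f
  haveI : Algebra.Etale R' R'' := Algebra.Etale.of_isLocalizationAway f
  haveI : Algebra.Etale R R'' := Algebra.Etale.comp R R' R''
  let P'' : Ideal R'' := P.map (algebraMap R' R'')
  have hdisj : Disjoint (Submonoid.powers f : Set R') (P : Set R') := by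
    rwa [Ideal.disjoint_powers_iff_notMem_of_isPrime]
  haveI hP''prime : P''.IsPrime :=
    IsLocalization.isPrime_of_isPrime_disjoint (.powers f) _ _ ‹_› hdisj
  have hP''P : P''.comap (algebraMap R' R'') = P :=
    IsLocalization.under_map_of_isPrime_disjoint (.powers f) _ ‹_› hdisj
  have hPp : P.comap (algebraMap R R') = p := hPover.over.symm
  have hP''p : P''.comap (algebraMap R R'') = p := by
    rw [IsScalarTower.algebraMap_eq R R' R'', ← Ideal.comap_comap, hP''P, hPp]
  haveI hP''over : P''.LiesOver p := ⟨hP''p.symm⟩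
  -- bijectivity of the residue field map
  have H'' : Function.Bijective (Ideal.ResidueField.mapₐ p P'' (Algebra.ofId R R'')
      (P''.over_def p)) := by
    have hb1 : Function.Bijective (Ideal.ResidueField.map p P (algebraMap R R') hPp.symm) := hbij
    have hb2 : Function.Bijective (Ideal.ResidueField.map P P'' (algebraMap R' R'') hP''P.symm) :=
      (RingHom.surjectiveOnStalks_of_isLocalization (Submonoid.powers f) R'').residueFieldMap_bijective
        _ _ _
    have hcomp := residueField_map_comp' p P P'' (algebraMap R R') (algebraMap R' R'')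
      (algebraMap R R'') (fun a => IsScalarTower.algebraMap_apply R R' R'' a) hPp.symm hP''P.symm
      hP''p.symm
    show Function.Bijective (Ideal.ResidueField.map p P'' (algebraMap R R'') hP''p.symm)
    rw [← hcomp]
    exact hb2.comp hb1
  -- maps
  let μ : R' ⊗[R] S →ₐ[R'] R'' ⊗[R] S :=
    Algebra.TensorProduct.map (Algebra.ofId R' R'') (AlgHom.id R S)
  let μ₀ : R' ⊗[R] S₀ →ₐ[R'] R'' ⊗[R] S := μ.comp ι
  have hμ₀last : μ₀ (e (Fin.last n)) = 0 := by
    have h1 : μ (algebraMap R' (R' ⊗[R] S) f * ι (e (Fin.last n))) = 0 := by rw [hf, map_zero]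
    rw [map_mul, AlgHom.commutes] at h1
    have h2 : IsUnit (algebraMap R' (R'' ⊗[R] S) f) := by
      rw [IsScalarTower.algebraMap_apply R' R'' (R'' ⊗[R] S)]
      exact (IsLocalization.Away.algebraMap_isUnit f).map _
    exact (h2.mul_right_eq_zero).mp h1
  have hcoi' : CompleteOrthogonalIdempotents (μ₀ ∘ e) := he.map μ₀.toRingHom
  let ε : Fin n → R'' ⊗[R] S := fun j => μ₀ (e j.castSucc)
  have hcoi : CompleteOrthogonalIdempotents ε := by
    refine ⟨hcoi'.toOrthogonalIdempotents.embedding Fin.castSuccEmb, ?_⟩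
    have := hcoi'.complete
    rw [Fin.sum_univ_castSucc] at this
    simp only [Function.comp_apply, hμ₀last, add_zero] at this
    exact this
  -- helper about primes of T''
  have hprime : ∀ Q' : Ideal (R'' ⊗[R] S), Q'.IsPrime →
      Q'.comap (algebraMap R'' (R'' ⊗[R] S)) = P'' →
      (Q'.comap μ₀.toRingHom).LiesOver P ∧
      (Q'.comap μ₀.toRingHom).comap
          (Algebra.TensorProduct.includeRight : S₀ →ₐ[R] R' ⊗[R] S₀).toRingHom =
        (Q'.comap (Algebra.TensorProduct.includeRight : S →ₐ[R] R'' ⊗[R] S).toRingHom).comap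
          S₀.val.toRingHom ∧
      Q'.comap (Algebra.TensorProduct.includeRight : S →ₐ[R] R'' ⊗[R] S).toRingHom ∈
        p.primesOver S := by
    intro Q' hQ' hQ'P
    haveI := hQ'
    refine ⟨⟨?_⟩, ?_, ⟨inferInstance, ⟨?_⟩⟩⟩
    · rw [Ideal.under_def, Ideal.comap_comap, AlgHom.toRingHom_eq_coe, AlgHom.comp_algebraMap,
        IsScalarTower.algebraMap_eq R' R'' (R'' ⊗[R] S), ← Ideal.comap_comap, hQ'P, hP''P]
    · rw [Ideal.comap_comap, Ideal.comap_comap]
      congr 1
      ext s
      simp [μ₀, μ, ι]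
    · rw [Ideal.under_def, Ideal.comap_comap, AlgHom.toRingHom_eq_coe, AlgHom.comp_algebraMap,
        IsScalarTower.algebraMap_eq R R'' (R'' ⊗[R] S), ← Ideal.comap_comap, hQ'P, hP''p]
  refine ⟨R'', inferInstance, inferInstance, inferInstance, P'', hP''prime, hP''p, n, ε, hcoi, ?_⟩
  intro j
  haveI := hP'prime j
  haveI := hP'over j
  -- the prime q₀ of S₀
  set q₀ : Ideal S₀ := (P' j).comap
    (Algebra.TensorProduct.includeRight : S₀ →ₐ[R] R' ⊗[R] S₀).toRingHom with hq₀
  haveI hq₀p : q₀.IsPrime := inferInstance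
  have hq₀over : q₀.comap (algebraMap R S₀) = p := by
    rw [hq₀, Ideal.comap_comap, AlgHom.toRingHom_eq_coe, AlgHom.comp_algebraMap,
      IsScalarTower.algebraMap_eq R R' (R' ⊗[R] S₀), ← Ideal.comap_comap]
    have := (hP'over j).over
    rw [Ideal.under_def] at this
    rw [← this, hPp]
  -- lying over
  haveI : Algebra.IsIntegral S₀ S := Algebra.IsIntegral.tower_top (R := R)
  obtain ⟨q, -, hqp, hqq₀⟩ := Ideal.exists_ideal_over_prime_of_isIntegral q₀ (⊥ : Ideal S) (by
    intro x hx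
    have : (algebraMap S₀ S x) = 0 := hx
    have hx0 : x = 0 := Subtype.ext this
    rw [hx0]; exact q₀.zero_mem)
  haveI := hqp
  have hqover : q ∈ p.primesOver S := by
    refine ⟨hqp, ⟨?_⟩⟩
    rw [Ideal.under_def, IsScalarTower.algebraMap_eq R S₀ S, ← Ideal.comap_comap, hqq₀, hq₀over]
  let Φ := Ideal.fiberIsoOfBijectiveResidueField (S := S) H''
  let Q'' := Φ.symm ⟨q, hqover⟩
  haveI hQ''p : Q''.1.IsPrime := Q''.2.1
  haveI hQ''over : Q''.1.LiesOver P'' := Q''.2.2
  have hQ''q : Q''.1.comap (Algebra.TensorProduct.includeRight : S →ₐ[R] R'' ⊗[R] S).toRingHom = q :=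
    Ideal.comap_fiberIsoOfBijectiveResidueField_symm H'' ⟨q, hqover⟩
  have hQ''P : Q''.1.comap (algebraMap R'' (R'' ⊗[R] S)) = P'' := hQ''over.over.symm
  refine ⟨Q''.1, hQ''p, hQ''P, ?_, ?_⟩
  · obtain ⟨h1, h2, -⟩ := hprime Q''.1 hQ''p hQ''P
    haveI := h1
    have heq : Q''.1.comap μ₀.toRingHom = P' j := by
      apply Ideal.eq_of_comap_eq_comap_of_bijective_residueFieldMap hbij
      rw [h2, hQ''q]
      exact hqq₀
    intro hmem
    have : e j.castSucc ∈ Q''.1.comap μ₀.toRingHom := hmem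
    rw [heq] at this
    exact heP' j this
  · intro Q' hQ' hQ'P hεQ'
    haveI := hQ'
    haveI : Q'.LiesOver P'' := ⟨hQ'P.symm⟩
    obtain ⟨h1, h2, h3⟩ := hprime Q' hQ' hQ'P
    haveI := h1
    have hnot : e j.castSucc ∉ Q'.comap μ₀.toRingHom := hεQ'
    have heq : Q'.comap μ₀.toRingHom = P' j := (H _ inferInstance h1).2 j hnot
    apply Ideal.eq_of_comap_eq_comap_of_bijective_residueFieldMap H''
    rw [hQ''q]
    apply hsep _ h3 _ hqover
    rw [← h2, heq]
    exact hqq₀.symm

end Groth.Agent.H3.EtSplit
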