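import Groth.Agent.H3.EtSplit5

/-!
# Splitting an integral algebra with purely inseparable residue fields (helper3)
-/

set_option autoImplicit false

open TensorProduct

namespace Groth.Agent.H3.EtSplit

universe u

theorem partI {R S : Type u} [CommRing R] [CommRing S] [Algebra R S] [Algebra.IsIntegral R S]
    (e : ℕ) (p : Ideal R) [p.IsPrime] [ExpChar p.ResidueField e]
    (hfin : (p.primesOver S).Finite)
    (hpi : ∀ (q : Ideal S) [q.IsPrime] (hq : p = q.comap (algebraMap R S)), PIAt e p q hq) :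
    ∃ (R' : Type u) (_ : CommRing R') (_ : Algebra R R') (p' : PrimeSpectrum R'),
      Algebra.Etale R R' ∧ p'.asIdeal.comap (algebraMap R R') = p ∧
      ∃ (m : ℕ) (A : Fin m → Type u) (_ : ∀ j, CommRing (A j)) (_ : ∀ j, Algebra R' (A j))
        (_ : R' ⊗[R] S ≃ₐ[R'] (Π j, A j)),
        ∀ j, Algebra.IsIntegral R' (A j) ∧ ∃ (r : PrimeSpectrum (A j))
          (hr : r.asIdeal.comap (algebraMap R' (A j)) = p'.asIdeal),
          (∀ r' : PrimeSpectrum (A j),
            r'.asIdeal.comap (algebraMap R' (A j)) = p'.asIdeal → r' = r) ∧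
          letI := (Ideal.ResidueField.map p'.asIdeal r.asIdeal (algebraMap R' (A j))
            hr.symm).toAlgebra
          IsPurelyInseparable p'.asIdeal.ResidueField r.asIdeal.ResidueField := by
  obtain ⟨R'', _, _, hEt, P'', hP''prime, hP''p, n, ε, hcoi, hQ⟩ := core (S := S) p hfin
  haveI := hP''prime
  haveI : ExpChar P''.ResidueField e :=
    expChar_of_injective_ringHom
      (Ideal.ResidueField.map p P'' (algebraMap R R'') hP''p.symm).injective e
  have hpi' : ∀ (Q : Ideal (R'' ⊗[R] S)) [Q.IsPrime]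
      (hQP : P'' = Q.comap (algebraMap R'' (R'' ⊗[R] S))), PIAt e P'' Q hQP := by
    intro Q _ hQP
    have hq : p = (Q.comap (Algebra.TensorProduct.includeRight :
        S →ₐ[R] R'' ⊗[R] S).toRingHom).comap (algebraMap R S) := by
      rw [Ideal.comap_comap, AlgHom.toRingHom_eq_coe, AlgHom.comp_algebraMap,
        IsScalarTower.algebraMap_eq R R'' (R'' ⊗[R] S), ← Ideal.comap_comap, ← hQP, hP''p]
    exact PIAt_tensor e p _ P'' Q hq rfl hP''p.symm hQP (hpi _ hq)
  obtain ⟨m, A, iA, iAlg, eqv, hA⟩ := finish (R := R) (S := S) e R'' P'' n ε hcoi hQ hpi'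
  exact ⟨R'', inferInstance, inferInstance, ⟨P'', hP''prime⟩, hEt, hP''p, m, A, iA, iAlg, eqv, hA⟩

end Groth.Agent.H3.EtSplit
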