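import Mathlib.FieldTheory.PrimitiveElement
import Mathlib.RingTheory.Polynomial.ScaleRoots
import Mathlib.RingTheory.Localization.Integer
import Mathlib.RingTheory.Localization.FractionRing
import Mathlib.Algebra.Polynomial.Lifts

/-!
# Integral primitive elements with monic minimal polynomial over a subring (helper3)
-/

set_option autoImplicit false

open Polynomial IntermediateField

namespace Groth.Agent.H3.Kras

section prim

variable (R F M : Type*) [CommRing R] [IsDomain R] [Field F] [Algebra R F] [IsFractionRing R F]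
  [Field M] [Algebra F M] [FiniteDimensional F M] [Algebra.IsSeparable F M]

/-- a primitive element whose minimal polynomial has coefficients in `R` -/
theorem exists_primitive_monic :
    ∃ (g : R[X]) (α : M), g.Monic ∧ g.natDegree = Module.finrank F M ∧
      g.map (algebraMap R F) = minpoly F α ∧ F⟮α⟯ = ⊤ := by
  obtain ⟨α₀, hα₀⟩ := Field.exists_primitive_element F M
  have hint₀ : IsIntegral F α₀ := Algebra.IsIntegral.isIntegral α₀
  set p₀ := minpoly F α₀ with hp₀
  have hp₀m : p₀.Monic := minpoly.monic hint₀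
  have hdeg₀ : p₀.natDegree = Module.finrank F M := by
    rw [hp₀, ← IntermediateField.adjoin.finrank hint₀, hα₀, IntermediateField.finrank_top']
  -- common denominator
  obtain ⟨b, hb⟩ := IsLocalization.exist_integer_multiples (nonZeroDivisors R)
    (Finset.range (p₀.natDegree + 1)) (fun i => p₀.coeff i)
  set c : F := algebraMap R F (b : R) with hc
  have hc0 : c ≠ 0 := by
    rw [hc]
    exact IsFractionRing.to_map_ne_zero_of_mem_nonZeroDivisors b.2
  set pc := scaleRoots p₀ c with hpc
  have hpcm : pc.Monic := (monic_scaleRoots_iff c).mpr hp₀m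
  have hpcdeg : pc.natDegree = p₀.natDegree := natDegree_scaleRoots p₀ c
  set α : M := algebraMap F M c * α₀ with hα
  have hroot : aeval α pc = 0 := scaleRoots_aeval_eq_zero (minpoly.aeval F α₀)
  -- lifts
  have hlifts : pc ∈ lifts (algebraMap R F) := by
    rw [lifts_iff_coeff_lifts]
    intro i
    rw [hpc, coeff_scaleRoots]
    rcases lt_trichotomy i p₀.natDegree with hi | hi | hi
    · obtain ⟨r, hr⟩ := hb i (Finset.mem_range.mpr (by omega))
      obtain ⟨k, hk⟩ : ∃ k, p₀.natDegree - i = k + 1 := ⟨p₀.natDegree - i - 1, by omega⟩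
      refine ⟨r * (b : R) ^ k, ?_⟩
      rw [map_mul, hr, map_pow, Algebra.smul_def, ← hc, hk, pow_succ]
      ring
    · rw [hi, Nat.sub_self, pow_zero, mul_one, coeff_natDegree, hp₀m.leadingCoeff]
      exact ⟨1, map_one _⟩
    · rw [coeff_eq_zero_of_natDegree_lt hi, zero_mul]
      exact ⟨0, map_zero _⟩
  obtain ⟨g, hgmap, hgdeg, hgm⟩ := lifts_and_natDegree_eq_and_monic hlifts hpcm
  -- α is primitive
  have hprim : F⟮α⟯ = ⊤ := by
    rw [eq_top_iff, ← hα₀, IntermediateField.adjoin_le_iff, Set.singleton_subset_iff]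
    have h1 : α ∈ F⟮α⟯ := IntermediateField.mem_adjoin_simple_self F α
    have h2 : algebraMap F M c⁻¹ * α ∈ F⟮α⟯ :=
      F⟮α⟯.mul_mem (F⟮α⟯.algebraMap_mem c⁻¹) h1
    have h3 : algebraMap F M c⁻¹ * α = α₀ := by
      rw [hα, ← mul_assoc, ← map_mul, inv_mul_cancel₀ hc0, map_one, one_mul]
    rwa [h3] at h2
  have hint : IsIntegral F α := Algebra.IsIntegral.isIntegral α
  have hmin : pc = minpoly F α := by
    apply (eq_of_monic_of_dvd_of_natDegree_le (minpoly.monic hint) hpcm
      (minpoly.dvd F α hroot) ?_)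
    rw [← IntermediateField.adjoin.finrank hint, hprim, IntermediateField.finrank_top', hpcdeg,
      hdeg₀]
  refine ⟨g, α, hgm, ?_, ?_, hprim⟩
  · rw [hgdeg, hpcdeg, hdeg₀]
  · rw [hgmap, hmin]

end prim

end Groth.Agent.H3.Kras
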