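import Groth.Agent.H3.EtSplit6
import Groth.Agent.H3.Kras3

/-!
# Étale neighbourhoods with prescribed residue field extension; finiteness of fibres (helper3)
-/

set_option autoImplicit false

open TensorProduct Polynomial IntermediateField

namespace Groth.Agent.H3.EtSplit

universe u

theorem exists_etale_residueField {R : Type u} [CommRing R] (p : Ideal R) [p.IsPrime]
    (k' : Type u) [Field k'] [Algebra p.ResidueField k'] [FiniteDimensional p.ResidueField k']
    [Algebra.IsSeparable p.ResidueField k'] :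
    ∃ (R₁ : Type u) (_ : CommRing R₁) (_ : Algebra R R₁) (_ : Algebra.Etale R R₁)
      (p₁ : Ideal R₁) (_ : p₁.IsPrime) (hp₁ : p = p₁.comap (algebraMap R R₁)),
      ∃ ι : k' →+* p₁.ResidueField, ι.comp (algebraMap p.ResidueField k') =
        Ideal.ResidueField.map p p₁ (algebraMap R R₁) hp₁ := by
  classical
  obtain ⟨g₀, α, hg₀m, -, hg₀map, hprim⟩ :=
    Groth.Agent.H3.Kras.exists_primitive_monic (R ⧸ p) p.ResidueField k'
  have hlifts : g₀ ∈ Polynomial.lifts (Ideal.Quotient.mk p) := by
    rw [Polynomial.mem_lifts]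
    exact Polynomial.map_surjective _ Ideal.Quotient.mk_surjective g₀
  obtain ⟨g, hgmap, -, hgm⟩ := Polynomial.lifts_and_natDegree_eq_and_monic hlifts hg₀m
  letI algRk' : Algebra R k' :=
    ((algebraMap p.ResidueField k').comp (algebraMap R p.ResidueField)).toAlgebra
  haveI : IsScalarTower R p.ResidueField k' := IsScalarTower.of_algebraMap_eq' rfl
  have hgK : g.map (algebraMap R p.ResidueField) = minpoly p.ResidueField α := by
    rw [← hg₀map, ← hgmap, Polynomial.map_map]
    congr 1
  have hαroot : aeval α g = 0 := by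
    rw [← aeval_map_algebraMap p.ResidueField, hgK, minpoly.aeval]
  have hsep : (minpoly p.ResidueField α).Separable := Algebra.IsSeparable.isSeparable _ α
  have hαder : aeval α (derivative g) ≠ 0 := by
    rw [← aeval_map_algebraMap p.ResidueField, ← derivative_map, hgK]
    exact hsep.aeval_derivative_ne_zero (minpoly.aeval _ _)
  let P : StandardEtalePair R := ⟨g, hgm, derivative g, ⟨1, 0, 1, by simp⟩⟩
  have hmap : P.HasMap α := ⟨hαroot, isUnit_iff_ne_zero.mpr hαder⟩
  let χ : P.Ring →ₐ[R] k' := P.lift α hmap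
  let p₁ : Ideal P.Ring := RingHom.ker χ.toRingHom
  haveI hp₁prime : p₁.IsPrime := RingHom.ker_isPrime _
  have hp₁ : p = p₁.comap (algebraMap R P.Ring) := by
    ext a
    rw [Ideal.mem_comap, RingHom.mem_ker]
    show a ∈ p ↔ χ (algebraMap R P.Ring a) = 0
    rw [AlgHom.commutes]
    show a ∈ p ↔ (algebraMap p.ResidueField k') (algebraMap R p.ResidueField a) = 0
    rw [map_eq_zero, Ideal.algebraMap_residueField_eq_zero]
  refine ⟨P.Ring, inferInstance, inferInstance, inferInstance, p₁, hp₁prime, hp₁, ?_⟩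
  letI algκ : Algebra p.ResidueField p₁.ResidueField :=
    (Ideal.ResidueField.map p p₁ (algebraMap R P.Ring) hp₁).toAlgebra
  -- power basis
  have hint : IsIntegral p.ResidueField α := Algebra.IsIntegral.isIntegral α
  let pb₀ := IntermediateField.adjoin.powerBasis hint
  let eL : p.ResidueField⟮α⟯ ≃ₐ[p.ResidueField] k' :=
    (IntermediateField.equivOfEq hprim).trans IntermediateField.topEquiv
  let pb := pb₀.map eL
  have hpbgen : pb.gen = α := by
    simp [pb, pb₀, eL]
  let xb : p₁.ResidueField := algebraMap P.Ring p₁.ResidueField P.X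
  have hroot : aeval xb (minpoly p.ResidueField pb.gen) = 0 := by
    rw [hpbgen, ← hgK, aeval_def, eval₂_map]
    have h1 : (algebraMap p.ResidueField p₁.ResidueField).comp (algebraMap R p.ResidueField) =
        (algebraMap P.Ring p₁.ResidueField).comp (algebraMap R P.Ring) := by
      ext a
      show Ideal.ResidueField.map p p₁ (algebraMap R P.Ring) hp₁ (algebraMap R p.ResidueField a) = _
      rw [Ideal.ResidueField.map_algebraMap]
      rfl
    rw [h1, ← Polynomial.hom_eval₂]
    have h2 : eval₂ (algebraMap R P.Ring) P.X g = 0 := by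
      have := (P.hasMap_X).1
      rwa [aeval_def] at this
    rw [h2, map_zero]
  refine ⟨(pb.lift xb hroot).toRingHom, ?_⟩
  apply RingHom.ext
  intro x
  show (pb.lift xb hroot) (algebraMap p.ResidueField k' x) = _
  rw [AlgHom.commutes]
  rfl

section fin

variable {R S R₁ : Type*} [CommRing R] [CommRing S] [CommRing R₁] [Algebra R S] [Algebra R R₁]

theorem finite_primesOver_tensor [Algebra.QuasiFinite R R₁] (p : Ideal R) [p.IsPrime]
    (p₁ : Ideal R₁) [p₁.IsPrime] (hp₁ : p₁.comap (algebraMap R R₁) = p)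
    (hfin : (p.primesOver S).Finite) : (p₁.primesOver (R₁ ⊗[R] S)).Finite := by
  let s : Set (PrimeSpectrum S) := {q | q.asIdeal ∈ p.primesOver S}
  have hs : s.Finite := by
    refine Set.Finite.of_finite_image (f := PrimeSpectrum.asIdeal) (hfin.subset ?_) ?_
    · rintro _ ⟨q, hq, rfl⟩; exact hq
    · intro a _ b _ hab; exact PrimeSpectrum.ext hab
  have hF := Algebra.QuasiFinite.finite_comap_preimage (R := S) (S := S ⊗[R] R₁) hs
  let c : S ⊗[R] R₁ ≃ₐ[R] R₁ ⊗[R] S := Algebra.TensorProduct.comm R S R₁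
  refine (hF.image (fun Q' => Q'.asIdeal.comap c.symm.toRingHom)).subset ?_
  rintro Q ⟨hQp, hQover⟩
  haveI := hQp
  refine ⟨⟨Q.comap c.toRingHom, inferInstance⟩, ?_, ?_⟩
  · show (Ideal.comap (algebraMap S (S ⊗[R] R₁)) (Q.comap c.toRingHom)) ∈ p.primesOver S
    refine ⟨inferInstance, ⟨?_⟩⟩
    have hover := hQover.over
    rw [Ideal.under_def] at hover
    ext a
    rw [Ideal.under_def, Ideal.mem_comap, Ideal.mem_comap, Ideal.mem_comap,
      ← IsScalarTower.algebraMap_apply R S (S ⊗[R] R₁)]
    have h1 : c.toRingHom (algebraMap R (S ⊗[R] R₁) a) = algebraMap R (R₁ ⊗[R] S) a :=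
      c.commutes a
    rw [h1, IsScalarTower.algebraMap_apply R R₁ (R₁ ⊗[R] S), ← Ideal.mem_comap, ← hover,
      ← Ideal.mem_comap, hp₁]
  · show (Q.comap c.toRingHom).comap c.symm.toRingHom = Q
    rw [Ideal.comap_comap]
    have : c.toRingHom.comp c.symm.toRingHom = RingHom.id _ :=
      RingHom.ext fun x => by simp
    rw [this, Ideal.comap_id]

end fin

end Groth.Agent.H3.EtSplit
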