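import Groth.Agent.H3.EtSplit7

/-!
# Pure inseparability after enlarging the residue field (helper3)
-/

set_option autoImplicit false

open TensorProduct Polynomial

namespace Groth.Agent.H3.EtSplit

universe u

theorem mem_subfield_of_generators {Λ T : Type*} [Field Λ] [CommRing T] (K : Subfield Λ)
    (ρ : T →+* Λ) (X : Set T) (hX : Subring.closure X = ⊤)
    (hfrac : ∀ x : Λ, ∃ t s : T, ρ s ≠ 0 ∧ x * ρ s = ρ t)
    (h : ∀ t ∈ X, ρ t ∈ K) : ∀ x : Λ, x ∈ K := by
  have hall : ∀ t : T, ρ t ∈ K := by
    intro t
    have hle : Subring.closure X ≤ K.toSubring.comap ρ := by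
      rw [Subring.closure_le]
      intro t ht
      exact h t ht
    rw [hX] at hle
    exact hle (Subring.mem_top t)
  intro x
  obtain ⟨t, s, hs, hxs⟩ := hfrac x
  have : x = ρ t / ρ s := by rw [← hxs, mul_div_cancel_right₀ _ hs]
  rw [this]
  exact div_mem (hall t) (hall s)

section alg

variable {R S : Type*} [CommRing R] [CommRing S] [Algebra R S] [Algebra.IsIntegral R S]

theorem isAlgebraic_residueField (p : Ideal R) [p.IsPrime] (q : Ideal S) [q.IsPrime]
    (hq : p = q.comap (algebraMap R S)) :
    letI := (Ideal.ResidueField.map p q (algebraMap R S) hq).toAlgebra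
    Algebra.IsAlgebraic p.ResidueField q.ResidueField := by
  letI := (Ideal.ResidueField.map p q (algebraMap R S) hq).toAlgebra
  refine ⟨fun x => ?_⟩
  have key := mem_subfield_of_generators
    (algebraicClosure p.ResidueField q.ResidueField).toSubfield
    (algebraMap S q.ResidueField) Set.univ (by simp) (exists_frac_residueField q)
    (fun t _ => ?_) x
  · exact (mem_algebraicClosure_iff).mp key
  · show algebraMap S q.ResidueField t ∈ algebraicClosure p.ResidueField q.ResidueField
    rw [mem_algebraicClosure_iff]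
    apply IsIntegral.isAlgebraic
    obtain ⟨P, hPm, hPt⟩ := Algebra.IsIntegral.isIntegral (R := R) t
    refine ⟨P.map (algebraMap R p.ResidueField), hPm.map _, ?_⟩
    rw [eval₂_map]
    have h1 : (algebraMap p.ResidueField q.ResidueField).comp (algebraMap R p.ResidueField) =
        (algebraMap S q.ResidueField).comp (algebraMap R S) := by
      apply RingHom.ext
      intro a
      show Ideal.ResidueField.map p q (algebraMap R S) hq (algebraMap R p.ResidueField a) = _
      rw [Ideal.ResidueField.map_algebraMap]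
      rfl
    rw [h1, ← hom_eval₂, hPt, map_zero]

end alg

section main

variable {R S R₁ : Type*} [CommRing R] [CommRing S] [CommRing R₁] [Algebra R S] [Algebra R R₁]
  [Algebra.IsIntegral R S]

theorem PIAt_of_splits (e : ℕ) (p : Ideal R) [p.IsPrime] [ExpChar p.ResidueField e]
    (p₁ : Ideal R₁) [p₁.IsPrime] (hp₁ : p = p₁.comap (algebraMap R R₁))
    (hsplit : ∀ (q : Ideal S) [q.IsPrime] (hq : p = q.comap (algebraMap R S)),
      letI := (Ideal.ResidueField.map p q (algebraMap R S) hq).toAlgebra
      ∀ y : q.ResidueField, IsSeparable p.ResidueField y →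
        ((minpoly p.ResidueField y).map
          (Ideal.ResidueField.map p p₁ (algebraMap R R₁) hp₁)).Splits)
    (Q : Ideal (R₁ ⊗[R] S)) [Q.IsPrime] (hQ : p₁ = Q.comap (algebraMap R₁ (R₁ ⊗[R] S))) :
    PIAt e p₁ Q hQ := by
  haveI : ExpChar p₁.ResidueField e :=
    expChar_of_injective_ringHom
      (Ideal.ResidueField.map p p₁ (algebraMap R R₁) hp₁).injective e
  apply PIAt_tensor_of_forall
  intro s
  set q : Ideal S := Q.comap
    (Algebra.TensorProduct.includeRight : S →ₐ[R] R₁ ⊗[R] S).toRingHom with hqdef
  have hq : p = q.comap (algebraMap R S) := by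
    rw [hqdef, Ideal.comap_comap, AlgHom.toRingHom_eq_coe, AlgHom.comp_algebraMap,
      IsScalarTower.algebraMap_eq R R₁ (R₁ ⊗[R] S), ← Ideal.comap_comap, ← hQ, ← hp₁]
  letI algq : Algebra p.ResidueField q.ResidueField :=
    (Ideal.ResidueField.map p q (algebraMap R S) hq).toAlgebra
  haveI : Algebra.IsAlgebraic p.ResidueField q.ResidueField := isAlgebraic_residueField p q hq
  set x : q.ResidueField := algebraMap S q.ResidueField s with hx
  haveI : ExpChar (separableClosure p.ResidueField q.ResidueField) e :=
    expChar_of_injective_algebraMap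
      (algebraMap p.ResidueField (separableClosure p.ResidueField q.ResidueField)).injective e
  obtain ⟨n, ⟨y, hy⟩, hyx⟩ := IsPurelyInseparable.pow_mem
    (separableClosure p.ResidueField q.ResidueField) e x
  have hysep : IsSeparable p.ResidueField y := mem_separableClosure_iff.mp hy
  have hyx' : y = x ^ e ^ n := hyx
  have hsp := hsplit q hq y hysep
  set j₁ := Ideal.ResidueField.map p p₁ (algebraMap R R₁) hp₁ with hj₁
  set i₁ := Ideal.ResidueField.map p₁ Q (algebraMap R₁ (R₁ ⊗[R] S)) hQ with hi₁
  set iS := Ideal.ResidueField.map q Q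
    (Algebra.TensorProduct.includeRight : S →ₐ[R] R₁ ⊗[R] S).toRingHom rfl with hiS
  have hcompat : iS.comp (algebraMap p.ResidueField q.ResidueField) = i₁.comp j₁ := by
    apply Ideal.ResidueField.ringHom_ext
    ext a
    show iS (Ideal.ResidueField.map p q (algebraMap R S) hq (algebraMap R p.ResidueField a)) =
      i₁ (j₁ (algebraMap R p.ResidueField a))
    rw [hiS, hi₁, hj₁]
    simp only [Ideal.ResidueField.map_algebraMap]
    congr 1
    show (1 : R₁) ⊗ₜ[R] (algebraMap R S a) = (algebraMap R R₁ a) ⊗ₜ[R] (1 : S)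
    rw [Algebra.algebraMap_eq_smul_one, Algebra.algebraMap_eq_smul_one, TensorProduct.smul_tmul]
  have hne : (minpoly p.ResidueField y).map j₁ ≠ 0 :=
    Polynomial.map_ne_zero (minpoly.ne_zero (Algebra.IsIntegral.isIntegral y))
  have hroot : (((minpoly p.ResidueField y).map j₁).map i₁).IsRoot (iS y) := by
    rw [IsRoot.def, Polynomial.map_map, ← hcompat, eval_map, ← hom_eval₂]
    have : eval₂ (algebraMap p.ResidueField q.ResidueField) y (minpoly p.ResidueField y) = 0 :=
      minpoly.aeval _ y
    rw [this, map_zero]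
  have hmem := hsp.mem_range_of_isRoot hne hroot
  refine ⟨n, ?_⟩
  have h1 : algebraMap (R₁ ⊗[R] S) Q.ResidueField (1 ⊗ₜ s) = iS x := by
    rw [hiS, hx, Ideal.ResidueField.map_algebraMap]; rfl
  rw [h1, ← map_pow, ← hyx']
  exact hmem

end main

end Groth.Agent.H3.EtSplit
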