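import Groth.Agent.H3.EtSplit8

/-!
# Étale base change splitting an integral algebra at a prime (helper3)
-/

set_option autoImplicit false

open TensorProduct Polynomial

namespace Groth.Agent.H3.EtSplit

universe u

theorem exists_field_splitting {R S : Type u} [CommRing R] [CommRing S] [Algebra R S]
    [Algebra.IsIntegral R S]
    (p : Ideal R) [p.IsPrime] (hfin : (p.primesOver S).Finite)
    (hsep : ∀ (q : Ideal S) [q.IsPrime] (hq : p = q.comap (algebraMap R S)),
      letI := (Ideal.ResidueField.map p q (algebraMap R S) hq).toAlgebra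
      Module.Finite p.ResidueField (separableClosure p.ResidueField q.ResidueField)) :
    ∃ (k' : Type u) (_ : Field k') (_ : Algebra p.ResidueField k'),
      FiniteDimensional p.ResidueField k' ∧ Algebra.IsSeparable p.ResidueField k' ∧
      ∀ (q : Ideal S) [q.IsPrime] (hq : p = q.comap (algebraMap R S)),
      letI := (Ideal.ResidueField.map p q (algebraMap R S) hq).toAlgebra
      ∀ y : q.ResidueField, IsSeparable p.ResidueField y →
        ((minpoly p.ResidueField y).map (algebraMap p.ResidueField k')).Splits := by
  classical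
  let k := p.ResidueField
  let Ω := SeparableClosure k
  let ι := {q : Ideal S // q ∈ p.primesOver S}
  haveI : Finite ι := hfin.to_subtype
  have hover : ∀ i : ι, p = i.1.comap (algebraMap R S) := fun i => i.2.2.over
  let kq : ∀ (q : Ideal S) (hqp : q.IsPrime) (_ : p = q.comap (algebraMap R S)),
      IntermediateField k Ω := fun q hqp hq =>
    letI := hqp
    letI := (Ideal.ResidueField.map p q (algebraMap R S) hq).toAlgebra
    IntermediateField.normalClosure k (separableClosure k q.ResidueField) Ω
  let t : ι → IntermediateField k Ω := fun i => kq i.1 i.2.1 (hover i)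
  haveI hnorm : ∀ i : ι, Normal k (t i) := by
    intro i
    letI := i.2.1
    letI := (Ideal.ResidueField.map p i.1 (algebraMap R S) (hover i)).toAlgebra
    show Normal k (IntermediateField.normalClosure k (separableClosure k i.1.ResidueField) Ω)
    infer_instance
  haveI hfd : ∀ i : ι, FiniteDimensional k (t i) := by
    intro i
    letI := i.2.1
    letI := (Ideal.ResidueField.map p i.1 (algebraMap R S) (hover i)).toAlgebra
    haveI : FiniteDimensional k (separableClosure k i.1.ResidueField) := hsep i.1 (hover i)
    show FiniteDimensional k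
      (IntermediateField.normalClosure k (separableClosure k i.1.ResidueField) Ω)
    infer_instance
  let k' : IntermediateField k Ω := ⨆ i, t i
  haveI : Normal k k' := IntermediateField.normal_iSup k Ω t
  haveI : FiniteDimensional k k' := IntermediateField.finiteDimensional_iSup_of_finite
  haveI : Algebra.IsSeparable k k' := Algebra.isSeparable_tower_bot_of_isSeparable k k' Ω
  refine ⟨k', inferInstance, inferInstance, inferInstance, inferInstance, ?_⟩
  intro q hqp hq
  letI := (Ideal.ResidueField.map p q (algebraMap R S) hq).toAlgebra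
  intro y hy
  have hy' : y ∈ separableClosure k q.ResidueField := mem_separableClosure_iff.mpr hy
  let emb : separableClosure k q.ResidueField →ₐ[k] Ω := IsSepClosed.lift
  let z : Ω := emb ⟨y, hy'⟩
  have hz : z ∈ kq q hqp hq := by
    show z ∈ IntermediateField.normalClosure k (separableClosure k q.ResidueField) Ω
    exact AlgHom.fieldRange_le_normalClosure emb ⟨⟨y, hy'⟩, rfl⟩
  have hzk' : z ∈ k' := by
    have hle : t ⟨q, ⟨hqp, ⟨hq⟩⟩⟩ ≤ k' := le_iSup t _
    exact hle hz
  have hmin : minpoly k (⟨z, hzk'⟩ : k') = minpoly k y := by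
    have h1 : minpoly k (k'.val ⟨z, hzk'⟩) = minpoly k (⟨z, hzk'⟩ : k') :=
      minpoly.algHom_eq k'.val k'.val.injective _
    have h2 : minpoly k (emb ⟨y, hy'⟩) = minpoly k (⟨y, hy'⟩ : separableClosure k q.ResidueField) :=
      minpoly.algHom_eq emb emb.injective _
    have h3 : minpoly k ((separableClosure k q.ResidueField).val ⟨y, hy'⟩) =
        minpoly k (⟨y, hy'⟩ : separableClosure k q.ResidueField) :=
      minpoly.algHom_eq _ (separableClosure k q.ResidueField).val.injective _
    rw [← h1]
    show minpoly k z = _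
    rw [show z = emb ⟨y, hy'⟩ from rfl, h2, ← h3]
    rfl
  have := Normal.splits (inferInstance : Normal k k') ⟨z, hzk'⟩
  rw [hmin] at this
  exact this

theorem main {R S : Type u} [CommRing R] [CommRing S] [Algebra R S] [Algebra.IsIntegral R S]
    (p : Ideal R) [p.IsPrime]
    (hfin : {q : PrimeSpectrum S | q.asIdeal.comap (algebraMap R S) = p}.Finite)
    (hsep : ∀ (q : PrimeSpectrum S) (hq : q.asIdeal.comap (algebraMap R S) = p),
      letI := (Ideal.ResidueField.map p q.asIdeal (algebraMap R S) hq.symm).toAlgebra
      Module.Finite p.ResidueField (separableClosure p.ResidueField q.asIdeal.ResidueField)) :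
    ∃ (R' : Type u) (_ : CommRing R') (_ : Algebra R R') (p' : PrimeSpectrum R'),
      Algebra.Etale R R' ∧ p'.asIdeal.comap (algebraMap R R') = p ∧
      ∃ (m : ℕ) (A : Fin m → Type u) (_ : ∀ j, CommRing (A j)) (_ : ∀ j, Algebra R' (A j))
        (_ : R' ⊗[R] S ≃ₐ[R'] (Π j, A j)),
        ∀ j, Algebra.IsIntegral R' (A j) ∧ ∃ (r : PrimeSpectrum (A j))
          (hr : r.asIdeal.comap (algebraMap R' (A j)) = p'.asIdeal),
          (∀ r' : PrimeSpectrum (A j),
            r'.asIdeal.comap (algebraMap R' (A j)) = p'.asIdeal → r' = r) ∧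
          letI := (Ideal.ResidueField.map p'.asIdeal r.asIdeal (algebraMap R' (A j))
            hr.symm).toAlgebra
          IsPurelyInseparable p'.asIdeal.ResidueField r.asIdeal.ResidueField := by
  classical
  set e := ringExpChar p.ResidueField with he
  haveI : ExpChar p.ResidueField e := ringExpChar.expChar _
  -- finiteness in the `primesOver` form
  have hfin' : (p.primesOver S).Finite := by
    refine (hfin.image PrimeSpectrum.asIdeal).subset ?_
    rintro q ⟨hqp, hqo⟩
    refine ⟨⟨q, hqp⟩, ?_, rfl⟩
    exact hqo.over.symm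
  have hsep' : ∀ (q : Ideal S) [q.IsPrime] (hq : p = q.comap (algebraMap R S)),
      letI := (Ideal.ResidueField.map p q (algebraMap R S) hq).toAlgebra
      Module.Finite p.ResidueField (separableClosure p.ResidueField q.ResidueField) := by
    intro q hqp hq
    exact hsep ⟨q, hqp⟩ hq.symm
  obtain ⟨k', _, _, hk'fd, hk'sep, hk'split⟩ := exists_field_splitting p hfin' hsep'
  obtain ⟨R₁, _, _, hEt₁, p₁, hp₁prime, hp₁, ι, hι⟩ := exists_etale_residueField p k'
  haveI := hp₁prime
  haveI : ExpChar p₁.ResidueField e :=
    expChar_of_injective_ringHom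
      (Ideal.ResidueField.map p p₁ (algebraMap R R₁) hp₁).injective e
  have hsplit : ∀ (q : Ideal S) [q.IsPrime] (hq : p = q.comap (algebraMap R S)),
      letI := (Ideal.ResidueField.map p q (algebraMap R S) hq).toAlgebra
      ∀ y : q.ResidueField, IsSeparable p.ResidueField y →
        ((minpoly p.ResidueField y).map
          (Ideal.ResidueField.map p p₁ (algebraMap R R₁) hp₁)).Splits := by
    intro q hqp hq
    letI := (Ideal.ResidueField.map p q (algebraMap R S) hq).toAlgebra
    intro y hy
    have h1 := hk'split q hq y hy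
    have h2 := h1.map ι
    rwa [Polynomial.map_map, hι] at h2
  have hfin₁ : (p₁.primesOver (R₁ ⊗[R] S)).Finite :=
    finite_primesOver_tensor p p₁ hp₁.symm hfin'
  have hpi₁ : ∀ (Q : Ideal (R₁ ⊗[R] S)) [Q.IsPrime]
      (hQ : p₁ = Q.comap (algebraMap R₁ (R₁ ⊗[R] S))), PIAt e p₁ Q hQ := by
    intro Q _ hQ
    exact PIAt_of_splits e p p₁ hp₁ hsplit Q hQ
  obtain ⟨R', iR', iAlg₁, p', hEt', hp', m, A, iA, iAlgA, eqv, hA⟩ :=
    partI (R := R₁) (S := R₁ ⊗[R] S) e p₁ hfin₁ hpi₁
  letI : Algebra R R' := Algebra.compHom R' (algebraMap R R₁)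
  haveI : IsScalarTower R R₁ R' := IsScalarTower.of_algebraMap_eq' rfl
  haveI : Algebra.Etale R R' := Algebra.Etale.comp R R₁ R'
  refine ⟨R', iR', inferInstance, p', inferInstance, ?_, m, A, iA, iAlgA, ?_, hA⟩
  · rw [IsScalarTower.algebraMap_eq R R₁ R', ← Ideal.comap_comap, hp', ← hp₁]
  · exact (Algebra.TensorProduct.cancelBaseChange R R₁ R' R' S).symm.trans eqv

end Groth.Agent.H3.EtSplit
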