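import Groth.Agent.H3.HPairZMT

set_option autoImplicit false
set_option linter.unusedSimpArgs false
set_option linter.unusedVariables false
set_option linter.style.haveILetI false
universe u

namespace Groth.Agent.H3

open Polynomial TensorProduct

/-- If `S/JS` is a finite `R`-module then `S` is quasi-finite over `R` at all primes of `V(JS)`. -/
theorem quasiFiniteAt_of_finite_quotient {R S : Type*} [CommRing R] [CommRing S] [Algebra R S]
    [Algebra.FiniteType R S] (J : Ideal R)
    [hfin : Module.Finite R (S ⧸ J.map (algebraMap R S))] (q : Ideal S) [q.IsPrime]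
    (hq : J.map (algebraMap R S) ≤ q) : Algebra.QuasiFiniteAt R q := by
  classical
  let qs : PrimeSpectrum S := ⟨q, inferInstance⟩
  let p := qs.comap (algebraMap R S)
  have hJp : J ≤ p.asIdeal := by
    intro j hj
    change algebraMap R S j ∈ q
    exact hq (Ideal.mem_map_of_mem _ hj)
  -- the fibre is finite
  have hkill : ∀ x : S, x ∈ J.map (algebraMap R S) →
      ((1 : p.asIdeal.ResidueField) ⊗ₜ[R] x : p.asIdeal.ResidueField ⊗[R] S) = 0 := by
    intro x hx
    have hx' : x ∈ (J • ⊤ : Submodule R S) := by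
      rw [Ideal.smul_top_eq_map]; exact hx
    refine Submodule.smul_induction_on hx' ?_ ?_
    · intro i hi n _
      rw [← TensorProduct.smul_tmul]
      have : i • (1 : p.asIdeal.ResidueField) = 0 := by
        rw [Algebra.smul_def, mul_one]
        exact (Ideal.algebraMap_residueField_eq_zero).mpr (hJp hi)
      rw [this, TensorProduct.zero_tmul]
    · intro a b ha hb
      rw [TensorProduct.tmul_add, ha, hb, add_zero]
  let ψ : S ⧸ J.map (algebraMap R S) →ₐ[R] p.asIdeal.ResidueField ⊗[R] S :=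
    Ideal.Quotient.liftₐ (J.map (algebraMap R S))
      (Algebra.TensorProduct.includeRight : S →ₐ[R] p.asIdeal.ResidueField ⊗[R] S)
      (fun a ha => hkill a ha)
  have hψ : ∀ x : S, ψ (Ideal.Quotient.mk _ x) = (1 : p.asIdeal.ResidueField) ⊗ₜ[R] x := by
    intro x
    change Ideal.Quotient.liftₐ _ _ _ (Ideal.Quotient.mk _ x) = _
    rw [Ideal.Quotient.liftₐ_apply, Ideal.Quotient.lift_mk]
    rfl
  let Ψ : p.asIdeal.ResidueField ⊗[R] (S ⧸ J.map (algebraMap R S)) →ₗ[p.asIdeal.ResidueField]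
      p.asIdeal.ResidueField ⊗[R] S := LinearMap.liftBaseChange _ ψ.toLinearMap
  have hΨ : Function.Surjective Ψ := by
    intro t
    induction t using TensorProduct.induction_on with
    | zero => exact ⟨0, map_zero _⟩
    | tmul c x =>
      refine ⟨c ⊗ₜ Ideal.Quotient.mk _ x, ?_⟩
      simp only [Ψ, LinearMap.liftBaseChange_tmul, AlgHom.toLinearMap_apply, hψ]
      rw [TensorProduct.smul_tmul', smul_eq_mul, mul_one]
    | add a b ha hb =>
      obtain ⟨a', rfl⟩ := ha
      obtain ⟨b', rfl⟩ := hb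
      exact ⟨a' + b', map_add _ _ _⟩
  haveI : Module.Finite p.asIdeal.ResidueField (p.asIdeal.Fiber S) :=
    Module.Finite.of_surjective Ψ hΨ
  let e := PrimeSpectrum.preimageHomeomorphFiber R S p
  haveI : q.LiesOver p.asIdeal := ⟨rfl⟩
  have hqs : qs ∈ (PrimeSpectrum.comap (algebraMap R S)) ⁻¹' {p} := rfl
  exact Algebra.QuasiFiniteAt.of_quasiFiniteAt_residueField p.asIdeal q (e ⟨qs, hqs⟩).asIdeal
    congr($(e.symm_apply_apply ⟨qs, hqs⟩).1.asIdeal)

/-- Variant of `exists_zmt_elem_of_finite` assuming quasi-finiteness only along `V(IA')`. -/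
theorem exists_zmt_elem_of_finite' {A : Type*} [CommRing A] {A' : Type*} [CommRing A']
    [Algebra A A'] [Algebra.FiniteType A A'] (I : Ideal A)
    [hfin : Module.Finite A (A' ⧸ I.map (algebraMap A A'))] :
    ∃ r : A', IsIntegral A r ∧ r - 1 ∈ I.map (algebraMap A A') ∧
      ∀ x : A', ∃ m, IsIntegral A (r ^ m * x) := by
  classical
  let cond : A' → Ideal (integralClosure A A') := fun x =>
    { carrier := {s | (s : A') * x ∈ integralClosure A A'}
      add_mem' := by
        intro a b ha hb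
        simp only [Set.mem_setOf_eq] at ha hb ⊢
        rw [Subalgebra.coe_add, add_mul]; exact Subalgebra.add_mem _ ha hb
      zero_mem' := by
        simp only [Set.mem_setOf_eq, ZeroMemClass.coe_zero, zero_mul]
        exact Subalgebra.zero_mem _
      smul_mem' := by
        intro c a ha
        simp only [Set.mem_setOf_eq, smul_eq_mul] at ha ⊢
        rw [Subalgebra.coe_mul, mul_assoc]; exact Subalgebra.mul_mem _ c.2 ha }
  let J : Ideal (integralClosure A A') := ⨅ x, (cond x).radical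
  have hJ : ∀ s : integralClosure A A', s ∈ J ↔ ∀ x, ∃ m, IsIntegral A ((s : A') ^ m * x) := by
    intro s
    constructor
    · intro h x
      obtain ⟨n, hn⟩ := Ideal.mem_radical_iff.mp ((Ideal.mem_iInf.mp h) x)
      have h1 : ((s ^ n : integralClosure A A') : A') * x ∈ integralClosure A A' := hn
      rw [Subalgebra.coe_pow] at h1
      exact ⟨n, h1⟩
    · intro h
      refine Ideal.mem_iInf.mpr fun x => ?_
      obtain ⟨n, hn⟩ := h x
      refine Ideal.mem_radical_iff.mpr ⟨n, ?_⟩
      change ((s ^ n : integralClosure A A') : A') * x ∈ integralClosure A A'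
      rw [Subalgebra.coe_pow]
      exact hn
  have hqf : ∀ (q : Ideal A') [q.IsPrime], I.map (algebraMap A A') ≤ q →
      Algebra.QuasiFiniteAt A q := fun q _ hq => quasiFiniteAt_of_finite_quotient I q hq
  obtain ⟨𝔞, h𝔞⟩ : ∃ 𝔞 : Ideal A', 𝔞 = I.map (algebraMap A A') := ⟨_, rfl⟩
  rw [← h𝔞] at hfin hqf ⊢
  let σS : integralClosure A A' →+* A' ⧸ 𝔞 :=
    (Ideal.Quotient.mk 𝔞).comp (integralClosure A A').val.toRingHom
  have htop : J.map σS = ⊤ := by
    by_contra hne
    obtain ⟨M, hM, hJM⟩ := Ideal.exists_le_maximal _ hne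
    let q : Ideal A' := M.comap (Ideal.Quotient.mk 𝔞)
    haveI : q.IsPrime := Ideal.IsPrime.comap _
    have h𝔞q : 𝔞 ≤ q := by
      intro x hx
      change Ideal.Quotient.mk 𝔞 x ∈ M
      rw [Ideal.Quotient.eq_zero_iff_mem.mpr hx]
      exact Ideal.zero_mem _
    haveI : Algebra.QuasiFiniteAt A q := hqf q h𝔞q
    obtain ⟨r, hrq, hrint, hr⟩ := Algebra.zariskisMainProperty_iff.mp
      (Algebra.ZariskisMainProperty.of_finiteType (R := A) q)
    have hrJ : (⟨r, hrint⟩ : integralClosure A A') ∈ J := (hJ _).mpr hr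
    have : σS ⟨r, hrint⟩ ∈ M := hJM (Ideal.mem_map_of_mem _ hrJ)
    exact hrq this
  have hsmul : ∀ (s : integralClosure A A') (f : A' ⧸ 𝔞), s • f = σS s * f := fun _ _ => rfl
  haveI : Module.Finite (integralClosure A A') (A' ⧸ 𝔞) :=
    Module.Finite.of_restrictScalars_finite A _ _
  have hle : (⊤ : Submodule (integralClosure A A') (A' ⧸ 𝔞)) ≤ J • ⊤ := by
    intro x _
    have hx : x ∈ J.map σS := by rw [htop]; trivial
    refine Submodule.span_induction
      (p := fun y _ => y ∈ J • (⊤ : Submodule (integralClosure A A') (A' ⧸ 𝔞))) ?_ ?_ ?_ ?_ hx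
    · rintro _ ⟨j, hj, rfl⟩
      have : σS j = j • (1 : A' ⧸ 𝔞) := by rw [hsmul, mul_one]
      rw [this]; exact Submodule.smul_mem_smul hj Submodule.mem_top
    · exact Submodule.zero_mem _
    · intro a b _ _ ha hb; exact Submodule.add_mem _ ha hb
    · intro f y _ hy
      rw [smul_eq_mul]
      refine Submodule.smul_induction_on hy ?_ ?_
      · intro j hj n _
        have : f * (j • n) = j • (f * n) := by rw [hsmul, hsmul]; ring
        rw [this]; exact Submodule.smul_mem_smul hj Submodule.mem_top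
      · intro a b ha hb; rw [mul_add]; exact Submodule.add_mem _ ha hb
  obtain ⟨j₀, hj₀, hj₀F⟩ :=
    Submodule.exists_sub_one_mem_and_smul_eq_zero_of_fg_of_le_smul J ⊤ Module.Finite.fg_top hle
  have h0 : σS j₀ = 0 := by
    have := hj₀F 1 Submodule.mem_top
    rwa [hsmul, mul_one] at this
  have hrJ : (1 - j₀) ∈ J := by rw [← Ideal.neg_mem_iff, neg_sub]; exact hj₀
  refine ⟨((1 - j₀ : integralClosure A A') : A'), (1 - j₀).2, ?_, (hJ _).mp hrJ⟩
  rw [← Ideal.Quotient.eq_zero_iff_mem, map_sub, map_one]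
  have : Ideal.Quotient.mk 𝔞 ((1 - j₀ : integralClosure A A') : A') = σS (1 - j₀) := rfl
  rw [this, map_sub, map_one, h0, sub_zero, sub_self]

/-- **Zariski's main theorem for Henselian pairs**, general form: a finite type algebra over a
Henselian pair whose reduction is finite splits off a finite part carrying the whole reduction. -/
theorem finiteType_split_of_henselianRing {A : Type u} [CommRing A] (I : Ideal A)
    [hI : HenselianRing A I]
    (A' : Type u) [CommRing A'] [Algebra A A'] [Algebra.FiniteType A A']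
    [Module.Finite A (A' ⧸ I.map (algebraMap A A'))] :
    ∃ e : A', IsIdempotentElem e ∧ Module.Finite A (A' ⧸ Ideal.span ({1 - e} : Set A')) ∧
      1 - e ∈ I.map (algebraMap A A') := by
  obtain ⟨r, hrint, hr1, hrJ⟩ := exists_zmt_elem_of_finite' (A' := A') I
  obtain ⟨B, hBfg, hrB, hBint, hloc⟩ := exists_finite_subalgebra r hrint hrJ
  haveI : Module.Finite A B := Module.Finite.iff_fg.mpr hBfg
  haveI : Algebra.IsIntegral A B := Algebra.IsIntegral.of_finite A B
  let rB : B := ⟨r, hrB⟩
  have hmapBA : ∀ y : B, y ∈ I.map (algebraMap A B) → (y : A') ∈ I.map (algebraMap A A') := by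
    intro y hy
    have h1 : B.val.toRingHom y ∈ (I.map (algebraMap A B)).map B.val.toRingHom :=
      Ideal.mem_map_of_mem _ hy
    rw [Ideal.map_map] at h1
    exact h1
  obtain ⟨k₀, hk₀⟩ := exists_pow_mul_mem_map I B rB hloc (rB - 1) (by
    rw [Subalgebra.coe_sub, Subalgebra.coe_one]; exact hr1)
  obtain ⟨𝔟, h𝔟⟩ : ∃ 𝔟 : Ideal B, 𝔟 = I.map (algebraMap A B) := ⟨_, rfl⟩
  rw [← h𝔟] at hk₀
  obtain ⟨k, hk⟩ : ∃ k : ℕ, rB ^ (k + 1) * (rB - 1) ∈ 𝔟 :=
    ⟨k₀, by rw [pow_succ, mul_assoc, mul_comm rB, ← mul_assoc]; exact Ideal.mul_mem_right _ _ hk₀⟩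
  have hstab : ∀ j, rB ^ (k + 1 + j) - rB ^ (k + 1) ∈ 𝔟 := by
    intro j
    induction j with
    | zero => simp
    | succ j ih =>
      have : rB ^ (k + 1 + (j + 1)) - rB ^ (k + 1) =
          rB ^ j * (rB ^ (k + 1) * (rB - 1)) + (rB ^ (k + 1 + j) - rB ^ (k + 1)) := by ring
      rw [this]; exact Ideal.add_mem _ (Ideal.mul_mem_left _ _ hk) ih
  have hb2 : (rB ^ (k + 1)) ^ 2 - rB ^ (k + 1) ∈ 𝔟 := by
    have := hstab (k + 1)
    rwa [← two_mul, mul_comm, pow_mul] at this
  obtain ⟨e, he, hebk⟩ := exists_isIdempotentElem_sub_mem_of_henselianRing I (rB ^ (k + 1))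
    (by rw [← h𝔟]; exact hb2)
  rw [← h𝔟] at hebk
  have hjac : 𝔟 ≤ Ideal.jacobson ⊥ := by
    rw [h𝔟]; exact map_le_jacobson_of_isIntegral I hI.jac
  have hu : IsUnit (rB ^ (k + 1) * e + (1 - e)) := by
    have h1 : rB ^ (k + 1) * e + (1 - e) - 1 ∈ 𝔟 := by
      have : rB ^ (k + 1) * e + (1 - e) - 1 =
          (rB ^ (k + 1) - 1) * (e - rB ^ (k + 1)) + ((rB ^ (k + 1)) ^ 2 - rB ^ (k + 1)) := by ring
      rw [this]; exact Ideal.add_mem _ (Ideal.mul_mem_left _ _ hebk) hb2
    have := Ideal.mem_jacobson_bot.mp (hjac h1) 1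
    simpa using this
  obtain ⟨v, hv⟩ := hu.exists_right_inv
  have hev : rB ^ (k + 1) * v * e = e := by
    have he' := he.eq
    linear_combination e * hv - (rB ^ (k + 1) * v - v) * he'
  have hevm : ∀ m : ℕ, (rB ^ (k + 1) * v) ^ m * e = e := by
    intro m
    induction m with
    | zero => simp
    | succ m ih => rw [pow_succ, mul_assoc, hev, ih]
  have heA : IsIdempotentElem (e : A') := by
    have := congrArg (fun z : B => (z : A')) he.eq
    simpa [IsIdempotentElem] using this
  have hkey : ∀ x : A', ∃ b : B, (b : A') = x * (e : A') := by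
    intro x
    obtain ⟨m, hm⟩ := hloc x
    refine ⟨⟨r ^ m * x, hm⟩ * (rB ^ (k * m) * v ^ m * e), ?_⟩
    have h1 := congrArg (fun z : B => (z : A')) (hevm m)
    simp only [Subalgebra.coe_mul, Subalgebra.coe_pow] at h1
    simp only [Subalgebra.coe_mul, Subalgebra.coe_pow]
    have hr : (rB : A') = r := rfl
    rw [hr] at h1 ⊢
    calc r ^ m * x * (r ^ (k * m) * (v : A') ^ m * (e : A'))
        = x * ((r ^ (k + 1) * (v : A')) ^ m * (e : A')) := by ring
      _ = x * (e : A') := by rw [h1]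
  refine ⟨(e : A'), heA, ?_, ?_⟩
  · let φ : B →ₗ[A] A' ⧸ Ideal.span ({1 - (e : A')} : Set A') :=
      (Ideal.Quotient.mkₐ A (Ideal.span ({1 - (e : A')} : Set A'))).toLinearMap ∘ₗ
        B.val.toLinearMap
    refine Module.Finite.of_surjective φ ?_
    intro z
    obtain ⟨x, rfl⟩ := Ideal.Quotient.mk_surjective z
    obtain ⟨b, hb⟩ := hkey x
    refine ⟨b, ?_⟩
    change Ideal.Quotient.mk _ (b : A') = Ideal.Quotient.mk _ x
    rw [hb, Ideal.Quotient.eq]
    have : x * (e : A') - x = (-x) * (1 - (e : A')) := by ring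
    rw [this]
    exact Ideal.mul_mem_left _ _ (Ideal.mem_span_singleton_self _)
  · have h1 : Ideal.Quotient.mk (I.map (algebraMap A A')) r = 1 := by
      rw [← map_one (Ideal.Quotient.mk _), Ideal.Quotient.eq]; exact hr1
    have h2 : (e : A') - r ^ (k + 1) ∈ I.map (algebraMap A A') := by
      have := hmapBA _ (by rw [← h𝔟]; exact hebk)
      simpa using this
    rw [← Ideal.Quotient.eq_zero_iff_mem, map_sub, map_one]
    rw [← Ideal.Quotient.eq, map_pow, h1, one_pow] at h2
    rw [h2, sub_self]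

end Groth.Agent.H3
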