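import Groth.Agent.H3.HPair7
import Groth.Agent.H3.HPairZMT2
import Groth.Agent.H3.HenselFinite
import Groth.Agent.S9436

/-!
# Finite algebras over a Henselian pair: clopen subsets and finite étale lifts (helper3)

Ring-level input for `FEt (Spec A) ≃ FEt (Spec A/I)`.
-/

set_option autoImplicit false
universe u

namespace Groth.Agent.H3.FEtH

open TensorProduct PrimeSpectrum

/-- A clopen subset of `Spec B` (`B` integral over a Henselian pair `(A, I)`) containing `V(IB)` is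
everything. -/
theorem clopen_eq_univ_of_zeroLocus_subset {A : Type u} [CommRing A] (I : Ideal A)
    [hI : HenselianRing A I] {B : Type*} [CommRing B] [Algebra A B] [Algebra.IsIntegral A B]
    (T : Set (PrimeSpectrum B)) (hT : IsClopen T)
    (hZ : zeroLocus (I.map (algebraMap A B) : Set B) ⊆ T) : T = Set.univ := by
  obtain ⟨e, he, rfl⟩ := PrimeSpectrum.isClopen_iff.mp hT
  obtain ⟨J, hJ⟩ : ∃ J : Ideal B, J = I.map (algebraMap A B) := ⟨_, rfl⟩
  rw [← hJ] at hZ
  have hjac : J ≤ Ideal.jacobson ⊥ := by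
    rw [hJ]; exact map_le_jacobson_of_isIntegral I hI.jac
  have htop : J ⊔ Ideal.span {e} = ⊤ := by
    rw [← zeroLocus_empty_iff_eq_top, zeroLocus_sup, Set.eq_empty_iff_forall_notMem]
    rintro q ⟨hq1, hq2⟩
    have := hZ hq1
    rw [zeroLocus_span, mem_zeroLocus, Set.singleton_subset_iff] at hq2
    exact this hq2
  have h1 : (1 : B) ∈ J ⊔ Ideal.span {e} := by rw [htop]; trivial
  obtain ⟨x, hx, y, hy, hxy⟩ := Submodule.mem_sup.mp h1
  obtain ⟨c, rfl⟩ := Ideal.mem_span_singleton'.mp hy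
  have hmem : 1 - e ∈ J := by
    have : 1 - e = (1 - e) * x := by
      have h2 := he.eq
      linear_combination (1 - e) * hxy.symm - c * h2
    rw [this]; exact Ideal.mul_mem_left _ _ hx
  have : (1 : B) = e :=
    eq_of_isIdempotentElem_of_sub_mem_jacobson IsIdempotentElem.one he (hjac hmem)
  rw [← this]
  ext q
  simp only [Set.mem_univ, iff_true]
  exact (PrimeSpectrum.mem_basicOpen _ _).mpr (fun h => q.isPrime.ne_top ((Ideal.eq_top_iff_one _).mpr h))

/-- Uniqueness of clopen subsets with given trace on `V(IB)`. -/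
theorem clopen_eq_of_inter_zeroLocus_eq {A : Type u} [CommRing A] (I : Ideal A)
    [hI : HenselianRing A I] {B : Type*} [CommRing B] [Algebra A B] [Algebra.IsIntegral A B]
    (T T' : Set (PrimeSpectrum B)) (hT : IsClopen T) (hT' : IsClopen T')
    (h : T ∩ zeroLocus (I.map (algebraMap A B) : Set B) =
      T' ∩ zeroLocus (I.map (algebraMap A B) : Set B)) : T = T' := by
  have hcl : IsClopen ((T ∩ T') ∪ (Tᶜ ∩ T'ᶜ)) :=
    (hT.inter hT').union (hT.compl.inter hT'.compl)
  have hsub : zeroLocus (I.map (algebraMap A B) : Set B) ⊆ (T ∩ T') ∪ (Tᶜ ∩ T'ᶜ) := by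
    intro q hq
    by_cases hqT : q ∈ T
    · have : q ∈ T' ∩ zeroLocus (I.map (algebraMap A B) : Set B) := by
        rw [← h]; exact ⟨hqT, hq⟩
      exact Or.inl ⟨hqT, this.1⟩
    · refine Or.inr ⟨hqT, fun hqT' => hqT ?_⟩
      have : q ∈ T ∩ zeroLocus (I.map (algebraMap A B) : Set B) := by
        rw [h]; exact ⟨hqT', hq⟩
      exact this.1
  have huniv := clopen_eq_univ_of_zeroLocus_subset I _ hcl hsub
  ext q
  have hq : q ∈ (T ∩ T') ∪ (Tᶜ ∩ T'ᶜ) := by rw [huniv]; trivial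
  rcases hq with ⟨h1, h2⟩ | ⟨h1, h2⟩
  · exact ⟨fun _ => h2, fun _ => h1⟩
  · exact ⟨fun h => absurd h h1, fun h => absurd h h2⟩

/-- Existence: a decomposition of `V(IB)` into two disjoint closed subsets is induced by a clopen
subset of `Spec B`. -/
theorem exists_clopen_inter_zeroLocus {A : Type u} [CommRing A] (I : Ideal A)
    [hI : HenselianRing A I] {B : Type*} [CommRing B] [Algebra A B] [Algebra.IsIntegral A B]
    (S₁ S₂ : Set (PrimeSpectrum B)) (h₁ : IsClosed S₁) (h₂ : IsClosed S₂) (hd : Disjoint S₁ S₂)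
    (hu : S₁ ∪ S₂ = zeroLocus (I.map (algebraMap A B) : Set B)) :
    ∃ T : Set (PrimeSpectrum B), IsClopen T ∧
      T ∩ zeroLocus (I.map (algebraMap A B) : Set B) = S₁ := by
  obtain ⟨J, hJ⟩ : ∃ J : Ideal B, J = I.map (algebraMap A B) := ⟨_, rfl⟩
  rw [← hJ] at hu ⊢
  obtain ⟨c, hc⟩ : ∃ c : PrimeSpectrum (B ⧸ J) → PrimeSpectrum B,
      c = PrimeSpectrum.comap (Ideal.Quotient.mk J) := ⟨_, rfl⟩
  have hcont : Continuous c := by rw [hc]; exact PrimeSpectrum.continuous_comap _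
  have hrange : Set.range c = zeroLocus (J : Set B) := by
    rw [hc, range_comap_of_surjective _ _ Ideal.Quotient.mk_surjective, Ideal.mk_ker]
  have hU₁ : IsClosed (c ⁻¹' S₁) := h₁.preimage hcont
  have hU₂ : IsClosed (c ⁻¹' S₂) := h₂.preimage hcont
  have hcompl : (c ⁻¹' S₁)ᶜ = c ⁻¹' S₂ := by
    ext q
    simp only [Set.mem_compl_iff, Set.mem_preimage]
    constructor
    · intro hq
      have : c q ∈ S₁ ∪ S₂ := by rw [hu, ← hrange]; exact ⟨q, rfl⟩
      exact this.resolve_left hq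
    · intro hq hq'
      exact Set.disjoint_left.mp hd hq' hq
  have hclopen : IsClopen (c ⁻¹' S₁) := ⟨hU₁, by rw [← isClosed_compl_iff, hcompl]; exact hU₂⟩
  obtain ⟨ebar, hebar, hU⟩ := PrimeSpectrum.isClopen_iff.mp hclopen
  subst hJ
  obtain ⟨e, he, hee'⟩ := (bijOn_idempotents_of_henselianRing I B).surjOn hebar
  refine ⟨basicOpen e, PrimeSpectrum.isClopen_iff.mpr ⟨e, he, rfl⟩, ?_⟩
  have key : ∀ qb : PrimeSpectrum (B ⧸ I.map (algebraMap A B)), c qb ∈ (basicOpen e : Set (PrimeSpectrum B)) ↔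
      c qb ∈ S₁ := by
    intro qb
    have h1 : c qb ∈ S₁ ↔ qb ∈ (basicOpen ebar : Set _) := by
      rw [← hU]; rfl
    rw [h1, ← hee', hc]
    rfl
  ext q
  constructor
  · rintro ⟨hq1, hq2⟩
    rw [← hrange] at hq2
    obtain ⟨qb, rfl⟩ := hq2
    exact (key qb).mp hq1
  · intro hq
    have hq2 : q ∈ zeroLocus (I.map (algebraMap A B) : Set B) := by rw [← hu]; exact Or.inl hq
    refine ⟨?_, hq2⟩
    rw [← hrange] at hq2
    obtain ⟨qb, rfl⟩ := hq2
    exact (key qb).mpr hq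

end Groth.Agent.H3.FEtH
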