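import Groth.Agent.H3.FEtH1

/-!
# Finite étale algebras lift along Henselian pairs (helper3)
-/

set_option autoImplicit false
universe u

namespace Groth.Agent.H3.FEtH

open TensorProduct

theorem one_tmul_eq_zero_of_mem_map {A : Type u} [CommRing A] (I : Ideal A) {A' : Type u}
    [CommRing A'] [Algebra A A'] (y : A') (hy : y ∈ I.map (algebraMap A A')) :
    (1 : A ⧸ I) ⊗ₜ[A] y = 0 := by
  refine Submodule.span_induction (p := fun y _ => (1 : A ⧸ I) ⊗ₜ[A] y = 0) ?_ ?_ ?_ ?_ hy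
  · rintro _ ⟨a, ha, rfl⟩
    rw [Algebra.algebraMap_eq_smul_one, ← TensorProduct.smul_tmul, Algebra.smul_def, mul_one]
    have : algebraMap A (A ⧸ I) a = 0 := Ideal.Quotient.eq_zero_iff_mem.mpr ha
    rw [this, TensorProduct.zero_tmul]
  · exact TensorProduct.tmul_zero _ _
  · intro x y _ _ hx hy
    rw [TensorProduct.tmul_add, hx, hy, add_zero]
  · intro c x _ hx
    have : (1 : A ⧸ I) ⊗ₜ[A] (c • x) = ((1 : A ⧸ I) ⊗ₜ[A] c) * ((1 : A ⧸ I) ⊗ₜ[A] x) := by
      rw [Algebra.TensorProduct.tmul_mul_tmul, mul_one, smul_eq_mul]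
    rw [this, hx, mul_zero]

/-- Finite étale algebras lift along a Henselian pair. -/
theorem exists_finite_etale_lift {A : Type u} [CommRing A] (I : Ideal A) [HenselianRing A I]
    (B₀ : Type u) [CommRing B₀] [Algebra (A ⧸ I) B₀] [Module.Finite (A ⧸ I) B₀]
    [Algebra.Etale (A ⧸ I) B₀] :
    ∃ (B : Type u) (_ : CommRing B) (_ : Algebra A B), Module.Finite A B ∧ Algebra.Etale A B ∧
      Nonempty ((A ⧸ I) ⊗[A] B ≃ₐ[A ⧸ I] B₀) := by
  classical
  obtain ⟨A', instA', algA', hA'et, ⟨e₁⟩⟩ := Groth.Agent.S9436.result A I B₀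
  haveI : Module.Finite (A ⧸ I) ((A ⧸ I) ⊗[A] A') := Module.Finite.equiv e₁.symm.toLinearEquiv
  haveI : Module.Finite A ((A ⧸ I) ⊗[A] A') := Module.Finite.trans (A ⧸ I) _
  let g : (A ⧸ I) ⊗[A] A' →ₐ[A] A' ⧸ I.map (algebraMap A A') :=
    Algebra.TensorProduct.lift
      (Ideal.quotientMapₐ (I.map (algebraMap A A')) (Algebra.ofId A A') Ideal.le_comap_map)
      (Ideal.Quotient.mkₐ A (I.map (algebraMap A A'))) (fun _ _ => Commute.all _ _)
  have hg : Function.Surjective g := by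
    intro y
    obtain ⟨a, rfl⟩ := Ideal.Quotient.mk_surjective y
    refine ⟨1 ⊗ₜ a, ?_⟩
    simp only [g, Algebra.TensorProduct.lift_tmul, map_one, one_mul]
    rfl
  haveI hfin : Module.Finite A (A' ⧸ I.map (algebraMap A A')) :=
    Module.Finite.of_surjective g.toLinearMap hg
  obtain ⟨e, he, hefin, he1⟩ := finiteType_split_of_henselianRing I A'
  haveI : IsLocalization.Away e (A' ⧸ Ideal.span ({1 - e} : Set A')) :=
    IsLocalization.Away.quotient_of_isIdempotentElem he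
  haveI : Algebra.Etale A' (A' ⧸ Ideal.span ({1 - e} : Set A')) :=
    Algebra.Etale.of_isLocalizationAway e
  haveI : Algebra.Etale A (A' ⧸ Ideal.span ({1 - e} : Set A')) :=
    Algebra.Etale.comp A A' _
  refine ⟨A' ⧸ Ideal.span ({1 - e} : Set A'), inferInstance, inferInstance, hefin, inferInstance,
    ⟨?_⟩⟩
  refine AlgEquiv.trans ?_ e₁
  have hkill : ∀ x ∈ Ideal.span ({1 - e} : Set A'),
      (Algebra.TensorProduct.includeRight : A' →ₐ[A] (A ⧸ I) ⊗[A] A') x = 0 := by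
    intro x hx
    obtain ⟨c, rfl⟩ := Ideal.mem_span_singleton'.mp hx
    show (1 : A ⧸ I) ⊗ₜ[A] (c * (1 - e)) = 0
    exact one_tmul_eq_zero_of_mem_map I _ (Ideal.mul_mem_left _ _ he1)
  let ψ : (A' ⧸ Ideal.span ({1 - e} : Set A')) →ₐ[A] (A ⧸ I) ⊗[A] A' :=
    Ideal.Quotient.liftₐ _ Algebra.TensorProduct.includeRight hkill
  let F : (A ⧸ I) ⊗[A] (A' ⧸ Ideal.span ({1 - e} : Set A')) →ₐ[A ⧸ I] (A ⧸ I) ⊗[A] A' :=
    Algebra.TensorProduct.lift (Algebra.ofId (A ⧸ I) _) ψ (fun _ _ => Commute.all _ _)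
  let G : (A ⧸ I) ⊗[A] A' →ₐ[A ⧸ I] (A ⧸ I) ⊗[A] (A' ⧸ Ideal.span ({1 - e} : Set A')) :=
    Algebra.TensorProduct.map (AlgHom.id (A ⧸ I) (A ⧸ I))
      (Ideal.Quotient.mkₐ A (Ideal.span ({1 - e} : Set A')))
  refine AlgEquiv.ofAlgHom F G ?_ ?_
  · apply Algebra.TensorProduct.ext'
    intro x a
    simp only [F, G, ψ, AlgHom.comp_apply, Algebra.TensorProduct.map_tmul, AlgHom.id_apply,
      Algebra.TensorProduct.lift_tmul, AlgHom.coe_id, id_eq]
    show Algebra.ofId (A ⧸ I) _ x * Ideal.Quotient.liftₐ _ Algebra.TensorProduct.includeRight hkill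
      (Ideal.Quotient.mk _ a) = x ⊗ₜ a
    rw [Ideal.Quotient.liftₐ_apply, Ideal.Quotient.lift_mk]
    show (algebraMap (A ⧸ I) _ x) * ((1 : A ⧸ I) ⊗ₜ[A] a) = x ⊗ₜ a
    rw [Algebra.TensorProduct.algebraMap_apply, Algebra.TensorProduct.tmul_mul_tmul, mul_one,
      one_mul]
    rfl
  · apply Algebra.TensorProduct.ext'
    intro x b
    obtain ⟨a, rfl⟩ := Ideal.Quotient.mk_surjective b
    simp only [F, G, ψ, AlgHom.comp_apply, Algebra.TensorProduct.lift_tmul, AlgHom.coe_id, id_eq]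
    show G (Algebra.ofId (A ⧸ I) _ x * Ideal.Quotient.liftₐ _ Algebra.TensorProduct.includeRight hkill
      (Ideal.Quotient.mk _ a)) = x ⊗ₜ (Ideal.Quotient.mk _ a)
    rw [Ideal.Quotient.liftₐ_apply, Ideal.Quotient.lift_mk, map_mul]
    show G (algebraMap (A ⧸ I) _ x) * G ((1 : A ⧸ I) ⊗ₜ[A] a) = _
    rw [AlgHom.commutes, Algebra.TensorProduct.algebraMap_apply]
    simp only [G, Algebra.TensorProduct.map_tmul, AlgHom.id_apply, Algebra.TensorProduct.tmul_mul_tmul,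
      mul_one, one_mul, map_one]
    rfl

end Groth.Agent.H3.FEtH
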