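import Groth.Agent.H3.FEtH2
import Mathlib.AlgebraicGeometry.Morphisms.Finite
import Mathlib.AlgebraicGeometry.Morphisms.ClosedImmersion
import Mathlib.AlgebraicGeometry.PullbackCarrier

/-!
# Clopen subsets of finite schemes over a Henselian pair (helper3)
-/

set_option autoImplicit false
universe u

namespace Groth.Agent.H3.FEtH

open CategoryTheory CategoryTheory.Limits AlgebraicGeometry PrimeSpectrum

theorem eq_isoSpec_comp {R : CommRingCat.{u}} {Y : Scheme.{u}} [IsAffine Y] (g : Y ⟶ Spec R) :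
    g = Y.isoSpec.hom ≫ Spec.map ((Scheme.ΓSpecIso R).inv ≫ g.appTop) := by
  rw [Spec.map_comp, ← Category.assoc, Scheme.isoSpec_hom_naturality, Scheme.isoSpec_Spec_hom,
    Category.assoc, ← Spec.map_comp, Iso.inv_hom_id, Spec.map_id, Category.comp_id]

/-- Abstract topological form. -/
theorem existsUnique_clopen_top {P Y : Type*} [TopologicalSpace P] [TopologicalSpace Y]
    {B : Type*} [CommRing B] (J : Ideal B)
    (hex : ∀ S₁ S₂ : Set (PrimeSpectrum B), IsClosed S₁ → IsClosed S₂ → Disjoint S₁ S₂ →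
      S₁ ∪ S₂ = zeroLocus (J : Set B) → ∃ T : Set (PrimeSpectrum B), IsClopen T ∧
        T ∩ zeroLocus (J : Set B) = S₁)
    (huniq : ∀ T T' : Set (PrimeSpectrum B), IsClopen T → IsClopen T' →
      T ∩ zeroLocus (J : Set B) = T' ∩ zeroLocus (J : Set B) → T = T')
    (fst : P → Y) (hfst : Topology.IsClosedEmbedding fst) (h : Y ≃ₜ PrimeSpectrum B)
    (hrange : h '' Set.range fst = zeroLocus (J : Set B))
    (V : Set P) (hV : IsClopen V) :
    ∃! U : Set Y, IsClopen U ∧ fst ⁻¹' U = V := by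
  have hinj : Function.Injective (h ∘ fst) := h.injective.comp hfst.injective
  have hclosedmap : ∀ W : Set P, IsClosed W → IsClosed (h '' (fst '' W)) := fun W hW =>
    h.isClosedMap _ (hfst.isClosedMap _ hW)
  have hmemZ : ∀ x : P, h (fst x) ∈ zeroLocus (J : Set B) := by
    intro x
    rw [← hrange]
    exact ⟨fst x, ⟨x, rfl⟩, rfl⟩
  have htrace : ∀ U : Set Y, fst ⁻¹' U = V ↔
      (h '' U) ∩ zeroLocus (J : Set B) = h '' (fst '' V) := by
    intro U
    constructor
    · intro hU
      ext q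
      constructor
      · rintro ⟨⟨y, hy, rfl⟩, hq⟩
        rw [← hrange] at hq
        obtain ⟨_, ⟨x, rfl⟩, hx⟩ := hq
        have : fst x = y := h.injective hx
        subst this
        refine ⟨fst x, ⟨x, ?_, rfl⟩, rfl⟩
        rw [← hU]; exact hy
      · rintro ⟨_, ⟨x, hx, rfl⟩, rfl⟩
        refine ⟨⟨fst x, ?_, rfl⟩, hmemZ x⟩
        rw [← hU] at hx; exact hx
    · intro hU
      ext x
      constructor
      · intro hx
        have : h (fst x) ∈ (h '' U) ∩ zeroLocus (J : Set B) := ⟨⟨fst x, hx, rfl⟩, hmemZ x⟩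
        rw [hU] at this
        obtain ⟨_, ⟨x', hx', rfl⟩, hxx⟩ := this
        have : x' = x := hinj hxx
        rw [← this]; exact hx'
      · intro hx
        have : h (fst x) ∈ h '' (fst '' V) := ⟨fst x, ⟨x, hx, rfl⟩, rfl⟩
        rw [← hU] at this
        obtain ⟨⟨y, hy, hyx⟩, -⟩ := this
        have : y = fst x := h.injective hyx
        show fst x ∈ U
        rw [← this]; exact hy
  have hdisj : Disjoint (h '' (fst '' V)) (h '' (fst '' Vᶜ)) := by
    rw [Set.disjoint_left]
    rintro _ ⟨_, ⟨x, hx, rfl⟩, rfl⟩ ⟨_, ⟨x', hx', rfl⟩, hxx⟩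
    have : x' = x := hinj hxx
    rw [this] at hx'
    exact hx' hx
  have hunion : h '' (fst '' V) ∪ h '' (fst '' Vᶜ) = zeroLocus (J : Set B) := by
    rw [← Set.image_union, ← Set.image_union, Set.union_compl_self, Set.image_univ, hrange]
  obtain ⟨T, hT, hTS⟩ := hex _ _ (hclosedmap V hV.1) (hclosedmap Vᶜ hV.2.isClosed_compl) hdisj hunion
  refine ⟨h ⁻¹' T, ⟨hT.preimage h.continuous, ?_⟩, ?_⟩
  · rw [htrace, h.image_preimage, hTS]
  · rintro U' ⟨hU', hU'V⟩
    have h1 := (htrace U').mp hU'V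
    have hcl : IsClopen (h '' U') := ⟨h.isClosedMap _ hU'.1, h.isOpenMap _ hU'.2⟩
    have := huniq (h '' U') T hcl hT (by rw [h1, hTS])
    rw [← this, h.preimage_image]

/-- **Clopen subsets lift uniquely along finite morphisms over a Henselian pair.** -/
theorem existsUnique_clopen_aux {A : Type u} [CommRing A] (I : Ideal A) [HenselianRing A I]
    {Y : Scheme.{u}} (g : Y ⟶ Spec (CommRingCat.of A)) [IsFinite g]
    (j : Spec (CommRingCat.of (A ⧸ I)) ⟶ Spec (CommRingCat.of A))
    (hj : j = Spec.map (CommRingCat.ofHom (Ideal.Quotient.mk I)))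
    (V : Set ↥(pullback g j)) (hV : IsClopen V) :
    ∃! U : Set ↥Y, IsClopen U ∧ (pullback.fst g j).base ⁻¹' U = V := by
  haveI : IsAffine Y := isAffine_of_isAffineHom g
  obtain ⟨φ, hφ⟩ : ∃ φ : CommRingCat.of A ⟶ Γ(Y, ⊤),
      φ = (Scheme.ΓSpecIso (CommRingCat.of A)).inv ≫ g.appTop := ⟨_, rfl⟩
  have hg : g = Y.isoSpec.hom ≫ Spec.map φ := by rw [hφ]; exact eq_isoSpec_comp g
  have hfinSpec : IsFinite (Spec.map φ) := by
    have h1 : IsFinite (Y.isoSpec.hom ≫ Spec.map φ) := by rw [← hg]; infer_instance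
    exact (MorphismProperty.cancel_left_of_respectsIso @IsFinite Y.isoSpec.hom (Spec.map φ)).mp h1
  have hfin : φ.hom.Finite := (IsFinite.SpecMap_iff φ).mp hfinSpec
  letI : Algebra A Γ(Y, ⊤) := φ.hom.toAlgebra
  haveI : Module.Finite A Γ(Y, ⊤) := hfin
  haveI : Algebra.IsIntegral A Γ(Y, ⊤) := Algebra.IsIntegral.of_finite A _
  haveI : IsClosedImmersion j := by
    rw [hj]; exact IsClosedImmersion.spec_of_surjective _ Ideal.Quotient.mk_surjective
  have hce : Topology.IsClosedEmbedding (pullback.fst g j).base :=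
    (pullback.fst g j).isClosedEmbedding
  have hrj : Set.range j.base = zeroLocus (I : Set A) := by
    rw [hj]
    have := range_comap_of_surjective _ (Ideal.Quotient.mk I) Ideal.Quotient.mk_surjective
    rw [Ideal.mk_ker] at this
    exact this
  have hrange : (Scheme.homeoOfIso Y.isoSpec) '' Set.range (pullback.fst g j).base =
      zeroLocus ((I.map (algebraMap A Γ(Y, ⊤)) : Ideal Γ(Y, ⊤)) : Set Γ(Y, ⊤)) := by
    have h1 : Set.range (pullback.fst g j).base = g.base ⁻¹' Set.range j.base :=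
      Scheme.Pullback.range_fst g j
    rw [h1, hrj]
    ext q
    constructor
    · rintro ⟨y, hy, rfl⟩
      have hy' : g.base y ∈ zeroLocus (I : Set A) := hy
      have hgy : g.base y = PrimeSpectrum.comap φ.hom (Y.isoSpec.hom.base y) := by
        conv_lhs => rw [hg]
        rfl
      rw [hgy] at hy'
      rw [Ideal.map, zeroLocus_span]
      rintro _ ⟨a, ha, rfl⟩
      exact hy' ha
    · intro hq
      refine ⟨Y.isoSpec.inv.base q, ?_, ?_⟩
      · show g.base (Y.isoSpec.inv.base q) ∈ zeroLocus (I : Set A)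
        have hgy : g.base (Y.isoSpec.inv.base q) = PrimeSpectrum.comap φ.hom q := by
          conv_lhs => rw [hg]
          show (Spec.map φ).base (Y.isoSpec.hom.base (Y.isoSpec.inv.base q)) = _
          have : Y.isoSpec.hom.base (Y.isoSpec.inv.base q) = q := by
            rw [← Scheme.Hom.comp_apply]; simp
          rw [this]; rfl
        rw [hgy]
        intro a ha
        exact hq (Ideal.mem_map_of_mem _ ha)
      · show Y.isoSpec.hom.base (Y.isoSpec.inv.base q) = q
        rw [← Scheme.Hom.comp_apply]; simp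
  exact existsUnique_clopen_top (I.map (algebraMap A Γ(Y, ⊤)))
    (fun S₁ S₂ h₁ h₂ hd hu => exists_clopen_inter_zeroLocus I S₁ S₂ h₁ h₂ hd hu)
    (fun T T' hT hT' h => clopen_eq_of_inter_zeroLocus_eq I T T' hT hT' h)
    (pullback.fst g j).base hce (Scheme.homeoOfIso Y.isoSpec) hrange V hV

/-- **Clopen subsets lift uniquely along finite morphisms over a Henselian pair.** -/
theorem existsUnique_clopen {A : Type u} [CommRing A] (I : Ideal A) [HenselianRing A I]
    {Y : Scheme.{u}} (g : Y ⟶ Spec (CommRingCat.of A)) [IsFinite g]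
    (V : Set ↥(pullback g (Spec.map (CommRingCat.ofHom (Ideal.Quotient.mk I))))) (hV : IsClopen V) :
    ∃! U : Set ↥Y, IsClopen U ∧
      (pullback.fst g (Spec.map (CommRingCat.ofHom (Ideal.Quotient.mk I)))).base ⁻¹' U = V :=
  existsUnique_clopen_aux I g _ rfl V hV

end Groth.Agent.H3.FEtH
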