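import Groth.Agent.H3.FEtH3
import Groth.Prelude.Def_FEt
import Mathlib.AlgebraicGeometry.Morphisms.Etale
import Mathlib.AlgebraicGeometry.Pullbacks

/-!
# Essential surjectivity of `FEt (Spec A) ⥤ FEt (Spec A/I)` for a Henselian pair (helper3)
-/

set_option autoImplicit false
set_option linter.style.haveILetI false
universe u

namespace Groth.Agent.H3.FEtH

open CategoryTheory CategoryTheory.Limits AlgebraicGeometry TensorProduct

/-- A finite étale scheme over `Spec (A/I)` is the base change of a finite étale `Spec B → Spec A`,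
for a Henselian pair `(A, I)`. -/
theorem exists_lift_obj {A : Type u} [CommRing A] (I : Ideal A) [HenselianRing A I]
    (Y : Scheme.{u}) (f : Y ⟶ Spec (CommRingCat.of (A ⧸ I))) [IsFinite f] [Etale f] :
    ∃ (B : CommRingCat.{u}) (ψ : CommRingCat.of A ⟶ B), IsFinite (Spec.map ψ) ∧ Etale (Spec.map ψ) ∧
      ∃ θ : pullback (Spec.map ψ) (Spec.map (CommRingCat.ofHom (Ideal.Quotient.mk I))) ≅ Y,
        θ.hom ≫ f = pullback.snd (Spec.map ψ) (Spec.map (CommRingCat.ofHom (Ideal.Quotient.mk I))) := by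
  haveI : IsAffine Y := isAffine_of_isAffineHom f
  obtain ⟨φ₀, hφ₀⟩ : ∃ φ₀ : CommRingCat.of (A ⧸ I) ⟶ Γ(Y, ⊤),
      φ₀ = (Scheme.ΓSpecIso (CommRingCat.of (A ⧸ I))).inv ≫ f.appTop := ⟨_, rfl⟩
  have hg : f = Y.isoSpec.hom ≫ Spec.map φ₀ := by rw [hφ₀]; exact eq_isoSpec_comp f
  have hfinSpec : IsFinite (Spec.map φ₀) := by
    have h1 : IsFinite (Y.isoSpec.hom ≫ Spec.map φ₀) := by rw [← hg]; infer_instance
    exact (MorphismProperty.cancel_left_of_respectsIso @IsFinite Y.isoSpec.hom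
      (Spec.map φ₀)).mp h1
  have hetSpec : Etale (Spec.map φ₀) := by
    have h1 : Etale (Y.isoSpec.hom ≫ Spec.map φ₀) := by rw [← hg]; infer_instance
    exact (MorphismProperty.cancel_left_of_respectsIso @Etale Y.isoSpec.hom
      (Spec.map φ₀)).mp h1
  have hfin : φ₀.hom.Finite := (IsFinite.SpecMap_iff φ₀).mp hfinSpec
  have het : φ₀.hom.Etale := (HasRingHomProperty.Spec_iff (P := @Etale)).mp hetSpec
  letI : Algebra (A ⧸ I) Γ(Y, ⊤) := φ₀.hom.toAlgebra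
  haveI : Module.Finite (A ⧸ I) Γ(Y, ⊤) := hfin
  haveI : Algebra.Etale (A ⧸ I) Γ(Y, ⊤) := het
  obtain ⟨B, instB, algB, hBfin, hBet, ⟨ε⟩⟩ := exists_finite_etale_lift I Γ(Y, ⊤)
  have hWfin : IsFinite (Spec.map (CommRingCat.ofHom (algebraMap A B))) := by
    rw [IsFinite.SpecMap_iff]
    exact RingHom.finite_algebraMap.mpr hBfin
  have hWet : Etale (Spec.map (CommRingCat.ofHom (algebraMap A B))) := by
    rw [HasRingHomProperty.Spec_iff (P := @Etale)]
    exact RingHom.etale_algebraMap.mpr hBet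
  refine ⟨CommRingCat.of B, CommRingCat.ofHom (algebraMap A B), hWfin, hWet, ?_⟩
  -- the ring isomorphism
  let ε' : B ⊗[A] (A ⧸ I) ≃+* Γ(Y, ⊤) :=
    ((Algebra.TensorProduct.comm A B (A ⧸ I)).toRingEquiv).trans ε.toRingEquiv
  have hε' : ∀ x : A ⧸ I, ε' ((1 : B) ⊗ₜ[A] x) = φ₀.hom x := by
    intro x
    show ε ((Algebra.TensorProduct.comm A B (A ⧸ I)) ((1 : B) ⊗ₜ[A] x)) = _
    rw [Algebra.TensorProduct.comm_tmul]
    have : x ⊗ₜ[A] (1 : B) = algebraMap (A ⧸ I) ((A ⧸ I) ⊗[A] B) x := by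
      rw [Algebra.TensorProduct.algebraMap_apply]; rfl
    rw [this, AlgEquiv.commutes]
    rfl
  let eC : Γ(Y, ⊤) ≅ CommRingCat.of (B ⊗[A] (A ⧸ I)) := ε'.symm.toCommRingCatIso
  have heC : φ₀ ≫ eC.hom = CommRingCat.ofHom
      (Algebra.TensorProduct.includeRight : (A ⧸ I) →ₐ[A] B ⊗[A] (A ⧸ I)).toRingHom := by
    refine CommRingCat.hom_ext (RingHom.ext fun x => ?_)
    show ε'.symm (φ₀.hom x) = (1 : B) ⊗ₜ[A] x
    rw [← hε', RingEquiv.symm_apply_apply]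
  let θ : pullback (Spec.map (CommRingCat.ofHom (algebraMap A B)))
      (Spec.map (CommRingCat.ofHom (Ideal.Quotient.mk I))) ≅ Y :=
    pullbackSpecIso A B (A ⧸ I) ≪≫ Scheme.Spec.mapIso eC.op ≪≫ Y.isoSpec.symm
  refine ⟨θ, ?_⟩
  simp only [θ, Iso.trans_hom, Iso.symm_hom, Functor.mapIso_hom, Iso.op_hom, Scheme.Spec_map,
    Quiver.Hom.unop_op, Category.assoc]
  rw [hg, Iso.inv_hom_id_assoc, ← Spec.map_comp, heC]
  exact pullbackSpecIso_hom_snd A B (A ⧸ I)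

theorem essSurj {A : Type u} [CommRing A] (I : Ideal A) [HenselianRing A I] :
    (FEt.restrict (Spec.map (CommRingCat.ofHom (Ideal.Quotient.mk I)))).EssSurj := by
  refine ⟨fun Y₀ => ?_⟩
  haveI : IsFinite Y₀.hom := Y₀.prop.1
  haveI : Etale Y₀.hom := Y₀.prop.2
  obtain ⟨B, ψ, hWfin, hWet, θ, hθ⟩ := exists_lift_obj I Y₀.left Y₀.hom
  exact ⟨MorphismProperty.Over.mk ⊤ (Spec.map ψ) ⟨hWfin, hWet⟩,
    ⟨MorphismProperty.Over.isoMk θ hθ⟩⟩

end Groth.Agent.H3.FEtH
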