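import Mathlib
import Groth.Agent.Lead.CompleteNoetherian
import Groth.Agent.H75.ArtinApprox

/-! (CPL) for helper15's S8826 squad: facts on the `J`-adic completion of a Noetherian ring with
`J` in the Jacobson radical (helper3). -/

set_option autoImplicit false
universe u

namespace Groth.Agent.H3.FPA_CPL

theorem faithfullyFlat {R : Type u} [CommRing R] [IsNoetherianRing R] (J : Ideal R)
    (hJ : J ≤ Ideal.jacobson ⊥) : Module.FaithfullyFlat R (AdicCompletion J R) := by
  have hflat : Module.Flat R (AdicCompletion J R) := AdicCompletion.flat_of_isNoetherian J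
  refine { toFlat := hflat, submodule_ne_top := ?_ }
  intro m hm htop
  have hJm : J ≤ m := by
    refine hJ.trans ?_
    rw [Ideal.jacobson_bot]
    exact Ring.jacobson_le_of_isMaximal m
  have h1 : (1 : AdicCompletion J R) ∈ (m • ⊤ : Submodule R (AdicCompletion J R)) := by
    rw [htop]; exact Submodule.mem_top
  rw [Ideal.smul_top_eq_map] at h1
  have h2 : (1 : AdicCompletion J R) ∈ m.map (algebraMap R (AdicCompletion J R)) := h1
  have h3 : (AdicCompletion.evalOneₐ J).toRingHom (1 : AdicCompletion J R) ∈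
      (m.map (algebraMap R (AdicCompletion J R))).map (AdicCompletion.evalOneₐ J).toRingHom :=
    Ideal.mem_map_of_mem _ h2
  rw [Ideal.map_map, AdicCompletion.evalOneₐ_comp_algebraMap_eq_mk, map_one] at h3
  have h4 : (1 : R) ∈ (m.map (Ideal.Quotient.mk J)).comap (Ideal.Quotient.mk J) := by
    rw [Ideal.mem_comap, map_one]
    exact h3
  rw [Ideal.comap_map_of_surjective' _ Ideal.Quotient.mk_surjective, Ideal.mk_ker,
    sup_eq_left.mpr hJm] at h4
  exact hm.ne_top ((Ideal.eq_top_iff_one m).mpr h4)

theorem completion_facts {R : Type u} [CommRing R] [IsNoetherianRing R] (J : Ideal R)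
    (hJ : J ≤ Ideal.jacobson ⊥) :
    IsNoetherianRing (AdicCompletion J R) ∧
    J.map (algebraMap R (AdicCompletion J R)) ≤ Ideal.jacobson ⊥ ∧
    (∀ (𝔟 : Ideal R) (x : R), algebraMap R (AdicCompletion J R) x ∈
      𝔟.map (algebraMap R (AdicCompletion J R)) → x ∈ 𝔟) ∧
    (∀ (N : ℕ) (s : AdicCompletion J R), ∃ x : R,
      s - algebraMap R (AdicCompletion J R) x ∈ (J ^ N).map (algebraMap R (AdicCompletion J R))) ∧
    (∀ (N : ℕ) (x : R), AdicCompletion.evalₐ J N (algebraMap R (AdicCompletion J R) x) = 0 →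
      x ∈ J ^ N) := by
  have hfg : J.FG := J.fg_of_isNoetherianRing
  refine ⟨Groth.Agent.Lead.isNoetherianRing_adicCompletion J hfg, ?_, ?_, ?_, ?_⟩
  · have hc : IsAdicComplete (J.map (algebraMap R (AdicCompletion J R))) (AdicCompletion J R) :=
      AdicCompletion.isAdicComplete_self J hfg
    exact IsAdicComplete.le_jacobson_bot _
  · intro 𝔟 x hx
    have := faithfullyFlat J hJ
    have h := Ideal.comap_map_eq_self_of_faithfullyFlat (B := AdicCompletion J R) 𝔟
    rw [← h]
    exact hx
  · intro N s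
    obtain ⟨x, hx⟩ := Ideal.Quotient.mk_surjective (AdicCompletion.evalₐ J N s)
    refine ⟨x, Groth.Agent.H75.ArtinApprox.mem_map_of_evalₐ_eq_zero J hfg N _ ?_⟩
    rw [map_sub, sub_eq_zero, AlgHom.commutes]
    exact hx.symm
  · intro N x hx
    rw [AlgHom.commutes] at hx
    exact Ideal.Quotient.eq_zero_iff_mem.mp hx

end Groth.Agent.H3.FPA_CPL
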