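import Mathlib

/-!
# Transporting a finite birational extension along an isomorphism mod `f^n` (helper3)

`A' ⊆ A` finite with `f^c A ⊆ A'`; `φ' : A'/f^n ≃ B'/g^n`.  The relation `Rel a d` says that
`d ∈ B'` lifts the image under `φ'` of `f^c a ∈ A'`.
-/

set_option autoImplicit false
universe u

namespace Groth.Agent.H3.FinExt

variable {A' A B' : Type u} [CommRing A'] [CommRing A] [Algebra A' A] [CommRing B']
  (f : A') (c n : ℕ) (g : B')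
  (φ' : (A' ⧸ Ideal.span {f ^ n}) ≃+* (B' ⧸ Ideal.span {g ^ n}))

/-- `d` lifts the image under `φ'` of `f^c a ∈ A'`. -/
def Rel (a : A) (d : B') : Prop :=
  ∃ a' : A', algebraMap A' A a' = algebraMap A' A f ^ c * a ∧
    φ' (Ideal.Quotient.mk _ a') = Ideal.Quotient.mk _ d

variable {f c n g φ'}

theorem Rel.exists (hc : ∀ a : A, ∃ a' : A', algebraMap A' A a' = algebraMap A' A f ^ c * a)
    (a : A) : ∃ d, Rel f c n g φ' a d := by
  obtain ⟨a', ha'⟩ := hc a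
  obtain ⟨d, hd⟩ := Ideal.Quotient.mk_surjective (φ' (Ideal.Quotient.mk _ a'))
  exact ⟨d, a', ha', hd.symm⟩

theorem Rel.sub_mem (hinj : Function.Injective (algebraMap A' A)) {a : A} {d₁ d₂ : B'}
    (h₁ : Rel f c n g φ' a d₁) (h₂ : Rel f c n g φ' a d₂) : d₁ - d₂ ∈ Ideal.span {g ^ n} := by
  obtain ⟨a₁, e₁, k₁⟩ := h₁
  obtain ⟨a₂, e₂, k₂⟩ := h₂
  have : a₁ = a₂ := hinj (e₁.trans e₂.symm)
  subst this
  rw [← Ideal.Quotient.eq, ← k₁, ← k₂]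

theorem Rel.add {a₁ a₂ : A} {d₁ d₂ : B'} (h₁ : Rel f c n g φ' a₁ d₁) (h₂ : Rel f c n g φ' a₂ d₂) :
    Rel f c n g φ' (a₁ + a₂) (d₁ + d₂) := by
  obtain ⟨x₁, e₁, k₁⟩ := h₁
  obtain ⟨x₂, e₂, k₂⟩ := h₂
  exact ⟨x₁ + x₂, by rw [map_add, e₁, e₂, mul_add], by rw [map_add, map_add, k₁, k₂, map_add]⟩

theorem Rel.zero : Rel f c n g φ' (0 : A) 0 :=
  ⟨0, by simp, by simp⟩

theorem Rel.add_mem {a : A} {d e : B'} (h : Rel f c n g φ' a d) (he : e ∈ Ideal.span {g ^ n}) :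
    Rel f c n g φ' a (d + e) := by
  obtain ⟨x, e₁, k⟩ := h
  refine ⟨x, e₁, ?_⟩
  rw [k, map_add, Ideal.Quotient.eq_zero_iff_mem.mpr he, add_zero]

theorem Rel.smul (hφ' : φ' (Ideal.Quotient.mk _ f) = Ideal.Quotient.mk _ g) {a : A} {d : B'}
    (h : Rel f c n g φ' a d) (r : A') (s : B')
    (hrs : φ' (Ideal.Quotient.mk _ r) = Ideal.Quotient.mk _ s) :
    Rel f c n g φ' (algebraMap A' A r * a) (s * d) := by
  obtain ⟨x, e₁, k⟩ := h
  refine ⟨r * x, by rw [map_mul, e₁]; ring, ?_⟩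
  rw [map_mul, map_mul, hrs, k, map_mul]

theorem Rel.of_base (hφ' : φ' (Ideal.Quotient.mk _ f) = Ideal.Quotient.mk _ g) (x : A') (y : B')
    (h : φ' (Ideal.Quotient.mk _ x) = Ideal.Quotient.mk _ y) :
    Rel f c n g φ' (algebraMap A' A x) (g ^ c * y) := by
  refine ⟨f ^ c * x, by rw [map_mul, map_pow], ?_⟩
  rw [map_mul, map_mul, map_pow, map_pow, hφ', h, map_mul, map_pow]

theorem Rel.one (hφ' : φ' (Ideal.Quotient.mk _ f) = Ideal.Quotient.mk _ g) :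
    Rel f c n g φ' (1 : A) (g ^ c) := by
  have := Rel.of_base (A := A) (c := c) hφ' (1 : A') (1 : B') (by simp)
  simpa using this

theorem Rel.mul (hinj : Function.Injective (algebraMap A' A))
    (hφ' : φ' (Ideal.Quotient.mk _ f) = Ideal.Quotient.mk _ g) {a₁ a₂ : A} {d₁ d₂ d₃ : B'}
    (h₁ : Rel f c n g φ' a₁ d₁) (h₂ : Rel f c n g φ' a₂ d₂) (h₃ : Rel f c n g φ' (a₁ * a₂) d₃) :
    d₁ * d₂ - g ^ c * d₃ ∈ Ideal.span {g ^ n} := by
  obtain ⟨x₁, e₁, k₁⟩ := h₁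
  obtain ⟨x₂, e₂, k₂⟩ := h₂
  obtain ⟨x₃, e₃, k₃⟩ := h₃
  have : x₁ * x₂ = f ^ c * x₃ := by
    apply hinj
    rw [map_mul, map_mul, map_pow, e₁, e₂, e₃]; ring
  rw [← Ideal.Quotient.eq]
  calc Ideal.Quotient.mk (Ideal.span {g ^ n}) (d₁ * d₂)
      = Ideal.Quotient.mk _ d₁ * Ideal.Quotient.mk _ d₂ := map_mul _ _ _
    _ = φ' (Ideal.Quotient.mk _ x₁) * φ' (Ideal.Quotient.mk _ x₂) := by rw [k₁, k₂]
    _ = φ' (Ideal.Quotient.mk _ (x₁ * x₂)) := by rw [map_mul, map_mul]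
    _ = φ' (Ideal.Quotient.mk _ (f ^ c * x₃)) := by rw [this]
    _ = φ' (Ideal.Quotient.mk _ f) ^ c * φ' (Ideal.Quotient.mk _ x₃) := by
      rw [map_mul, map_mul, map_pow, map_pow]
    _ = Ideal.Quotient.mk _ g ^ c * Ideal.Quotient.mk _ d₃ := by rw [hφ', k₃]
    _ = Ideal.Quotient.mk _ (g ^ c * d₃) := by rw [map_mul, map_pow]

end Groth.Agent.H3.FinExt
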