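import Groth.Agent.H3.FinExt1

/-!
# The transported finite extension `B ⊆ B'[1/g]` (helper3)
-/

set_option autoImplicit false
universe u

namespace Groth.Agent.H3.FinExt

variable {A' B' : Type u} (A : Type u) [CommRing A'] [CommRing A] [Algebra A' A] [CommRing B']
  (f : A') (c n : ℕ) (g : B')
  (φ' : (A' ⧸ Ideal.span {f ^ n}) ≃+* (B' ⧸ Ideal.span {g ^ n}))

/-- The standing hypotheses. -/
structure Hyp : Prop where
  hinj : Function.Injective (algebraMap A' A)
  hc : ∀ a : A, ∃ a' : A', algebraMap A' A a' = algebraMap A' A f ^ c * a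
  hf : algebraMap A' A f ∈ nonZeroDivisors A
  hg : g ∈ nonZeroDivisors B'
  hφ' : φ' (Ideal.Quotient.mk _ f) = Ideal.Quotient.mk _ g
  hn : 2 * c + 1 ≤ n

variable {A f c n g φ'}

theorem Hyp.exists_base (_H : Hyp A f c n g φ') (y : B') :
    ∃ x : A', φ' (Ideal.Quotient.mk _ x) = Ideal.Quotient.mk _ y := by
  obtain ⟨z, hz⟩ := φ'.surjective (Ideal.Quotient.mk _ y)
  obtain ⟨x, rfl⟩ := Ideal.Quotient.mk_surjective z
  exact ⟨x, hz⟩

theorem Hyp.isUnit (_H : Hyp A f c n g φ') :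
    IsUnit (algebraMap B' (Localization.Away g) g) :=
  IsLocalization.Away.algebraMap_isUnit g

theorem Hyp.j_injective (H : Hyp A f c n g φ') :
    Function.Injective (algebraMap B' (Localization.Away g)) :=
  IsLocalization.injective (Localization.Away g) (Submonoid.powers_le.mpr H.hg)

/-- The transported extension, as a subalgebra of `B'[1/g]`. -/
def Bsub (H : Hyp A f c n g φ') : Subalgebra B' (Localization.Away g) where
  carrier := {x | ∃ (a : A) (d : B'), Rel f c n g φ' a d ∧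
    algebraMap B' (Localization.Away g) d = algebraMap B' (Localization.Away g) g ^ c * x}
  mul_mem' := by
    rintro x₁ x₂ ⟨a₁, d₁, r₁, e₁⟩ ⟨a₂, d₂, r₂, e₂⟩
    obtain ⟨d₃, r₃⟩ := Rel.exists (n := n) (g := g) (φ' := φ') H.hc (a₁ * a₂)
    have hm := Rel.mul H.hinj H.hφ' r₁ r₂ r₃
    obtain ⟨e, he⟩ := Ideal.mem_span_singleton'.mp hm
    obtain ⟨x, hx⟩ := H.exists_base (g ^ (n - 2 * c) * e)
    have r₄ := Rel.of_base (A := A) (c := c) H.hφ' x _ hx
    refine ⟨a₁ * a₂ + algebraMap A' A x, d₃ + g ^ c * (g ^ (n - 2 * c) * e), r₃.add r₄, ?_⟩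
    apply (H.isUnit.pow c).mul_left_cancel
    have h2c : 2 * c ≤ n := by have := H.hn; omega
    have hpow : g ^ c * (g ^ c * (g ^ (n - 2 * c) * e)) = e * g ^ n := by
      have : g ^ n = g ^ c * g ^ c * g ^ (n - 2 * c) := by
        rw [← pow_add, ← pow_add]; congr 1; omega
      rw [this]; ring
    have h3 : g ^ c * (d₃ + g ^ c * (g ^ (n - 2 * c) * e)) = d₁ * d₂ := by
      rw [mul_add, hpow, he]; ring
    calc algebraMap B' (Localization.Away g) g ^ c *
          algebraMap B' (Localization.Away g) (d₃ + g ^ c * (g ^ (n - 2 * c) * e))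
        = algebraMap B' (Localization.Away g) (g ^ c * (d₃ + g ^ c * (g ^ (n - 2 * c) * e))) := by
          rw [map_mul, map_pow]
      _ = algebraMap B' (Localization.Away g) d₁ * algebraMap B' (Localization.Away g) d₂ := by
          rw [h3, map_mul]
      _ = _ := by rw [e₁, e₂]; ring
  add_mem' := by
    rintro x₁ x₂ ⟨a₁, d₁, r₁, e₁⟩ ⟨a₂, d₂, r₂, e₂⟩
    exact ⟨a₁ + a₂, d₁ + d₂, r₁.add r₂, by rw [map_add, e₁, e₂, mul_add]⟩
  algebraMap_mem' := by
    intro b
    obtain ⟨x, hx⟩ := H.exists_base b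
    exact ⟨algebraMap A' A x, g ^ c * b, Rel.of_base H.hφ' x b hx, by rw [map_mul, map_pow]⟩

theorem mem_Bsub (H : Hyp A f c n g φ') (x : Localization.Away g) :
    x ∈ Bsub H ↔ ∃ (a : A) (d : B'), Rel f c n g φ' a d ∧
      algebraMap B' (Localization.Away g) d = algebraMap B' (Localization.Away g) g ^ c * x :=
  Iff.rfl

end Groth.Agent.H3.FinExt
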