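import Groth.Agent.H3.FinExt2

/-!
# The comparison map `A → B/gB` (helper3)
-/

set_option autoImplicit false
universe u

namespace Groth.Agent.H3.FinExt

variable {A' B' A : Type u} [CommRing A'] [CommRing A] [Algebra A' A] [CommRing B']
  {f : A'} {c n : ℕ} {g : B'}
  {φ' : (A' ⧸ Ideal.span {f ^ n}) ≃+* (B' ⧸ Ideal.span {g ^ n})}

/-- `x ∈ B` corresponds to `a ∈ A`. -/
def RelB (H : Hyp A f c n g φ') (a : A) (x : Bsub H) : Prop :=
  ∃ d : B', Rel f c n g φ' a d ∧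
    algebraMap B' (Localization.Away g) d =
      algebraMap B' (Localization.Away g) g ^ c * (x : Localization.Away g)

theorem RelB.exists (H : Hyp A f c n g φ') (a : A) : ∃ x : Bsub H, RelB H a x := by
  obtain ⟨d, r⟩ := Rel.exists (n := n) (g := g) (φ' := φ') H.hc a
  have hx : algebraMap B' (Localization.Away g) d = algebraMap B' (Localization.Away g) g ^ c *
      IsLocalization.mk' (Localization.Away g) d (⟨g ^ c, ⟨c, rfl⟩⟩ : Submonoid.powers g) := by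
    rw [← map_pow]
    exact (IsLocalization.mk'_spec' (Localization.Away g) d
      (⟨g ^ c, ⟨c, rfl⟩⟩ : Submonoid.powers g)).symm
  exact ⟨⟨_, a, d, r, hx⟩, d, r, hx⟩

theorem exists_of_mem (H : Hyp A f c n g φ') (x : Bsub H) : ∃ a : A, RelB H a x := by
  obtain ⟨a, d, r, e⟩ := x.2
  exact ⟨a, d, r, e⟩

/-- the key cancellation: from `j d₁ - j d₂ = j(e g^n)` deduce the difference in `B`. -/
theorem sub_mem_of (H : Hyp A f c n g φ') (m : ℕ) (hm : m + 1 ≤ n) (x y : Bsub H) (e : B')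
    (h : algebraMap B' (Localization.Away g) g ^ m * ((x : Localization.Away g) - y) =
      algebraMap B' (Localization.Away g) (e * g ^ n)) :
    x - y ∈ Ideal.span {algebraMap B' (Bsub H) g} := by
  refine Ideal.mem_span_singleton'.mpr ⟨algebraMap B' (Bsub H) (e * g ^ (n - m - 1)), ?_⟩
  apply Subtype.ext
  apply (H.isUnit.pow m).mul_left_cancel
  have hpow : g ^ n = g ^ m * (g ^ (n - m - 1) * g) := by
    rw [← pow_succ, ← pow_add]; congr 1; omega
  show algebraMap B' (Localization.Away g) g ^ m *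
    (algebraMap B' (Localization.Away g) (e * g ^ (n - m - 1)) *
      algebraMap B' (Localization.Away g) g) =
    algebraMap B' (Localization.Away g) g ^ m * ((x : Localization.Away g) - y)
  rw [h, hpow]
  simp only [map_mul, map_pow]
  ring

theorem RelB.sub_mem (H : Hyp A f c n g φ') {a : A} {x y : Bsub H} (hx : RelB H a x)
    (hy : RelB H a y) : x - y ∈ Ideal.span {algebraMap B' (Bsub H) g} := by
  obtain ⟨d₁, r₁, e₁⟩ := hx
  obtain ⟨d₂, r₂, e₂⟩ := hy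
  obtain ⟨e, he⟩ := Ideal.mem_span_singleton'.mp (Rel.sub_mem H.hinj r₁ r₂)
  refine sub_mem_of H c (by have := H.hn; omega) x y e ?_
  rw [he, map_sub, e₁, e₂, mul_sub]

theorem RelB.add (H : Hyp A f c n g φ') {a₁ a₂ : A} {x₁ x₂ : Bsub H} (h₁ : RelB H a₁ x₁)
    (h₂ : RelB H a₂ x₂) : RelB H (a₁ + a₂) (x₁ + x₂) := by
  obtain ⟨d₁, r₁, e₁⟩ := h₁
  obtain ⟨d₂, r₂, e₂⟩ := h₂
  refine ⟨d₁ + d₂, r₁.add r₂, ?_⟩
  rw [map_add, e₁, e₂, ← mul_add]; rfl

theorem RelB.zero (H : Hyp A f c n g φ') : RelB H (0 : A) 0 :=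
  ⟨0, Rel.zero, by simp⟩

theorem RelB.one (H : Hyp A f c n g φ') : RelB H (1 : A) 1 :=
  ⟨g ^ c, Rel.one H.hφ', by simp⟩

theorem RelB.of_base (H : Hyp A f c n g φ') (x : A') (y : B')
    (h : φ' (Ideal.Quotient.mk _ x) = Ideal.Quotient.mk _ y) :
    RelB H (algebraMap A' A x) (algebraMap B' (Bsub H) y) :=
  ⟨g ^ c * y, Rel.of_base H.hφ' x y h, by rw [map_mul, map_pow]; rfl⟩

theorem RelB.mul_sub_mem (H : Hyp A f c n g φ') {a₁ a₂ : A} {x₁ x₂ x₃ : Bsub H}
    (h₁ : RelB H a₁ x₁) (h₂ : RelB H a₂ x₂) (h₃ : RelB H (a₁ * a₂) x₃) :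
    x₁ * x₂ - x₃ ∈ Ideal.span {algebraMap B' (Bsub H) g} := by
  obtain ⟨d₁, r₁, e₁⟩ := h₁
  obtain ⟨d₂, r₂, e₂⟩ := h₂
  obtain ⟨d₃, r₃, e₃⟩ := h₃
  obtain ⟨e, he⟩ := Ideal.mem_span_singleton'.mp (Rel.mul H.hinj H.hφ' r₁ r₂ r₃)
  refine sub_mem_of H (2 * c) (by have := H.hn; omega) (x₁ * x₂) x₃ e ?_
  rw [he, map_sub, map_mul, map_mul, map_pow, e₁, e₂, e₃]
  show _ = _
  have : algebraMap B' (Localization.Away g) g ^ (2 * c) =
      algebraMap B' (Localization.Away g) g ^ c * algebraMap B' (Localization.Away g) g ^ c := by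
    rw [← pow_add, two_mul]
  rw [this]
  push_cast
  ring

end Groth.Agent.H3.FinExt
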