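import Groth.Agent.H3.FinExt3

/-!
# The comparison isomorphism `A/fA ≃ B/gB` (helper3)
-/

set_option autoImplicit false
universe u

namespace Groth.Agent.H3.FinExt

variable {A' B' A : Type u} [CommRing A'] [CommRing A] [Algebra A' A] [CommRing B']
  {f : A'} {c n : ℕ} {g : B'}
  {φ' : (A' ⧸ Ideal.span {f ^ n}) ≃+* (B' ⧸ Ideal.span {g ^ n})}

noncomputable def psiFun (H : Hyp A f c n g φ') (a : A) :
    Bsub H ⧸ Ideal.span {algebraMap B' (Bsub H) g} :=
  Ideal.Quotient.mk _ (Classical.choose (RelB.exists H a))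

theorem psiFun_eq (H : Hyp A f c n g φ') {a : A} {x : Bsub H} (h : RelB H a x) :
    psiFun H a = Ideal.Quotient.mk _ x :=
  Ideal.Quotient.eq.mpr (RelB.sub_mem H (Classical.choose_spec (RelB.exists H a)) h)

noncomputable def psi (H : Hyp A f c n g φ') :
    A →+* Bsub H ⧸ Ideal.span {algebraMap B' (Bsub H) g} where
  toFun := psiFun H
  map_one' := psiFun_eq H (RelB.one H)
  map_mul' a b := by
    obtain ⟨x, hx⟩ := RelB.exists H a
    obtain ⟨y, hy⟩ := RelB.exists H b
    obtain ⟨z, hz⟩ := RelB.exists H (a * b)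
    rw [psiFun_eq H hx, psiFun_eq H hy, psiFun_eq H hz, ← map_mul, Ideal.Quotient.eq]
    have := RelB.mul_sub_mem H hx hy hz
    rw [← neg_sub]
    exact Ideal.neg_mem_iff _ |>.mpr this
  map_zero' := psiFun_eq H (RelB.zero H)
  map_add' a b := by
    obtain ⟨x, hx⟩ := RelB.exists H a
    obtain ⟨y, hy⟩ := RelB.exists H b
    rw [psiFun_eq H hx, psiFun_eq H hy, psiFun_eq H (hx.add H hy), map_add]

theorem psi_eq (H : Hyp A f c n g φ') {a : A} {x : Bsub H} (h : RelB H a x) :
    psi H a = Ideal.Quotient.mk _ x := psiFun_eq H h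

theorem psi_surjective (H : Hyp A f c n g φ') : Function.Surjective (psi H) := by
  intro y
  obtain ⟨x, rfl⟩ := Ideal.Quotient.mk_surjective y
  obtain ⟨a, ha⟩ := exists_of_mem H x
  exact ⟨a, psi_eq H ha⟩

theorem ker_psi (H : Hyp A f c n g φ') :
    RingHom.ker (psi H) = Ideal.span {algebraMap A' A f} := by
  apply le_antisymm
  · intro a ha
    obtain ⟨x, hx⟩ := RelB.exists H a
    have h0 : Ideal.Quotient.mk (Ideal.span {algebraMap B' (Bsub H) g}) x = 0 := by
      rw [← psi_eq H hx]; exact ha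
    obtain ⟨y, hy⟩ := Ideal.mem_span_singleton'.mp (Ideal.Quotient.eq_zero_iff_mem.mp h0)
    obtain ⟨a₁, d₁, r₁, e₁⟩ := exists_of_mem H y
    obtain ⟨d, r, e⟩ := hx
    have hd : d = g * d₁ := by
      apply H.j_injective
      rw [e, ← hy, map_mul, e₁]
      show _ * ((y : Localization.Away g) * algebraMap B' (Localization.Away g) g) = _
      ring
    obtain ⟨a', ea', ka'⟩ := r
    obtain ⟨a₁', ea₁', ka₁'⟩ := r₁
    have h1 : Ideal.Quotient.mk (Ideal.span {f ^ n}) a' =
        Ideal.Quotient.mk (Ideal.span {f ^ n}) (f * a₁') := by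
      apply φ'.injective
      rw [ka', hd, map_mul, map_mul, map_mul, H.hφ', ka₁']
    obtain ⟨e', he'⟩ := Ideal.mem_span_singleton'.mp (Ideal.Quotient.eq.mp h1)
    have h2 := congrArg (algebraMap A' A) he'
    rw [map_mul, map_pow, map_sub, map_mul, ea', ea₁'] at h2
    have hcn : n = c + ((n - c - 1) + 1) := by have := H.hn; omega
    have h3 : algebraMap A' A f ^ c * (a - algebraMap A' A f *
        (a₁ + algebraMap A' A e' * algebraMap A' A f ^ (n - c - 1))) = 0 := by
      have : algebraMap A' A f ^ n = algebraMap A' A f ^ c *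
          (algebraMap A' A f ^ (n - c - 1) * algebraMap A' A f) := by
        rw [← pow_succ, ← pow_add, ← hcn]
      rw [this] at h2
      linear_combination -h2
    have h4 := (mul_left_mem_nonZeroDivisors_eq_zero_iff (pow_mem H.hf c)).mp h3
    rw [sub_eq_zero] at h4
    rw [h4]
    exact Ideal.mul_mem_right _ _ (Ideal.subset_span rfl)
  · rw [Ideal.span_le, Set.singleton_subset_iff]
    show psi H (algebraMap A' A f) = 0
    rw [psi_eq H (RelB.of_base H f g H.hφ')]
    exact Ideal.Quotient.eq_zero_iff_mem.mpr (Ideal.subset_span rfl)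

end Groth.Agent.H3.FinExt
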