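import Groth.Agent.H3.FinExt4

/-!
# Finiteness of the transported extension and the final statement (helper3)
-/

set_option autoImplicit false
universe u

namespace Groth.Agent.H3.FinExt

variable {A' B' A : Type u} [CommRing A'] [CommRing A] [Algebra A' A] [CommRing B']
  {f : A'} {c n : ℕ} {g : B'}
  {φ' : (A' ⧸ Ideal.span {f ^ n}) ≃+* (B' ⧸ Ideal.span {g ^ n})}

/-- If `j d = g^c x`, `j d₀ = g^c x₀` and `d - d₀ ∈ (g^n)`, then `x - x₀ ∈ j(B')`. -/
theorem sub_mem_range (H : Hyp A f c n g φ') {d d₀ : B'} {x x₀ : Localization.Away g}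
    (hd : d - d₀ ∈ Ideal.span {g ^ n})
    (e : algebraMap B' (Localization.Away g) d = algebraMap B' (Localization.Away g) g ^ c * x)
    (e₀ : algebraMap B' (Localization.Away g) d₀ =
      algebraMap B' (Localization.Away g) g ^ c * x₀) :
    ∃ b : B', x = x₀ + algebraMap B' (Localization.Away g) b := by
  obtain ⟨t, ht⟩ := Ideal.mem_span_singleton'.mp hd
  refine ⟨t * g ^ (n - c), ?_⟩
  apply (H.isUnit.pow c).mul_left_cancel
  have hpow : g ^ n = g ^ c * g ^ (n - c) := by
    rw [← pow_add]; congr 1; have := H.hn; omega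
  rw [mul_add, ← e, ← e₀]
  have : d = d₀ + t * g ^ n := by rw [ht]; ring
  rw [this, hpow]
  simp only [map_add, map_mul, map_pow]
  ring

theorem finite_Bsub [Module.Finite A' A] (H : Hyp A f c n g φ') :
    Module.Finite B' (Bsub H) := by
  classical
  obtain ⟨s, hs⟩ := (Module.Finite.fg_top : (⊤ : Submodule A' A).FG)
  choose X hX using fun a : A => RelB.exists H a
  obtain ⟨N, hN⟩ : ∃ N : Submodule B' (Localization.Away g),
      N = Submodule.span B' (insert 1 ((fun a => (X a : Localization.Away g)) '' (s : Set A))) :=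
    ⟨_, rfl⟩
  have h1N : ∀ b : B', algebraMap B' (Localization.Away g) b ∈ N := by
    intro b
    have h1 : (1 : Localization.Away g) ∈ N := by
      rw [hN]; exact Submodule.subset_span (Set.mem_insert _ _)
    have := N.smul_mem b h1
    rwa [Algebra.smul_def, mul_one] at this
  have key : ∀ a : A, ∀ (d : B') (x : Localization.Away g), Rel f c n g φ' a d →
      algebraMap B' (Localization.Away g) d = algebraMap B' (Localization.Away g) g ^ c * x →
      x ∈ N := by
    intro a
    have ha : a ∈ Submodule.span A' (s : Set A) := by rw [hs]; trivial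
    induction ha using Submodule.span_induction with
    | mem a has =>
      intro d x r e
      obtain ⟨d₀, r₀, e₀⟩ := hX a
      obtain ⟨b, hb⟩ := sub_mem_range H (Rel.sub_mem H.hinj r r₀) e e₀
      rw [hb]
      refine N.add_mem ?_ (h1N b)
      rw [hN]
      exact Submodule.subset_span (Set.mem_insert_of_mem _ ⟨a, has, rfl⟩)
    | zero =>
      intro d x r e
      obtain ⟨b, hb⟩ := sub_mem_range (x₀ := 0) H (Rel.sub_mem H.hinj r Rel.zero) e (by simp)
      rw [hb, zero_add]
      exact h1N b
    | add a₁ a₂ _ _ ih₁ ih₂ =>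
      intro d x r e
      obtain ⟨d₁, r₁, e₁⟩ := hX a₁
      obtain ⟨d₂, r₂, e₂⟩ := hX a₂
      have e₁₂ : algebraMap B' (Localization.Away g) (d₁ + d₂) =
          algebraMap B' (Localization.Away g) g ^ c *
            ((X a₁ : Localization.Away g) + (X a₂ : Localization.Away g)) := by
        rw [map_add, e₁, e₂, mul_add]
      obtain ⟨b, hb⟩ := sub_mem_range H (Rel.sub_mem H.hinj r (r₁.add r₂)) e e₁₂
      rw [hb]
      exact N.add_mem (N.add_mem (ih₁ d₁ _ r₁ e₁) (ih₂ d₂ _ r₂ e₂)) (h1N b)
    | smul t a₁ _ ih =>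
      intro d x r e
      obtain ⟨d₁, r₁, e₁⟩ := hX a₁
      obtain ⟨y, hy⟩ : ∃ y : B', φ' (Ideal.Quotient.mk _ t) = Ideal.Quotient.mk _ y := by
        obtain ⟨y, hy⟩ := Ideal.Quotient.mk_surjective (φ' (Ideal.Quotient.mk _ t))
        exact ⟨y, hy.symm⟩
      have r₂ := Rel.smul H.hφ' r₁ t y hy
      rw [← Algebra.smul_def] at r₂
      have e₂ : algebraMap B' (Localization.Away g) (y * d₁) =
          algebraMap B' (Localization.Away g) g ^ c * (y • (X a₁ : Localization.Away g)) := by
        rw [map_mul, e₁, Algebra.smul_def]; ring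
      obtain ⟨b, hb⟩ := sub_mem_range H (Rel.sub_mem H.hinj r r₂) e e₂
      rw [hb]
      exact N.add_mem (N.smul_mem y (ih d₁ _ r₁ e₁)) (h1N b)
  have hle : Subalgebra.toSubmodule (Bsub H) ≤ N := by
    rintro x ⟨a, d, r, e⟩
    exact key a d x r e
  have hNfg : N.FG := by
    rw [hN]
    exact Submodule.fg_span ((s.finite_toSet.image _).insert _)
  have hge : N ≤ Subalgebra.toSubmodule (Bsub H) := by
    rw [hN, Submodule.span_le]
    rintro x (rfl | ⟨a, _, rfl⟩)
    · exact (Bsub H).one_mem
    · exact (X a).2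
  have : Subalgebra.toSubmodule (Bsub H) = N := le_antisymm hle hge
  have hfg : (Subalgebra.toSubmodule (Bsub H)).FG := this ▸ hNfg
  exact Module.Finite.of_fg hfg

end Groth.Agent.H3.FinExt
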