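import Groth.Agent.H3.FinExt5

/-!
# Step 0 and the final assembly (helper3)
-/

set_option autoImplicit false
universe u

namespace Groth.Agent.H3.FinExt

section step0

variable {A' A : Type u} [CommRing A'] [CommRing A] [Algebra A' A]

theorem exists_pow_mul_single (f : A')
    (hf : algebraMap A' A f ∈ nonZeroDivisors A)
    (hloc : Function.Surjective (IsLocalization.Away.map (Localization.Away f)
      (Localization.Away (algebraMap A' A f)) (algebraMap A' A) f)) (a : A) :
    ∃ (k : ℕ) (a' : A'), algebraMap A' A a' = algebraMap A' A f ^ k * a := by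
  obtain ⟨y, hy⟩ := hloc (algebraMap A (Localization.Away (algebraMap A' A f)) a)
  obtain ⟨⟨x, s⟩, hxs⟩ := IsLocalization.surj (Submonoid.powers f) y
  obtain ⟨k, hk⟩ := s.2
  simp only at hxs
  have h1 := congrArg (IsLocalization.Away.map (Localization.Away f)
      (Localization.Away (algebraMap A' A f)) (algebraMap A' A) f) hxs
  rw [map_mul, hy] at h1
  simp only [IsLocalization.Away.map, IsLocalization.map_eq] at h1
  rw [← map_mul] at h1
  obtain ⟨⟨_, m, rfl⟩, hm⟩ := (IsLocalization.eq_iff_exists
    (Submonoid.powers (algebraMap A' A f)) _).mp h1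
  simp only at hm
  have hm' := (mul_cancel_left_mem_nonZeroDivisors (pow_mem hf m)).mp hm
  refine ⟨k, x, ?_⟩
  rw [← hm', ← hk, map_pow, mul_comm]

theorem exists_pow_mul_finset (f : A')
    (hf : algebraMap A' A f ∈ nonZeroDivisors A)
    (hloc : Function.Surjective (IsLocalization.Away.map (Localization.Away f)
      (Localization.Away (algebraMap A' A f)) (algebraMap A' A) f)) (s : Finset A) :
    ∃ c : ℕ, ∀ a ∈ s, ∃ a' : A', algebraMap A' A a' = algebraMap A' A f ^ c * a := by
  classical
  induction s using Finset.induction_on with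
  | empty => exact ⟨0, by simp⟩
  | insert b s _ ih =>
    obtain ⟨c, hc⟩ := ih
    obtain ⟨k, b', hb'⟩ := exists_pow_mul_single f hf hloc b
    refine ⟨c + k, ?_⟩
    intro a ha
    rcases Finset.mem_insert.mp ha with rfl | ha
    · exact ⟨f ^ c * b', by rw [map_mul, hb', map_pow, pow_add]; ring⟩
    · obtain ⟨a', ha'⟩ := hc a ha
      exact ⟨f ^ k * a', by rw [map_mul, ha', map_pow, pow_add]; ring⟩

theorem exists_pow_mul [Module.Finite A' A] (f : A')
    (hf : algebraMap A' A f ∈ nonZeroDivisors A)
    (hloc : Function.Surjective (IsLocalization.Away.map (Localization.Away f)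
      (Localization.Away (algebraMap A' A f)) (algebraMap A' A) f)) :
    ∃ c : ℕ, ∀ a : A, ∃ a' : A', algebraMap A' A a' = algebraMap A' A f ^ c * a := by
  obtain ⟨s, hs⟩ := (Module.Finite.fg_top : (⊤ : Submodule A' A).FG)
  obtain ⟨c, hc⟩ := exists_pow_mul_finset f hf hloc s
  refine ⟨c, fun a => ?_⟩
  have ha : a ∈ Submodule.span A' (s : Set A) := by rw [hs]; trivial
  induction ha using Submodule.span_induction with
  | mem x hx => exact hc x hx
  | zero => exact ⟨0, by simp⟩
  | add x y _ _ hx hy =>
    obtain ⟨x', hx'⟩ := hx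
    obtain ⟨y', hy'⟩ := hy
    exact ⟨x' + y', by rw [map_add, hx', hy', mul_add]⟩
  | smul r x _ hx =>
    obtain ⟨x', hx'⟩ := hx
    exact ⟨r * x', by rw [map_mul, hx', Algebra.smul_def]; ring⟩

end step0

end Groth.Agent.H3.FinExt
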