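import Mathlib

set_option autoImplicit false
set_option linter.unusedSimpArgs false
set_option linter.unusedVariables false
set_option linter.style.haveILetI false
universe u

namespace Groth.Agent.H3

open Polynomial TensorProduct

/-- An open neighbourhood of `V(𝔞)` contains a principal open `D(g)` with `g ≡ 1 mod 𝔞`. -/
theorem exists_basicOpen_subset_of_zeroLocus_subset {R : Type*} [CommRing R] (𝔞 : Ideal R)
    (U : Set (PrimeSpectrum R)) (hU : IsOpen U) (h : PrimeSpectrum.zeroLocus (𝔞 : Set R) ⊆ U) :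
    ∃ g : R, g - 1 ∈ 𝔞 ∧ (PrimeSpectrum.basicOpen g : Set (PrimeSpectrum R)) ⊆ U := by
  obtain ⟨𝔠, h𝔠⟩ := (PrimeSpectrum.isClosed_iff_zeroLocus_ideal _).mp hU.isClosed_compl
  have hempty : PrimeSpectrum.zeroLocus ((𝔠 ⊔ 𝔞 : Ideal R) : Set R) = ∅ := by
    rw [PrimeSpectrum.zeroLocus_sup, ← h𝔠]
    ext x
    simp only [Set.mem_inter_iff, Set.mem_compl_iff, Set.mem_empty_iff_false, iff_false, not_and,
      not_not]
    intro hx hx'
    exact (hx (h hx')).elim
  have htop : 𝔠 ⊔ 𝔞 = ⊤ := PrimeSpectrum.zeroLocus_empty_iff_eq_top.mp hempty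
  obtain ⟨c, hc, a, ha, hca⟩ := Submodule.mem_sup.mp (htop ▸ Submodule.mem_top : (1 : R) ∈ 𝔠 ⊔ 𝔞)
  refine ⟨c, ?_, ?_⟩
  · have : c - 1 = -a := by rw [← hca]; ring
    rw [this]; exact Ideal.neg_mem_iff _ |>.mpr ha
  · intro x hx
    by_contra hxU
    have hx𝔠 : x ∈ PrimeSpectrum.zeroLocus (𝔠 : Set R) := by
      rw [← h𝔠]; exact hxU
    exact hx (hx𝔠 hc)

/-- Localizing away from `g ≡ 1 mod 𝔞` does not change the quotient by `𝔞`. -/
theorem quotientMap_away_bijective {R : Type*} [CommRing R] (𝔞 : Ideal R) (g : R) (hg : g - 1 ∈ 𝔞)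
    (R' : Type*) [CommRing R'] [Algebra R R'] [IsLocalization.Away g R'] :
    Function.Bijective (Ideal.quotientMap (𝔞.map (algebraMap R R')) (algebraMap R R')
      Ideal.le_comap_map) := by
  have hgn : ∀ n : ℕ, g ^ n - 1 ∈ 𝔞 := by
    intro n
    induction n with
    | zero => simp
    | succ n ih =>
      have : g ^ (n + 1) - 1 = g ^ n * (g - 1) + (g ^ n - 1) := by ring
      rw [this]; exact Ideal.add_mem _ (Ideal.mul_mem_left _ _ hg) ih
  constructor
  · rw [injective_iff_map_eq_zero]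
    intro z hz
    obtain ⟨x, rfl⟩ := Ideal.Quotient.mk_surjective z
    rw [Ideal.quotientMap_mk, Ideal.Quotient.eq_zero_iff_mem] at hz
    rw [Ideal.Quotient.eq_zero_iff_mem]
    rw [IsLocalization.algebraMap_mem_map_algebraMap_iff (Submonoid.powers g)] at hz
    obtain ⟨m, ⟨n, rfl⟩, hm⟩ := hz
    have : x = g ^ n * x - (g ^ n - 1) * x := by ring
    rw [this]
    exact Ideal.sub_mem _ hm (Ideal.mul_mem_right _ _ (hgn n))
  · intro z
    obtain ⟨y, rfl⟩ := Ideal.Quotient.mk_surjective z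
    obtain ⟨x, ⟨_, n, rfl⟩, rfl⟩ := IsLocalization.exists_mk'_eq (Submonoid.powers g) y
    refine ⟨Ideal.Quotient.mk _ x, ?_⟩
    rw [Ideal.quotientMap_mk, Ideal.Quotient.eq]
    have hmem : algebraMap R R' (g ^ n - 1) ∈ 𝔞.map (algebraMap R R') :=
      Ideal.mem_map_of_mem _ (hgn n)
    have hspec := IsLocalization.mk'_spec R' x (⟨g ^ n, n, rfl⟩ : Submonoid.powers g)
    have : algebraMap R R' x - IsLocalization.mk' R' x (⟨g ^ n, n, rfl⟩ : Submonoid.powers g) =
        IsLocalization.mk' R' x (⟨g ^ n, n, rfl⟩ : Submonoid.powers g) *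
          algebraMap R R' (g ^ n - 1) := by
      rw [map_sub, map_one, mul_sub, mul_one]
      rw [hspec]
    rw [this]
    exact Ideal.mul_mem_left _ _ hmem

/-- A finite type algebra which is quasi-finite at all primes is quasi-finite. -/
theorem quasiFinite_of_forall_quasiFiniteAt {R S : Type*} [CommRing R] [CommRing S] [Algebra R S]
    [Algebra.FiniteType R S]
    (h : ∀ (p : Ideal S) [p.IsPrime], Algebra.QuasiFiniteAt R p) : Algebra.QuasiFinite R S := by
  rw [Algebra.QuasiFinite.iff_finite_comap_preimage_singleton]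
  intro x
  haveI hcomp : CompactSpace ((PrimeSpectrum.comap (algebraMap R S)) ⁻¹' {x}) :=
    (PrimeSpectrum.preimageHomeomorphFiber R S x).symm.compactSpace
  haveI hdisc : DiscreteTopology ((PrimeSpectrum.comap (algebraMap R S)) ⁻¹' {x}) := by
    rw [discreteTopology_iff_isOpen_singleton]
    rintro ⟨q, hq⟩
    have hq' : q.comap (algebraMap R S) = x := hq
    subst hq'
    exact (Algebra.quasiFiniteAt_iff_isOpen_singleton_fiber q).mp (h q.asIdeal)
  exact Set.finite_coe_iff.mp finite_of_compact_of_discrete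

/-- Quasi-finiteness on a principal open containing a quasi-finite point. -/
theorem exists_notMem_forall_quasiFiniteAt {R S : Type*} [CommRing R] [CommRing S] [Algebra R S]
    [Algebra.FiniteType R S] (p : Ideal S) [p.IsPrime] [Algebra.QuasiFiniteAt R p] :
    ∃ r : S, r ∉ p ∧ ∀ (q : Ideal S) [q.IsPrime], r ∉ q → Algebra.QuasiFiniteAt R q := by
  obtain ⟨S', hS', r, hrp, H⟩ :=
    Algebra.QuasiFiniteAt.exists_fg_and_exists_notMem_and_awayMap_bijective (R := R) p
  have : Module.Finite R S' := ⟨(Submodule.fg_top _).mpr hS'⟩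
  have : Algebra.QuasiFinite R (Localization.Away r) := .trans _ S' _
  have : Algebra.QuasiFinite R (Localization.Away r.1) :=
    .of_surjective_algHom (Localization.awayMapₐ S'.val r) H.2
  refine ⟨r.1, hrp, ?_⟩
  intro q _ hrq
  let f : Localization.Away r.1 →ₐ[S] Localization.AtPrime q :=
    IsLocalization.Away.liftAlgHom r.1 (f := Algebra.ofId _ _) <|
      IsLocalization.map_units (M := q.primeCompl) (Localization.AtPrime q) ⟨r, hrq⟩
  refine .of_forall_exists_mul_mem_range (f.restrictScalars R) fun x ↦ ?_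
  obtain ⟨x, ⟨s, hs⟩, rfl⟩ := IsLocalization.exists_mk'_eq q.primeCompl x
  exact ⟨algebraMap _ _ s, by simpa using IsLocalization.map_units _ ⟨s, hs⟩,
    algebraMap _ _ x, by simp⟩

/-- The quasi-finite locus of a finite type algebra is open. -/
theorem isOpen_quasiFiniteLocus {R S : Type*} [CommRing R] [CommRing S] [Algebra R S]
    [Algebra.FiniteType R S] :
    IsOpen {p : PrimeSpectrum S | Algebra.QuasiFiniteAt R p.asIdeal} := by
  rw [isOpen_iff_forall_mem_open]
  intro x hx
  haveI : Algebra.QuasiFiniteAt R x.asIdeal := hx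
  obtain ⟨r, hrx, hr⟩ := exists_notMem_forall_quasiFiniteAt (R := R) x.asIdeal
  refine ⟨PrimeSpectrum.basicOpen r, ?_, (PrimeSpectrum.basicOpen r).isOpen, hrx⟩
  intro q hq
  exact hr q.asIdeal hq

/-- If `A → R` is quasi-finite at all primes of `V(𝔞)`, there is `g ≡ 1 mod 𝔞` with `R[1/g]`
quasi-finite over `A`. -/
theorem exists_away_quasiFinite {A R : Type*} [CommRing A] [CommRing R] [Algebra A R]
    [Algebra.FiniteType A R] (𝔞 : Ideal R)
    (h : ∀ (p : Ideal R) [p.IsPrime], 𝔞 ≤ p → Algebra.QuasiFiniteAt A p) :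
    ∃ g : R, g - 1 ∈ 𝔞 ∧ Algebra.QuasiFinite A (Localization.Away g) := by
  obtain ⟨g, hg, hgU⟩ := exists_basicOpen_subset_of_zeroLocus_subset 𝔞
    {p : PrimeSpectrum R | Algebra.QuasiFiniteAt A p.asIdeal} isOpen_quasiFiniteLocus
    (fun x hx => h x.asIdeal ((PrimeSpectrum.mem_zeroLocus _ _).mp hx))
  refine ⟨g, hg, ?_⟩
  haveI : Algebra.FiniteType R (Localization.Away g) := IsLocalization.finiteType_of_monoid_fg
    (Submonoid.powers g) _
  haveI : Algebra.FiniteType A (Localization.Away g) := Algebra.FiniteType.trans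
    (inferInstance : Algebra.FiniteType A R) inferInstance
  apply quasiFinite_of_forall_quasiFiniteAt
  intro q' _
  let q : Ideal R := q'.comap (algebraMap R (Localization.Away g))
  haveI : q.IsPrime := Ideal.IsPrime.comap _
  have hgq : g ∉ q := by
    intro hmem
    have hu : IsUnit (algebraMap R (Localization.Away g) g) :=
      IsLocalization.map_units _ (⟨g, Submonoid.mem_powers g⟩ : Submonoid.powers g)
    exact (Ideal.IsPrime.ne_top ‹q'.IsPrime›) (Ideal.eq_top_of_isUnit_mem _ hmem hu)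
  haveI : Algebra.QuasiFiniteAt A q := hgU (show (⟨q, inferInstance⟩ : PrimeSpectrum R) ∈
    (PrimeSpectrum.basicOpen g : Set (PrimeSpectrum R)) from hgq)
  haveI : q'.LiesOver q := ⟨rfl⟩
  exact Algebra.QuasiFiniteAt.of_surjectiveOnStalks_of_liesOver q
    (RingHom.surjectiveOnStalks_of_isLocalization (M := Submonoid.powers g) _) q'

end Groth.Agent.H3
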