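import Groth.Agent.H3.PH10
import Groth.Agent.H3.NbhdV
import Groth.Agent.H57.FlatPt4
import Groth.Agent.H34.RegDesc

/-!
# Flatness near `V(I)` for henselizations of pairs
-/

set_option autoImplicit false
set_option linter.unusedSimpArgs false
set_option linter.unusedVariables false
set_option linter.style.haveILetI false
universe u

namespace Groth.Agent.H3

open Groth.Agent.H57.FlatPt

/-- If `R/𝔞 → B/𝔞B` is bijective, every prime of `R` containing `𝔞` is the contraction of a prime
of `B`. -/
theorem exists_prime_comap_eq_of_quotientMap_bijective {R B : Type*} [CommRing R] [CommRing B]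
    [Algebra R B] (𝔞 : Ideal R)
    (hbij : Function.Bijective (Ideal.quotientMap (𝔞.map (algebraMap R B)) (algebraMap R B)
      Ideal.le_comap_map))
    (q : Ideal R) [hqp : q.IsPrime] (hq : 𝔞 ≤ q) :
    ∃ Q : Ideal B, Q.IsPrime ∧ Q.comap (algebraMap R B) = q := by
  let e := RingEquiv.ofBijective _ hbij
  have hker : RingHom.ker (Ideal.Quotient.mk 𝔞) ≤ q := by
    rw [Ideal.mk_ker]; exact hq
  haveI hqbar : (q.map (Ideal.Quotient.mk 𝔞)).IsPrime :=
    Ideal.map_isPrime_of_surjective Ideal.Quotient.mk_surjective hker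
  refine ⟨((q.map (Ideal.Quotient.mk 𝔞)).comap e.symm.toRingHom).comap
    (Ideal.Quotient.mk (𝔞.map (algebraMap R B))), inferInstance, ?_⟩
  ext x
  simp only [Ideal.mem_comap]
  have h1 : Ideal.Quotient.mk (𝔞.map (algebraMap R B)) (algebraMap R B x) =
      e (Ideal.Quotient.mk 𝔞 x) := rfl
  rw [h1]
  have h2 : e.symm.toRingHom (e (Ideal.Quotient.mk 𝔞 x)) = Ideal.Quotient.mk 𝔞 x :=
    e.symm_apply_apply _
  rw [h2]
  exact Ideal.mem_quotient_iff_mem hq

/-- Flatness over `A` at a prime `q` of `R` descends from a flat `R`-algebra `B`, flat over `A`,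
having a prime over `q`. -/
theorem flat_atPrime_of_flat_of_liesOver {A R B : Type u} [CommRing A] [CommRing R] [CommRing B]
    [Algebra A R] [Algebra R B] [Algebra A B] [IsScalarTower A R B] [Module.Flat R B]
    [Module.Flat A B] (q : Ideal R) [q.IsPrime] (Q : Ideal B) [Q.IsPrime] [Q.LiesOver q] :
    Module.Flat A (Localization.AtPrime q) := by
  letI := Localization.AtPrime.algebraOfLiesOver q Q
  haveI : IsLocalHom (algebraMap (Localization.AtPrime q) (Localization.AtPrime Q)) :=
    Localization.isLocalHom_localRingHom _ _ _ _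
  haveI : Module.FaithfullyFlat (Localization.AtPrime q) (Localization.AtPrime Q) :=
    .of_flat_of_isLocalHom
  exact Groth.Agent.H34.RegDesc.flat_of_comp A (Localization.AtPrime q) (Localization.AtPrime Q)

/-- `R[1/g]` is flat over `A` when `D(g)` lies in the flat locus. -/
theorem flat_away_of_subset_flatLocus {A R : Type u} [CommRing A] [CommRing R] [Algebra A R]
    (g : R) (R' : Type u) [CommRing R'] [Algebra R R'] [Algebra A R'] [IsScalarTower A R R']
    [IsLocalization.Away g R']
    (h : (PrimeSpectrum.basicOpen g : Set (PrimeSpectrum R)) ⊆ flatLocus A R) :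
    Module.Flat A R' := by
  apply Module.flat_of_isLocalized_maximal R' R' (fun P _ => Localization.AtPrime P)
    (fun P _ => Algebra.linearMap R' _)
  intro P _
  rw [← flat_atPrime_comap_iff (A := A) (D := R) (Submonoid.powers g) P]
  have : (⟨P.comap (algebraMap R R'), inferInstance⟩ : PrimeSpectrum R) ∈
      (PrimeSpectrum.basicOpen g : Set (PrimeSpectrum R)) := by
    intro hg
    have hu : IsUnit (algebraMap R R' g) := IsLocalization.Away.algebraMap_isUnit g
    exact (Ideal.IsPrime.ne_top inferInstance) (Ideal.eq_top_of_isUnit_mem P hg hu)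
  exact h this

/-- A finitely presented `A`-algebra flat along `V(𝔞)` has a principal localization `R[1/g]`,
`g ≡ 1 mod 𝔞`, flat over `A`. -/
theorem exists_away_flat {A R : Type u} [CommRing A] [CommRing R] [Algebra A R]
    [Algebra.FinitePresentation A R] (𝔞 : Ideal R)
    (h : ∀ (p : Ideal R) [p.IsPrime], 𝔞 ≤ p → Module.Flat A (Localization.AtPrime p)) :
    ∃ g : R, g - 1 ∈ 𝔞 ∧ Module.Flat A (Localization.Away g) := by
  obtain ⟨g, hg, hgU⟩ := exists_basicOpen_subset_of_zeroLocus_subset 𝔞 (flatLocus A R)
    (isOpen_flatLocus A R) (fun x hx => h x.asIdeal ((PrimeSpectrum.mem_zeroLocus _ _).mp hx))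
  exact ⟨g, hg, flat_away_of_subset_flatLocus g _ hgU⟩

end Groth.Agent.H3
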