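import Mathlib
import Groth.Prelude.Def_SGA1

set_option autoImplicit false
universe u
open CategoryTheory CategoryTheory.Limits AlgebraicGeometry

namespace Groth.Agent.H3.FreeFlat_ACT

/-- the map on `X ×_Y X` induced by `f` on the second factor -/
noncomputable def act {X Y : Scheme.{u}} (p : X ⟶ Y) (f : X ⟶ X) (hf : f ≫ p = p) :
    pullback p p ⟶ pullback p p :=
  pullback.map p p p p (𝟙 X) f (𝟙 Y) (by simp) (by simp [hf])

@[reassoc (attr := simp)]
lemma act_fst {X Y : Scheme.{u}} (p : X ⟶ Y) (f : X ⟶ X) (hf : f ≫ p = p) :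
    act p f hf ≫ pullback.fst p p = pullback.fst p p := by
  unfold act pullback.map
  rw [pullback.lift_fst]
  exact Category.comp_id _

@[reassoc (attr := simp)]
lemma act_snd {X Y : Scheme.{u}} (p : X ⟶ Y) (f : X ⟶ X) (hf : f ≫ p = p) :
    act p f hf ≫ pullback.snd p p = pullback.snd p p ≫ f := by
  unfold act pullback.map
  rw [pullback.lift_snd]

lemma act_comp {X Y : Scheme.{u}} (p : X ⟶ Y) (f g : X ⟶ X) (hf : f ≫ p = p) (hg : g ≫ p = p) :
    act p f hf ≫ act p g hg = act p (f ≫ g) (by rw [Category.assoc, hg, hf]) := by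
  apply pullback.hom_ext <;> simp

lemma act_id {X Y : Scheme.{u}} (p : X ⟶ Y) :
    act p (𝟙 X) (by simp) = 𝟙 _ := by
  apply pullback.hom_ext <;> simp

/-- (ACT) -/
theorem exists_action_on_pullback {X Y : Scheme.{u}} {G : Type u} [Group G] (ρ : G →* Aut X)
    (p : X ⟶ Y) (hinv : ∀ g : G, (ρ g).hom ≫ p = p) :
    ∃ ρ' : G →* Aut (pullback p p),
      (∀ g : G, (ρ' g).hom ≫ pullback.snd p p = pullback.snd p p ≫ (ρ g).hom) ∧
      (∀ g : G, (ρ' g).hom ≫ pullback.fst p p = pullback.fst p p) := by
  have hmul : ∀ a b : G, (ρ (a * b)).hom = (ρ b).hom ≫ (ρ a).hom := fun a b => by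
    rw [map_mul]; rfl
  have hone : (ρ 1).hom = 𝟙 X := by rw [map_one]; rfl
  have hcancel : ∀ g : G, (ρ g).hom ≫ (ρ g⁻¹).hom = 𝟙 X := fun g => by
    rw [← hmul, inv_mul_cancel, hone]
  have hcancel' : ∀ g : G, (ρ g⁻¹).hom ≫ (ρ g).hom = 𝟙 X := fun g => by
    rw [← hmul, mul_inv_cancel, hone]
  let ρ' : G →* Aut (pullback p p) :=
    { toFun := fun g =>
        { hom := act p (ρ g).hom (hinv g)
          inv := act p (ρ g⁻¹).hom (hinv g⁻¹)
          hom_inv_id := by
            rw [act_comp]
            simp only [hcancel]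
            exact act_id p
          inv_hom_id := by
            rw [act_comp]
            simp only [hcancel']
            exact act_id p }
      map_one' := by
        apply Aut.ext
        show act p (ρ 1).hom (hinv 1) = 𝟙 _
        simp only [hone]
        exact act_id p
      map_mul' := fun a b => by
        apply Aut.ext
        show act p (ρ (a * b)).hom (hinv (a * b)) =
          act p (ρ b).hom (hinv b) ≫ act p (ρ a).hom (hinv a)
        rw [act_comp]
        simp only [hmul] }
  exact ⟨ρ', fun g => act_snd p _ (hinv g), fun g => act_fst p _ (hinv g)⟩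

end Groth.Agent.H3.FreeFlat_ACT
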