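import Groth.Agent.H3.Hensel3

set_option autoImplicit false
universe u

namespace Groth.Agent.H3

open Polynomial

variable {A : Type*} [CommRing A]

theorem eval_mem_of_coeff_mem (I : Ideal A) (p : A[X]) (hp : ∀ i, p.coeff i ∈ I) (x : A) :
    p.eval x ∈ I := by
  rw [eval_eq_sum_range]
  exact Submodule.sum_mem _ fun i _ => I.mul_mem_right _ (hp i)

theorem monic_gabber (n : ℕ) (p : A[X]) (hp : p.natDegree ≤ n) :
    (X ^ n * (X - 1) + p : A[X]).Monic := by
  nontriviality A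
  have h1 : (X - 1 : A[X]).Monic := by simpa using monic_X_sub_C (1 : A)
  have h2 : (X ^ n * (X - 1) : A[X]).Monic := (monic_X_pow n).mul h1
  have h3 : (X ^ n * (X - 1) : A[X]).natDegree = n + 1 := by
    rw [(monic_X_pow n).natDegree_mul h1, natDegree_X_pow]
    have : (X - 1 : A[X]).natDegree = 1 := by simpa using natDegree_X_sub_C (1 : A)
    rw [this]
  refine h2.add_of_left ?_
  rw [degree_eq_natDegree h2.ne_zero, h3]
  exact (degree_le_natDegree).trans_lt (by exact_mod_cast Nat.lt_succ_of_le hp)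

/-- Henselian pairs satisfy Gabber's criterion, with uniqueness. -/
theorem gabber_existsUnique_of_henselianRing (I : Ideal A) [hI : HenselianRing A I] (n : ℕ)
    (p : A[X]) (hp : p.natDegree ≤ n) (hpI : ∀ i, p.coeff i ∈ I) :
    ∃! α : A, α - 1 ∈ I ∧ IsRoot (X ^ n * (X - 1) + p) α := by
  set F : A[X] := X ^ n * (X - 1) + p with hF
  have hFm : F.Monic := monic_gabber n p hp
  have hder : ∀ i, (derivative p).coeff i ∈ I := by
    intro i
    rw [coeff_derivative]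
    exact I.mul_mem_right _ (hpI _)
  have e1 : F.eval 1 ∈ I := by
    have : F.eval 1 = p.eval 1 := by simp [hF]
    rw [this]
    exact eval_mem_of_coeff_mem I p hpI 1
  have e2' : F.derivative.eval 1 - 1 ∈ I := by
    have : F.derivative.eval 1 - 1 = (derivative p).eval 1 := by
      simp [hF, derivative_mul]
    rw [this]
    exact eval_mem_of_coeff_mem I _ hder 1
  have e2 : IsUnit (F.derivative.eval 1) := by
    refine isUnit_of_sub_mem I hI.jac isUnit_one ?_
    rw [← neg_sub]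
    exact I.neg_mem e2'
  obtain ⟨a, ha, haI⟩ := hI.is_henselian F hFm 1 e1 (e2.map _)
  refine ⟨a, ⟨haI, ha⟩, ?_⟩
  rintro b ⟨hbI, hb⟩
  have hab : b - a ∈ I := by
    have : b - a = (b - 1) - (a - 1) := by ring
    rw [this]
    exact I.sub_mem hbI haI
  have hu : IsUnit (F.derivative.eval a) := by
    refine isUnit_of_sub_mem I hI.jac e2 ?_
    rw [← neg_sub]
    exact I.neg_mem (eval_sub_mem I _ haI)
  have := sub_mem_of_isRoot ⊥ I hI.jac F hb hab hu (by rw [ha.eq_zero]; exact Ideal.zero_mem _)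
  rw [Ideal.mem_bot, sub_eq_zero] at this
  exact this

/-- Gabber's criterion implies the (non-monic) Hensel lemma near zero. -/
theorem exists_root_aux_of_gabber (I : Ideal A) (hjac : I ≤ Ideal.jacobson ⊥)
    (G : ∀ n : ℕ, 0 < n → ∀ p : A[X], p.natDegree ≤ n → (∀ i, p.coeff i ∈ I) →
      ∃ α : A, α - 1 ∈ I ∧ IsRoot (X ^ n * (X - 1) + p) α)
    (P : A[X]) (h₁ : P.coeff 0 ∈ I) (h₂ : IsUnit (P.coeff 1)) : ∃ x ∈ I, P.IsRoot x := by
  set n := P.natDegree with hn
  set p0 := P.coeff 0 with hp0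
  set p1 := P.coeff 1 with hp1
  set T : A[X] := ∑ i ∈ Finset.range (n + 1), C (P.coeff (i + 2) * p0 ^ i) * X ^ (n - i) with hT
  have hTdeg : T.natDegree ≤ n := by
    refine natDegree_sum_le_of_forall_le _ _ fun i _ => ?_
    exact (natDegree_C_mul_X_pow_le _ _).trans (Nat.sub_le _ _)
  have hu1 : IsUnit (-p1) := h₂.neg
  obtain ⟨v, hv⟩ := hu1.pow (n + 2)
  set c : A := ↑v⁻¹ with hc
  have hvc : (-p1) ^ (n + 2) * c = 1 := by rw [← hv, hc, Units.mul_inv]
  set q : A[X] := C (c * p0) * T.comp (C (-p1) * X) with hq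
  have hqdeg : q.natDegree ≤ n + 1 := by
    refine (natDegree_C_mul_le _ _).trans ?_
    refine natDegree_comp_le.trans ?_
    have h1 : (C (-p1) * X : A[X]).natDegree ≤ 1 :=
      (natDegree_C_mul_le _ _).trans natDegree_X_le
    calc T.natDegree * (C (-p1) * X : A[X]).natDegree ≤ n * 1 := Nat.mul_le_mul hTdeg h1
      _ ≤ n + 1 := by omega
  have hqI : ∀ i, q.coeff i ∈ I := by
    intro i
    rw [hq, coeff_C_mul, mul_assoc]
    exact I.mul_mem_left _ (I.mul_mem_right _ h₁)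
  obtain ⟨α, hαI, hα⟩ := G (n + 1) (Nat.succ_pos n) q hqdeg hqI
  have hαu : IsUnit α := by
    refine isUnit_of_sub_mem I hjac isUnit_one ?_
    rw [← neg_sub]; exact I.neg_mem hαI
  have hwu : IsUnit (-p1 * α) := hu1.mul hαu
  have hαeq : α ^ (n + 1) * (α - 1) + c * p0 * T.eval (-p1 * α) = 0 := by
    have := hα
    rw [IsRoot.def] at this
    simpa [hq, eval_comp] using this
  have hw : (-p1 * α) ^ (n + 2) + (p1 * (-p1 * α) ^ (n + 1) + p0 * T.eval (-p1 * α)) = 0 := by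
    have e : (-p1 * α) ^ (n + 2) + (p1 * (-p1 * α) ^ (n + 1) + p0 * T.eval (-p1 * α)) =
        (-p1) ^ (n + 2) * (α ^ (n + 1) * (α - 1) + c * p0 * T.eval (-p1 * α)) +
          (1 - (-p1) ^ (n + 2) * c) * (p0 * T.eval (-p1 * α)) := by
      ring
    rw [e, hαeq, hvc]; ring
  obtain ⟨u, hu⟩ := hwu
  rw [← hu] at hw
  refine ⟨p0 * ↑u⁻¹, I.mul_mem_right _ h₁, ?_⟩
  rw [IsRoot.def]
  have hdeg : P.natDegree < n + 3 := by omega
  have hTe : T.eval (u : A) =
      ∑ i ∈ Finset.range (n + 1), P.coeff (i + 2) * p0 ^ i * (u : A) ^ (n - i) := by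
    simp only [hT, eval_finsetSum, eval_mul, eval_C, eval_pow, eval_X]
  have hA : ∀ i ∈ Finset.range (n + 1),
      (u : A) ^ (n + 2) * (P.coeff (i + 1 + 1) * (p0 * ↑u⁻¹) ^ (i + 1 + 1)) =
        p0 * (p0 * (P.coeff (i + 2) * p0 ^ i * (u : A) ^ (n - i))) := by
    intro i hi
    have hi' : i ≤ n := Nat.lt_succ_iff.mp (Finset.mem_range.mp hi)
    have h1 : (u : A) ^ (n + 2) = (u : A) ^ (n - i) * (u : A) ^ (i + 2) := by
      rw [← pow_add]; congr 1; omega
    have h2 : (u : A) ^ (i + 2) * (↑u⁻¹ : A) ^ (i + 2) = 1 := by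
      rw [← mul_pow, Units.mul_inv, one_pow]
    rw [h1, mul_pow]
    linear_combination (P.coeff (i + 2) * p0 ^ (i + 2) * (u : A) ^ (n - i)) * h2
  have hB : (u : A) ^ (n + 2) * (P.coeff (0 + 1) * (p0 * ↑u⁻¹) ^ (0 + 1)) =
      p0 * (p1 * (u : A) ^ (n + 1)) := by
    have h2 : (u : A) * (↑u⁻¹ : A) = 1 := Units.mul_inv u
    simp only [zero_add, pow_one]
    rw [← hp1]
    linear_combination (p1 * p0 * (u : A) ^ (n + 1)) * h2
  have hC : (u : A) ^ (n + 2) * (P.coeff 0 * (p0 * ↑u⁻¹) ^ 0) = p0 * (u : A) ^ (n + 2) := by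
    rw [← hp0]; ring
  have hE : P.eval (p0 * ↑u⁻¹) = (∑ i ∈ Finset.range (n + 1),
      P.coeff (i + 1 + 1) * (p0 * ↑u⁻¹) ^ (i + 1 + 1) + P.coeff (0 + 1) * (p0 * ↑u⁻¹) ^ (0 + 1))
      + P.coeff 0 * (p0 * ↑u⁻¹) ^ 0 := by
    rw [eval_eq_sum_range' hdeg, Finset.sum_range_succ', Finset.sum_range_succ']
  have hsum : (u : A) ^ (n + 2) * P.eval (p0 * ↑u⁻¹) =
      p0 * ((u : A) ^ (n + 2) + (p1 * (u : A) ^ (n + 1) + p0 * T.eval (u : A))) := by
    rw [hTe, hE, mul_add, mul_add, Finset.mul_sum, Finset.sum_congr rfl hA, hB, hC,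
      ← Finset.mul_sum, ← Finset.mul_sum]
    ring
  rw [hw, mul_zero] at hsum
  exact (u.isUnit.pow (n + 2)).mul_right_eq_zero.mp hsum

/-- Gabber's criterion implies Henselian. -/
theorem henselianRing_of_gabber (I : Ideal A) (hjac : I ≤ Ideal.jacobson ⊥)
    (G : ∀ n : ℕ, 0 < n → ∀ p : A[X], p.natDegree ≤ n → (∀ i, p.coeff i ∈ I) →
      ∃ α : A, α - 1 ∈ I ∧ IsRoot (X ^ n * (X - 1) + p) α) : HenselianRing A I where
  jac := hjac
  is_henselian := by
    intro f _ a₀ h₁ h₂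
    have hu : IsUnit (f.derivative.eval a₀) := isUnit_of_isUnit_mk I hjac h₂
    obtain ⟨x, hx, hroot⟩ := exists_root_aux_of_gabber I hjac G (taylor a₀ f)
      (by rw [taylor_coeff_zero]; exact h₁) (by rw [taylor_coeff_one]; exact hu)
    refine ⟨x + a₀, ?_, by simpa using hx⟩
    rw [IsRoot.def, taylor_eval] at hroot
    exact hroot

end Groth.Agent.H3
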