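import Groth.Agent.H3.HPair8

set_option autoImplicit false
set_option linter.unusedSimpArgs false
set_option linter.unusedVariables false
set_option linter.style.haveILetI false
universe u

namespace Groth.Agent.H3

open Polynomial

/-- From an idempotent of `A[X]/(F)`, `F = X^n (X-1) + p`, congruent to `x^n` modulo `I`,
one gets a root of `F` congruent to `1`. -/
theorem gabber_root_of_idempotent {A : Type u} [CommRing A] (I : Ideal A)
    (hjac : I ≤ Ideal.jacobson ⊥) (n : ℕ) (p : A[X]) (hp : p.natDegree ≤ n)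
    (hpI : ∀ i, p.coeff i ∈ I) (F : A[X]) (hF : F = X ^ n * (X - 1) + p)
    (e : AdjoinRoot F) (he : IsIdempotentElem e)
    (heb0 : e - (AdjoinRoot.root F) ^ n ∈ I.map (algebraMap A (AdjoinRoot F))) :
    ∃ α : A, α - 1 ∈ I ∧ IsRoot F α := by
  rcases subsingleton_or_nontrivial A with hA | hA
  · exact ⟨1, by rw [sub_self]; exact I.zero_mem, Subsingleton.elim _ _⟩
  have hFm : F.Monic := hF ▸ monic_gabber n p hp
  haveI hfin : Module.Finite A (AdjoinRoot F) := hFm.finite_adjoinRoot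
  haveI : Module.Free A (AdjoinRoot F) := Module.Free.of_basis (AdjoinRoot.powerBasis' hFm).basis
  obtain ⟨x, hx⟩ : ∃ x, x = AdjoinRoot.root F := ⟨_, rfl⟩
  rw [← hx] at heb0
  obtain ⟨𝔟, h𝔟⟩ : ∃ 𝔟 : Ideal (AdjoinRoot F), 𝔟 = I.map (algebraMap A (AdjoinRoot F)) :=
    ⟨_, rfl⟩
  have heb : e - x ^ n ∈ 𝔟 := h𝔟 ▸ heb0
  have hFx : aeval x F = 0 := by rw [hx, AdjoinRoot.aeval_eq, AdjoinRoot.mk_self]
  have hpx : aeval x p ∈ 𝔟 := h𝔟 ▸ aeval_mem_map_of_coeff_mem I x p hpI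
  have hxn : x ^ n * (x - 1) = -aeval x p := by
    have h1 : aeval x F = aeval x (X ^ n * (X - 1) + p) := by rw [← hF]
    have := hFx
    rw [h1] at this
    simp only [map_add, map_mul, map_pow, map_sub, aeval_X, map_one] at this
    linear_combination this
  have hx1e : (x - 1) * e ∈ 𝔟 := by
    have : (x - 1) * e = (x - 1) * (e - x ^ n) + -aeval x p := by rw [← hxn]; ring
    rw [this]
    exact 𝔟.add_mem (𝔟.mul_mem_left _ heb) (𝔟.neg_mem hpx)
  -- evaluation at `1` modulo `I`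
  have hev0 : F.eval₂ (Ideal.Quotient.mk I) 1 = 0 := by
    rw [eval₂_at_one, Ideal.Quotient.eq_zero_iff_mem, hF]
    have : (X ^ n * (X - 1) + p : A[X]).eval 1 = p.eval 1 := by simp
    rw [this]
    exact eval_mem_of_coeff_mem I p hpI 1
  let ev : AdjoinRoot F →+* A ⧸ I := AdjoinRoot.lift (Ideal.Quotient.mk I) 1 hev0
  have hevalg : ∀ a : A, ev (algebraMap A (AdjoinRoot F) a) = Ideal.Quotient.mk I a := by
    intro a
    rw [AdjoinRoot.algebraMap_eq]
    exact AdjoinRoot.lift_of hev0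
  have hev𝔟 : ∀ y ∈ 𝔟, ev y = 0 := by
    intro y hy
    have : 𝔟 ≤ RingHom.ker ev := by
      rw [h𝔟, Ideal.map_le_iff_le_comap]
      intro a ha
      rw [Ideal.mem_comap, RingHom.mem_ker, hevalg, Ideal.Quotient.eq_zero_iff_mem]
      exact ha
    exact this hy
  have hevx : ev x = 1 := by rw [hx]; exact AdjoinRoot.lift_root hev0
  have heve : ev e = 1 := by
    have := hev𝔟 _ heb
    rw [map_sub, sub_eq_zero] at this
    rw [this, map_pow, hevx, one_pow]
  obtain ⟨J, hJ⟩ : ∃ J : Ideal (AdjoinRoot F), J = Ideal.span {1 - e} := ⟨_, rfl⟩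
  have hevJ : ∀ y ∈ J, ev y = 0 := by
    intro y hy
    rw [hJ] at hy
    obtain ⟨w, rfl⟩ := Ideal.mem_span_singleton'.mp hy
    rw [map_mul, map_sub, map_one, heve, sub_self, mul_zero]
  have hmke : Ideal.Quotient.mk J e = 1 := by
    rw [← sub_eq_zero, ← map_one (Ideal.Quotient.mk J), ← map_sub,
      Ideal.Quotient.eq_zero_iff_mem, hJ]
    have : e - 1 = -(1 - e) := by ring
    rw [this]; exact (Ideal.span {1 - e}).neg_mem (Ideal.subset_span rfl)
  have hcompJ : (Ideal.Quotient.mk J).comp (algebraMap A (AdjoinRoot F)) =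
      algebraMap A (AdjoinRoot F ⧸ J) := by
    rw [IsScalarTower.algebraMap_eq A (AdjoinRoot F) (AdjoinRoot F ⧸ J),
      Ideal.Quotient.algebraMap_eq]
  haveI : Module.Finite A (AdjoinRoot F ⧸ J) :=
    Module.Finite.of_surjective (Ideal.Quotient.mkₐ A J).toLinearMap
      (Ideal.Quotient.mkₐ_surjective A J)
  haveI hproj : Module.Projective A (AdjoinRoot F ⧸ J) := by
    let iB : (AdjoinRoot F ⧸ J) →ₗ[AdjoinRoot F] AdjoinRoot F :=
      Submodule.liftQ J (LinearMap.mulLeft (AdjoinRoot F) e) (by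
        rw [hJ, Ideal.span, Submodule.span_le, Set.singleton_subset_iff]
        change e * (1 - e) = 0
        have := he.eq; linear_combination (-1 : AdjoinRoot F) * this)
    refine Module.Projective.of_split (iB.restrictScalars A)
      (Ideal.Quotient.mkₐ A J).toLinearMap ?_
    ext z
    obtain ⟨y, rfl⟩ := Ideal.Quotient.mk_surjective z
    change Ideal.Quotient.mk J (iB (Submodule.Quotient.mk y)) = _
    rw [Submodule.liftQ_apply, LinearMap.mulLeft_apply, map_mul, hmke, one_mul]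
    rfl
  have hsurj : Function.Surjective (algebraMap A (AdjoinRoot F ⧸ J)) := by
    have hle : (⊤ : Submodule A (AdjoinRoot F ⧸ J)) ≤
        LinearMap.range (Algebra.linearMap A (AdjoinRoot F ⧸ J)) := by
      apply Submodule.le_of_le_smul_of_le_jacobson_bot Module.Finite.fg_top hjac
      intro z _
      obtain ⟨y, rfl⟩ := Ideal.Quotient.mk_surjective z
      obtain ⟨q, rfl⟩ := AdjoinRoot.mk_surjective y
      obtain ⟨q', hq'⟩ := X_sub_C_dvd_sub_C_eval (a := (1 : A)) (p := q)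
      have h2 : AdjoinRoot.mk F q = algebraMap A (AdjoinRoot F) (q.eval 1) +
          (x - 1) * AdjoinRoot.mk F q' := by
        have := congr_arg (AdjoinRoot.mk F) hq'
        rw [map_sub, map_mul, map_sub, AdjoinRoot.mk_X, AdjoinRoot.mk_C, AdjoinRoot.mk_C,
          map_one, ← hx] at this
        rw [AdjoinRoot.algebraMap_eq]
        linear_combination this
      have h3 : Ideal.Quotient.mk J (AdjoinRoot.mk F q) =
          algebraMap A (AdjoinRoot F ⧸ J) (q.eval 1) +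
          Ideal.Quotient.mk J ((x - 1) * e * AdjoinRoot.mk F q') := by
        rw [h2, map_add, map_mul, map_mul, map_mul, hmke, mul_one, ← hcompJ, RingHom.comp_apply]
      rw [h3]
      refine Submodule.add_mem_sup ⟨q.eval 1, rfl⟩ ?_
      rw [Ideal.smul_top_eq_map]
      change _ ∈ I.map (algebraMap A (AdjoinRoot F ⧸ J))
      have : 𝔟.map (Ideal.Quotient.mk J) ≤ I.map (algebraMap A (AdjoinRoot F ⧸ J)) := by
        rw [h𝔟, Ideal.map_map, hcompJ]
      exact this (Ideal.mem_map_of_mem _ (𝔟.mul_mem_right _ hx1e))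
    intro z
    obtain ⟨a, ha⟩ := hle (Submodule.mem_top : z ∈ ⊤)
    exact ⟨a, ha⟩
  have hker : ∀ a : A, algebraMap A (AdjoinRoot F ⧸ J) a = 0 → a ∈ I := by
    intro a ha
    rw [← hcompJ, RingHom.comp_apply, Ideal.Quotient.eq_zero_iff_mem] at ha
    have := hevJ _ ha
    rw [hevalg, Ideal.Quotient.eq_zero_iff_mem] at this
    exact this
  have hbij := algebraMap_bijective_of_projective I hjac (AdjoinRoot F ⧸ J) hsurj hker
  obtain ⟨α, hα⟩ := hbij.2 (Ideal.Quotient.mk J x)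
  refine ⟨α, ?_, ?_⟩
  · -- α ≡ 1
    have h4 : algebraMap A (AdjoinRoot F) α - x ∈ J := by
      rw [← Ideal.Quotient.eq_zero_iff_mem, map_sub, sub_eq_zero, ← hα, ← hcompJ,
        RingHom.comp_apply]
    have h5 := hevJ _ h4
    rw [map_sub, hevalg, hevx, sub_eq_zero] at h5
    rw [← Ideal.Quotient.eq, h5, map_one]
  · apply hbij.1
    rw [map_zero, ← Polynomial.aeval_algebraMap_apply_eq_algebraMap_eval, hα]
    have : aeval (Ideal.Quotient.mk J x) F = Ideal.Quotient.mkₐ A J (aeval x F) := by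
      rw [← Polynomial.aeval_algHom_apply]; rfl
    rw [this, hFx, map_zero]

/-- Idempotent lifting for the algebras `A[T]/(p)`, `p ≡ (T^2 - T)^m`, implies Henselian. -/
theorem henselianRing_of_idempotents_lift_sq_sub_pow {A : Type u} [CommRing A] (I : Ideal A)
    (hjac : I ≤ Ideal.jacobson ⊥)
    (h : ∀ (m : ℕ) (p : A[X]), p.Monic →
      Polynomial.map (Ideal.Quotient.mk I) p =
        Polynomial.map (Ideal.Quotient.mk I) ((X ^ 2 - X) ^ m) →
      Set.SurjOn (Ideal.Quotient.mk (Ideal.map (algebraMap A (AdjoinRoot p)) I))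
        {e : AdjoinRoot p | IsIdempotentElem e} {e | IsIdempotentElem e}) :
    HenselianRing A I := by
  refine henselianRing_of_gabber I hjac ?_
  intro n hn p hp hpI
  obtain ⟨k, rfl⟩ := Nat.exists_eq_succ_of_ne_zero hn.ne'
  obtain ⟨F, hF⟩ : ∃ F : A[X], F = X ^ (k + 1) * (X - 1) + p := ⟨_, rfl⟩
  rw [← hF]
  have hFm : F.Monic := hF ▸ monic_gabber (k + 1) p hp
  obtain ⟨F₂, hF₂⟩ : ∃ F₂ : A[X], F₂ = F * (X - 1) ^ k := ⟨_, rfl⟩
  have hX1 : (X - 1 : A[X]).Monic := by simpa using monic_X_sub_C (1 : A)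
  have hF₂m : F₂.Monic := hF₂ ▸ hFm.mul (hX1.pow k)
  have hpmap : p.map (Ideal.Quotient.mk I) = 0 := by
    ext i
    rw [coeff_map, coeff_zero, Ideal.Quotient.eq_zero_iff_mem]
    exact hpI i
  have hF₂map : F₂.map (Ideal.Quotient.mk I) =
      ((X ^ 2 - X) ^ (k + 1) : A[X]).map (Ideal.Quotient.mk I) := by
    rw [hF₂, hF, Polynomial.map_mul, Polynomial.map_add, hpmap, add_zero]
    simp only [Polynomial.map_mul, Polynomial.map_pow, Polynomial.map_sub, Polynomial.map_X,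
      Polynomial.map_one]
    rw [show (X ^ 2 - X : (A ⧸ I)[X]) = X * (X - 1) by ring, mul_pow, pow_succ (X - 1) k]
    ring
  have hsurj := h (k + 1) F₂ hF₂m hF₂map
  -- work in `B₂`
  obtain ⟨y, hy⟩ : ∃ y, y = AdjoinRoot.root F₂ := ⟨_, rfl⟩
  obtain ⟨𝔟₂, h𝔟₂⟩ : ∃ 𝔟₂ : Ideal (AdjoinRoot F₂), 𝔟₂ = I.map (algebraMap A (AdjoinRoot F₂)) :=
    ⟨_, rfl⟩
  have hF₂y : aeval y F₂ = 0 := by rw [hy, AdjoinRoot.aeval_eq, AdjoinRoot.mk_self]
  have hpy : aeval y p ∈ 𝔟₂ := h𝔟₂ ▸ aeval_mem_map_of_coeff_mem I y p hpI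
  have hyy : y ^ (k + 1) * (y - 1) ^ (k + 1) = -(aeval y p * (y - 1) ^ k) := by
    have h1 : aeval y F₂ = aeval y ((X ^ (k + 1) * (X - 1) + p) * (X - 1) ^ k) := by
      rw [← hF, ← hF₂]
    have := hF₂y
    rw [h1] at this
    simp only [map_add, map_mul, map_pow, map_sub, aeval_X, map_one] at this
    linear_combination this
  obtain ⟨s, hs⟩ : ∃ s, s = ∑ i ∈ Finset.range (k + 1), y ^ i := ⟨_, rfl⟩
  obtain ⟨v, hv⟩ : ∃ v, v = 1 - y ^ (k + 1) := ⟨_, rfl⟩
  have hvs : v = (1 - y) * s := by rw [hv, hs, mul_neg_geom_sum]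
  obtain ⟨w, hw⟩ : ∃ w, w = ∑ i ∈ Finset.range (k + 1), v ^ i := ⟨_, rfl⟩
  obtain ⟨b, hb⟩ : ∃ b, b = 1 - v ^ (k + 1) := ⟨_, rfl⟩
  have hbw : b = y ^ (k + 1) * w := by
    have h1v : 1 - v = y ^ (k + 1) := by rw [hv]; ring
    rw [hb, hw, ← mul_neg_geom_sum, h1v]
  have hy1 : y ^ (k + 1) * (1 - y) ^ (k + 1) ∈ 𝔟₂ := by
    have h1 : (1 - y) ^ (k + 1) = (-1) ^ (k + 1) * (y - 1) ^ (k + 1) := by
      rw [← neg_sub y 1, neg_pow]
    have h2 : y ^ (k + 1) * (1 - y) ^ (k + 1) =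
        (-1) ^ (k + 1) * -(aeval y p * (y - 1) ^ k) := by
      rw [h1, ← hyy]; ring
    rw [h2]
    exact 𝔟₂.mul_mem_left _ (𝔟₂.neg_mem (𝔟₂.mul_mem_right _ hpy))
  have hb2 : b ^ 2 - b ∈ 𝔟₂ := by
    have e1 : b - 1 = -((1 - y) ^ (k + 1) * s ^ (k + 1)) := by
      rw [hb, hvs, mul_pow]; ring
    have e2 : b ^ 2 - b = -(w * s ^ (k + 1)) * (y ^ (k + 1) * (1 - y) ^ (k + 1)) := by
      have e3 : b ^ 2 - b = b * (b - 1) := by ring
      rw [e3, e1, hbw]; ring
    rw [e2]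
    exact 𝔟₂.mul_mem_left _ hy1
  obtain ⟨e₂, he₂', he₂mk⟩ := hsurj
    (show Ideal.Quotient.mk (I.map (algebraMap A (AdjoinRoot F₂))) b ∈
        {e | IsIdempotentElem e} by
      change _ * _ = _
      rw [← map_mul, Ideal.Quotient.eq, ← h𝔟₂]
      have : b * b - b = b ^ 2 - b := by ring
      rw [this]; exact hb2)
  have he₂ : IsIdempotentElem e₂ := he₂'
  have he₂b : e₂ - b ∈ 𝔟₂ := by rw [h𝔟₂]; exact Ideal.Quotient.eq.mp he₂mk
  -- the map to `B`
  obtain ⟨x, hx⟩ : ∃ x, x = AdjoinRoot.root F := ⟨_, rfl⟩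
  obtain ⟨𝔟, h𝔟⟩ : ∃ 𝔟 : Ideal (AdjoinRoot F), 𝔟 = I.map (algebraMap A (AdjoinRoot F)) :=
    ⟨_, rfl⟩
  have hFx : aeval x F = 0 := by rw [hx, AdjoinRoot.aeval_eq, AdjoinRoot.mk_self]
  have hF₂x : F₂.eval₂ (algebraMap A (AdjoinRoot F)) x = 0 := by
    rw [← aeval_def, hF₂, map_mul, hFx, zero_mul]
  let φ : AdjoinRoot F₂ →+* AdjoinRoot F :=
    AdjoinRoot.lift (algebraMap A (AdjoinRoot F)) x hF₂x
  have hφalg : ∀ a : A, φ (algebraMap A (AdjoinRoot F₂) a) = algebraMap A (AdjoinRoot F) a := by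
    intro a
    rw [AdjoinRoot.algebraMap_eq]
    exact AdjoinRoot.lift_of hF₂x
  have hφy : φ y = x := by rw [hy]; exact AdjoinRoot.lift_root hF₂x
  have hφ𝔟 : ∀ z ∈ 𝔟₂, φ z ∈ 𝔟 := by
    intro z hz
    have : 𝔟₂ ≤ 𝔟.comap φ := by
      rw [h𝔟₂, Ideal.map_le_iff_le_comap]
      intro a ha
      rw [Ideal.mem_comap, Ideal.mem_comap, hφalg, h𝔟]
      exact Ideal.mem_map_of_mem _ ha
    exact this hz
  have hpx : aeval x p ∈ 𝔟 := h𝔟 ▸ aeval_mem_map_of_coeff_mem I x p hpI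
  have hxn : x ^ (k + 1) * (x - 1) = -aeval x p := by
    have h1 : aeval x F = aeval x (X ^ (k + 1) * (X - 1) + p) := by rw [← hF]
    have := hFx
    rw [h1] at this
    simp only [map_add, map_mul, map_pow, map_sub, aeval_X, map_one] at this
    linear_combination this
  have hφb : φ b - x ^ (k + 1) ∈ 𝔟 := by
    obtain ⟨s', hs'⟩ : ∃ s', s' = ∑ i ∈ Finset.range (k + 1), x ^ i := ⟨_, rfl⟩
    obtain ⟨v', hv'⟩ : ∃ v', v' = 1 - x ^ (k + 1) := ⟨_, rfl⟩
    have hv's' : v' = (1 - x) * s' := by rw [hv', hs', mul_neg_geom_sum]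
    obtain ⟨w', hw'⟩ : ∃ w', w' = ∑ i ∈ Finset.range k, v' ^ i := ⟨_, rfl⟩
    have e3 : 1 - v' ^ k = x ^ (k + 1) * w' := by
      have h1v : 1 - v' = x ^ (k + 1) := by rw [hv']; ring
      rw [hw', ← mul_neg_geom_sum, h1v]
    have e1 : φ b = 1 - v' ^ (k + 1) := by
      rw [hb, hv, hv']
      simp only [map_sub, map_pow, map_one, hφy]
    have : φ b - x ^ (k + 1) = aeval x p * (s' * w') := by
      linear_combination e1 - hv' + v' * e3 + x ^ (k + 1) * w' * hv's' - s' * w' * hxn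
    rw [this]
    exact 𝔟.mul_mem_right _ hpx
  have heb : φ e₂ - x ^ (k + 1) ∈ 𝔟 := by
    have : φ e₂ - x ^ (k + 1) = φ (e₂ - b) + (φ b - x ^ (k + 1)) := by rw [map_sub]; ring
    rw [this]; exact 𝔟.add_mem (hφ𝔟 _ he₂b) hφb
  exact gabber_root_of_idempotent I hjac (k + 1) p hp hpI F hF (φ e₂) (he₂.map φ)
    (by rw [← hx, ← h𝔟]; exact heb)

end Groth.Agent.H3
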