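import Groth.Agent.H3.HPair1
import Mathlib.LinearAlgebra.Matrix.Charpoly.LinearMap
import Mathlib.LinearAlgebra.Matrix.Charpoly.Coeff
import Mathlib.RingTheory.Nakayama

set_option autoImplicit false
set_option linter.unusedSimpArgs false
set_option linter.unusedVariables false
universe u

namespace Groth.Agent.H3

open Polynomial

variable {A : Type*} [CommRing A]

theorem aeval_mem_map_of_coeff_mem {B : Type*} [CommRing B] [Algebra A B] (I : Ideal A) (b : B)
    (c : A[X]) (hc : ∀ i, c.coeff i ∈ I) : aeval b c ∈ I.map (algebraMap A B) := by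
  rw [aeval_eq_sum_range]
  refine Submodule.sum_mem _ fun i _ => ?_
  rw [Algebra.smul_def]
  exact Ideal.mul_mem_right _ _ (Ideal.mem_map_of_mem _ (hc i))

theorem coeff_mem_of_map_eq_zero (I : Ideal A) (c : A[X])
    (hc : c.map (Ideal.Quotient.mk I) = 0) (i : ℕ) : c.coeff i ∈ I := by
  have := congr_arg (fun p => p.coeff i) hc
  simpa [coeff_map, Ideal.Quotient.eq_zero_iff_mem] using this

theorem pow_sub_self_mem {B : Type*} [CommRing B] (𝔟 : Ideal B) (t : B) (ht : t ^ 2 - t ∈ 𝔟)
    (n : ℕ) (hn : 0 < n) : t ^ n - t ∈ 𝔟 := by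
  induction n with
  | zero => omega
  | succ k ih =>
    rcases Nat.eq_zero_or_pos k with rfl | hk
    · simp
    · have : t ^ (k + 1) - t = t * (t ^ k - t) + (t ^ 2 - t) := by ring
      rw [this]
      exact 𝔟.add_mem (𝔟.mul_mem_left _ (ih hk)) ht

/-- Gabber's trick: lifting of "rank one" idempotents in finite algebras. -/
theorem exists_idempotent_of_rank_one (I : Ideal A) (hjac : I ≤ Ideal.jacobson ⊥)
    (G : ∀ n : ℕ, 0 < n → ∀ p : A[X], p.natDegree ≤ n → (∀ i, p.coeff i ∈ I) →
      ∃ α : A, α - 1 ∈ I ∧ IsRoot (X ^ n * (X - 1) + p) α)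
    (B : Type*) [CommRing B] [Algebra A B] [Module.Finite A B] (t : B)
    (ht : t ^ 2 - t ∈ I.map (algebraMap A B))
    (hrank : ∀ x : B, ∃ a : A, t * x - a • t ∈ I.map (algebraMap A B)) :
    ∃ e : B, IsIdempotentElem e ∧ e - t ∈ I.map (algebraMap A B) := by
  classical
  rcases subsingleton_or_nontrivial A with hA | hA
  · haveI : Subsingleton B := (algebraMap A B).codomain_trivial
    exact ⟨0, by simp [IsIdempotentElem], by rw [Subsingleton.elim (0 - t) 0]; exact zero_mem _⟩
  set 𝔟 := I.map (algebraMap A B) with h𝔟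
  have h𝔟top : ∀ y : B, y ∈ 𝔟 ↔ y ∈ I • (⊤ : Submodule A B) := by
    intro y; rw [Ideal.smul_top_eq_map]; rfl
  obtain ⟨s, hs⟩ := (Module.Finite.fg_top : (⊤ : Submodule A B).FG)
  let κ := Option (↥s)
  let g : κ → B := fun k => k.elim 0 (fun j => (j : B))
  have hg : Submodule.span A (Set.range g) = ⊤ := by
    rw [eq_top_iff, ← hs]
    apply Submodule.span_mono
    intro x hx
    exact ⟨some ⟨x, Finset.mem_coe.mp hx⟩, rfl⟩
  let m : Option κ → B := fun i => i.elim t (fun k => (1 - t) * g k)
  let d : Option κ → A := fun i => i.elim 1 (fun _ => 0)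
  have hspan : Submodule.span A (Set.range m) = ⊤ := by
    rw [eq_top_iff]
    apply Submodule.le_of_le_smul_of_le_jacobson_bot Module.Finite.fg_top hjac
    intro x _
    obtain ⟨a, ha⟩ := hrank x
    have h1 : x = (a • t + (1 - t) * x) + (t * x - a • t) := by ring
    rw [h1]
    refine Submodule.add_mem_sup (Submodule.add_mem _ ?_ ?_) ((h𝔟top _).mp ha)
    · exact Submodule.smul_mem _ _ (Submodule.subset_span ⟨none, rfl⟩)
    · have hx : x ∈ Submodule.span A (Set.range g) := by rw [hg]; trivial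
      have h2 : (1 - t) * x ∈ Submodule.map (LinearMap.mulLeft A (1 - t))
          (Submodule.span A (Set.range g)) := ⟨x, hx, rfl⟩
      rw [Submodule.map_span] at h2
      refine Submodule.span_mono ?_ h2
      rintro _ ⟨_, ⟨k, rfl⟩, rfl⟩
      exact ⟨some k, rfl⟩
  have hcol : ∀ j : Option κ, t * m j - d j • m j ∈ I • Submodule.span A (Set.range m) := by
    intro j
    rw [hspan, ← h𝔟top]
    cases j with
    | none =>
      have : t * m none - d none • m none = t ^ 2 - t := by
        simp only [m, d, Option.elim_none, one_smul]; ring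
      rw [this]; exact ht
    | some k =>
      have : t * m (some k) - d (some k) • m (some k) = -(t ^ 2 - t) * g k := by
        simp only [m, d, Option.elim_some, zero_smul]; ring
      rw [this]; exact Ideal.mul_mem_right _ _ (𝔟.neg_mem ht)
  have hcol' : ∀ j : Option κ, ∃ c : Option κ →₀ I,
      Ideal.finsuppTotal (Option κ) B I m c = t * m j - d j • m j := by
    intro j
    have := hcol j
    rw [← Ideal.range_finsuppTotal] at this
    exact this
  choose cf hcf using hcol'
  let Mx : Matrix (Option κ) (Option κ) A :=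
    Matrix.of (fun i j => ((cf j i : I) : A)) + Matrix.diagonal d
  have hrep : Mx.Represents m (Algebra.lmul A B t) := by
    rw [Matrix.represents_iff']
    intro j
    have h1 := hcf j
    rw [Ideal.finsuppTotal_apply_eq_of_fintype] at h1
    have h2 : ∑ i : Option κ, Mx i j • m i =
        ∑ i : Option κ, ((cf j i : I) : A) • m i + d j • m j := by
      simp only [Mx, Matrix.add_apply, Matrix.of_apply, add_smul, Finset.sum_add_distrib]
      congr 1
      rw [Finset.sum_eq_single j]
      · rw [Matrix.diagonal_apply_eq]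
      · intro i _ hij
        rw [Matrix.diagonal_apply_ne _ hij, zero_smul]
      · intro h; exact absurd (Finset.mem_univ j) h
    rw [h2, h1, sub_add_cancel]
    simp
  let Mx' : Matrix.isRepresentation A m := ⟨Mx, Algebra.lmul A B t, hrep⟩
  obtain ⟨χ, hχ⟩ : ∃ χ, χ = Mx.charpoly := ⟨_, rfl⟩
  have hχt : aeval t χ = 0 := by
    have h1 : aeval (Algebra.lmul A B t) χ = 0 := by
      have h2 : Matrix.isRepresentation.toEnd A m hspan Mx' = Algebra.lmul A B t :=
        Matrix.isRepresentation.eq_toEnd_of_represents A m hspan Mx' hrep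
      rw [← h2, Polynomial.aeval_algHom_apply,
        ← map_zero (Matrix.isRepresentation.toEnd A m hspan), hχ]
      congr 1
      ext1
      rw [Polynomial.aeval_subalgebra_coe, Matrix.aeval_self_charpoly, Subalgebra.coe_zero]
    rw [Polynomial.aeval_algHom_apply] at h1
    have h3 := LinearMap.congr_fun h1 1
    simpa using h3
  have hχmonic : χ.Monic := hχ ▸ Matrix.charpoly_monic Mx
  obtain ⟨n, hn⟩ : ∃ n, n = Fintype.card κ := ⟨_, rfl⟩
  have hnpos : 0 < n := hn ▸ Fintype.card_pos_iff.mpr ⟨none⟩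
  have hχdeg : χ.natDegree = n + 1 := by
    rw [hχ, Matrix.charpoly_natDegree_eq_dim, Fintype.card_option, hn]
  have hχmap : χ.map (Ideal.Quotient.mk I) = X ^ n * (X - 1) := by
    rw [hχ, ← Matrix.charpoly_map]
    have h1 : Mx.map (Ideal.Quotient.mk I) =
        Matrix.diagonal (fun i => Ideal.Quotient.mk I (d i)) := by
      ext i j
      simp only [Mx, Matrix.map_apply, Matrix.add_apply, Matrix.of_apply, map_add]
      rw [Ideal.Quotient.eq_zero_iff_mem.mpr (cf j i).2, zero_add]
      by_cases hij : i = j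
      · subst hij; simp
      · simp [Matrix.diagonal_apply_ne _ hij]
    rw [h1, Matrix.charpoly_diagonal, Fintype.prod_option, hn]
    simp [d, mul_comm]
  set p : A[X] := χ - X ^ n * (X - 1) with hp
  have hpI : ∀ i, p.coeff i ∈ I := by
    apply coeff_mem_of_map_eq_zero
    rw [hp, Polynomial.map_sub, hχmap]; simp
  have hX1 : (X - 1 : A[X]).Monic := by simpa using monic_X_sub_C (1 : A)
  have hX : (X ^ n * (X - 1) : A[X]).Monic := (monic_X_pow n).mul hX1
  have hXdeg : (X ^ n * (X - 1) : A[X]).natDegree = n + 1 := by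
    rw [(monic_X_pow n).natDegree_mul hX1, natDegree_X_pow]
    have : (X - 1 : A[X]).natDegree = 1 := by simpa using natDegree_X_sub_C (1 : A)
    rw [this]
  have hpdeg : p.natDegree ≤ n := by
    by_cases hp0 : p = 0
    · rw [hp0]; simp
    · have hlt : p.degree < χ.degree := by
        apply degree_sub_lt
        · rw [degree_eq_natDegree hχmonic.ne_zero, degree_eq_natDegree hX.ne_zero, hχdeg, hXdeg]
        · exact hχmonic.ne_zero
        · rw [hχmonic.leadingCoeff, hX.leadingCoeff]
      rw [degree_eq_natDegree hχmonic.ne_zero, hχdeg, degree_eq_natDegree hp0] at hlt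
      have : p.natDegree < n + 1 := by exact_mod_cast hlt
      omega
  have hχeq : X ^ n * (X - 1) + p = χ := by rw [hp]; ring
  obtain ⟨α, hαI, hα⟩ := G n hnpos p hpdeg hpI
  rw [hχeq] at hα
  set g₁ := χ /ₘ (X - C α) with hg₁
  have hfac : (X - C α) * g₁ = χ := mul_divByMonic_eq_iff_isRoot.mpr hα
  have hmkα : Ideal.Quotient.mk I α = 1 := by
    rw [← map_one (Ideal.Quotient.mk I), Ideal.Quotient.eq]; exact hαI
  have hgmap : g₁.map (Ideal.Quotient.mk I) = X ^ n := by
    have h1 := congr_arg (Polynomial.map (Ideal.Quotient.mk I)) hfac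
    rw [Polynomial.map_mul, hχmap, Polynomial.map_sub, map_X, map_C, hmkα,
      mul_comm (X ^ n), C_1] at h1
    have h2 : (X - 1 : (A ⧸ I)[X]).Monic := by simpa using monic_X_sub_C (1 : A ⧸ I)
    exact h2.isRegular.left h1
  have hgI : ∀ i, (g₁ - X ^ n).coeff i ∈ I := by
    apply coeff_mem_of_map_eq_zero
    rw [Polynomial.map_sub, hgmap]; simp
  set γ := g₁.eval α with hγ
  have hγ1 : γ - 1 ∈ I := by
    rw [← Ideal.Quotient.eq, map_one, hγ, ← eval₂_at_apply, ← eval_map, hgmap, hmkα]; simp
  have hγu : IsUnit γ := by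
    refine isUnit_of_sub_mem I hjac isUnit_one ?_
    rw [← neg_sub]; exact I.neg_mem hγ1
  obtain ⟨v, hv⟩ := hγu
  set w : A := ↑v⁻¹ with hw
  have hγw : γ * w = 1 := by rw [← hv, hw, Units.mul_inv]
  have hw1 : w - 1 ∈ I := by
    have : w - 1 = -(w * (γ - 1)) := by linear_combination hγw
    rw [this]; exact I.neg_mem (I.mul_mem_left _ hγ1)
  set Gt : B := aeval t g₁ with hGt
  have h0 : Gt * (Gt - algebraMap A B γ) = 0 := by
    obtain ⟨r, hr⟩ := X_sub_C_dvd_sub_C_eval (a := α) (p := g₁)
    have h1 : aeval t (g₁ * (g₁ - C γ)) = 0 := by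
      rw [hr, ← mul_assoc, mul_comm g₁, hfac, map_mul, hχt, zero_mul]
    simpa [hGt, map_mul, map_sub, aeval_C] using h1
  refine ⟨w • Gt, ?_, ?_⟩
  · have hw' : algebraMap A B γ * algebraMap A B w = 1 := by rw [← map_mul, hγw, map_one]
    change (w • Gt) * (w • Gt) = w • Gt
    rw [Algebra.smul_def]
    linear_combination (algebraMap A B w) ^ 2 * h0 + (algebraMap A B w * Gt) * hw'
  · have h1 : Gt - t ^ n ∈ 𝔟 := by
      have := aeval_mem_map_of_coeff_mem (B := B) I t (g₁ - X ^ n) hgI
      simpa [hGt] using this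
    have h2 : t ^ n - t ∈ 𝔟 := pow_sub_self_mem 𝔟 t ht n hnpos
    have h3 : (w - 1) • Gt ∈ 𝔟 := by
      rw [Algebra.smul_def]
      exact Ideal.mul_mem_right _ _ (Ideal.mem_map_of_mem _ hw1)
    have h4 : w • Gt - t = (w - 1) • Gt + (Gt - t ^ n) + (t ^ n - t) := by
      rw [sub_smul, one_smul]; ring
    rw [h4]
    exact 𝔟.add_mem (𝔟.add_mem h3 h1) h2

end Groth.Agent.H3
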