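import Groth.Agent.H3.HPair2
import Groth.Agent.H3.HenselFinite
import Mathlib.RingTheory.ZariskisMainTheorem
import Mathlib.RingTheory.Unramified.LocalStructure
import Mathlib.RingTheory.Unramified.Finite
import Mathlib.RingTheory.Etale.Basic
import Mathlib.RingTheory.Smooth.Flat
import Mathlib.RingTheory.Flat.EquationalCriterion
import Mathlib.RingTheory.Finiteness.ModuleFinitePresentation

set_option autoImplicit false
set_option linter.unusedSimpArgs false
set_option linter.unusedVariables false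
set_option linter.style.haveILetI false
universe u

namespace Groth.Agent.H3

open Polynomial TensorProduct

variable {A : Type*} [CommRing A]

theorem algHom_eq_zero_of_mem_map {A' : Type*} [CommRing A'] [Algebra A A'] (I : Ideal A)
    (σ : A' →ₐ[A] A ⧸ I) (x : A') (hx : x ∈ I.map (algebraMap A A')) : σ x = 0 := by
  have : I.map (algebraMap A A') ≤ RingHom.ker σ.toRingHom := by
    rw [Ideal.map_le_iff_le_comap]
    intro a ha
    rw [Ideal.mem_comap, RingHom.mem_ker]
    change σ (algebraMap A A' a) = 0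
    rw [AlgHom.commutes, Ideal.Quotient.algebraMap_eq, Ideal.Quotient.eq_zero_iff_mem]
    exact ha
  exact this hx

/-- For an unramified algebra with a section modulo `I`, there is an element cutting out the
section modulo `I`. -/
theorem exists_section_elem {A' : Type*} [CommRing A'] [Algebra A A']
    [Algebra.EssFiniteType A A'] [Algebra.FormallyUnramified A A'] (I : Ideal A)
    (σ : A' →ₐ[A] A ⧸ I) :
    ∃ f : A', σ f = 1 ∧ ∀ (s : A') (a : A), Ideal.Quotient.mk I a = σ s →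
      (algebraMap A A' a - s) * f ∈ I.map (algebraMap A A') := by
  obtain ⟨tt, htt1, htt2⟩ :=
    (Algebra.FormallyUnramified.iff_exists_tensorProduct (R := A) (S := A')).mp inferInstance
  set 𝔞 := I.map (algebraMap A A') with h𝔞
  have hσ𝔞 : ∀ x ∈ 𝔞, σ x = 0 := fun x hx => algHom_eq_zero_of_mem_map I σ x hx
  let ρ : A ⧸ I →ₐ[A] A' ⧸ 𝔞 := Ideal.Quotient.liftₐ I (Algebra.ofId A (A' ⧸ 𝔞)) (by
    intro a ha
    rw [Algebra.ofId_apply, IsScalarTower.algebraMap_apply A A' (A' ⧸ 𝔞),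
      Ideal.Quotient.algebraMap_eq, Ideal.Quotient.eq_zero_iff_mem]
    exact Ideal.mem_map_of_mem _ ha)
  have hρ : ∀ a : A, ρ (Ideal.Quotient.mk I a) = Ideal.Quotient.mk 𝔞 (algebraMap A A' a) := by
    intro a
    change Ideal.Quotient.liftₐ I (Algebra.ofId A (A' ⧸ 𝔞)) _ (Ideal.Quotient.mk I a) = _
    rw [Ideal.Quotient.liftₐ_apply, Ideal.Quotient.lift_mk]
    change algebraMap A (A' ⧸ 𝔞) a = _
    rw [IsScalarTower.algebraMap_apply A A' (A' ⧸ 𝔞), Ideal.Quotient.algebraMap_eq]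
  let ψ : A' →ₐ[A] A' ⧸ 𝔞 := ρ.comp σ
  let Φ : A' ⊗[A] A' →ₐ[A] A' ⧸ 𝔞 :=
    Algebra.TensorProduct.lift (Ideal.Quotient.mkₐ A 𝔞) ψ (fun _ _ => Commute.all _ _)
  have hΦ : ∀ x y : A', Φ (x ⊗ₜ[A] y) = Ideal.Quotient.mk 𝔞 x * ψ y := fun x y =>
    Algebra.TensorProduct.lift_tmul _ _ _ x y
  let σ' : A' ⧸ 𝔞 →ₐ[A] A ⧸ I := Ideal.Quotient.liftₐ 𝔞 σ hσ𝔞
  have hσ' : ∀ x : A', σ' (Ideal.Quotient.mk 𝔞 x) = σ x := by
    intro x
    change Ideal.Quotient.liftₐ 𝔞 σ hσ𝔞 (Ideal.Quotient.mk 𝔞 x) = _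
    rw [Ideal.Quotient.liftₐ_apply, Ideal.Quotient.lift_mk]
    rfl
  have hσ'ρ : ∀ z : A ⧸ I, σ' (ρ z) = z := by
    intro z
    obtain ⟨a, rfl⟩ := Ideal.Quotient.mk_surjective z
    rw [hρ, hσ', AlgHom.commutes]
    rfl
  have hcomp : σ'.comp Φ = σ.comp (Algebra.TensorProduct.lmul' A) := by
    apply Algebra.TensorProduct.ext'
    intro x y
    rw [AlgHom.comp_apply, AlgHom.comp_apply, hΦ, map_mul, hσ',
      Algebra.TensorProduct.lmul'_apply_tmul, map_mul]
    congr 1
    exact hσ'ρ (σ y)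
  obtain ⟨f, hf⟩ := Ideal.Quotient.mk_surjective (Φ tt)
  refine ⟨f, ?_, ?_⟩
  · rw [← hσ' f, hf]
    have := AlgHom.congr_fun hcomp tt
    rw [AlgHom.comp_apply, AlgHom.comp_apply] at this
    rw [this, htt2, map_one]
  · intro s a has
    have h1 := congr_arg Φ (htt1 s)
    rw [map_mul, map_zero, map_sub, hΦ, hΦ, map_one, map_one, one_mul, mul_one] at h1
    have h2 : ψ s = Ideal.Quotient.mk 𝔞 (algebraMap A A' a) := by
      change ρ (σ s) = _
      rw [← has, hρ]
    rw [← Ideal.Quotient.eq_zero_iff_mem, map_mul, map_sub, hf, ← h2]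
    exact h1

/-- Global form of Zariski's main theorem along a section. -/
theorem exists_zmt_elem {A' : Type*} [CommRing A'] [Algebra A A'] [Algebra.FiniteType A A']
    [Algebra.QuasiFinite A A'] (I : Ideal A) (σ : A' →ₐ[A] A ⧸ I) :
    ∃ r : A', IsIntegral A r ∧ σ r = 1 ∧ ∀ x : A', ∃ m, IsIntegral A (r ^ m * x) := by
  classical
  let cond : A' → Ideal (integralClosure A A') := fun x =>
    { carrier := {s | (s : A') * x ∈ integralClosure A A'}
      add_mem' := by
        intro a b ha hb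
        simp only [Set.mem_setOf_eq] at ha hb ⊢
        rw [Subalgebra.coe_add, add_mul]; exact Subalgebra.add_mem _ ha hb
      zero_mem' := by
        simp only [Set.mem_setOf_eq, ZeroMemClass.coe_zero, zero_mul]
        exact Subalgebra.zero_mem _
      smul_mem' := by
        intro c a ha
        simp only [Set.mem_setOf_eq, smul_eq_mul] at ha ⊢
        rw [Subalgebra.coe_mul, mul_assoc]; exact Subalgebra.mul_mem _ c.2 ha }
  let J : Ideal (integralClosure A A') := ⨅ x, (cond x).radical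
  have hJ : ∀ s : integralClosure A A', s ∈ J ↔ ∀ x, ∃ m, IsIntegral A ((s : A') ^ m * x) := by
    intro s
    constructor
    · intro h x
      obtain ⟨n, hn⟩ := Ideal.mem_radical_iff.mp ((Ideal.mem_iInf.mp h) x)
      have h1 : ((s ^ n : integralClosure A A') : A') * x ∈ integralClosure A A' := hn
      rw [Subalgebra.coe_pow] at h1
      exact ⟨n, h1⟩
    · intro h
      refine Ideal.mem_iInf.mpr fun x => ?_
      obtain ⟨n, hn⟩ := h x
      refine Ideal.mem_radical_iff.mpr ⟨n, ?_⟩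
      change ((s ^ n : integralClosure A A') : A') * x ∈ integralClosure A A'
      rw [Subalgebra.coe_pow]
      exact hn
  let σS : integralClosure A A' →+* A ⧸ I :=
    σ.toRingHom.comp (integralClosure A A').val.toRingHom
  have hσS : Function.Surjective σS := by
    intro z
    obtain ⟨a, rfl⟩ := Ideal.Quotient.mk_surjective z
    refine ⟨algebraMap A (integralClosure A A') a, ?_⟩
    change σ (algebraMap A A' a) = _
    rw [AlgHom.commutes]; rfl
  have htop : J.map σS = ⊤ := by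
    by_contra hne
    obtain ⟨M, hM, hJM⟩ := Ideal.exists_le_maximal _ hne
    let q : Ideal A' := M.comap σ.toRingHom
    haveI : q.IsPrime := Ideal.IsPrime.comap _
    obtain ⟨r, hrq, hrint, hr⟩ := Algebra.zariskisMainProperty_iff.mp
      (Algebra.ZariskisMainProperty.of_finiteType (R := A) q)
    have hrJ : (⟨r, hrint⟩ : integralClosure A A') ∈ J := (hJ _).mpr hr
    have : σS ⟨r, hrint⟩ ∈ M := hJM (Ideal.mem_map_of_mem _ hrJ)
    exact hrq this
  obtain ⟨r', hr'J, hr'1⟩ := (Ideal.mem_map_iff_of_surjective σS hσS).mp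
    (htop ▸ Submodule.mem_top : (1 : A ⧸ I) ∈ J.map σS)
  exact ⟨r', r'.2, hr'1, (hJ r').mp hr'J⟩

theorem exists_finite_subalgebra {A' : Type*} [CommRing A'] [Algebra A A']
    [Algebra.FiniteType A A'] (r : A') (hr : IsIntegral A r)
    (hrJ : ∀ x : A', ∃ m, IsIntegral A (r ^ m * x)) :
    ∃ B : Subalgebra A A', B.toSubmodule.FG ∧ r ∈ B ∧ B ≤ integralClosure A A' ∧
      ∀ x : A', ∃ k, r ^ k * x ∈ B := by
  classical
  obtain ⟨s, hs⟩ := Algebra.FiniteType.out (R := A) (A := A')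
  choose mf hmf using hrJ
  let T₀ : Set A' := insert r ((fun x => r ^ mf x * x) '' (s : Set A'))
  have hT₀fin : T₀.Finite := (s.finite_toSet.image _).insert r
  have hT₀int : ∀ x ∈ T₀, IsIntegral A x := by
    rintro x (rfl | ⟨y, -, rfl⟩)
    · exact hr
    · exact hmf y
  have hrB : r ∈ Algebra.adjoin A T₀ := Algebra.subset_adjoin (Set.mem_insert _ _)
  refine ⟨Algebra.adjoin A T₀, fg_adjoin_of_finite hT₀fin hT₀int, hrB,
    Algebra.adjoin_le (fun x hx => hT₀int x hx), ?_⟩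
  intro x
  have hx : x ∈ Algebra.adjoin A (s : Set A') := by rw [hs]; trivial
  induction hx using Algebra.adjoin_induction with
  | mem y hy => exact ⟨mf y, Algebra.subset_adjoin (Set.mem_insert_of_mem _ ⟨y, hy, rfl⟩)⟩
  | algebraMap a => exact ⟨0, by simpa using Subalgebra.algebraMap_mem _ a⟩
  | add y z _ _ hy hz =>
    obtain ⟨k₁, h₁⟩ := hy
    obtain ⟨k₂, h₂⟩ := hz
    refine ⟨k₁ + k₂, ?_⟩
    have : r ^ (k₁ + k₂) * (y + z) = r ^ k₂ * (r ^ k₁ * y) + r ^ k₁ * (r ^ k₂ * z) := by ring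
    rw [this]
    exact Subalgebra.add_mem _ (Subalgebra.mul_mem _ (Subalgebra.pow_mem _ hrB _) h₁)
      (Subalgebra.mul_mem _ (Subalgebra.pow_mem _ hrB _) h₂)
  | mul y z _ _ hy hz =>
    obtain ⟨k₁, h₁⟩ := hy
    obtain ⟨k₂, h₂⟩ := hz
    refine ⟨k₁ + k₂, ?_⟩
    have : r ^ (k₁ + k₂) * (y * z) = (r ^ k₁ * y) * (r ^ k₂ * z) := by ring
    rw [this]
    exact Subalgebra.mul_mem _ h₁ h₂

theorem exists_pow_mul_mem_map {A' : Type*} [CommRing A'] [Algebra A A'] (I : Ideal A)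
    (B : Subalgebra A A') (r : B) (hloc : ∀ x : A', ∃ k, (r : A') ^ k * x ∈ B)
    (y : B) (hy : (y : A') ∈ I.map (algebraMap A A')) :
    ∃ k, r ^ k * y ∈ I.map (algebraMap A B) := by
  have key : ∀ z : A', z ∈ I • (⊤ : Submodule A A') →
      ∃ k, ∃ b : B, (b : A') = (r : A') ^ k * z ∧ b ∈ I.map (algebraMap A B) := by
    intro z hz
    refine Submodule.smul_induction_on hz (fun i hi n _ => ?_) (fun x₁ x₂ h₁ h₂ => ?_)
    · obtain ⟨k, hk⟩ := hloc n
      refine ⟨k, i • ⟨_, hk⟩, ?_, ?_⟩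
      · rw [Subalgebra.coe_smul, mul_smul_comm]
      · rw [Algebra.smul_def]
        exact Ideal.mul_mem_right _ _ (Ideal.mem_map_of_mem _ hi)
    · obtain ⟨k₁, b₁, hb₁, hb₁'⟩ := h₁
      obtain ⟨k₂, b₂, hb₂, hb₂'⟩ := h₂
      refine ⟨k₁ + k₂, r ^ k₂ * b₁ + r ^ k₁ * b₂, ?_, ?_⟩
      · simp only [Subalgebra.coe_add, Subalgebra.coe_mul, Subalgebra.coe_pow, hb₁, hb₂]; ring
      · exact Ideal.add_mem _ (Ideal.mul_mem_left _ _ hb₁') (Ideal.mul_mem_left _ _ hb₂')
  have hy' : (y : A') ∈ I • (⊤ : Submodule A A') := by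
    rw [Ideal.smul_top_eq_map]; exact hy
  obtain ⟨k, b, hb, hb'⟩ := key _ hy'
  refine ⟨k, ?_⟩
  have : r ^ k * y = b := Subtype.ext (by
    rw [Subalgebra.coe_mul, Subalgebra.coe_pow, hb])
  rw [this]; exact hb'

end Groth.Agent.H3
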