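import Groth.Agent.H3.HPair3

set_option autoImplicit false
set_option linter.unusedSimpArgs false
set_option linter.unusedVariables false
set_option linter.style.haveILetI false
universe u

namespace Groth.Agent.H3

open Polynomial TensorProduct

/-- Étale lifting for pairs satisfying Gabber's criterion. -/
theorem exists_lift_of_etale_of_gabber {A : Type u} [CommRing A] (I : Ideal A)
    (hjac : I ≤ Ideal.jacobson ⊥)
    (G : ∀ n : ℕ, 0 < n → ∀ p : A[X], p.natDegree ≤ n → (∀ i, p.coeff i ∈ I) →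
      ∃ α : A, α - 1 ∈ I ∧ IsRoot (X ^ n * (X - 1) + p) α)
    (A' : Type u) [CommRing A'] [Algebra A A'] [Algebra.Etale A A']
    (σ : A' →ₐ[A] A ⧸ I) : ∃ τ : A' →ₐ[A] A, (Ideal.Quotient.mkₐ A I).comp τ = σ := by
  classical
  set 𝔞 := I.map (algebraMap A A') with h𝔞
  have hσ𝔞 : ∀ x ∈ 𝔞, σ x = 0 := fun x hx => algHom_eq_zero_of_mem_map I σ x hx
  obtain ⟨f, hf1, hf2⟩ := exists_section_elem I σ
  obtain ⟨r, hrint, hr1, hrJ⟩ := exists_zmt_elem I σ
  obtain ⟨B, hBfg, hrB, hBS, hloc⟩ := exists_finite_subalgebra r hrint hrJ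
  haveI : Module.Finite A B := ⟨(Submodule.fg_top _).mpr hBfg⟩
  let rB : B := ⟨r, hrB⟩
  set 𝔟 := I.map (algebraMap A B) with h𝔟
  have KP : ∀ y : B, (y : A') ∈ 𝔞 → ∃ k, rB ^ k * y ∈ 𝔟 :=
    fun y hy => exists_pow_mul_mem_map I B rB hloc y hy
  have h𝔟𝔞 : ∀ y : B, y ∈ 𝔟 → (y : A') ∈ 𝔞 := by
    intro y hy
    have : 𝔟.map B.val.toRingHom ≤ 𝔞 := by
      rw [h𝔟, Ideal.map_map, AlgHom.toRingHom_eq_coe, AlgHom.comp_algebraMap]
    exact this (Ideal.mem_map_of_mem _ hy)
  have F1 : (r - 1) * f ∈ 𝔞 := by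
    have := hf2 r 1 (by rw [map_one, hr1])
    rw [map_one] at this
    have h : (r - 1) * f = -((1 - r) * f) := by ring
    rw [h]; exact 𝔞.neg_mem this
  have F2 : (f - 1) * f ∈ 𝔞 := by
    have := hf2 f 1 (by rw [map_one, hf1])
    rw [map_one] at this
    have h : (f - 1) * f = -((1 - f) * f) := by ring
    rw [h]; exact 𝔞.neg_mem this
  obtain ⟨m₀, hm₀⟩ := hloc f
  let s₀ : B := ⟨r ^ m₀ * f, hm₀⟩
  have hy₁ : (((rB - 1) * s₀ : B) : A') ∈ 𝔞 := by
    have : (((rB - 1) * s₀ : B) : A') = r ^ m₀ * ((r - 1) * f) := by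
      simp only [Subalgebra.coe_mul, Subalgebra.coe_sub, Subalgebra.coe_one, rB, s₀]; ring
    rw [this]; exact 𝔞.mul_mem_left _ F1
  obtain ⟨n₁, hn₁⟩ := KP _ hy₁
  have hy₂ : ((s₀ ^ 2 - rB ^ m₀ * s₀ : B) : A') ∈ 𝔞 := by
    have : ((s₀ ^ 2 - rB ^ m₀ * s₀ : B) : A') = r ^ (2 * m₀) * ((f - 1) * f) := by
      simp only [Subalgebra.coe_mul, Subalgebra.coe_sub, Subalgebra.coe_pow, rB, s₀]; ring
    rw [this]; exact 𝔞.mul_mem_left _ F2
  obtain ⟨n₂, hn₂⟩ := KP _ hy₂
  let t : B := rB ^ n₁ * s₀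
  have htcoe : (t : A') = r ^ n₁ * (r ^ m₀ * f) := by
    simp only [Subalgebra.coe_mul, Subalgebra.coe_pow, t, rB, s₀]
  let π := Ideal.Quotient.mk 𝔟
  have ht' : π t = π rB ^ n₁ * π s₀ := by simp only [t, map_mul, map_pow]
  have hRT : π rB * π t = π t := by
    have h : π (rB ^ n₁ * ((rB - 1) * s₀)) = 0 := Ideal.Quotient.eq_zero_iff_mem.mpr hn₁
    simp only [map_mul, map_sub, map_pow, map_one] at h
    rw [ht']
    linear_combination h
  have hRkT : ∀ k, π rB ^ k * π t = π t := by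
    intro k
    induction k with
    | zero => simp
    | succ k ih => rw [pow_succ, mul_assoc, hRT, ih]
  have hTT : π t * π t = π t := by
    have h2 : π (rB ^ n₂ * (s₀ ^ 2 - rB ^ m₀ * s₀)) = 0 := Ideal.Quotient.eq_zero_iff_mem.mpr hn₂
    simp only [map_mul, map_sub, map_pow] at h2
    have h3 : π t * π t = π rB ^ n₂ * (π t * π t) := by rw [← mul_assoc, hRkT]
    have e1 : π t * π t = π rB ^ (n₁ + n₂ + m₀) * π t := by
      calc π t * π t = π rB ^ n₂ * (π t * π t) := h3
        _ = π rB ^ (n₁ + n₂ + m₀) * π t := by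
          rw [ht']; linear_combination (π rB ^ (2 * n₁)) * h2
    rw [e1, hRkT]
  have ht2 : t ^ 2 - t ∈ 𝔟 := by
    rw [← Ideal.Quotient.eq_zero_iff_mem, map_sub, map_pow, pow_two]
    exact sub_eq_zero.mpr hTT
  have hrank : ∀ x : B, ∃ a : A, t * x - a • t ∈ 𝔟 := by
    intro x
    obtain ⟨a, ha⟩ := Ideal.Quotient.mk_surjective (σ (x : A'))
    refine ⟨a, ?_⟩
    have hy₃ : (((algebraMap A B a - x) * s₀ : B) : A') ∈ 𝔞 := by
      have : (((algebraMap A B a - x) * s₀ : B) : A') =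
          r ^ m₀ * ((algebraMap A A' a - x) * f) := by
        simp only [Subalgebra.coe_mul, Subalgebra.coe_sub, Subalgebra.coe_algebraMap, s₀]; ring
      rw [this]; exact 𝔞.mul_mem_left _ (hf2 _ _ ha)
    obtain ⟨n₃, hn₃⟩ := KP _ hy₃
    have h5 : π (rB ^ n₃ * ((algebraMap A B a - x) * s₀)) = 0 :=
      Ideal.Quotient.eq_zero_iff_mem.mpr hn₃
    simp only [map_mul, map_sub, map_pow] at h5
    rw [← Ideal.Quotient.eq_zero_iff_mem, Algebra.smul_def, map_sub, map_mul, map_mul]
    have h6 := hRkT n₃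
    calc π t * π x - π (algebraMap A B a) * π t
        = -((π (algebraMap A B a) - π x) * (π rB ^ n₃ * π t)) := by rw [h6]; ring
      _ = 0 := by rw [ht']; linear_combination (-(π rB ^ n₁)) * h5
  obtain ⟨eB, heB, heBt⟩ := exists_idempotent_of_rank_one I hjac G B t ht2 hrank
  obtain ⟨e, he_def⟩ : ∃ e : A', e = (eB : A') := ⟨_, rfl⟩
  have he : IsIdempotentElem e := by
    have := congr_arg (fun z : B => (z : A')) heB.eq
    simp only [Subalgebra.coe_mul] at this
    rw [he_def]; exact this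
  have het : e - (t : A') ∈ 𝔞 := by
    have := h𝔟𝔞 _ heBt
    rw [Subalgebra.coe_sub] at this
    rw [he_def]; exact this
  have hσt : σ (t : A') = 1 := by
    rw [htcoe, map_mul, map_mul, map_pow, map_pow, hr1, hf1]; simp
  have hσe : σ e = 1 := by
    have := hσ𝔞 _ het
    rw [map_sub, sub_eq_zero] at this
    rw [this, hσt]
  have heint : IsIntegral A e := by rw [he_def]; exact hBS eB.2
  have htint : IsIntegral A (t : A') := hBS t.2
  -- integrality of `e * x`
  have hex : ∀ x : A', IsIntegral A (e * x) := by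
    intro x
    obtain ⟨m, hm⟩ := hrJ x
    let e' : integralClosure A A' := ⟨e, heint⟩
    let r' : integralClosure A A' := ⟨r, hrint⟩
    let t' : integralClosure A A' := ⟨(t : A'), htint⟩
    let c : Ideal (integralClosure A A') :=
      { carrier := {s | (s : A') * (e * x) ∈ integralClosure A A'}
        add_mem' := by
          intro a b ha hb
          simp only [Set.mem_setOf_eq] at ha hb ⊢
          rw [Subalgebra.coe_add, add_mul]; exact Subalgebra.add_mem _ ha hb
        zero_mem' := by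
          simp only [Set.mem_setOf_eq, ZeroMemClass.coe_zero, zero_mul]
          exact Subalgebra.zero_mem _
        smul_mem' := by
          intro c a ha
          simp only [Set.mem_setOf_eq, smul_eq_mul] at ha ⊢
          rw [Subalgebra.coe_mul, mul_assoc]; exact Subalgebra.mul_mem _ c.2 ha }
    have hc1 : r' ^ m ∈ c := by
      change ((r' ^ m : integralClosure A A') : A') * (e * x) ∈ integralClosure A A'
      rw [Subalgebra.coe_pow]
      have : (r' : A') ^ m * (e * x) = e * (r ^ m * x) := by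
        change r ^ m * (e * x) = _; ring
      rw [this]; exact Subalgebra.mul_mem _ heint hm
    have hc2 : 1 - e' ∈ c := by
      change ((1 - e' : integralClosure A A') : A') * (e * x) ∈ integralClosure A A'
      have : ((1 - e' : integralClosure A A') : A') * (e * x) = 0 := by
        rw [Subalgebra.coe_sub, Subalgebra.coe_one]
        change (1 - e) * (e * x) = 0
        have := he.eq; linear_combination (-x) * this
      rw [this]; exact Subalgebra.zero_mem _
    set 𝔰 := I.map (algebraMap A (integralClosure A A')) with h𝔰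
    have h𝔟𝔰 : ∀ y : B, y ∈ 𝔟 → (⟨(y : A'), hBS y.2⟩ : integralClosure A A') ∈ 𝔰 := by
      intro y hy
      have : 𝔟.map (Subalgebra.inclusion hBS).toRingHom ≤ 𝔰 := by
        rw [h𝔟, Ideal.map_map, AlgHom.toRingHom_eq_coe, AlgHom.comp_algebraMap]
      exact this (Ideal.mem_map_of_mem _ hy)
    have h1 : e' - t' ∈ 𝔰 := by
      have h := h𝔟𝔰 _ heBt
      have heq : (⟨((eB - t : B) : A'), hBS (eB - t).2⟩ : integralClosure A A') = e' - t' :=
        Subtype.ext (by
          rw [Subalgebra.coe_sub, Subalgebra.coe_sub]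
          change (eB : A') - (t : A') = e - (t : A')
          rw [he_def])
      rw [← heq]; exact h
    have h2 : t' - r' ^ m * t' ∈ 𝔰 := by
      have h3 : t - rB ^ m * t ∈ 𝔟 := by
        rw [← Ideal.Quotient.eq_zero_iff_mem, map_sub, map_mul, map_pow]
        change π t - π rB ^ m * π t = 0
        rw [hRkT, sub_self]
      have h := h𝔟𝔰 _ h3
      have heq : (⟨((t - rB ^ m * t : B) : A'), hBS (t - rB ^ m * t).2⟩ :
          integralClosure A A') = t' - r' ^ m * t' :=
        Subtype.ext (by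
          simp only [Subalgebra.coe_sub, Subalgebra.coe_mul, Subalgebra.coe_pow]
          rfl)
      rw [← heq]; exact h
    have hmem : (1 - e') + r' ^ m * t' ∈ c := c.add_mem hc2 (c.mul_mem_right _ hc1)
    have hj : (e' - t') + (t' - r' ^ m * t') ∈
        Ideal.jacobson (⊥ : Ideal (integralClosure A A')) :=
      map_le_jacobson_of_isIntegral I hjac (𝔰.add_mem h1 h2)
    have hunit : IsUnit ((1 - e') + r' ^ m * t') := by
      have := Ideal.mem_jacobson_bot.mp hj (-1)
      have h4 : ((e' - t') + (t' - r' ^ m * t')) * (-1) + 1 = (1 - e') + r' ^ m * t' := by ring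
      rwa [h4] at this
    have hctop : c = ⊤ := Ideal.eq_top_of_isUnit_mem _ hmem hunit
    have h5 : (1 : integralClosure A A') ∈ c := hctop ▸ Submodule.mem_top
    have h6 : ((1 : integralClosure A A') : A') * (e * x) ∈ integralClosure A A' := h5
    rw [Subalgebra.coe_one, one_mul] at h6
    exact h6
  -- the quotient
  set J₁ : Ideal A' := Ideal.span {1 - e} with hJ₁
  have hσJ₁ : ∀ z ∈ J₁, σ z = 0 := by
    intro z hz
    obtain ⟨w, rfl⟩ := Ideal.mem_span_singleton'.mp hz
    rw [map_mul, map_sub, map_one, hσe, sub_self, mul_zero]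
  have hmke : Ideal.Quotient.mk J₁ e = 1 := by
    rw [← sub_eq_zero, ← map_one (Ideal.Quotient.mk J₁), ← map_sub,
      Ideal.Quotient.eq_zero_iff_mem]
    have : e - 1 = -(1 - e) := by ring
    rw [this]; exact J₁.neg_mem (Ideal.subset_span rfl)
  have hcompJ : (Ideal.Quotient.mk J₁).comp (algebraMap A A') = algebraMap A (A' ⧸ J₁) := by
    rw [IsScalarTower.algebraMap_eq A A' (A' ⧸ J₁), Ideal.Quotient.algebraMap_eq]
  haveI : IsLocalization.Away e (A' ⧸ J₁) := IsLocalization.away_of_isIdempotentElem he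
    (by rw [Ideal.Quotient.algebraMap_eq, Ideal.mk_ker])
    (by rw [Ideal.Quotient.algebraMap_eq]; exact Ideal.Quotient.mk_surjective)
  haveI : Algebra.Etale A' (A' ⧸ J₁) := Algebra.Etale.of_isLocalizationAway e
  haveI : Algebra.Etale A (A' ⧸ J₁) := Algebra.Etale.comp A A' (A' ⧸ J₁)
  haveI : Algebra.IsIntegral A (A' ⧸ J₁) := by
    constructor
    intro z
    obtain ⟨x, rfl⟩ := Ideal.Quotient.mk_surjective z
    have : Ideal.Quotient.mk J₁ x = Ideal.Quotient.mkₐ A J₁ (e * x) := by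
      rw [Ideal.Quotient.mkₐ_eq_mk, map_mul, hmke, one_mul]
    rw [this]
    exact (hex x).map (Ideal.Quotient.mkₐ A J₁)
  haveI : Module.Finite A (A' ⧸ J₁) := Algebra.IsIntegral.finite
  haveI : Module.FinitePresentation A (A' ⧸ J₁) :=
    Module.FinitePresentation.of_finite_of_finitePresentation A (A' ⧸ J₁)
  haveI : Module.Projective A (A' ⧸ J₁) := Module.Flat.projective_of_finitePresentation
  have hsurj : Function.Surjective (algebraMap A (A' ⧸ J₁)) := by
    have hle : (⊤ : Submodule A (A' ⧸ J₁)) ≤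
        LinearMap.range (Algebra.linearMap A (A' ⧸ J₁)) := by
      apply Submodule.le_of_le_smul_of_le_jacobson_bot Module.Finite.fg_top hjac
      intro z _
      obtain ⟨x, rfl⟩ := Ideal.Quotient.mk_surjective z
      obtain ⟨a, ha⟩ := Ideal.Quotient.mk_surjective (σ x)
      have h1 : (x - algebraMap A A' a) * e ∈ 𝔞 := by
        have h2 : (x - algebraMap A A' a) * e = (x - algebraMap A A' a) * (e - (t : A')) -
            r ^ (n₁ + m₀) * ((algebraMap A A' a - x) * f) := by
          rw [htcoe]; ring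
        rw [h2]
        exact 𝔞.sub_mem (𝔞.mul_mem_left _ het) (𝔞.mul_mem_left _ (hf2 _ _ ha))
      have h3 : Ideal.Quotient.mk J₁ x = algebraMap A (A' ⧸ J₁) a +
          Ideal.Quotient.mk J₁ ((x - algebraMap A A' a) * e) := by
        rw [map_mul, hmke, mul_one, map_sub, ← hcompJ, RingHom.comp_apply]; ring
      rw [h3]
      refine Submodule.add_mem_sup ⟨a, rfl⟩ ?_
      rw [Ideal.smul_top_eq_map]
      change _ ∈ I.map (algebraMap A (A' ⧸ J₁))
      have : 𝔞.map (Ideal.Quotient.mk J₁) ≤ I.map (algebraMap A (A' ⧸ J₁)) := by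
        rw [h𝔞, Ideal.map_map, hcompJ]
      exact this (Ideal.mem_map_of_mem _ h1)
    intro z
    obtain ⟨a, ha⟩ := hle (Submodule.mem_top : z ∈ ⊤)
    exact ⟨a, ha⟩
  obtain ⟨sec, hsec⟩ := Module.projective_lifting_property
    (Algebra.linearMap A (A' ⧸ J₁)) (LinearMap.id) hsurj
  obtain ⟨ε, hε⟩ : ∃ ε, ε = sec 1 := ⟨_, rfl⟩
  have hπε : algebraMap A (A' ⧸ J₁) ε = 1 := by
    have := LinearMap.congr_fun hsec 1
    rw [hε]
    simpa using this
  have hεI : 1 - ε ∈ I := by
    have h1 : algebraMap A (A' ⧸ J₁) (1 - ε) = 0 := by rw [map_sub, map_one, hπε, sub_self]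
    rw [← hcompJ, RingHom.comp_apply, Ideal.Quotient.eq_zero_iff_mem] at h1
    have h2 := hσJ₁ _ h1
    rw [AlgHom.commutes, Ideal.Quotient.algebraMap_eq, Ideal.Quotient.eq_zero_iff_mem] at h2
    exact h2
  have hεu : IsUnit ε := isUnit_of_sub_mem I hjac isUnit_one hεI
  have hinj : Function.Injective (algebraMap A (A' ⧸ J₁)) := by
    rw [injective_iff_map_eq_zero]
    intro n hn
    have h1 : n * ε = 0 := by
      have : sec (n • (1 : A' ⧸ J₁)) = n • sec 1 := map_smul sec n 1
      rw [Algebra.smul_def, mul_one, hn, map_zero, smul_eq_mul, ← hε] at this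
      exact this.symm
    exact hεu.mul_left_eq_zero.mp h1
  let E : A ≃ₐ[A] (A' ⧸ J₁) := AlgEquiv.ofBijective (Algebra.ofId A (A' ⧸ J₁)) ⟨hinj, hsurj⟩
  refine ⟨(E.symm : (A' ⧸ J₁) →ₐ[A] A).comp (Ideal.Quotient.mkₐ A J₁), ?_⟩
  ext x
  obtain ⟨a, ha⟩ : ∃ a, a = E.symm (Ideal.Quotient.mk J₁ x) := ⟨_, rfl⟩
  have h1 : algebraMap A (A' ⧸ J₁) a = Ideal.Quotient.mk J₁ x := by
    rw [ha]; exact E.apply_symm_apply _
  have h2 : algebraMap A A' a - x ∈ J₁ := by
    rw [← Ideal.Quotient.eq_zero_iff_mem, map_sub, ← h1, ← hcompJ, RingHom.comp_apply, sub_self]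
  have h3 := hσJ₁ _ h2
  rw [map_sub, AlgHom.commutes, sub_eq_zero] at h3
  change Ideal.Quotient.mkₐ A I (E.symm (Ideal.Quotient.mkₐ A J₁ x)) = σ x
  have ha' : E.symm (Ideal.Quotient.mkₐ A J₁ x) = a := ha.symm
  rw [ha', ← h3]
  rfl

end Groth.Agent.H3
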