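import Groth.Agent.H3.HPair5
import Mathlib.RingTheory.Polynomial.UniversalFactorizationRing

set_option autoImplicit false
set_option linter.unusedSimpArgs false
set_option linter.unusedVariables false
set_option linter.style.haveILetI false
universe u

namespace Groth.Agent.H3

open Polynomial

theorem subsingleton_of_quotient_subsingleton {A : Type*} [CommRing A] (I : Ideal A)
    (hjac : I ≤ Ideal.jacobson ⊥) (hs : Subsingleton (A ⧸ I)) : Subsingleton A := by
  have h1 : (1 : A) ∈ I := by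
    rw [← Ideal.Quotient.eq_zero_iff_mem]; exact Subsingleton.elim _ _
  have h2 := Ideal.mem_jacobson_bot.mp (hjac h1) (-1)
  have h3 : (1 : A) * (-1) + 1 = 0 := by ring
  rw [h3, isUnit_zero_iff] at h2
  exact subsingleton_of_zero_eq_one h2

/-- Over a Henselian pair, coprime monic factorizations of the reduction of a monic
polynomial lift. -/
theorem exists_monic_factorization_of_henselianRing {A : Type u} [CommRing A] (I : Ideal A)
    [hI : HenselianRing A I]
    (f : A[X]) (hf : f.Monic) (g₀ h₀ : (A ⧸ I)[X]) (hg₀ : g₀.Monic) (hh₀ : h₀.Monic)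
    (hc : IsCoprime g₀ h₀) (hfac : f.map (Ideal.Quotient.mk I) = g₀ * h₀) :
    ∃ g h : A[X], g.Monic ∧ h.Monic ∧ f = g * h ∧ g.map (Ideal.Quotient.mk I) = g₀ ∧
      h.map (Ideal.Quotient.mk I) = h₀ := by
  rcases subsingleton_or_nontrivial (A ⧸ I) with hs | hnt
  · have hA : Subsingleton A := subsingleton_of_quotient_subsingleton I hI.jac hs
    exact ⟨1, 1, monic_one, monic_one, Subsingleton.elim _ _, Subsingleton.elim _ _,
      Subsingleton.elim _ _⟩
  have hn : f.natDegree = g₀.natDegree + h₀.natDegree := by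
    have := congr_arg natDegree hfac
    rwa [hf.natDegree_map, hg₀.natDegree_mul hh₀] at this
  let p : MonicDegreeEq A f.natDegree := .mk f hf rfl
  let G₀ : MonicDegreeEq (A ⧸ I) g₀.natDegree := .mk g₀ hg₀ rfl
  let H₀ : MonicDegreeEq (A ⧸ I) h₀.natDegree := .mk h₀ hh₀ rfl
  let E := UniversalCoprimeFactorizationRing.homEquiv (A ⧸ I)
    g₀.natDegree h₀.natDegree hn p
  have hprod : (G₀, H₀).1.1 * (G₀, H₀).2.1 = p.1.map (algebraMap A (A ⧸ I)) := by
    simpa [p, G₀, H₀, Ideal.Quotient.algebraMap_eq] using hfac.symm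
  let χ := E.symm ⟨(G₀, H₀), hprod, hc⟩
  obtain ⟨σ, hσ⟩ := exists_lift_of_etale_of_henselianRing I _ χ
  let ER := UniversalCoprimeFactorizationRing.homEquiv A g₀.natDegree h₀.natDegree hn p
  let Q := ER σ
  have hEχ : E χ = ⟨(G₀, H₀), hprod, hc⟩ := E.apply_symm_apply _
  refine ⟨Q.1.1.1, Q.1.2.1, Q.1.1.monic, Q.1.2.monic, ?_, ?_, ?_⟩
  · have := Q.2.1
    simpa [p] using this.symm
  · have h1 := UniversalCoprimeFactorizationRing.homEquiv_comp_fst A g₀.natDegree h₀.natDegree hn p
      σ (Ideal.Quotient.mkₐ A I)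
    rw [hσ] at h1
    change (E χ).1.1 = _ at h1
    rw [hEχ] at h1
    have := congr_arg Subtype.val h1
    exact (by simpa [G₀] using this.symm :
      Polynomial.map ((Ideal.Quotient.mkₐ A I : A →ₐ[A] A ⧸ I) : A →+* A ⧸ I) Q.1.1.1 = g₀)
  · have h1 := UniversalCoprimeFactorizationRing.homEquiv_comp_snd A g₀.natDegree h₀.natDegree hn p
      σ (Ideal.Quotient.mkₐ A I)
    rw [hσ] at h1
    change (E χ).1.2 = _ at h1
    rw [hEχ] at h1
    have := congr_arg Subtype.val h1
    exact (by simpa [H₀] using this.symm :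
      Polynomial.map ((Ideal.Quotient.mkₐ A I : A →ₐ[A] A ⧸ I) : A →+* A ⧸ I) Q.1.2.1 = h₀)

/-- Factorization lifting (even only for linear factors) implies Henselian. -/
theorem henselianRing_of_factor_lift_pair {A : Type*} [CommRing A] (I : Ideal A)
    (hjac : I ≤ Ideal.jacobson ⊥)
    (FL : ∀ f : A[X], f.Monic → ∀ g₀ h₀ : (A ⧸ I)[X], g₀.Monic → h₀.Monic →
      IsCoprime g₀ h₀ → f.map (Ideal.Quotient.mk I) = g₀ * h₀ →
      ∃ g h : A[X], g.Monic ∧ h.Monic ∧ f = g * h ∧
        g.map (Ideal.Quotient.mk I) = g₀ ∧ h.map (Ideal.Quotient.mk I) = h₀) :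
    HenselianRing A I where
  jac := hjac
  is_henselian := by
    intro f hf a₀ h₁ h₂
    rcases subsingleton_or_nontrivial (A ⧸ I) with hs | hnt
    · have hA : Subsingleton A := subsingleton_of_quotient_subsingleton I hjac hs
      exact ⟨a₀, Subsingleton.elim _ _, by rw [sub_self]; exact I.zero_mem⟩
    set mk := Ideal.Quotient.mk I with hmk
    set fb : (A ⧸ I)[X] := f.map mk with hfb
    set b₀ : A ⧸ I := mk a₀ with hb₀
    have hroot' : fb.IsRoot b₀ := by
      rw [IsRoot, hfb, eval_map, hb₀, eval₂_at_apply, Ideal.Quotient.eq_zero_iff_mem]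
      exact h₁
    have hder' : IsUnit (fb.derivative.eval b₀) := by
      rw [hfb, derivative_map, eval_map, hb₀, eval₂_at_apply]
      exact h₂
    set h₀ := fb /ₘ (X - C b₀) with hh₀
    have hfac : (X - C b₀) * h₀ = fb := mul_divByMonic_eq_iff_isRoot.mpr hroot'
    have hh₀a : h₀.eval b₀ = fb.derivative.eval b₀ := by
      rw [← hfac, derivative_mul]
      simp
    have hh₀m : h₀.Monic := by
      have hfbm : fb.Monic := hf.map mk
      have := (monic_X_sub_C b₀).of_mul_monic_left (hfac.symm ▸ hfbm)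
      exact this
    have hcop : IsCoprime (X - C b₀) h₀ := by
      obtain ⟨q, hq⟩ := X_sub_C_dvd_sub_C_eval (a := b₀) (p := h₀)
      obtain ⟨v, hv⟩ := hder'
      refine ⟨-(C (↑v⁻¹ : A ⧸ I)) * q, C (↑v⁻¹ : A ⧸ I), ?_⟩
      have h3 : C (↑v⁻¹ : A ⧸ I) * C (h₀.eval b₀) = 1 := by
        rw [← C_mul, hh₀a, ← hv, Units.inv_mul, C_1]
      linear_combination (C (↑v⁻¹ : A ⧸ I)) * hq + h3
    obtain ⟨g, h, hgm, hhm, hfgh, hg, hh⟩ := FL f hf (X - C b₀) h₀ (monic_X_sub_C b₀) hh₀m hcop
      hfac.symm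
    have hgdeg : g.natDegree = 1 := by
      have := congr_arg natDegree hg
      rwa [hgm.natDegree_map, natDegree_X_sub_C] at this
    -- g = X - C a
    have hgeq : g = X + C (g.coeff 0) := by
      have h1 := hgm.as_sum
      rw [hgdeg] at h1
      simpa [Finset.sum_range_one] using h1
    refine ⟨-(g.coeff 0), ?_, ?_⟩
    · rw [IsRoot.def, hfgh, eval_mul]
      have : g.eval (-(g.coeff 0)) = 0 := by
        rw [hgeq]; simp
      rw [this, zero_mul]
    · have h1 := congr_arg (fun p => p.coeff 0) hg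
      simp only [coeff_map, coeff_sub, coeff_X_zero, coeff_C_zero, zero_sub] at h1
      rw [← Ideal.Quotient.eq, map_neg, h1, neg_neg]

end Groth.Agent.H3
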