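import Groth.Agent.H3.HPair7
import Mathlib.RingTheory.AdjoinRoot
import Mathlib.Algebra.Ring.GeomSum

set_option autoImplicit false
set_option linter.unusedSimpArgs false
set_option linter.unusedVariables false
set_option linter.style.haveILetI false
universe u

namespace Groth.Agent.H3

open Polynomial

/-- A projective algebra which is a quotient of `A` by an ideal inside `I ≤ Jac` is `A`. -/
theorem algebraMap_bijective_of_projective {A : Type*} [CommRing A] (I : Ideal A)
    (hjac : I ≤ Ideal.jacobson ⊥) (T : Type*) [CommRing T] [Algebra A T]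
    [Module.Projective A T] (hsurj : Function.Surjective (algebraMap A T))
    (hker : ∀ n : A, algebraMap A T n = 0 → n ∈ I) : Function.Bijective (algebraMap A T) := by
  refine ⟨?_, hsurj⟩
  obtain ⟨sec, hsec⟩ := Module.projective_lifting_property
    (Algebra.linearMap A T) (LinearMap.id) hsurj
  obtain ⟨ε, hε⟩ : ∃ ε, ε = sec 1 := ⟨_, rfl⟩
  have hπε : algebraMap A T ε = 1 := by
    have := LinearMap.congr_fun hsec 1
    rw [hε]
    simpa using this
  have hεI : 1 - ε ∈ I := by
    apply hker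
    rw [map_sub, map_one, hπε, sub_self]
  have hεu : IsUnit ε := isUnit_of_sub_mem I hjac isUnit_one hεI
  rw [injective_iff_map_eq_zero]
  intro n hn
  have h1 : n * ε = 0 := by
    have : sec (n • (1 : T)) = n • sec 1 := map_smul sec n 1
    rw [Algebra.smul_def, mul_one, hn, map_zero, smul_eq_mul, ← hε] at this
    exact this.symm
  exact hεu.mul_left_eq_zero.mp h1

/-- Bijectivity of reduction of idempotents for finite algebras implies Henselian. -/
theorem henselianRing_of_bijOn_idempotents {A : Type u} [CommRing A] (I : Ideal A)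
    (h : ∀ (B : Type u) [CommRing B] [Algebra A B], Module.Finite A B →
      Set.BijOn (Ideal.Quotient.mk (Ideal.map (algebraMap A B) I))
        {e : B | IsIdempotentElem e} {e | IsIdempotentElem e}) : HenselianRing A I := by
  have hjac : I ≤ Ideal.jacobson ⊥ := by
    rw [Ideal.jacobson, le_sInf_iff]
    rintro m ⟨-, hm⟩
    by_contra hIm
    have hsup : I ⊔ m = ⊤ := by
      by_contra hne
      exact hIm (le_sup_left.trans (hm.eq_of_le hne le_sup_right).ge)
    obtain ⟨i, hi, μ, hμ, hiμ⟩ := Submodule.mem_sup.mp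
      (hsup ▸ Submodule.mem_top : (1 : A) ∈ I ⊔ m)
    obtain ⟨J, hJ⟩ : ∃ J : Ideal A, J = I ⊓ m := ⟨_, rfl⟩
    have hfin : Module.Finite A (A ⧸ J) :=
      Module.Finite.of_surjective (Algebra.linearMap A (A ⧸ J)) Ideal.Quotient.mk_surjective
    have hbij := h (A ⧸ J) hfin
    have hε : IsIdempotentElem (Ideal.Quotient.mk J i) := by
      change Ideal.Quotient.mk J i * Ideal.Quotient.mk J i = Ideal.Quotient.mk J i
      rw [← map_mul, Ideal.Quotient.eq]
      have : i * i - i = -(i * μ) := by linear_combination i * hiμ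
      rw [this, hJ]
      exact (I ⊓ m).neg_mem ⟨I.mul_mem_right _ hi, m.mul_mem_left _ hμ⟩
    have h0 : IsIdempotentElem (0 : A ⧸ J) := IsIdempotentElem.zero
    have himg : Ideal.Quotient.mk (I.map (algebraMap A (A ⧸ J))) (Ideal.Quotient.mk J i) =
        Ideal.Quotient.mk _ 0 := by
      rw [map_zero, Ideal.Quotient.eq_zero_iff_mem]
      exact Ideal.mem_map_of_mem _ hi
    have h3 := hbij.injOn hε h0 himg
    rw [Ideal.Quotient.eq_zero_iff_mem, hJ] at h3
    have h1 : (1 : A) ∈ m := by rw [← hiμ]; exact m.add_mem h3.2 hμ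
    exact hm.ne_top ((Ideal.eq_top_iff_one m).mpr h1)
  refine henselianRing_of_gabber I hjac ?_
  intro n hn p hp hpI
  rcases subsingleton_or_nontrivial A with hA | hA
  · exact ⟨1, by rw [sub_self]; exact I.zero_mem, Subsingleton.elim _ _⟩
  obtain ⟨F, hF⟩ : ∃ F : A[X], F = X ^ n * (X - 1) + p := ⟨_, rfl⟩
  rw [← hF]
  have hFm : F.Monic := hF ▸ monic_gabber n p hp
  haveI hfin : Module.Finite A (AdjoinRoot F) := hFm.finite_adjoinRoot
  haveI : Module.Free A (AdjoinRoot F) := Module.Free.of_basis (AdjoinRoot.powerBasis' hFm).basis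
  obtain ⟨x, hx⟩ : ∃ x, x = AdjoinRoot.root F := ⟨_, rfl⟩
  set 𝔟 := I.map (algebraMap A (AdjoinRoot F)) with h𝔟
  have hFx : aeval x F = 0 := by rw [hx, AdjoinRoot.aeval_eq, AdjoinRoot.mk_self]
  have hpx : aeval x p ∈ 𝔟 := aeval_mem_map_of_coeff_mem I x p hpI
  have hxn : x ^ n * (x - 1) = -aeval x p := by
    have h1 : aeval x F = aeval x (X ^ n * (X - 1) + p) := by rw [← hF]
    have := hFx
    rw [h1] at this
    simp only [map_add, map_mul, map_pow, map_sub, aeval_X, map_one] at this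
    linear_combination this
  have hb2 : (x ^ n) ^ 2 - x ^ n ∈ 𝔟 := by
    have : (x ^ n) ^ 2 - x ^ n = -aeval x p * ∑ i ∈ Finset.range n, x ^ i := by
      rw [← hxn, mul_assoc, mul_geom_sum]; ring
    rw [this]
    exact 𝔟.mul_mem_right _ (𝔟.neg_mem hpx)
  obtain ⟨e, he, hemk⟩ := (h (AdjoinRoot F) hfin).surjOn
    (show Ideal.Quotient.mk 𝔟 (x ^ n) ∈ {e | IsIdempotentElem e} by
      change _ * _ = _
      rw [← map_mul, Ideal.Quotient.eq]
      have : x ^ n * x ^ n - x ^ n = (x ^ n) ^ 2 - x ^ n := by ring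
      rw [this]; exact hb2)
  have he : IsIdempotentElem e := he
  have heb : e - x ^ n ∈ 𝔟 := Ideal.Quotient.eq.mp hemk
  have hx1e : (x - 1) * e ∈ 𝔟 := by
    have : (x - 1) * e = (x - 1) * (e - x ^ n) + -aeval x p := by rw [← hxn]; ring
    rw [this]
    exact 𝔟.add_mem (𝔟.mul_mem_left _ heb) (𝔟.neg_mem hpx)
  -- evaluation at `1` modulo `I`
  have hev0 : F.eval₂ (Ideal.Quotient.mk I) 1 = 0 := by
    rw [eval₂_at_one, Ideal.Quotient.eq_zero_iff_mem, hF]
    have : (X ^ n * (X - 1) + p : A[X]).eval 1 = p.eval 1 := by simp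
    rw [this]
    exact eval_mem_of_coeff_mem I p hpI 1
  let ev : AdjoinRoot F →+* A ⧸ I := AdjoinRoot.lift (Ideal.Quotient.mk I) 1 hev0
  have hevalg : ∀ a : A, ev (algebraMap A (AdjoinRoot F) a) = Ideal.Quotient.mk I a := by
    intro a
    rw [AdjoinRoot.algebraMap_eq]
    exact AdjoinRoot.lift_of hev0
  have hev𝔟 : ∀ y ∈ 𝔟, ev y = 0 := by
    intro y hy
    have : 𝔟 ≤ RingHom.ker ev := by
      rw [h𝔟, Ideal.map_le_iff_le_comap]
      intro a ha
      rw [Ideal.mem_comap, RingHom.mem_ker, hevalg, Ideal.Quotient.eq_zero_iff_mem]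
      exact ha
    exact this hy
  have hevx : ev x = 1 := by rw [hx]; exact AdjoinRoot.lift_root hev0
  have heve : ev e = 1 := by
    have := hev𝔟 _ heb
    rw [map_sub, sub_eq_zero] at this
    rw [this, map_pow, hevx, one_pow]
  obtain ⟨J, hJ⟩ : ∃ J : Ideal (AdjoinRoot F), J = Ideal.span {1 - e} := ⟨_, rfl⟩
  have hevJ : ∀ y ∈ J, ev y = 0 := by
    intro y hy
    rw [hJ] at hy
    obtain ⟨w, rfl⟩ := Ideal.mem_span_singleton'.mp hy
    rw [map_mul, map_sub, map_one, heve, sub_self, mul_zero]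
  have hmke : Ideal.Quotient.mk J e = 1 := by
    rw [← sub_eq_zero, ← map_one (Ideal.Quotient.mk J), ← map_sub,
      Ideal.Quotient.eq_zero_iff_mem, hJ]
    have : e - 1 = -(1 - e) := by ring
    rw [this]; exact (Ideal.span {1 - e}).neg_mem (Ideal.subset_span rfl)
  have hcompJ : (Ideal.Quotient.mk J).comp (algebraMap A (AdjoinRoot F)) =
      algebraMap A (AdjoinRoot F ⧸ J) := by
    rw [IsScalarTower.algebraMap_eq A (AdjoinRoot F) (AdjoinRoot F ⧸ J),
      Ideal.Quotient.algebraMap_eq]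
  haveI : Module.Finite A (AdjoinRoot F ⧸ J) :=
    Module.Finite.of_surjective (Ideal.Quotient.mkₐ A J).toLinearMap
      (Ideal.Quotient.mkₐ_surjective A J)
  haveI hproj : Module.Projective A (AdjoinRoot F ⧸ J) := by
    let iB : (AdjoinRoot F ⧸ J) →ₗ[AdjoinRoot F] AdjoinRoot F :=
      Submodule.liftQ J (LinearMap.mulLeft (AdjoinRoot F) e) (by
        rw [hJ, Ideal.span, Submodule.span_le, Set.singleton_subset_iff]
        change e * (1 - e) = 0
        have := he.eq; linear_combination (-1 : AdjoinRoot F) * this)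
    refine Module.Projective.of_split (iB.restrictScalars A)
      (Ideal.Quotient.mkₐ A J).toLinearMap ?_
    ext z
    obtain ⟨y, rfl⟩ := Ideal.Quotient.mk_surjective z
    change Ideal.Quotient.mk J (iB (Submodule.Quotient.mk y)) = _
    rw [Submodule.liftQ_apply, LinearMap.mulLeft_apply, map_mul, hmke, one_mul]
    rfl
  have hsurj : Function.Surjective (algebraMap A (AdjoinRoot F ⧸ J)) := by
    have hle : (⊤ : Submodule A (AdjoinRoot F ⧸ J)) ≤
        LinearMap.range (Algebra.linearMap A (AdjoinRoot F ⧸ J)) := by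
      apply Submodule.le_of_le_smul_of_le_jacobson_bot Module.Finite.fg_top hjac
      intro z _
      obtain ⟨y, rfl⟩ := Ideal.Quotient.mk_surjective z
      obtain ⟨q, rfl⟩ := AdjoinRoot.mk_surjective y
      obtain ⟨q', hq'⟩ := X_sub_C_dvd_sub_C_eval (a := (1 : A)) (p := q)
      have h2 : AdjoinRoot.mk F q = algebraMap A (AdjoinRoot F) (q.eval 1) +
          (x - 1) * AdjoinRoot.mk F q' := by
        have := congr_arg (AdjoinRoot.mk F) hq'
        rw [map_sub, map_mul, map_sub, AdjoinRoot.mk_X, AdjoinRoot.mk_C, AdjoinRoot.mk_C,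
          map_one, ← hx] at this
        rw [AdjoinRoot.algebraMap_eq]
        linear_combination this
      have h3 : Ideal.Quotient.mk J (AdjoinRoot.mk F q) =
          algebraMap A (AdjoinRoot F ⧸ J) (q.eval 1) +
          Ideal.Quotient.mk J ((x - 1) * e * AdjoinRoot.mk F q') := by
        rw [h2, map_add, map_mul, map_mul, map_mul, hmke, mul_one, ← hcompJ, RingHom.comp_apply]
      rw [h3]
      refine Submodule.add_mem_sup ⟨q.eval 1, rfl⟩ ?_
      rw [Ideal.smul_top_eq_map]
      change _ ∈ I.map (algebraMap A (AdjoinRoot F ⧸ J))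
      have : 𝔟.map (Ideal.Quotient.mk J) ≤ I.map (algebraMap A (AdjoinRoot F ⧸ J)) := by
        rw [h𝔟, Ideal.map_map, hcompJ]
      exact this (Ideal.mem_map_of_mem _ (𝔟.mul_mem_right _ hx1e))
    intro z
    obtain ⟨a, ha⟩ := hle (Submodule.mem_top : z ∈ ⊤)
    exact ⟨a, ha⟩
  have hker : ∀ a : A, algebraMap A (AdjoinRoot F ⧸ J) a = 0 → a ∈ I := by
    intro a ha
    rw [← hcompJ, RingHom.comp_apply, Ideal.Quotient.eq_zero_iff_mem] at ha
    have := hevJ _ ha
    rw [hevalg, Ideal.Quotient.eq_zero_iff_mem] at this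
    exact this
  have hbij := algebraMap_bijective_of_projective I hjac (AdjoinRoot F ⧸ J) hsurj hker
  obtain ⟨α, hα⟩ := hbij.2 (Ideal.Quotient.mk J x)
  refine ⟨α, ?_, ?_⟩
  · -- α ≡ 1
    have h4 : algebraMap A (AdjoinRoot F) α - x ∈ J := by
      rw [← Ideal.Quotient.eq_zero_iff_mem, map_sub, sub_eq_zero, ← hα, ← hcompJ,
        RingHom.comp_apply]
    have h5 := hevJ _ h4
    rw [map_sub, hevalg, hevx, sub_eq_zero] at h5
    rw [← Ideal.Quotient.eq, h5, map_one]
  · apply hbij.1
    rw [map_zero, ← Polynomial.aeval_algebraMap_apply_eq_algebraMap_eval, hα]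
    have : aeval (Ideal.Quotient.mk J x) F = Ideal.Quotient.mkₐ A J (aeval x F) := by
      rw [← Polynomial.aeval_algHom_apply]; rfl
    rw [this, hFx, map_zero]

end Groth.Agent.H3
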