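import Groth.Agent.H3.HenselEtale3
import Groth.Agent.H3.HPair8
import Groth.Agent.H3.HPair4
import Groth.Agent.H3.HInt
import Mathlib.RingTheory.Unramified.LocalStructure
import Mathlib.RingTheory.Unramified.LocalRing
import Mathlib.RingTheory.Smooth.Flat

set_option autoImplicit false
set_option linter.unusedSimpArgs false
set_option linter.unusedVariables false
set_option linter.style.haveILetI false
universe u

namespace Groth.Agent.H3

open IsLocalRing

theorem henselianLocalRing_of_finiteType_split (R : Type u) [CommRing R] [IsLocalRing R]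
    (h : ∀ (S : Type u) [CommRing S] [Algebra R S] [Algebra.FiniteType R S],
      ∃ e : S, IsIdempotentElem e ∧ Module.Finite R (S ⧸ Ideal.span ({1 - e} : Set S)) ∧
        ∀ (q : Ideal (S ⧸ Ideal.span ({e} : Set S))) [q.IsPrime],
          q.LiesOver (maximalIdeal R) → ¬ Algebra.QuasiFiniteAt R q) :
    HenselianLocalRing R := by
  apply henselianLocalRing_of_etale_retraction
  intro S _ _ _ q hqprime hqm hres
  haveI := hqm
  obtain ⟨g, hgq, hg⟩ := Ideal.exists_not_mem_forall_mem_of_ne_of_liesOver (maximalIdeal R) q
  have hjac : maximalIdeal R ≤ Ideal.jacobson ⊥ :=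
    (IsLocalRing.jacobson_eq_maximalIdeal ⊥ bot_ne_top).ge
  have hdisj : Disjoint (Submonoid.powers g : Set S) (q : Set S) := by
    rw [Set.disjoint_left]
    rintro _ ⟨n, rfl⟩ hn
    exact hgq (Ideal.IsPrime.mem_of_pow_mem hqprime n hn)
  obtain ⟨q', hq'⟩ : ∃ q' : Ideal (Localization.Away g),
      q' = Ideal.map (algebraMap S (Localization.Away g)) q := ⟨_, rfl⟩
  haveI hq'prime : q'.IsPrime := hq' ▸ IsLocalization.isPrime_of_isPrime_disjoint
    (Submonoid.powers g) (Localization.Away g) q hqprime hdisj
  have hq'under : q'.under S = q := hq' ▸ IsLocalization.under_map_of_isPrime_disjoint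
    (Submonoid.powers g) (Localization.Away g) hqprime hdisj
  have hq'over : q'.LiesOver (maximalIdeal R) := by
    constructor
    rw [← Ideal.under_under (A := R) (B := S) q', hq'under]
    exact hqm.over
  have huniq : ∀ P : Ideal (Localization.Away g), P.IsPrime → P.LiesOver (maximalIdeal R) →
      P = q' := by
    intro P hP hPm
    haveI := hP
    have hP₀ : (P.under S).IsPrime := Ideal.comap_isPrime (algebraMap S (Localization.Away g)) P
    have hP₀m : (P.under S).LiesOver (maximalIdeal R) := by
      constructor
      rw [Ideal.under_under (A := R) (B := S) P]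
      exact hPm.over
    have hgP : g ∉ P.under S := by
      intro hgP
      have hmem : algebraMap S (Localization.Away g) g ∈ P := hgP
      exact hP.ne_top (Ideal.eq_top_of_isUnit_mem _ hmem
        (IsLocalization.Away.algebraMap_isUnit g))
    have hPq : P.under S = q := by
      by_contra hne
      exact hgP (hg (P.under S) hP₀ hne hP₀m)
    rw [← IsLocalization.map_under (Submonoid.powers g) (Localization.Away g) P, hPq, hq']
  obtain ⟨e, he, hfin, hnq⟩ := h (Localization.Away g)
  have he0 : e * (1 - e) = 0 := by rw [mul_sub, mul_one, he.eq, sub_self]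
  -- `e ∉ q'`
  have heq' : e ∉ q' := by
    intro hmem
    have hJle : Ideal.span ({e} : Set (Localization.Away g)) ≤ q' := by
      rw [Ideal.span_singleton_le_iff_mem]; exact hmem
    haveI hq''prime : (q'.map (Ideal.Quotient.mk (Ideal.span ({e} : Set (Localization.Away g))))).IsPrime :=
      Ideal.map_isPrime_of_surjective Ideal.Quotient.mk_surjective
        (by rw [Ideal.mk_ker]; exact hJle)
    have hcomap : (q'.map (Ideal.Quotient.mk (Ideal.span ({e} : Set (Localization.Away g))))).under
        (Localization.Away g) = q' := by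
      change Ideal.comap (Ideal.Quotient.mk _) (Ideal.map (Ideal.Quotient.mk _) q') = q'
      rw [Ideal.comap_map_of_surjective _ Ideal.Quotient.mk_surjective,
        ← RingHom.ker_eq_comap_bot, Ideal.mk_ker, sup_eq_left]
      exact hJle
    have hover : (q'.map (Ideal.Quotient.mk (Ideal.span ({e} : Set (Localization.Away g))))).LiesOver
        (maximalIdeal R) := by
      constructor
      rw [← Ideal.under_under (A := R) (B := Localization.Away g), hcomap]
      exact hq'over.over
    exact hnq _ hover inferInstance
  have h1e : 1 - e ∈ q' :=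
    (hq'prime.mem_or_mem (by rw [he0]; exact q'.zero_mem)).resolve_left heq'
  obtain ⟨J₁, hJ₁⟩ : ∃ J₁ : Ideal (Localization.Away g), J₁ = Ideal.span {1 - e} := ⟨_, rfl⟩
  rw [← hJ₁] at hfin
  haveI := hfin
  have hJ₁le : J₁ ≤ q' := by rw [hJ₁, Ideal.span_singleton_le_iff_mem]; exact h1e
  haveI : IsLocalization.Away e (Localization.Away g ⧸ J₁) :=
    IsLocalization.away_of_isIdempotentElem he
      (by rw [Ideal.Quotient.algebraMap_eq, Ideal.mk_ker, hJ₁])
      (by rw [Ideal.Quotient.algebraMap_eq]; exact Ideal.Quotient.mk_surjective)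
  haveI : Algebra.Etale (Localization.Away g) (Localization.Away g ⧸ J₁) :=
    Algebra.Etale.of_isLocalizationAway e
  haveI : Algebra.Etale R (Localization.Away g ⧸ J₁) :=
    Algebra.Etale.comp R (Localization.Away g) (Localization.Away g ⧸ J₁)
  haveI : Module.FinitePresentation R (Localization.Away g ⧸ J₁) :=
    Module.FinitePresentation.of_finite_of_finitePresentation R (Localization.Away g ⧸ J₁)
  haveI : Module.Projective R (Localization.Away g ⧸ J₁) :=
    Module.Flat.projective_of_finitePresentation
  obtain ⟨qA, hqA⟩ : ∃ qA : Ideal (Localization.Away g ⧸ J₁),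
      qA = q'.map (Ideal.Quotient.mk J₁) := ⟨_, rfl⟩
  haveI : Nontrivial (Localization.Away g ⧸ J₁) :=
    Ideal.Quotient.nontrivial_iff.mpr
      (fun htop => hq'prime.ne_top (top_le_iff.mp (htop ▸ hJ₁le)))
  haveI : Algebra.IsIntegral R (Localization.Away g ⧸ J₁) := Algebra.IsIntegral.of_finite R _
  have hmaxeq : ∀ M : Ideal (Localization.Away g ⧸ J₁), M.IsMaximal → M = qA := by
    intro M hM
    haveI := hM
    have hMm : M.under R = maximalIdeal R := by
      haveI : (M.under R).IsMaximal := Ideal.isMaximal_comap_of_isIntegral_of_isMaximal M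
      exact IsLocalRing.eq_maximalIdeal ‹_›
    have hM₀prime : (M.comap (Ideal.Quotient.mk J₁)).IsPrime := Ideal.comap_isPrime _ _
    have hM₀over : (M.comap (Ideal.Quotient.mk J₁)).LiesOver (maximalIdeal R) := by
      constructor
      rw [← hMm, ← Ideal.under_under (A := R) (B := Localization.Away g) M]
      rfl
    have h3 := huniq _ hM₀prime hM₀over
    rw [hqA, ← h3, Ideal.map_comap_of_surjective _ Ideal.Quotient.mk_surjective]
  haveI hlocA : IsLocalRing (Localization.Away g ⧸ J₁) := by
    apply IsLocalRing.of_unique_max_ideal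
    obtain ⟨M, hM⟩ := Ideal.exists_maximal (Localization.Away g ⧸ J₁)
    exact ⟨M, hM, fun M' hM' => (hmaxeq M' hM').trans (hmaxeq M hM).symm⟩
  have hmaxA : maximalIdeal (Localization.Away g ⧸ J₁) = qA :=
    hmaxeq _ (maximalIdeal.isMaximal _)
  haveI : IsLocalHom (algebraMap R (Localization.Away g ⧸ J₁)) := isLocalHom_of_isIntegral R _
  have hmap : (maximalIdeal R).map (algebraMap R (Localization.Away g ⧸ J₁)) =
      maximalIdeal (Localization.Away g ⧸ J₁) := Algebra.FormallyUnramified.map_maximalIdeal
  have hresA : ∀ a : Localization.Away g ⧸ J₁,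
      ∃ r : R, a - algebraMap R (Localization.Away g ⧸ J₁) r ∈ qA := by
    intro a
    obtain ⟨s', rfl⟩ := Ideal.Quotient.mk_surjective a
    obtain ⟨s, ⟨t, ht⟩, rfl⟩ := IsLocalization.exists_mk'_eq (Submonoid.powers g) s'
    have htq : t ∉ q := by
      obtain ⟨n, rfl⟩ := ht
      exact fun hn => hgq (Ideal.IsPrime.mem_of_pow_mem hqprime n hn)
    have ht0 : algebraMap S q.ResidueField t ≠ 0 := by
      rw [Ne, Ideal.algebraMap_residueField_eq_zero]; exact htq
    obtain ⟨r, hr⟩ := hres (algebraMap S q.ResidueField s / algebraMap S q.ResidueField t)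
    have h1 : algebraMap S q.ResidueField (algebraMap R S r * t - s) = 0 := by
      rw [map_sub, map_mul, ← IsScalarTower.algebraMap_apply R S q.ResidueField, hr,
        div_mul_cancel₀ _ ht0, sub_self]
    rw [Ideal.algebraMap_residueField_eq_zero] at h1
    have h2 : algebraMap S (Localization.Away g) (algebraMap R S r * t - s) ∈ q' :=
      hq' ▸ Ideal.mem_map_of_mem _ h1
    have h3 : (algebraMap R (Localization.Away g) r -
        IsLocalization.mk' (Localization.Away g) s ⟨t, ht⟩) *
          algebraMap S (Localization.Away g) t ∈ q' := by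
      have h3' : (algebraMap R (Localization.Away g) r -
          IsLocalization.mk' (Localization.Away g) s ⟨t, ht⟩) *
            algebraMap S (Localization.Away g) t =
          algebraMap S (Localization.Away g) (algebraMap R S r * t - s) := by
        rw [sub_mul, IsLocalization.mk'_spec_mk, map_sub, map_mul,
          ← IsScalarTower.algebraMap_apply R S (Localization.Away g)]
      rw [h3']; exact h2
    have h4 : algebraMap S (Localization.Away g) t ∉ q' := by
      intro hmem
      have h4' : t ∈ q'.under S := hmem
      rw [hq'under] at h4'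
      exact htq h4'
    have h5 := (hq'prime.mem_or_mem h3).resolve_right h4
    refine ⟨r, ?_⟩
    have h6 : Ideal.Quotient.mk J₁ (IsLocalization.mk' (Localization.Away g) s ⟨t, ht⟩) -
        algebraMap R (Localization.Away g ⧸ J₁) r =
        Ideal.Quotient.mk J₁ (-(algebraMap R (Localization.Away g) r -
          IsLocalization.mk' (Localization.Away g) s ⟨t, ht⟩)) := by
      have h7 : algebraMap R (Localization.Away g ⧸ J₁) r =
          Ideal.Quotient.mk J₁ (algebraMap R (Localization.Away g) r) := rfl
      rw [map_neg, map_sub, h7]; ring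
    rw [h6, hqA]
    exact Ideal.mem_map_of_mem _ (q'.neg_mem h5)
  have hsurj : Function.Surjective (algebraMap R (Localization.Away g ⧸ J₁)) := by
    have hle : (⊤ : Submodule R (Localization.Away g ⧸ J₁)) ≤
        LinearMap.range (Algebra.linearMap R (Localization.Away g ⧸ J₁)) := by
      apply Submodule.le_of_le_smul_of_le_jacobson_bot Module.Finite.fg_top hjac
      intro z _
      obtain ⟨c, hc⟩ := hresA z
      have hz : z = algebraMap R (Localization.Away g ⧸ J₁) c +
          (z - algebraMap R (Localization.Away g ⧸ J₁) c) := by ring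
      rw [hz]
      refine Submodule.add_mem_sup ⟨c, rfl⟩ ?_
      rw [Ideal.smul_top_eq_map]
      change _ ∈ (maximalIdeal R).map (algebraMap R (Localization.Away g ⧸ J₁))
      rw [hmap, hmaxA]
      exact hc
    intro z
    obtain ⟨a, ha⟩ := hle (Submodule.mem_top : z ∈ ⊤)
    exact ⟨a, ha⟩
  have hker : ∀ n : R, algebraMap R (Localization.Away g ⧸ J₁) n = 0 → n ∈ maximalIdeal R := by
    intro n hn
    by_contra hnm
    have hu : IsUnit n := by rwa [mem_maximalIdeal, mem_nonunits_iff, not_not] at hnm
    have h8 := hu.map (algebraMap R (Localization.Away g ⧸ J₁))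
    rw [hn] at h8
    exact not_isUnit_zero h8
  have hbij := algebraMap_bijective_of_projective (maximalIdeal R) hjac
    (Localization.Away g ⧸ J₁) hsurj hker
  let ε : R ≃ₐ[R] (Localization.Away g ⧸ J₁) :=
    AlgEquiv.ofBijective (Algebra.ofId R (Localization.Away g ⧸ J₁)) hbij
  exact ⟨ε.symm.toAlgHom.comp ((Ideal.Quotient.mkₐ R J₁).comp
    (IsScalarTower.toAlgHom R S (Localization.Away g)))⟩

end Groth.Agent.H3
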