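import Groth.Agent.H3.HenselSplit2
import Groth.Agent.H3.HInt
import Mathlib.RingTheory.Unramified.LocalStructure
import Mathlib.RingTheory.Unramified.LocalRing

set_option autoImplicit false
set_option linter.unusedSimpArgs false
set_option linter.unusedVariables false
set_option linter.style.haveILetI false
universe u

namespace Groth.Agent.H3

open IsLocalRing

/-- Splitting a ring along an idempotent, as algebras. -/
noncomputable def idempotentSplitEquiv (R : Type*) [CommRing R] {S : Type*} [CommRing S]
    [Algebra R S] (e : S) (he : IsIdempotentElem e) :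
    S ≃ₐ[R] (S ⧸ Ideal.span ({1 - e} : Set S)) × (S ⧸ Ideal.span ({e} : Set S)) :=
  AlgEquiv.ofBijective
    (AlgHom.prod (Ideal.Quotient.mkₐ R (Ideal.span ({1 - e} : Set S)))
      (Ideal.Quotient.mkₐ R (Ideal.span ({e} : Set S)))) (by
    have he0 : e * (1 - e) = 0 := by rw [mul_sub, mul_one, he.eq, sub_self]
    constructor
    · rw [injective_iff_map_eq_zero]
      intro x hx
      have h1 : Ideal.Quotient.mk (Ideal.span ({1 - e} : Set S)) x = 0 := congr_arg Prod.fst hx
      have h2 : Ideal.Quotient.mk (Ideal.span ({e} : Set S)) x = 0 := congr_arg Prod.snd hx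
      rw [Ideal.Quotient.eq_zero_iff_mem] at h1 h2
      obtain ⟨a, ha⟩ := Ideal.mem_span_singleton'.mp h1
      obtain ⟨b, hb⟩ := Ideal.mem_span_singleton'.mp h2
      linear_combination (-e) * ha - (1 - e) * hb + (a + b) * he0
    · rintro ⟨a, b⟩
      obtain ⟨a, rfl⟩ := Ideal.Quotient.mk_surjective a
      obtain ⟨b, rfl⟩ := Ideal.Quotient.mk_surjective b
      refine ⟨a * e + b * (1 - e), Prod.ext ?_ ?_⟩
      · change Ideal.Quotient.mk _ (a * e + b * (1 - e)) = Ideal.Quotient.mk _ a
        rw [Ideal.Quotient.eq]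
        exact Ideal.mem_span_singleton'.mpr ⟨b - a, by ring⟩
      · change Ideal.Quotient.mk _ (a * e + b * (1 - e)) = Ideal.Quotient.mk _ b
        rw [Ideal.Quotient.eq]
        exact Ideal.mem_span_singleton'.mpr ⟨a - b, by ring⟩)

/-- A finite unramified local algebra over a local ring with separably closed residue field
is a quotient. -/
theorem algebraMap_surjective_of_unramified_of_isSepClosed (R : Type u) [CommRing R]
    [IsLocalRing R] [IsSepClosed (ResidueField R)] (A : Type u) [CommRing A] [IsLocalRing A]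
    [Algebra R A] [Module.Finite R A] [Algebra.FormallyUnramified R A] :
    Function.Surjective (algebraMap R A) := by
  haveI : Algebra.IsIntegral R A := Algebra.IsIntegral.of_finite R A
  haveI hloc : IsLocalHom (algebraMap R A) := isLocalHom_of_isIntegral R A
  have hmap : (maximalIdeal R).map (algebraMap R A) = maximalIdeal A :=
    Algebra.FormallyUnramified.map_maximalIdeal
  have hres : Function.Surjective (algebraMap (ResidueField R) (ResidueField A)) :=
    IsSepClosed.algebraMap_surjective (ResidueField R) (ResidueField A)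
  have hjac : maximalIdeal R ≤ Ideal.jacobson ⊥ :=
    (IsLocalRing.jacobson_eq_maximalIdeal ⊥ bot_ne_top).ge
  have hle : (⊤ : Submodule R A) ≤ LinearMap.range (Algebra.linearMap R A) := by
    apply Submodule.le_of_le_smul_of_le_jacobson_bot Module.Finite.fg_top hjac
    intro z _
    obtain ⟨cb, hcb⟩ := hres (residue A z)
    obtain ⟨c, rfl⟩ := residue_surjective cb
    have hz : z = algebraMap R A c + (z - algebraMap R A c) := by ring
    rw [hz]
    refine Submodule.add_mem_sup ⟨c, rfl⟩ ?_
    rw [Ideal.smul_top_eq_map]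
    change _ ∈ (maximalIdeal R).map (algebraMap R A)
    rw [hmap, ← residue_eq_zero_iff, map_sub, ← hcb]
    exact sub_self _
  intro z
  obtain ⟨a, ha⟩ := hle (Submodule.mem_top : z ∈ ⊤)
  exact ⟨a, ha⟩

theorem unramified_split_of_isStrictlyHenselian (R : Type u) [CommRing R]
    [HenselianLocalRing R] [IsSepClosed (ResidueField R)] (S : Type u) [CommRing S]
    [Algebra R S] [Algebra.Unramified R S] :
    ∃ (ι : Type u) (_ : Fintype ι) (A : ι → Type u) (_ : ∀ i, CommRing (A i))
      (_ : ∀ i, Algebra R (A i)) (B : Type u) (_ : CommRing B) (_ : Algebra R B),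
      (∀ i, Function.Surjective (algebraMap R (A i))) ∧
      Ideal.map (algebraMap R B) (maximalIdeal R) = ⊤ ∧
      Nonempty (S ≃ₐ[R] ((∀ i, A i) × B)) := by
  classical
  obtain ⟨e, he, hfin, hnq⟩ := finiteType_split_of_henselian R S
  haveI := hfin
  -- the non-finite part
  have hB : Ideal.map (algebraMap R (S ⧸ Ideal.span ({e} : Set S))) (maximalIdeal R) = ⊤ := by
    by_contra hne
    obtain ⟨q, hqmax, hle⟩ := Ideal.exists_le_maximal _ hne
    haveI hqp : q.IsPrime := hqmax.isPrime
    have hover : q.LiesOver (maximalIdeal R) := by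
      constructor
      have h2 : maximalIdeal R ≤ q.comap (algebraMap R (S ⧸ Ideal.span ({e} : Set S))) :=
        Ideal.map_le_iff_le_comap.mp hle
      exact (IsLocalRing.maximalIdeal.isMaximal R).eq_of_le
        (Ideal.comap_ne_top _ hqp.ne_top) h2
    exact hnq q hover inferInstance
  -- the finite part
  haveI : Algebra.FormallyUnramified R (S ⧸ Ideal.span ({1 - e} : Set S)) := inferInstance
  obtain ⟨ι, hι, A, hA, hlocA, ⟨θ⟩⟩ :=
    exists_pi_isLocalRing_of_finite R (S ⧸ Ideal.span ({1 - e} : Set S))
  letI algA : ∀ i, Algebra R (A i) := fun i =>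
    ((Pi.evalRingHom A i).comp
      (θ.toRingHom.comp (algebraMap R (S ⧸ Ideal.span ({1 - e} : Set S))))).toAlgebra
  let θa : (S ⧸ Ideal.span ({1 - e} : Set S)) ≃ₐ[R] (∀ i, A i) :=
    AlgEquiv.ofRingEquiv (f := θ) (fun r => by ext i; rfl)
  have hsurjA : ∀ i, Function.Surjective (algebraMap R (A i)) := by
    intro i
    let π : (S ⧸ Ideal.span ({1 - e} : Set S)) →ₐ[R] A i :=
      (Pi.evalAlgHom R A i).comp θa.toAlgHom
    have hπ : Function.Surjective π := by
      intro a
      refine ⟨θa.symm (Pi.single i a), ?_⟩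
      change (θa (θa.symm (Pi.single i a))) i = a
      rw [AlgEquiv.apply_symm_apply, Pi.single_eq_same]
    haveI : Module.Finite R (A i) := Module.Finite.of_surjective π.toLinearMap hπ
    haveI : Algebra.FormallyUnramified R (A i) := Algebra.FormallyUnramified.of_surjective π hπ
    exact algebraMap_surjective_of_unramified_of_isSepClosed R (A i)
  exact ⟨ι, hι, A, hA, algA, S ⧸ Ideal.span ({e} : Set S), inferInstance, inferInstance,
    hsurjA, hB, ⟨(idempotentSplitEquiv R e he).trans (AlgEquiv.prodCongr θa AlgEquiv.refl)⟩⟩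

end Groth.Agent.H3
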