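import Groth.Agent.H47.HensNoeth2

set_option autoImplicit false
set_option linter.style.haveILetI false
set_option linter.unusedSimpArgs false
set_option linter.unusedVariables false
universe u

namespace Groth.Agent.H3.Fib

open IsLocalRing TensorProduct Groth.Agent.H47.HensNoeth

/-- Reduced artinian rings are von Neumann regular. -/
theorem exists_eq_sq_mul {E : Type*} [CommRing E] [IsArtinianRing E] [IsReduced E] (x : E) :
    ∃ y : E, x = x ^ 2 * y := by
  obtain ⟨n, y, hy⟩ := IsArtinian.exists_pow_succ_smul_dvd x (1 : E)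
  rw [smul_eq_mul, smul_eq_mul, mul_one] at hy
  refine ⟨y, ?_⟩
  have hnil : IsNilpotent (x - x ^ 2 * y) := by
    refine ⟨n + 1, ?_⟩
    have h0 : x - x ^ 2 * y = x * (1 - x * y) := by ring
    have : (x - x ^ 2 * y) ^ (n + 1) = (x ^ n - x ^ (n + 1) * y) * (x * (1 - x * y) ^ n) := by
      rw [h0, mul_pow]
      ring
    rw [this, hy, sub_self, zero_mul]
  exact sub_eq_zero.mp hnil.eq_zero

variable {R S : Type u} [CommRing R] [CommRing S] [Algebra R S] [IsLocalRing R] [IsLocalRing S]

/-- Fibres of ind-étale local algebras over a Noetherian local ring are finite products of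
separable field extensions. -/
theorem exists_fibre_equiv_pi [IsLocalHom (algebraMap R S)] (h : IsIndEtaleLocal R S)
    [IsNoetherianRing R] (p : Ideal R) [p.IsPrime] :
    ∃ (n : ℕ) (K : Fin n → Type u) (_ : ∀ i, Field (K i))
      (_ : ∀ i, Algebra p.ResidueField (K i)),
      (∀ i, Algebra.IsSeparable p.ResidueField (K i)) ∧
      Nonempty ((p.ResidueField ⊗[R] S) ≃ₐ[p.ResidueField] (Π i, K i)) := by
  classical
  haveI : IsNoetherianRing S := h.isNoetherianRing
  haveI : IsNoetherianRing (p.ResidueField ⊗[R] S) := by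
    letI : Algebra S (p.ResidueField ⊗[R] S) := Algebra.TensorProduct.rightAlgebra
    have e := Ideal.Fiber.algEquivQuotient (R := R) (S := S) p
    exact isNoetherianRing_of_ringEquiv _ e.symm.toRingEquiv
  have hrep : ∀ z : p.ResidueField ⊗[R] S, ∃ (A : Type u) (_ : CommRing A) (_ : Algebra R A)
      (_ : Algebra.Etale R A) (φ : A →ₐ[R] S) (z' : p.ResidueField ⊗[R] A),
      Algebra.TensorProduct.map (AlgHom.id p.ResidueField p.ResidueField) φ z' = z := by
    intro z
    obtain ⟨T, rfl⟩ := TensorProduct.exists_finset z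
    obtain ⟨A, i1, i2, i3, φ, hφ⟩ := h.rep (T.image Prod.snd)
    have hch : ∀ i ∈ T, ∃ a : A, φ a = i.2 :=
      fun i hi => hφ i.2 (Finset.mem_image_of_mem _ hi)
    choose! a ha using hch
    refine ⟨A, i1, i2, i3, φ, ∑ i ∈ T, i.1 ⊗ₜ[R] a i, ?_⟩
    rw [map_sum]
    refine Finset.sum_congr rfl fun i hi => ?_
    rw [Algebra.TensorProduct.map_tmul, ha i hi]
    rfl
  have hE : ∀ (A : Type u) [CommRing A] [Algebra R A] [Algebra.Etale R A],
      IsArtinianRing (p.ResidueField ⊗[R] A) ∧ IsReduced (p.ResidueField ⊗[R] A) ∧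
        Module.Finite p.ResidueField (p.ResidueField ⊗[R] A) := by
    intro A _ _ _
    haveI : Algebra.Etale p.ResidueField (p.ResidueField ⊗[R] A) := inferInstance
    haveI : Module.Finite p.ResidueField (p.ResidueField ⊗[R] A) :=
      Algebra.FormallyUnramified.finite_of_free p.ResidueField _
    haveI : IsReduced (p.ResidueField ⊗[R] A) :=
      Algebra.FormallyUnramified.isReduced_of_field p.ResidueField _
    exact ⟨IsArtinianRing.of_finite p.ResidueField _, inferInstance, inferInstance⟩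
  haveI hint : Algebra.IsIntegral p.ResidueField (p.ResidueField ⊗[R] S) := by
    refine ⟨fun z => ?_⟩
    obtain ⟨A, i1, i2, i3, φ, z', rfl⟩ := hrep z
    obtain ⟨-, -, hfin⟩ := hE A
    haveI := hfin
    exact (Algebra.IsIntegral.isIntegral (R := p.ResidueField) z').map
      (Algebra.TensorProduct.map (AlgHom.id p.ResidueField p.ResidueField) φ)
  haveI hred : IsReduced (p.ResidueField ⊗[R] S) := by
    refine ⟨fun z hz => ?_⟩
    obtain ⟨A, i1, i2, i3, φ, z', rfl⟩ := hrep z
    obtain ⟨hart, hr, -⟩ := hE A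
    haveI := hart
    haveI := hr
    obtain ⟨y, hy⟩ := exists_eq_sq_mul z'
    obtain ⟨m, hm⟩ := hz
    have hpow : ∀ k : ℕ, z' = z' ^ (k + 1) * y ^ k := by
      intro k
      induction k with
      | zero => simp
      | succ k ih =>
        calc z' = z' ^ (k + 1) * y ^ k := ih
          _ = z' ^ k * z' * y ^ k := by ring
          _ = z' ^ k * (z' ^ 2 * y) * y ^ k := by rw [← hy]
          _ = z' ^ (k + 1 + 1) * y ^ (k + 1) := by ring
    have h2 := congrArg
      (Algebra.TensorProduct.map (AlgHom.id p.ResidueField p.ResidueField) φ) (hpow m)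
    rw [h2, map_mul, map_pow, pow_succ, hm, zero_mul, zero_mul]
  haveI : IsArtinianRing (p.ResidueField ⊗[R] S) := by
    rw [isArtinianRing_iff_isNoetherianRing_krullDimLE_zero]
    refine ⟨inferInstance, Ring.krullDimLE_zero_iff.mpr fun q hq => ?_⟩
    haveI := hq
    haveI : Algebra.IsIntegral p.ResidueField ((p.ResidueField ⊗[R] S) ⧸ q) :=
      ⟨fun y => by
        obtain ⟨z, rfl⟩ := Ideal.Quotient.mk_surjective y
        exact (hint.isIntegral z).map (Ideal.Quotient.mkₐ p.ResidueField q)⟩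
    exact Ideal.Quotient.maximal_of_isField q
      (isField_of_isIntegral_of_isField' (Field.toIsField p.ResidueField))
  haveI : Finite (MaximalSpectrum (p.ResidueField ⊗[R] S)) := inferInstance
  let e : MaximalSpectrum (p.ResidueField ⊗[R] S) ≃
      Fin (Nat.card (MaximalSpectrum (p.ResidueField ⊗[R] S))) := Finite.equivFin _
  let Θ : (p.ResidueField ⊗[R] S) ≃ₐ[p.ResidueField]
      ∀ m : MaximalSpectrum (p.ResidueField ⊗[R] S), (p.ResidueField ⊗[R] S) ⧸ m.asIdeal :=
    AlgEquiv.ofRingEquiv (f := (IsArtinianRing.equivPi (p.ResidueField ⊗[R] S)).toRingEquiv)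
      (fun k => by funext m; rfl)
  refine ⟨Nat.card (MaximalSpectrum (p.ResidueField ⊗[R] S)),
    fun i => (p.ResidueField ⊗[R] S) ⧸ (e.symm i).asIdeal,
    fun i => by
      letI := (e.symm i).isMaximal
      exact Ideal.Quotient.field _,
    fun i => inferInstance, ?_,
    ⟨Θ.trans (AlgEquiv.piCongrLeft' p.ResidueField
      (fun m : MaximalSpectrum (p.ResidueField ⊗[R] S) => (p.ResidueField ⊗[R] S) ⧸ m.asIdeal)
      e)⟩⟩
  intro i
  letI := (e.symm i).isMaximal
  letI := Ideal.Quotient.field (e.symm i).asIdeal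
  refine ⟨fun y => ?_⟩
  obtain ⟨z, rfl⟩ := Ideal.Quotient.mk_surjective y
  obtain ⟨A, i1, i2, i3, φ, z', rfl⟩ := hrep z
  let ψ : p.ResidueField ⊗[R] A →ₐ[p.ResidueField]
      (p.ResidueField ⊗[R] S) ⧸ (e.symm i).asIdeal :=
    (Ideal.Quotient.mkₐ p.ResidueField (e.symm i).asIdeal).comp
      (Algebra.TensorProduct.map (AlgHom.id p.ResidueField p.ResidueField) φ)
  haveI : (RingHom.ker ψ).IsPrime := RingHom.ker_isPrime ψ
  have hsep : IsSeparable p.ResidueField (Ideal.Quotient.mk (RingHom.ker ψ) z') :=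
    Algebra.IsSeparable.isSeparable _ _
  have hmin := minpoly.algHom_eq (Ideal.kerLiftAlg ψ) (Ideal.kerLiftAlg_injective ψ)
    (Ideal.Quotient.mk (RingHom.ker ψ) z')
  have hψ : Ideal.kerLiftAlg ψ (Ideal.Quotient.mk (RingHom.ker ψ) z') = ψ z' := rfl
  show IsSeparable p.ResidueField (ψ z')
  unfold IsSeparable at hsep ⊢
  rw [← hψ, hmin]
  exact hsep

end Groth.Agent.H3.Fib
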