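import Mathlib.RingTheory.Henselian
import Mathlib.RingTheory.AdicCompletion.Basic
import Mathlib.RingTheory.Nilpotent.Lemmas
import Mathlib.RingTheory.Jacobson.Ideal

set_option autoImplicit false
universe u

namespace Groth.Agent.H3

open Polynomial

/-- A module is adically complete with respect to a nilpotent ideal. -/
theorem isAdicComplete_of_pow_eq_bot {R : Type*} [CommRing R] (J : Ideal R) (M : Type*)
    [AddCommGroup M] [Module R M] (N : ℕ) (hN : J ^ N = ⊥) : IsAdicComplete J M where
  haus' x hx := by
    have h := hx N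
    rw [hN, Submodule.bot_smul, SModEq.bot] at h
    exact h
  prec' f hf := by
    refine ⟨f N, fun n => ?_⟩
    rcases le_total n N with h | h
    · exact hf h
    · have h2 := hf h
      rw [hN, Submodule.bot_smul, SModEq.bot] at h2
      rw [h2]

theorem le_jacobson_bot_of_forall_isNilpotent {A : Type*} [CommRing A] (I : Ideal A)
    (hI : ∀ x ∈ I, IsNilpotent x) : I ≤ Ideal.jacobson ⊥ := by
  intro x hx
  have h1 : x ∈ nilradical A := mem_nilradical.mpr (hI x hx)
  rw [nilradical] at h1
  exact Ideal.radical_le_jacobson h1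

/-- A ring is Henselian at an ideal consisting of nilpotent elements. -/
theorem henselianRing_of_forall_isNilpotent {A : Type*} [CommRing A] (I : Ideal A)
    (hI : ∀ x ∈ I, IsNilpotent x) : HenselianRing A I where
  jac := le_jacobson_bot_of_forall_isNilpotent I hI
  is_henselian := by
    intro f hf a₀ h₁ h₂
    obtain ⟨N, hN⟩ := hI _ h₁
    set J : Ideal A := Ideal.span {f.eval a₀} with hJ
    have hJN : J ^ N = ⊥ := by
      rw [hJ, Ideal.span_singleton_pow, hN]
      simp
    have hJI : J ≤ I := by
      rw [hJ, Ideal.span_singleton_le_iff_mem]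
      exact h₁
    have := isAdicComplete_of_pow_eq_bot J A N hJN
    have hloc := isLocalHom_of_le_jacobson_bot I (le_jacobson_bot_of_forall_isNilpotent I hI)
    have hu : IsUnit (f.derivative.eval a₀) := IsUnit.of_map (Ideal.Quotient.mk I) _ h₂
    obtain ⟨a, ha, ha'⟩ := HenselianRing.is_henselian (I := J) f hf a₀
      (Ideal.subset_span (Set.mem_singleton _)) (hu.map _)
    exact ⟨a, ha, hJI ha'⟩

end Groth.Agent.H3
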