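import Groth.Agent.H3.Hensel2
import Mathlib.Algebra.Polynomial.Taylor
import Mathlib.RingTheory.Polynomial.Basic
import Mathlib.Tactic.LinearCombination

set_option autoImplicit false
universe u

namespace Groth.Agent.H3

open Polynomial

variable {A : Type*} [CommRing A]

/-- Non-monic Hensel, root near zero. -/
theorem exists_root_aux (J : Ideal A) [hJ : HenselianRing A J] (P : A[X])
    (h₁ : P.coeff 0 ∈ J) (h₂ : IsUnit (P.coeff 1)) : ∃ x ∈ J, P.IsRoot x := by
  set n := P.natDegree with hn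
  set p0 := P.coeff 0 with hp0
  set p1 := P.coeff 1 with hp1
  set T : A[X] := ∑ i ∈ Finset.range (n + 1), C (P.coeff (i + 2) * p0 ^ i) * X ^ (n - i) with hT
  set G : A[X] := X ^ (n + 2) + (C p1 * X ^ (n + 1) + C p0 * T) with hG
  have key : C p1 * X ^ (n + 1) + C p0 * T ∈ degreeLT A (n + 2) := by
    refine Submodule.add_mem _ ?_ ?_
    · rw [mem_degreeLT]
      exact (degree_C_mul_X_pow_le _ _).trans_lt (by exact_mod_cast Nat.lt_succ_self _)
    · rw [← smul_eq_C_mul]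
      refine Submodule.smul_mem _ _ (Submodule.sum_mem _ fun i hi => ?_)
      rw [mem_degreeLT]
      refine (degree_C_mul_X_pow_le _ _).trans_lt ?_
      have : n - i < n + 2 := by omega
      exact_mod_cast this
  have hGm : G.Monic := monic_X_pow_add (mem_degreeLT.mp key)
  have hGeval : ∀ w : A, G.eval w = w ^ (n + 2) + (p1 * w ^ (n + 1) + p0 * T.eval w) := by
    intro w
    simp only [hG, eval_add, eval_pow, eval_X, eval_mul, eval_C]
  have hGder : ∀ w : A, G.derivative.eval w =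
      ((n + 2 : ℕ) : A) * w ^ (n + 1) + (p1 * (((n + 1 : ℕ) : A) * w ^ n)
        + p0 * T.derivative.eval w) := by
    intro w
    simp only [hG, derivative_add, derivative_X_pow, derivative_C_mul, eval_add, eval_pow, eval_X,
      eval_mul, eval_C, Nat.add_sub_cancel]
    rfl
  have hu1 : IsUnit (-p1) := h₂.neg
  have e1 : G.eval (-p1) ∈ J := by
    rw [hGeval]
    have : (-p1) ^ (n + 2) + (p1 * (-p1) ^ (n + 1) + p0 * T.eval (-p1)) = p0 * T.eval (-p1) := by
      ring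
    rw [this]
    exact J.mul_mem_right _ h₁
  have e2 : IsUnit (G.derivative.eval (-p1)) := by
    refine isUnit_of_sub_mem J hJ.jac (hu1.pow (n + 1)) ?_
    rw [hGder]
    have : (-p1) ^ (n + 1) - (((n + 2 : ℕ) : A) * (-p1) ^ (n + 1) + (p1 * (((n + 1 : ℕ) : A) * (-p1) ^ n)
        + p0 * T.derivative.eval (-p1))) = p0 * (- T.derivative.eval (-p1)) := by
      push_cast
      ring
    rw [this]
    exact J.mul_mem_right _ h₁
  obtain ⟨w, hw, hwJ⟩ := hJ.is_henselian G hGm (-p1) e1 (e2.map _)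
  have hwu : IsUnit w := by
    refine isUnit_of_sub_mem J hJ.jac hu1 ?_
    rw [← neg_sub]; exact J.neg_mem hwJ
  obtain ⟨u, rfl⟩ := hwu
  refine ⟨p0 * ↑u⁻¹, J.mul_mem_right _ h₁, ?_⟩
  rw [IsRoot.def] at hw ⊢
  rw [hGeval] at hw
  have hdeg : P.natDegree < n + 3 := by omega
  have hTe : T.eval (u : A) =
      ∑ i ∈ Finset.range (n + 1), P.coeff (i + 2) * p0 ^ i * (u : A) ^ (n - i) := by
    simp only [hT, eval_finsetSum, eval_mul, eval_C, eval_pow, eval_X]
  have hA : ∀ i ∈ Finset.range (n + 1),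
      (u : A) ^ (n + 2) * (P.coeff (i + 1 + 1) * (p0 * ↑u⁻¹) ^ (i + 1 + 1)) =
        p0 * (p0 * (P.coeff (i + 2) * p0 ^ i * (u : A) ^ (n - i))) := by
    intro i hi
    have hi' : i ≤ n := Nat.lt_succ_iff.mp (Finset.mem_range.mp hi)
    have h1 : (u : A) ^ (n + 2) = (u : A) ^ (n - i) * (u : A) ^ (i + 2) := by
      rw [← pow_add]; congr 1; omega
    have h2 : (u : A) ^ (i + 2) * (↑u⁻¹ : A) ^ (i + 2) = 1 := by
      rw [← mul_pow, Units.mul_inv, one_pow]
    rw [h1, mul_pow]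
    linear_combination (P.coeff (i + 2) * p0 ^ (i + 2) * (u : A) ^ (n - i)) * h2
  have hB : (u : A) ^ (n + 2) * (P.coeff (0 + 1) * (p0 * ↑u⁻¹) ^ (0 + 1)) =
      p0 * (p1 * (u : A) ^ (n + 1)) := by
    have h2 : (u : A) * (↑u⁻¹ : A) = 1 := Units.mul_inv u
    simp only [zero_add, pow_one]
    rw [← hp1]
    linear_combination (p1 * p0 * (u : A) ^ (n + 1)) * h2
  have hC : (u : A) ^ (n + 2) * (P.coeff 0 * (p0 * ↑u⁻¹) ^ 0) = p0 * (u : A) ^ (n + 2) := by
    rw [← hp0]; ring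
  have hE : P.eval (p0 * ↑u⁻¹) = (∑ i ∈ Finset.range (n + 1),
      P.coeff (i + 1 + 1) * (p0 * ↑u⁻¹) ^ (i + 1 + 1) + P.coeff (0 + 1) * (p0 * ↑u⁻¹) ^ (0 + 1))
      + P.coeff 0 * (p0 * ↑u⁻¹) ^ 0 := by
    rw [eval_eq_sum_range' hdeg, Finset.sum_range_succ', Finset.sum_range_succ']
  have hsum : (u : A) ^ (n + 2) * P.eval (p0 * ↑u⁻¹) =
      p0 * ((u : A) ^ (n + 2) + (p1 * (u : A) ^ (n + 1) + p0 * T.eval (u : A))) := by
    rw [hTe, hE, mul_add, mul_add, Finset.mul_sum, Finset.sum_congr rfl hA, hB, hC,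
      ← Finset.mul_sum, ← Finset.mul_sum]
    ring
  rw [hw, mul_zero] at hsum
  exact (u.isUnit.pow (n + 2)).mul_right_eq_zero.mp hsum

/-- Non-monic Hensel lemma for Henselian pairs. -/
theorem exists_root_of_henselianRing (J : Ideal A) [hJ : HenselianRing A J] (P : A[X]) (a₀ : A)
    (h₁ : P.eval a₀ ∈ J) (h₂ : IsUnit (P.derivative.eval a₀)) :
    ∃ a, P.IsRoot a ∧ a - a₀ ∈ J := by
  obtain ⟨x, hx, hroot⟩ := exists_root_aux J (taylor a₀ P)
    (by rw [taylor_coeff_zero]; exact h₁) (by rw [taylor_coeff_one]; exact h₂)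
  refine ⟨x + a₀, ?_, by simpa using hx⟩
  rw [IsRoot.def, taylor_eval] at hroot
  exact hroot

end Groth.Agent.H3
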