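import Groth.Agent.H3.Hensel4
import Mathlib.Algebra.Group.Pi.Units

set_option autoImplicit false
universe u

namespace Groth.Agent.H3

open Polynomial

theorem exists_root_of_henselianLocalRing (R : Type*) [CommRing R] [HenselianLocalRing R]
    (f : Polynomial R) (a₀ : IsLocalRing.ResidueField R)
    (h₁ : Polynomial.eval₂ (IsLocalRing.residue R) a₀ f = 0)
    (h₂ : Polynomial.eval₂ (IsLocalRing.residue R) a₀ (Polynomial.derivative f) ≠ 0) :
    ∃ a : R, Polynomial.IsRoot f a ∧ IsLocalRing.residue R a = a₀ := by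
  obtain ⟨b₀, rfl⟩ := IsLocalRing.residue_surjective a₀
  rw [eval₂_at_apply, IsLocalRing.residue_eq_zero_iff] at h₁
  rw [eval₂_at_apply, IsLocalRing.residue_ne_zero_iff_isUnit] at h₂
  obtain ⟨a, ha, haJ⟩ := exists_root_of_henselianRing (IsLocalRing.maximalIdeal R) f b₀ h₁ h₂
  refine ⟨a, ha, ?_⟩
  rw [← sub_eq_zero, ← map_sub, IsLocalRing.residue_eq_zero_iff]
  exact haJ

section Pi

variable {ι : Type*} (A : ι → Type*) [∀ j, CommRing (A j)] (I : ∀ j, Ideal (A j))

theorem mem_piIdeal {x : ∀ j, A j} :
    x ∈ (⨅ j, Ideal.comap (Pi.evalRingHom A j) (I j)) ↔ ∀ j, x j ∈ I j := by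
  simp [Ideal.mem_comap]

theorem map_eval_piIdeal (j : ι) :
    (⨅ k, Ideal.comap (Pi.evalRingHom A k) (I k)).map (Pi.evalRingHom A j) = I j := by
  classical
  apply le_antisymm
  · rw [Ideal.map_le_iff_le_comap]
    exact iInf_le _ j
  · intro y hy
    have : Pi.single j y ∈ (⨅ k, Ideal.comap (Pi.evalRingHom A k) (I k)) := by
      rw [mem_piIdeal]
      intro k
      by_cases hk : k = j
      · subst hk; simpa using hy
      · rw [Pi.single_eq_of_ne hk]; exact (I k).zero_mem
    have h2 := Ideal.mem_map_of_mem (Pi.evalRingHom A j) this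
    simpa using h2

theorem henselianRing_pi_iff :
    HenselianRing (∀ j, A j) (⨅ j, Ideal.comap (Pi.evalRingHom A j) (I j)) ↔
      ∀ j, HenselianRing (A j) (I j) := by
  constructor
  · intro h j
    have := henselianRing_map_of_surjective (Pi.evalRingHom A j)
      (Function.surjective_eval j) (⨅ k, Ideal.comap (Pi.evalRingHom A k) (I k))
    rwa [map_eval_piIdeal] at this
  · intro h
    have hjac : (⨅ j, Ideal.comap (Pi.evalRingHom A j) (I j)) ≤ Ideal.jacobson ⊥ := by
      intro x hx
      rw [mem_piIdeal] at hx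
      rw [Ideal.mem_jacobson_bot]
      intro y
      rw [Pi.isUnit_iff]
      intro j
      exact Ideal.mem_jacobson_bot.mp ((h j).jac (hx j)) (y j)
    refine ⟨hjac, ?_⟩
    intro f hf a₀ h₁ h₂
    have hu : IsUnit (f.derivative.eval a₀) := isUnit_of_isUnit_mk _ hjac h₂
    rw [mem_piIdeal] at h₁
    have hex : ∀ j, ∃ a : A j, (f.map (Pi.evalRingHom A j)).IsRoot a ∧ a - a₀ j ∈ I j := by
      intro j
      refine (h j).is_henselian (f.map (Pi.evalRingHom A j)) (hf.map _) (a₀ j) ?_ ?_
      · have := eval_map_apply (p := f) (Pi.evalRingHom A j) a₀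
        rw [Pi.evalRingHom_apply] at this
        rw [this]
        exact h₁ j
      · have := eval_map_apply (p := f.derivative) (Pi.evalRingHom A j) a₀
        rw [Pi.evalRingHom_apply] at this
        rw [derivative_map, this]
        exact ((Pi.isUnit_iff.mp hu) j).map _
    choose a ha haI using hex
    refine ⟨a, ?_, ?_⟩
    · rw [IsRoot.def]
      funext j
      have := eval_map_apply (p := f) (Pi.evalRingHom A j) a
      rw [Pi.evalRingHom_apply] at this
      rw [Pi.evalRingHom_apply] at this
      rw [← this]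
      exact ha j
    · rw [mem_piIdeal]
      intro j
      exact haI j

end Pi

end Groth.Agent.H3
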