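import Groth.Agent.H3.HenselFinite

set_option autoImplicit false
set_option linter.style.haveILetI false
set_option linter.unusedSimpArgs false
set_option linter.unusedVariables false
universe u

namespace Groth.Agent.H3

open Polynomial IsLocalRing

/-- A local ring in which idempotents of `S[X]/(f)` modulo the maximal ideal lift, for every
monic `f`, is Henselian. -/
theorem henselianLocalRing_of_idempotent_lifting (S : Type u) [CommRing S] [IsLocalRing S]
    (IL : ∀ f : S[X], f.Monic → ∀ b : AdjoinRoot f,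
      b ^ 2 - b ∈ (maximalIdeal S).map (algebraMap S (AdjoinRoot f)) →
      ∃ e : AdjoinRoot f, IsIdempotentElem e ∧
        e - b ∈ (maximalIdeal S).map (algebraMap S (AdjoinRoot f))) :
    HenselianLocalRing S := by
  refine ((HenselianLocalRing.TFAE S).out 0 1).mpr ?_
  intro f hf a₀ hroot hder
  set ρ := residue S with hρ
  set fb : (ResidueField S)[X] := f.map ρ with hfb
  have hroot' : fb.IsRoot a₀ := by
    rw [IsRoot, hfb, eval_map]; simpa [aeval_def] using hroot
  have hder' : fb.derivative.eval a₀ ≠ 0 := by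
    rw [hfb, derivative_map, eval_map]; simpa [aeval_def] using hder
  set h₀ := fb /ₘ (X - C a₀) with hh₀
  have hfac : (X - C a₀) * h₀ = fb := mul_divByMonic_eq_iff_isRoot.mpr hroot'
  have hh₀a : h₀.eval a₀ = fb.derivative.eval a₀ := by
    rw [← hfac, derivative_mul]
    simp
  have hcop : IsCoprime (X - C a₀) h₀ := by
    rw [(irreducible_X_sub_C a₀).coprime_iff_not_dvd, dvd_iff_isRoot, IsRoot, hh₀a]
    exact hder'
  obtain ⟨αb, βb, hαβ⟩ := hcop
  have hβh : (βb * h₀).eval a₀ = 1 := by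
    have := congr_arg (eval a₀) hαβ
    simpa using this
  obtain ⟨α, hα⟩ := map_surjective ρ residue_surjective αb
  obtain ⟨β, hβ⟩ := map_surjective ρ residue_surjective βb
  obtain ⟨h, hh⟩ := map_surjective ρ residue_surjective h₀
  obtain ⟨a, ha⟩ : ∃ a, ρ a = a₀ := residue_surjective a₀
  -- the reduction map
  let Φ : AdjoinRoot f →+* AdjoinRoot fb :=
    AdjoinRoot.lift ((AdjoinRoot.of fb).comp ρ) (AdjoinRoot.root fb) (by
      rw [← eval₂_map, ← hfb, ← AdjoinRoot.algebraMap_eq, ← aeval_def, AdjoinRoot.aeval_eq,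
        AdjoinRoot.mk_self])
  have hΦ1 : ∀ p : S[X], Φ (AdjoinRoot.mk f p) = AdjoinRoot.mk fb (p.map ρ) := by
    intro p
    rw [AdjoinRoot.lift_mk, ← eval₂_map, ← AdjoinRoot.algebraMap_eq, ← aeval_def,
      AdjoinRoot.aeval_eq]
  set 𝔟 := (maximalIdeal S).map (algebraMap S (AdjoinRoot f)) with h𝔟
  have hΦ2 : ∀ y ∈ 𝔟, Φ y = 0 := by
    intro y hy
    have : 𝔟 ≤ RingHom.ker Φ := by
      rw [h𝔟, Ideal.map_le_iff_le_comap]
      intro s hs
      rw [Ideal.mem_comap, RingHom.mem_ker, AdjoinRoot.algebraMap_eq, AdjoinRoot.lift_of]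
      have : ρ s = 0 := (residue_eq_zero_iff s).mpr hs
      simp [this]
    exact this hy
  have hD : ∀ c : S[X], c.map ρ = 0 → AdjoinRoot.mk f c ∈ 𝔟 := by
    intro c hc
    rw [← AdjoinRoot.aeval_eq]
    exact aeval_mem_map_of_map_eq_zero _ c hc
  set b := AdjoinRoot.mk f (β * h) with hb
  have hb2 : b ^ 2 - b ∈ 𝔟 := by
    have hc : ((β * h) ^ 2 - β * h + α * β * f).map ρ = 0 := by
      simp only [Polynomial.map_add, Polynomial.map_sub, Polynomial.map_mul, Polynomial.map_pow,
        hα, hβ, hh, ← hfb, ← hfac]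
      linear_combination (βb * h₀) * hαβ
    have := hD _ hc
    simpa [hb, map_add, map_sub, map_mul, map_pow, AdjoinRoot.mk_self] using this
  obtain ⟨e, he, heb⟩ := IL f hf b hb2
  have hΦe : Φ e = AdjoinRoot.mk fb (βb * h₀) := by
    have h1 : Φ (e - b) = 0 := hΦ2 _ heb
    rw [map_sub, sub_eq_zero] at h1
    rw [h1, hb, hΦ1, Polynomial.map_mul, hβ, hh]
  -- e * (x - a) ∈ 𝔟
  have hE1 : e * (AdjoinRoot.root f - AdjoinRoot.of f a) ∈ 𝔟 := by
    have hc : (β * h * (X - C a) - β * f).map ρ = 0 := by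
      simp only [Polynomial.map_sub, Polynomial.map_mul, Polynomial.map_X, Polynomial.map_C,
        hβ, hh, ha, ← hfb, ← hfac]
      ring
    have h1 := hD _ hc
    have h2 : b * (AdjoinRoot.root f - AdjoinRoot.of f a) ∈ 𝔟 := by
      simpa [hb, map_sub, map_mul, AdjoinRoot.mk_self, AdjoinRoot.mk_X, AdjoinRoot.mk_C]
        using h1
    have h3 : e * (AdjoinRoot.root f - AdjoinRoot.of f a) =
        (e - b) * (AdjoinRoot.root f - AdjoinRoot.of f a) +
          b * (AdjoinRoot.root f - AdjoinRoot.of f a) := by ring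
    rw [h3]
    exact Ideal.add_mem _ (Ideal.mul_mem_right _ _ heb) h2
  -- Nakayama: e B = S e
  haveI : Module.Finite S (AdjoinRoot f) := hf.finite_adjoinRoot
  let M : Submodule S (AdjoinRoot f) := Submodule.map (LinearMap.mulLeft S e) ⊤
  let N : Submodule S (AdjoinRoot f) := Submodule.span S {e}
  have hMfg : M.FG := Submodule.FG.map _ Module.Finite.fg_top
  have hM1 : ∀ t ∈ 𝔟, e * t ∈ (maximalIdeal S) • M := by
    intro t ht
    have h1 : t ∈ (maximalIdeal S) • (⊤ : Submodule S (AdjoinRoot f)) := by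
      rw [Ideal.smul_top_eq_map]; exact ht
    have h2 : (LinearMap.mulLeft S e) t ∈
        Submodule.map (LinearMap.mulLeft S e) ((maximalIdeal S) • ⊤) :=
      Submodule.mem_map_of_mem h1
    rw [Submodule.map_smul''] at h2
    exact h2
  have hMN : M ≤ N := by
    apply Submodule.le_of_le_smul_of_le_jacobson_bot hMfg (IsLocalRing.maximalIdeal_le_jacobson _)
    rintro _ ⟨z, -, rfl⟩
    obtain ⟨p, rfl⟩ := AdjoinRoot.mk_surjective z
    obtain ⟨r, hr⟩ : ∃ r, ρ r = (p.map ρ).eval a₀ := residue_surjective ((p.map ρ).eval a₀)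
    have hdvd : (X - C a₀) ∣ p.map ρ - C (ρ r) := by
      rw [dvd_iff_isRoot, IsRoot, eval_sub, eval_C, hr, sub_self]
    obtain ⟨sb, hsb⟩ := hdvd
    obtain ⟨s, hs⟩ := map_surjective ρ residue_surjective sb
    have hc : (p - C r - (X - C a) * s).map ρ = 0 := by
      simp only [Polynomial.map_sub, Polynomial.map_mul, Polynomial.map_X, Polynomial.map_C, hs,
        ha, hsb, sub_self]
    have h1 := hD _ hc
    have h2 : AdjoinRoot.mk f p = AdjoinRoot.of f r +
        (AdjoinRoot.root f - AdjoinRoot.of f a) * AdjoinRoot.mk f s +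
        AdjoinRoot.mk f (p - C r - (X - C a) * s) := by
      simp only [map_sub, map_mul, AdjoinRoot.mk_X, AdjoinRoot.mk_C]
      ring
    have h3 : (LinearMap.mulLeft S e) (AdjoinRoot.mk f p) = r • e +
        (e * (e * (AdjoinRoot.root f - AdjoinRoot.of f a) * AdjoinRoot.mk f s) +
          e * AdjoinRoot.mk f (p - C r - (X - C a) * s)) := by
      rw [LinearMap.mulLeft_apply, h2, Algebra.smul_def, AdjoinRoot.algebraMap_eq]
      have := he.eq
      linear_combination (-(AdjoinRoot.root f - AdjoinRoot.of f a) * AdjoinRoot.mk f s) * this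
    rw [h3]
    refine Submodule.add_mem_sup (Submodule.smul_mem _ _ (Submodule.mem_span_singleton_self e)) ?_
    exact Submodule.add_mem _ (hM1 _ (Ideal.mul_mem_right _ _ hE1)) (hM1 _ h1)
  have hex : e * AdjoinRoot.root f ∈ N := hMN ⟨AdjoinRoot.root f, trivial, rfl⟩
  obtain ⟨a', ha'⟩ := Submodule.mem_span_singleton.mp hex
  -- e * (x - a') = 0
  have hkill : e * (AdjoinRoot.root f - AdjoinRoot.of f a') = 0 := by
    rw [mul_sub, ← ha', Algebra.smul_def, AdjoinRoot.algebraMap_eq]; ring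
  have hkill2 : ∀ p : S[X], e * AdjoinRoot.mk f p = e * AdjoinRoot.of f (p.eval a') := by
    intro p
    have hdvd : (X - C a') ∣ p - C (p.eval a') := by
      rw [dvd_iff_isRoot, IsRoot, eval_sub, eval_C, sub_self]
    obtain ⟨q, hq⟩ := hdvd
    have : AdjoinRoot.mk f p - AdjoinRoot.of f (p.eval a') =
        (AdjoinRoot.root f - AdjoinRoot.of f a') * AdjoinRoot.mk f q := by
      rw [← AdjoinRoot.mk_C, ← map_sub, hq, map_mul, map_sub, AdjoinRoot.mk_X, AdjoinRoot.mk_C]
    rw [← sub_eq_zero, ← mul_sub, this, ← mul_assoc, hkill, zero_mul]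
  have hfe : (f.eval a') • e = 0 := by
    rw [Algebra.smul_def, AdjoinRoot.algebraMap_eq, mul_comm, ← hkill2 f, AdjoinRoot.mk_self,
      mul_zero]
  -- e is not in 𝔟
  have hΦe0 : Φ e ≠ 0 := by
    rw [hΦe]
    intro h0
    rw [AdjoinRoot.mk_eq_zero, ← hfac] at h0
    have : (X - C a₀) ∣ βb * h₀ := (dvd_mul_right _ _).trans h0
    rw [dvd_iff_isRoot, IsRoot, hβh] at this
    exact one_ne_zero this
  have henot : e ∉ 𝔟 := fun hmem => hΦe0 (hΦ2 _ hmem)
  -- annihilator of e is zero
  have hann : ∀ r : S, r • e = 0 → r = 0 := by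
    intro r hr
    let pb := AdjoinRoot.powerBasis' hf
    by_contra hr0
    apply henot
    have hcoord : ∀ i, pb.basis.repr e i ∈ maximalIdeal S := by
      intro i
      by_contra hi
      have hu : IsUnit (pb.basis.repr e i) := by
        rwa [mem_maximalIdeal, mem_nonunits_iff, not_not] at hi
      have h1 : pb.basis.repr (r • e) i = 0 := by rw [hr]; simp
      rw [map_smul, Finsupp.smul_apply, smul_eq_mul] at h1
      exact hr0 (hu.mul_left_eq_zero.mp h1)
    have h2 : e ∈ (maximalIdeal S) • (⊤ : Submodule S (AdjoinRoot f)) := by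
      rw [← pb.basis.sum_repr e]
      exact Submodule.sum_mem _ fun i _ =>
        Submodule.smul_mem_smul (hcoord i) Submodule.mem_top
    rw [Ideal.smul_top_eq_map] at h2
    exact h2
  refine ⟨a', hann _ hfe, ?_⟩
  -- residue of a'
  have h1 : Φ (e * (AdjoinRoot.root f - AdjoinRoot.of f a')) = 0 := by rw [hkill, map_zero]
  rw [map_mul, hΦe, ← AdjoinRoot.mk_X, ← AdjoinRoot.mk_C, ← map_sub, hΦ1, ← map_mul,
    AdjoinRoot.mk_eq_zero, ← hfac] at h1
  have h2 : (X - C a₀) ∣ βb * h₀ * (X - C a').map ρ := (dvd_mul_right _ _).trans h1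
  rw [dvd_iff_isRoot, IsRoot, eval_mul, hβh, one_mul] at h2
  simp only [Polynomial.map_sub, Polynomial.map_X, Polynomial.map_C, eval_sub, eval_X, eval_C]
    at h2
  exact (sub_eq_zero.mp h2).symm

end Groth.Agent.H3
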