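import Mathlib

set_option autoImplicit false
universe u

namespace Groth.Agent.H3

open Polynomial IsLocalRing

/-- Étale lifting for Henselian local rings: a residue-field point of an étale algebra lifts
to a section. -/
theorem exists_section_of_etale {R : Type u} [CommRing R] [HenselianLocalRing R]
    {A : Type u} [CommRing A] [Algebra R A] [Algebra.Etale R A]
    (χ : A →ₐ[R] ResidueField R) :
    ∃ σ : A →ₐ[R] R, (IsScalarTower.toAlgHom R R (ResidueField R)).comp σ = χ := by
  classical
  let q : Ideal A := RingHom.ker χ.toRingHom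
  have hq : q.IsPrime := RingHom.ker_isPrime _
  have het : Algebra.IsEtaleAt R q := by
    have h1 : Algebra.etaleLocus R A = Set.univ :=
      Algebra.etaleLocus_eq_univ_iff.mpr inferInstance
    exact (Set.eq_univ_iff_forall.mp h1 ⟨q, hq⟩)
  obtain ⟨f₀, hf₀, hstd⟩ := Algebra.IsEtaleAt.exists_isStandardEtale (R := R) q
  obtain ⟨P⟩ := hstd.nonempty_standardEtalePresentation
  have hunit : IsUnit (χ f₀) := by
    rw [isUnit_iff_ne_zero]
    intro h
    exact hf₀ h
  let χ' : Localization.Away f₀ →ₐ[R] ResidueField R :=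
    IsLocalization.Away.liftAlgHom (f := χ) f₀ hunit
  have hχ' : χ'.comp (IsScalarTower.toAlgHom R A (Localization.Away f₀)) = χ := by
    ext a
    simp [χ']
  let x₀ : ResidueField R := χ' P.x
  have hx₀ : P.HasMap x₀ := P.hasMap.map χ'
  have hder : IsUnit (aeval x₀ (derivative P.f)) := hx₀.isUnit_derivative_f
  have H : ∀ f : R[X], f.Monic → ∀ a₀ : ResidueField R, aeval a₀ f = 0 →
      aeval a₀ (derivative f) ≠ 0 → ∃ a : R, f.IsRoot a ∧ residue R a = a₀ :=
    ((HenselianLocalRing.TFAE R).out 0 1).mp ‹HenselianLocalRing R›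
  obtain ⟨a, ha, hax⟩ := H P.f P.monic_f x₀ hx₀.1 hder.ne_zero
  have haMap : P.HasMap a := by
    refine ⟨by simpa [aeval_def] using ha, ?_⟩
    have h1 : residue R (aeval a P.g) = aeval x₀ P.g := by
      rw [← hax]
      have := Polynomial.aeval_algHom_apply (IsScalarTower.toAlgHom R R (ResidueField R)) a P.g
      simpa using this.symm
    have h2 : residue R (aeval a P.g) ≠ 0 := by
      rw [h1]; exact hx₀.2.ne_zero
    by_contra hnu
    exact h2 ((residue_eq_zero_iff _).mpr hnu)
  let σ' : Localization.Away f₀ →ₐ[R] R := (P.lift a haMap).comp P.equivRing.toAlgHom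
  refine ⟨σ'.comp (IsScalarTower.toAlgHom R A (Localization.Away f₀)), ?_⟩
  rw [← hχ', ← AlgHom.comp_assoc]
  congr 1
  apply P.hom_ext
  simp [σ', x₀, hax]

end Groth.Agent.H3
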