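import Groth.Agent.H3.HenselEtale2

set_option autoImplicit false
set_option linter.style.haveILetI false
set_option linter.unusedSimpArgs false
set_option linter.unusedVariables false
universe u

namespace Groth.Agent.H3

open Polynomial IsLocalRing TensorProduct

theorem henselianLocalRing_of_etale_retraction (R : Type u) [CommRing R] [IsLocalRing R]
    (h : ∀ (S : Type u) [CommRing S] [Algebra R S] [Algebra.Etale R S] (q : Ideal S) [q.IsPrime],
      q.LiesOver (IsLocalRing.maximalIdeal R) →
      Function.Surjective (algebraMap R q.ResidueField) → Nonempty (S →ₐ[R] R)) :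
    HenselianLocalRing R := by
  refine ((HenselianLocalRing.TFAE R).out 0 1).mpr ?_
  intro f hf a₀ hroot hder
  set ρ := residue R with hρ
  set fb : (ResidueField R)[X] := f.map ρ with hfb
  have hroot' : fb.IsRoot a₀ := by
    rw [IsRoot, hfb, eval_map]; simpa [aeval_def] using hroot
  have hder' : fb.derivative.eval a₀ ≠ 0 := by
    rw [hfb, derivative_map, eval_map]; simpa [aeval_def] using hder
  set h₀ := fb /ₘ (X - C a₀) with hh₀
  have hfac : (X - C a₀) * h₀ = fb := mul_divByMonic_eq_iff_isRoot.mpr hroot'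
  have hh₀a : h₀.eval a₀ = fb.derivative.eval a₀ := by
    rw [← hfac, derivative_mul]
    simp
  obtain ⟨hl, hhl⟩ := map_surjective ρ residue_surjective h₀
  let P : StandardEtalePair R := ⟨f, hf, derivative f * hl, ⟨hl, 0, 1, by ring⟩⟩
  have haeval : ∀ p : R[X], aeval a₀ p = (p.map ρ).eval a₀ := by
    intro p
    rw [aeval_def, eval_map]; rfl
  have hmap₀ : P.HasMap a₀ := by
    refine ⟨hroot, ?_⟩
    change IsUnit (aeval a₀ (derivative f * hl))
    rw [map_mul, isUnit_iff_ne_zero]
    refine mul_ne_zero hder ?_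
    rw [haeval, hhl, hh₀a]
    exact hder'
  let χ : P.Ring →ₐ[R] ResidueField R := P.lift a₀ hmap₀
  have hχsurj : Function.Surjective χ := by
    intro x
    obtain ⟨r, rfl⟩ := residue_surjective x
    exact ⟨algebraMap R P.Ring r, by rw [AlgHom.commutes]; rfl⟩
  let q : Ideal P.Ring := RingHom.ker χ.toRingHom
  haveI hqmax : q.IsMaximal := RingHom.ker_isMaximal_of_surjective χ.toRingHom hχsurj
  haveI hqprime : q.IsPrime := hqmax.isPrime
  have hqover : q.LiesOver (maximalIdeal R) := by
    constructor
    ext r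
    rw [Ideal.under_def, Ideal.mem_comap, RingHom.mem_ker]
    change _ ↔ χ (algebraMap R P.Ring r) = 0
    rw [AlgHom.commutes, ResidueField.algebraMap_eq, residue_eq_zero_iff]
  have hqsurj : Function.Surjective (algebraMap R q.ResidueField) := by
    intro x
    obtain ⟨y, rfl⟩ := Ideal.algebraMap_residueField_surjective q x
    obtain ⟨r, hr⟩ := residue_surjective (χ y)
    refine ⟨r, ?_⟩
    rw [IsScalarTower.algebraMap_apply R P.Ring q.ResidueField, ← sub_eq_zero, ← map_sub,
      Ideal.algebraMap_residueField_eq_zero]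
    change χ (algebraMap R P.Ring r - y) = 0
    rw [map_sub, AlgHom.commutes, ResidueField.algebraMap_eq, hr, sub_self]
  obtain ⟨τ⟩ := h P.Ring q hqover hqsurj
  have hmap : P.HasMap (τ P.X) := P.hasMap_X.map τ
  set a := τ P.X with ha
  have hfa : f.eval a = 0 := by simpa using hmap.1
  have hga : IsUnit (P.g.eval a) := by simpa using hmap.2
  have hhla : IsUnit (hl.eval a) := by
    change IsUnit ((derivative f * hl).eval a) at hga
    rw [eval_mul] at hga
    exact isUnit_of_mul_isUnit_right hga
  have h1 : fb.eval (ρ a) = 0 := by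
    rw [hfb, eval_map, eval₂_at_apply, hfa, map_zero]
  have h2 : h₀.eval (ρ a) ≠ 0 := by
    rw [← hhl, eval_map, eval₂_at_apply]
    exact (hhla.map ρ).ne_zero
  refine ⟨a, hfa, ?_⟩
  rw [← hfac, eval_mul, eval_sub, eval_X, eval_C] at h1
  exact sub_eq_zero.mp ((mul_eq_zero.mp h1).resolve_right h2)

end Groth.Agent.H3
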