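import Groth.Agent.H3.HenselSplit

set_option autoImplicit false
set_option linter.style.haveILetI false
set_option linter.unusedSimpArgs false
set_option linter.unusedVariables false
universe u

namespace Groth.Agent.H3

open Polynomial IsLocalRing TensorProduct

theorem finiteType_split_of_henselian (R : Type u) [CommRing R] [HenselianLocalRing R]
    (S : Type u) [CommRing S] [Algebra R S] [Algebra.FiniteType R S] :
    ∃ e : S, IsIdempotentElem e ∧ Module.Finite R (S ⧸ Ideal.span ({1 - e} : Set S)) ∧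
      ∀ (q : Ideal (S ⧸ Ideal.span ({e} : Set S))) [q.IsPrime],
        q.LiesOver (IsLocalRing.maximalIdeal R) → ¬ Algebra.QuasiFiniteAt R q := by
  classical
  set mS : Ideal S := (maximalIdeal R).map (algebraMap R S) with hmS
  letI : Field (R ⧸ maximalIdeal R) := Ideal.Quotient.field _
  haveI : Algebra.FiniteType (R ⧸ maximalIdeal R) (S ⧸ mS) :=
    Algebra.FiniteType.of_restrictScalars_finiteType R _ _
  haveI : IsNoetherianRing (S ⧸ mS) := Algebra.FiniteType.isNoetherianRing (R ⧸ maximalIdeal R) _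
  let 𝓔 : Set S := {e | IsIdempotentElem e ∧ Module.Finite R (S ⧸ Ideal.span ({1 - e} : Set S))}
  let 𝓘 : Set (Ideal (S ⧸ mS)) := {J | ∃ e ∈ 𝓔, J = Ideal.span {Ideal.Quotient.mk mS e}}
  have h0 : (0 : S) ∈ 𝓔 := by
    refine ⟨IsIdempotentElem.zero, ?_⟩
    rw [sub_zero, Ideal.span_singleton_one]
    infer_instance
  have h𝓘ne : 𝓘.Nonempty := ⟨_, 0, h0, rfl⟩
  obtain ⟨J, ⟨e, ⟨he, hefin⟩, rfl⟩, hJmax⟩ :=
    (inferInstance : WellFoundedGT (Ideal (S ⧸ mS))).wf.has_min 𝓘 h𝓘ne
  refine ⟨e, he, hefin, ?_⟩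
  intro q hqprime hqover hqf
  haveI := hqover
  haveI := hqf
  obtain ⟨εb, hεb, hεbq, hεbfin, -⟩ := exists_idempotent_finite_of_quasiFiniteAt (R := R) q
  obtain ⟨y, hy⟩ := Ideal.Quotient.mk_surjective εb
  have he0 : (1 - e) * e = 0 := by rw [sub_mul, one_mul, he.eq, sub_self]
  set ε := (1 - e) * y with hε
  have hy2 : y ^ 2 - y ∈ Ideal.span ({e} : Set S) := by
    rw [← Ideal.Quotient.eq_zero_iff_mem, map_sub, map_pow, hy, pow_two, hεb.eq, sub_self]
  obtain ⟨c, hc⟩ := Ideal.mem_span_singleton'.mp hy2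
  have hεidem : IsIdempotentElem ε := by
    unfold IsIdempotentElem
    have h1 : (1 - e) * (1 - e) = 1 - e := he.one_sub.eq
    have : ε * ε = (1 - e) * (1 - e) * (y ^ 2 - y) + (1 - e) * (1 - e) * y := by rw [hε]; ring
    rw [this, h1, ← hc, mul_comm c e, ← mul_assoc, he0, zero_mul, zero_add]
  have heε : e * ε = 0 := by
    rw [hε, ← mul_assoc, mul_comm e (1 - e), he0, zero_mul]
  have hmkε : Ideal.Quotient.mk (Ideal.span ({e} : Set S)) ε = εb := by
    rw [hε, map_mul, hy, map_sub, map_one,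
      Ideal.Quotient.eq_zero_iff_mem.mpr (Ideal.mem_span_singleton_self e), sub_zero, one_mul]
  -- finiteness of S / (1 - ε)
  have hεfin : Module.Finite R (S ⧸ Ideal.span ({1 - ε} : Set S)) := by
    let g : (S ⧸ Ideal.span ({e} : Set S)) →ₐ[R] S ⧸ Ideal.span ({1 - ε} : Set S) :=
      Ideal.Quotient.liftₐ _ (Ideal.Quotient.mkₐ R _) (by
        intro a ha
        obtain ⟨d, rfl⟩ := Ideal.mem_span_singleton'.mp ha
        rw [Ideal.Quotient.mkₐ_eq_mk, Ideal.Quotient.eq_zero_iff_mem, Ideal.mem_span_singleton']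
        refine ⟨d * e, ?_⟩
        rw [mul_assoc, mul_sub, mul_one, heε, sub_zero])
    let gb : ((S ⧸ Ideal.span ({e} : Set S)) ⧸ Ideal.span ({1 - εb} : Set _)) →ₐ[R]
        S ⧸ Ideal.span ({1 - ε} : Set S) :=
      Ideal.Quotient.liftₐ _ g (by
        intro a ha
        obtain ⟨d, rfl⟩ := Ideal.mem_span_singleton'.mp ha
        obtain ⟨d, rfl⟩ := Ideal.Quotient.mk_surjective d
        rw [← hmkε, ← map_one (Ideal.Quotient.mk (Ideal.span ({e} : Set S))), ← map_sub,
          ← map_mul]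
        change Ideal.Quotient.mk _ (d * (1 - ε)) = 0
        rw [Ideal.Quotient.eq_zero_iff_mem]
        exact Ideal.mul_mem_left _ _ (Ideal.mem_span_singleton_self _))
    apply Module.Finite.of_surjective gb.toLinearMap
    intro z
    obtain ⟨w, rfl⟩ := Ideal.Quotient.mk_surjective z
    exact ⟨Ideal.Quotient.mk _ (Ideal.Quotient.mk _ w), rfl⟩
  -- e' = e + ε
  have he'idem : IsIdempotentElem (e + ε) := by
    unfold IsIdempotentElem
    have : (e + ε) * (e + ε) = e * e + 2 * (e * ε) + ε * ε := by ring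
    rw [this, he.eq, heε, hεidem.eq, mul_zero, add_zero]
  have he'fin : Module.Finite R (S ⧸ Ideal.span ({1 - (e + ε)} : Set S)) := by
    have : 1 - (e + ε) = (1 - e) * (1 - ε) := by
      have : (1 - e) * (1 - ε) = 1 - e - ε + e * ε := by ring
      rw [this, heε]; ring
    rw [this]
    exact finite_quotient_mul_of_idempotent he.one_sub hεidem.one_sub
  have he'mem : e + ε ∈ 𝓔 := ⟨he'idem, he'fin⟩
  have hle : Ideal.span {Ideal.Quotient.mk mS e} ≤ Ideal.span {Ideal.Quotient.mk mS (e + ε)} := by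
    rw [Ideal.span_singleton_le_iff_mem, Ideal.mem_span_singleton']
    refine ⟨Ideal.Quotient.mk mS e, ?_⟩
    rw [← map_mul, mul_add, he.eq, heε, add_zero]
  have hnlt := hJmax _ ⟨e + ε, he'mem, rfl⟩
  have hge : Ideal.span {Ideal.Quotient.mk mS (e + ε)} ≤ Ideal.span {Ideal.Quotient.mk mS e} := by
    by_contra hcon
    exact hnlt (lt_of_le_not_ge hle hcon)
  have hεmS : ε ∈ mS := by
    have h1 : Ideal.Quotient.mk mS (e + ε) ∈ Ideal.span {Ideal.Quotient.mk mS e} :=
      hge (Ideal.mem_span_singleton_self _)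
    obtain ⟨d, hd⟩ := Ideal.mem_span_singleton'.mp h1
    have h2 : Ideal.Quotient.mk mS ε = Ideal.Quotient.mk mS ε * Ideal.Quotient.mk mS (e + ε) := by
      rw [← map_mul, mul_add, mul_comm ε e, heε, hεidem.eq, zero_add]
    rw [← Ideal.Quotient.eq_zero_iff_mem, h2, ← hd, mul_comm d, ← mul_assoc, ← map_mul,
      mul_comm ε e, heε, map_zero, zero_mul]
  -- Nakayama: ε = 0
  have hε0 : ε = 0 := by
    haveI := hεfin
    set M := S ⧸ Ideal.span ({1 - ε} : Set S) with hM
    have htop : (⊤ : Submodule R M) ≤ (maximalIdeal R) • (⊤ : Submodule R M) := by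
      rintro z -
      obtain ⟨w, rfl⟩ := Ideal.Quotient.mk_surjective z
      have h1 : Ideal.Quotient.mk (Ideal.span ({1 - ε} : Set S)) w =
          Ideal.Quotient.mk _ (w * ε) := by
        rw [Ideal.Quotient.eq, Ideal.mem_span_singleton']
        exact ⟨w, by ring⟩
      rw [h1, Ideal.smul_top_eq_map]
      change Ideal.Quotient.mk _ (w * ε) ∈ (maximalIdeal R).map (algebraMap R M)
      have h2 : (maximalIdeal R).map (algebraMap R M) =
          mS.map (Ideal.Quotient.mk (Ideal.span ({1 - ε} : Set S))) := by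
        rw [hmS, Ideal.map_map]; rfl
      rw [h2]
      exact Ideal.mem_map_of_mem _ (Ideal.mul_mem_left _ _ hεmS)
    have hbot := Submodule.eq_bot_of_le_smul_of_le_jacobson_bot (maximalIdeal R)
      (⊤ : Submodule R M) Module.Finite.fg_top htop (IsLocalRing.maximalIdeal_le_jacobson _)
    have hz : Ideal.Quotient.mk (Ideal.span ({1 - ε} : Set S)) ε = 0 := by
      have : Ideal.Quotient.mk (Ideal.span ({1 - ε} : Set S)) ε ∈ (⊤ : Submodule R M) := trivial
      rw [hbot] at this
      exact this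
    rw [Ideal.Quotient.eq_zero_iff_mem] at hz
    obtain ⟨d, hd⟩ := Ideal.mem_span_singleton'.mp hz
    have : ε = ε * ε := hεidem.eq.symm
    rw [this]
    nth_rewrite 1 [← hd]
    have h3 : (1 - ε) * ε = 0 := by rw [sub_mul, one_mul, hεidem.eq, sub_self]
    rw [mul_assoc, h3, mul_zero]
  apply hεbq
  rw [← hmkε, hε0, map_zero]
  exact Ideal.zero_mem _

end Groth.Agent.H3
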