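import Mathlib

/-!
# Inertia: elements with trivial stabilizer, Lagrange interpolation for invariant rings
-/

open Polynomial IntermediateField

namespace Groth.Agent.H3.Inert1

/-- A finite group acting faithfully on a field has an element with trivial stabilizer. -/
theorem exists_forall_smul_eq_imp_eq_one (M : Type*) [Group M] [Finite M] (L : Type*) [Field L]
    [MulSemiringAction M L] [FaithfulSMul M L] :
    ∃ a : L, ∀ σ : M, σ • a = a → σ = 1 := by
  obtain ⟨a, ha⟩ := Field.exists_primitive_element (FixedPoints.subfield M L) L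
  refine ⟨a, fun σ hσ => ?_⟩
  have halg : IsAlgebraic (FixedPoints.subfield M L) a :=
    (Algebra.IsAlgebraic.isAlgebraic a)
  have h1 : Algebra.adjoin (FixedPoints.subfield M L) {a} = ⊤ := by
    rw [← IntermediateField.adjoin_simple_toSubalgebra_of_isAlgebraic halg, ha]
    rfl
  have h2 : MulSemiringAction.toAlgHom (FixedPoints.subfield M L) L σ =
      AlgHom.id (FixedPoints.subfield M L) L := by
    apply AlgHom.ext_of_adjoin_eq_top h1
    intro x hx
    rw [Set.mem_singleton_iff] at hx
    subst hx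
    simpa using hσ
  apply eq_of_smul_eq_smul (α := L)
  intro x
  have := DFunLike.congr_fun h2 x
  simpa using this

section Lagrange

variable {R S G : Type*} [CommRing R] [CommRing S] [Algebra R S] [Group G] [Fintype G]
  [DecidableEq G] [MulSemiringAction G S]

/-- The trace of the Lagrange polynomial `s * ∏_{h ≠ 1} (X - h α)`. -/
noncomputable def lag (α s : S) : S[X] :=
  ∑ g : G, g • (C s * ∏ h ∈ Finset.univ.erase (1 : G), (X - C (h • α)))

theorem smul_lag (α s : S) (k : G) : k • lag (G := G) α s = lag (G := G) α s := by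
  unfold lag
  rw [Finset.smul_sum]
  simp_rw [smul_smul]
  exact Fintype.sum_equiv (Equiv.mulLeft k) _ _ (fun g => rfl)

theorem lag_mem_lifts [SMulCommClass G R S] [Algebra.IsInvariant R S G] (α s : S) :
    lag (G := G) α s ∈ Polynomial.lifts (algebraMap R S) :=
  (lag (G := G) α s).lifts_iff_coeff_lifts.mpr fun n =>
    Algebra.IsInvariant.isInvariant _ (fun g => by
      have := congrArg (fun p => Polynomial.coeff p n) (smul_lag (G := G) α s g)
      simpa [Polynomial.coeff_smul] using this)

theorem eval_lag (α s : S) :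
    (lag (G := G) α s).eval α = s * ∏ h ∈ Finset.univ.erase (1 : G), (α - h • α) := by
  unfold lag
  rw [Polynomial.eval_finset_sum, Finset.sum_eq_single (1 : G)]
  · simp [one_smul, eval_prod]
  · intro g _ hg
    rw [smul_mul', smul_C, Finset.smul_prod', eval_mul, eval_prod,
      Finset.prod_eq_zero (i := g⁻¹), mul_zero]
    · simp [hg]
    · rw [smul_sub, Polynomial.smul_X, Polynomial.smul_C, smul_smul, mul_inv_cancel, one_smul,
        eval_sub, eval_X, eval_C, sub_self]
  · simp

theorem coeff_lag_mem (α s : S) (J : Ideal S) (hJ : ∀ g : G, ∀ x ∈ J, g • x ∈ J) (hs : s ∈ J)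
    (n : ℕ) : (lag (G := G) α s).coeff n ∈ J := by
  unfold lag
  rw [Polynomial.finset_sum_coeff]
  refine J.sum_mem fun g _ => ?_
  rw [Polynomial.coeff_smul]
  apply hJ
  rw [Polynomial.coeff_C_mul]
  exact J.mul_mem_right _ hs

theorem isUnit_prod_of_isUnit (α : S) (hα : ∀ g : G, g ≠ 1 → IsUnit (α - g • α)) :
    IsUnit (∏ h ∈ Finset.univ.erase (1 : G), (α - h • α)) := by
  rw [IsUnit.prod_iff]
  intro g hg
  exact hα g (Finset.ne_of_mem_erase hg)

theorem mem_adjoin_of_isUnit [SMulCommClass G R S] [Algebra.IsInvariant R S G] (α : S)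
    (hα : ∀ g : G, g ≠ 1 → IsUnit (α - g • α)) (t : S) : t ∈ Algebra.adjoin R {α} := by
  obtain ⟨u, hu⟩ := isUnit_prod_of_isUnit α hα
  obtain ⟨Q, hQ⟩ := lag_mem_lifts (R := R) (G := G) α (t * ↑u⁻¹)
  rw [Polynomial.coe_mapRingHom] at hQ
  have h1 := eval_lag (G := G) α (t * ↑u⁻¹)
  rw [← hQ, ← hu, mul_assoc, Units.inv_mul, mul_one, Polynomial.eval_map_algebraMap] at h1
  rw [← h1]
  exact Polynomial.aeval_mem_adjoin_singleton R α

theorem mem_map_comap_of_isUnit [SMulCommClass G R S] [Algebra.IsInvariant R S G] (α : S)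
    (hα : ∀ g : G, g ≠ 1 → IsUnit (α - g • α)) (J : Ideal S)
    (hJ : ∀ g : G, ∀ x ∈ J, g • x ∈ J) (s : S) (hs : s ∈ J) :
    s ∈ (J.comap (algebraMap R S)).map (algebraMap R S) := by
  obtain ⟨u, hu⟩ := isUnit_prod_of_isUnit α hα
  obtain ⟨Q, hQ⟩ := lag_mem_lifts (R := R) (G := G) α s
  rw [Polynomial.coe_mapRingHom] at hQ
  have h1 := eval_lag (G := G) α s
  rw [← hQ, ← hu] at h1
  have h2 : (Q.map (algebraMap R S)).eval α ∈ (J.comap (algebraMap R S)).map (algebraMap R S) := by
    rw [Polynomial.eval_map, Polynomial.eval₂_eq_sum_range]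
    refine Ideal.sum_mem _ fun n _ => ?_
    refine Ideal.mul_mem_right _ _ (Ideal.mem_map_of_mem _ ?_)
    rw [Ideal.mem_comap, ← Polynomial.coeff_map, hQ]
    exact coeff_lag_mem α s J hJ hs n
  rw [h1] at h2
  have := Ideal.mul_mem_right (↑u⁻¹ : S) _ h2
  rwa [mul_assoc, Units.mul_inv, mul_one] at this

end Lagrange

end Groth.Agent.H3.Inert1
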