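import Mathlib
import Groth.Agent.H47.EtaleNormal

/-!
# Abstract "Lagrange" criterion for étaleness at a prime over a normal domain
-/

open Polynomial IsLocalRing Pointwise

namespace Groth.Agent.H3.Inert6

universe u

/-- If `R ⊇ B` are domains, `B` normal, `m` a prime of `R`, `α ∈ R` a root of a monic `f₀ ∈ B[X]`
with `f₀'(α) ∉ m`, and `u ∉ m` such that `R u ⊆ B[α]`, then `R_m` is formally étale over `B`. -/
theorem formallyEtale_atPrime_of_lagrange
    (B R : Type u) [CommRing B] [IsDomain B] [IsIntegrallyClosed B] [CommRing R] [IsDomain R]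
    [Algebra B R] [FaithfulSMul B R] (m : Ideal R) [m.IsPrime]
    (α : R) (f₀ : B[X]) (hf₀monic : f₀.Monic) (hf₀root : aeval α f₀ = 0)
    (hder : aeval α (derivative f₀) ∉ m) (u : R) (hum : u ∉ m)
    (K : ∀ r : R, ∃ Q : B[X], aeval α Q = r * u) :
    Algebra.FormallyEtale B (Localization.AtPrime m) := by
  classical
  let P : StandardEtalePair B := ⟨f₀, hf₀monic, derivative f₀, ⟨1, 0, 1, by simp⟩⟩
  set T := Localization.AtPrime m with hT
  have hmap : P.HasMap (algebraMap R T α) := by
    refine ⟨?_, ?_⟩
    · show aeval (algebraMap R T α) f₀ = 0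
      rw [aeval_algebraMap_apply, hf₀root, map_zero]
    · show IsUnit (aeval (algebraMap R T α) (derivative f₀))
      rw [aeval_algebraMap_apply]
      exact IsLocalization.map_units T (⟨_, hder⟩ : m.primeCompl)
  let φ : P.Ring →ₐ[B] T := P.lift _ hmap
  letI : Algebra P.Ring T := φ.toRingHom.toAlgebra
  haveI : IsScalarTower B P.Ring T := .of_algebraMap_eq (fun b => (φ.commutes b).symm)
  have hφalg : ∀ e : P.Ring, algebraMap P.Ring T e = φ e := fun _ => rfl
  set n' : Ideal P.Ring := (maximalIdeal T).comap φ.toRingHom with hn'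
  haveI : n'.IsPrime := Ideal.comap_isPrime _ _
  have K1 : ∀ r : R, ∃ e : P.Ring, φ e = algebraMap R T (r * u) := by
    intro r
    obtain ⟨Q, hQ⟩ := K r
    refine ⟨aeval P.X Q, ?_⟩
    rw [← Polynomial.aeval_algHom_apply, StandardEtalePair.lift_X, aeval_algebraMap_apply, hQ]
  have hinjBR : Function.Injective (algebraMap B R) := FaithfulSMul.algebraMap_injective B R
  have hinjRT : Function.Injective (algebraMap R T) :=
    IsLocalization.injective T m.primeCompl_le_nonZeroDivisors
  have hinjBT : Function.Injective (algebraMap B T) := by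
    rw [IsScalarTower.algebraMap_eq B R T]
    exact hinjRT.comp hinjBR
  have hunits : ∀ y : n'.primeCompl, IsUnit (algebraMap P.Ring T y) := by
    intro y
    have : φ y ∉ maximalIdeal T := y.2
    rw [mem_maximalIdeal, mem_nonunits_iff, not_not] at this
    exact this
  haveI : IsLocalization.AtPrime T n' := by
    refine ⟨hunits, ?_, ?_⟩
    · intro t
      obtain ⟨r, s, rfl⟩ := IsLocalization.exists_mk'_eq m.primeCompl t
      obtain ⟨er, her⟩ := K1 r
      obtain ⟨es, hes⟩ := K1 s
      have hsu : (s : R) * u ∉ m := fun h =>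
        (Ideal.IsPrime.mem_or_mem inferInstance h).elim s.2 hum
      have hes_unit : IsUnit (φ es) := by
        rw [hes]; exact IsLocalization.map_units T (⟨s * u, hsu⟩ : m.primeCompl)
      have hes_mem : es ∈ n'.primeCompl := by
        intro h
        have : φ es ∈ maximalIdeal T := h
        exact this hes_unit
      refine ⟨(er, ⟨es, hes_mem⟩), ?_⟩
      show IsLocalization.mk' T r s * φ es = φ er
      rw [hes, her, map_mul, map_mul, ← mul_assoc, IsLocalization.mk'_spec]
    · intro x y hxy
      rw [hφalg, hφalg] at hxy
      obtain ⟨hdom, -⟩ := Groth.Agent.H47.EtaleNormal.isDomain_isIntegrallyClosed_atPrime B P.Ring n'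
        (Localization.AtPrime n')
      let ψ : Localization.AtPrime n' →+* T :=
        IsLocalization.lift (M := n'.primeCompl) (g := algebraMap P.Ring T) hunits
      have hψ : ∀ e : P.Ring, ψ (algebraMap P.Ring (Localization.AtPrime n') e) = φ e :=
        fun e => IsLocalization.lift_eq _ e
      set d := x - y with hd
      have hφd : φ d = 0 := by rw [hd, map_sub, hxy, sub_self]
      have hd0 : algebraMap P.Ring (Localization.AtPrime n') d = 0 := by
        by_contra hne
        have halg : IsAlgebraic B (algebraMap P.Ring (Localization.AtPrime n') d) :=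
          (Groth.Agent.H47.EtaleNormal.isAlgebraic_of_etale B P.Ring d).algHom
            (IsScalarTower.toAlgHom B P.Ring (Localization.AtPrime n'))
        obtain ⟨q, hq0, hq⟩ := halg.exists_nonzero_coeff_and_aeval_eq_zero
          (mem_nonZeroDivisors_of_ne_zero hne)
        apply hq0
        apply hinjBT
        rw [map_zero]
        have h1 := congrArg ψ hq
        rw [map_zero, Polynomial.aeval_def, Polynomial.hom_eval₂, hψ, hφd,
          Polynomial.eval₂_at_zero] at h1
        rw [← h1]
        have : (ψ.comp (algebraMap B (Localization.AtPrime n'))) = algebraMap B T := by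
          ext b
          rw [RingHom.comp_apply, IsScalarTower.algebraMap_apply B P.Ring (Localization.AtPrime n'),
            hψ, φ.commutes]
        rw [this]
      obtain ⟨c, hc⟩ := (IsLocalization.map_eq_zero_iff n'.primeCompl _ d).mp hd0
      refine ⟨c, ?_⟩
      rw [hd, mul_sub, sub_eq_zero] at hc
      exact hc
  haveI : Algebra.FormallyEtale P.Ring T := Algebra.FormallyEtale.of_isLocalization n'.primeCompl
  exact Algebra.FormallyEtale.comp B P.Ring T

end Groth.Agent.H3.Inert6
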