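import Mathlib

/-!
# Lagrange interpolation over cosets of a subgroup
-/

open Polynomial Pointwise

namespace Groth.Agent.H3.Inert7

open scoped Classical in
/-- Sum over left cosets of `H` of the translates of `x` by coset representatives. -/
noncomputable def cosetSum {G : Type*} [Group G] [Fintype G] (H : Subgroup G) {X : Type*}
    [AddCommMonoid X] [DistribMulAction G X] (x : X) : X :=
  ∑ c : G ⧸ H, (Quotient.out c) • x

section

variable {G : Type*} [Group G] (H : Subgroup G)

theorem mul_out_smul {X : Type*} [MulAction G X] (x : X) (hx : ∀ h ∈ H, h • x = x) (k : G)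
    (c : G ⧸ H) : (k * Quotient.out c) • x = (Quotient.out (k • c)) • x := by
  set a := Quotient.out (k • c) with ha
  set b := k * Quotient.out c with hb
  have h1 : ((a : G) : G ⧸ H) = ((b : G) : G ⧸ H) := by
    rw [ha, hb, QuotientGroup.out_eq']
    conv_lhs => rw [← QuotientGroup.out_eq' c]
    rfl
  have h2 : a⁻¹ * b ∈ H := QuotientGroup.eq.mp h1
  have h3 : b = a * (a⁻¹ * b) := by group
  rw [h3, mul_smul, hx _ h2]

theorem out_mem_iff (c : G ⧸ H) : Quotient.out c ∈ H ↔ c = ((1 : G) : G ⧸ H) := by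
  constructor
  · intro h
    rw [← QuotientGroup.out_eq' c]
    exact (QuotientGroup.eq.mpr (by simpa using h)).symm
  · intro h
    have : ((1 : G) : G ⧸ H) = ((Quotient.out c : G) : G ⧸ H) := by
      rw [QuotientGroup.out_eq', h]
    have := QuotientGroup.eq.mp this
    simpa using this

variable [Fintype G]

theorem smul_cosetSum {X : Type*} [AddCommMonoid X] [DistribMulAction G X] (x : X)
    (hx : ∀ h ∈ H, h • x = x) (k : G) : k • cosetSum H x = cosetSum H x := by
  classical
  unfold cosetSum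
  rw [Finset.smul_sum]
  simp_rw [smul_smul, mul_out_smul H x hx]
  exact Fintype.sum_equiv (MulAction.toPerm k) _ _ (fun c => rfl)

end

section Ring

variable {B R G : Type*} [CommRing B] [CommRing R] [Algebra B R] [Group G] [Fintype G]
  [MulSemiringAction G R] (H : Subgroup G)

open scoped Classical in
/-- The Lagrange numerator polynomial. -/
noncomputable def lagQ (α s : R) : R[X] :=
  C s * ∏ g ∈ Finset.univ.filter (fun g : G => g ∉ H), (X - C (g • α))

open scoped Classical in
/-- The unit `u`. -/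
noncomputable def lagU (α : R) : R :=
  ∏ g ∈ Finset.univ.filter (fun g : G => g ∉ H), (α - g • α)

open scoped Classical in
/-- The coset characteristic polynomial. -/
noncomputable def cosetCharpoly (α : R) : R[X] :=
  ∏ c : G ⧸ H, (X - C ((Quotient.out c) • α))

theorem smul_lagQ (α s : R) (hα : ∀ h ∈ H, h • α = α) (hs : ∀ h ∈ H, h • s = s) (h : G)
    (hh : h ∈ H) : h • lagQ H α s = lagQ H α s := by
  classical
  unfold lagQ
  rw [smul_mul', smul_C, hs h hh, Finset.smul_prod']
  congr 1
  refine Finset.prod_equiv (Equiv.mulLeft h) ?_ ?_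
  · intro g
    simp only [Finset.mem_filter, Finset.mem_univ, true_and, Equiv.coe_mulLeft]
    rw [Subgroup.mul_mem_cancel_left H hh]
  · intro g _
    rw [smul_sub, smul_X, smul_C, smul_smul]
    rfl

theorem smul_lagU (α : R) (hα : ∀ h ∈ H, h • α = α) (h : G) (hh : h ∈ H) :
    h • lagU H α = lagU H α := by
  classical
  unfold lagU
  rw [Finset.smul_prod']
  refine Finset.prod_equiv (Equiv.mulLeft h) ?_ ?_
  · intro g
    simp only [Finset.mem_filter, Finset.mem_univ, true_and, Equiv.coe_mulLeft]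
    rw [Subgroup.mul_mem_cancel_left H hh]
  · intro g _
    rw [smul_sub, hα h hh, smul_smul]
    rfl

theorem eval_cosetSum_lagQ (α s : R) (hα : ∀ h ∈ H, h • α = α) (hs : ∀ h ∈ H, h • s = s) :
    (cosetSum H (lagQ H α s)).eval α = s * lagU H α := by
  classical
  unfold cosetSum
  rw [eval_finset_sum, Finset.sum_eq_single (((1 : G) : G ⧸ H))]
  · have h1 : Quotient.out (((1 : G) : G ⧸ H)) ∈ H := (out_mem_iff H _).mpr rfl
    rw [smul_lagQ H α s hα hs _ h1]
    unfold lagQ lagU
    rw [eval_mul, eval_C, eval_prod]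
    simp
  · intro c _ hc
    have h1 : Quotient.out c ∉ H := fun h => hc ((out_mem_iff H c).mp h)
    unfold lagQ
    rw [smul_mul', smul_C, Finset.smul_prod', eval_mul, eval_prod,
      Finset.prod_eq_zero (i := (Quotient.out c)⁻¹), mul_zero]
    · simp only [Finset.mem_filter, Finset.mem_univ, true_and]
      rwa [inv_mem_iff]
    · rw [smul_sub, smul_X, smul_C, smul_smul, mul_inv_cancel, one_smul, eval_sub, eval_X, eval_C,
        sub_self]
  · simp

theorem lagU_notMem (α : R) (m : Ideal R) [m.IsPrime] (hαm : ∀ g : G, g ∉ H → α - g • α ∉ m) :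
    lagU H α ∉ m := by
  classical
  unfold lagU
  rw [Ideal.IsPrime.prod_mem_iff]
  rintro ⟨g, hg, hmem⟩
  simp only [Finset.mem_filter, Finset.mem_univ, true_and] at hg
  exact hαm g hg hmem

theorem smul_cosetCharpoly (α : R) (hα : ∀ h ∈ H, h • α = α) (k : G) :
    k • cosetCharpoly H α = cosetCharpoly H α := by
  classical
  unfold cosetCharpoly
  rw [Finset.smul_prod']
  simp_rw [smul_sub, smul_X, smul_C, smul_smul, mul_out_smul H α hα]
  exact Fintype.prod_equiv (MulAction.toPerm k) _ _ (fun c => rfl)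

theorem monic_cosetCharpoly (α : R) : (cosetCharpoly H α).Monic := by
  classical
  unfold cosetCharpoly
  exact monic_prod_of_monic _ _ (fun c _ => monic_X_sub_C _)

theorem eval_cosetCharpoly (α : R) (hα : ∀ h ∈ H, h • α = α) :
    (cosetCharpoly H α).eval α = 0 := by
  classical
  unfold cosetCharpoly
  rw [eval_prod]
  apply Finset.prod_eq_zero (Finset.mem_univ (((1 : G) : G ⧸ H)))
  have h1 : Quotient.out (((1 : G) : G ⧸ H)) ∈ H := (out_mem_iff H _).mpr rfl
  rw [hα _ h1]
  simp

theorem eval_derivative_cosetCharpoly_notMem (α : R) (hα : ∀ h ∈ H, h • α = α) (m : Ideal R)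
    [m.IsPrime] (hαm : ∀ g : G, g ∉ H → α - g • α ∉ m) :
    (derivative (cosetCharpoly H α)).eval α ∉ m := by
  classical
  unfold cosetCharpoly
  have h1 : Quotient.out (((1 : G) : G ⧸ H)) ∈ H := (out_mem_iff H _).mpr rfl
  rw [Polynomial.derivative_prod_finset, eval_finset_sum,
    Finset.sum_eq_single (((1 : G) : G ⧸ H))]
  · rw [eval_mul, eval_prod]
    simp only [derivative_sub, derivative_X, derivative_C, sub_zero, eval_one, mul_one, eval_sub,
      eval_X, eval_C]
    rw [Ideal.IsPrime.prod_mem_iff]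
    rintro ⟨c, hc, hmem⟩
    have hc' : c ≠ ((1 : G) : G ⧸ H) := Finset.ne_of_mem_erase hc
    exact hαm _ (fun h => hc' ((out_mem_iff H c).mp h)) hmem
  · intro c _ hc
    rw [eval_mul, eval_prod, Finset.prod_eq_zero (i := ((1 : G) : G ⧸ H))
      (Finset.mem_erase.mpr ⟨Ne.symm hc, Finset.mem_univ _⟩) (by rw [hα _ h1]; simp), zero_mul]
  · simp

variable [SMulCommClass G B R] [Algebra.IsInvariant B R G]

theorem mem_lifts_of_smul_eq (p : R[X]) (hp : ∀ g : G, g • p = p) :
    p ∈ Polynomial.lifts (algebraMap B R) :=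
  p.lifts_iff_coeff_lifts.mpr fun n =>
    Algebra.IsInvariant.isInvariant _ (fun g => by
      have := congrArg (fun q => Polynomial.coeff q n) (hp g)
      simpa [Polynomial.coeff_smul] using this)

/-- The package of data needed for the abstract Lagrange criterion. -/
theorem exists_lagrange_data (α : R) (hα : ∀ h ∈ H, h • α = α) (m : Ideal R) [m.IsPrime]
    (hαm : ∀ g : G, g ∉ H → α - g • α ∉ m) :
    ∃ f₀ : B[X], f₀.Monic ∧ aeval α f₀ = 0 ∧ aeval α (derivative f₀) ∉ m ∧
      lagU H α ∉ m ∧ (∀ h ∈ H, h • lagU H α = lagU H α) ∧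
      ∀ s : R, (∀ h ∈ H, h • s = s) → ∃ Q : B[X], aeval α Q = s * lagU H α := by
  obtain ⟨f₀, hf₀map, -, hf₀monic⟩ := Polynomial.lifts_and_natDegree_eq_and_monic
    (mem_lifts_of_smul_eq (B := B) _ (smul_cosetCharpoly H α hα)) (monic_cosetCharpoly H α)
  refine ⟨f₀, hf₀monic, ?_, ?_, lagU_notMem H α m hαm, smul_lagU H α hα, ?_⟩
  · rw [← eval_map_algebraMap, hf₀map, eval_cosetCharpoly H α hα]
  · rw [← eval_map_algebraMap, ← Polynomial.derivative_map, hf₀map]
    exact eval_derivative_cosetCharpoly_notMem H α hα m hαm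
  · intro s hs
    obtain ⟨Q, hQ⟩ := mem_lifts_of_smul_eq (B := B) _
      (smul_cosetSum H (lagQ H α s) (smul_lagQ H α s hα hs))
    rw [Polynomial.coe_mapRingHom] at hQ
    exact ⟨Q, by rw [← eval_map_algebraMap, hQ, eval_cosetSum_lagQ H α s hα hs]⟩

end Ring

end Groth.Agent.H3.Inert7
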