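import Mathlib

/-!
# Existence of an inertia-invariant element separating the conjugates modulo a maximal ideal
-/

open Polynomial Pointwise

namespace Groth.Agent.H3.Inert8

attribute [local instance] Ideal.Quotient.field

/-- A finite group acting on a field has an element whose stabilizer acts trivially. -/
theorem exists_forall_smul_eq_imp_forall (M : Type*) [Group M] [Finite M] (L : Type*) [Field L]
    [MulSemiringAction M L] :
    ∃ a : L, ∀ σ : M, σ • a = a → ∀ x : L, σ • x = x := by
  obtain ⟨a, ha⟩ := Field.exists_primitive_element (FixedPoints.subfield M L) L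
  refine ⟨a, fun σ hσ => ?_⟩
  have halg : IsAlgebraic (FixedPoints.subfield M L) a :=
    (Algebra.IsAlgebraic.isAlgebraic a)
  have h1 : Algebra.adjoin (FixedPoints.subfield M L) {a} = ⊤ := by
    rw [← IntermediateField.adjoin_simple_toSubalgebra_of_isAlgebraic halg, ha]
    rfl
  have h2 : MulSemiringAction.toAlgHom (FixedPoints.subfield M L) L σ =
      AlgHom.id (FixedPoints.subfield M L) L := by
    apply AlgHom.ext_of_adjoin_eq_top h1
    intro x hx
    rw [Set.mem_singleton_iff] at hx
    subst hx
    simpa using hσ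
  intro x
  have := DFunLike.congr_fun h2 x
  simpa using this

section

variable {R G : Type*} [CommRing R] [Group G] [MulSemiringAction G R] (m : Ideal R)

theorem inv_smul_eq_of_smul_eq {g : G} (hg : g • m = m) : g⁻¹ • m = m := by
  conv_lhs => rw [← hg]
  rw [inv_smul_smul]

theorem smul_mem_of_smul_eq {g : G} (hg : g • m = m) {x : R} (hx : x ∈ m) : g • x ∈ m := by
  rw [← hg]; exact Ideal.smul_mem_pointwise_smul_iff.mpr hx

/-- The inertia group is normalized by the decomposition group. -/
theorem conj_mem_inertia {g τ : G} (hg : g • m = m) (hτ : τ ∈ m.inertia G) :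
    g⁻¹ * τ * g ∈ m.inertia G := by
  intro x
  have h1 : τ • (g • x) - g • x ∈ m := hτ (g • x)
  have h2 := smul_mem_of_smul_eq m (inv_smul_eq_of_smul_eq m hg) h1
  rw [smul_sub, inv_smul_smul] at h2
  rw [mul_smul, mul_smul]
  exact h2

theorem smul_smul_eq_of_inertia {g : G} (hg : g • m = m) {r : R}
    (hr : ∀ τ ∈ m.inertia G, τ • r = r) : ∀ τ ∈ m.inertia G, τ • (g • r) = g • r := by
  intro τ hτ
  have h1 := hr _ (conj_mem_inertia m hg hτ)
  have h2 : τ • g • r = g • ((g⁻¹ * τ * g) • r) := by
    rw [← mul_smul, ← mul_smul]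
    congr 1
    group
  rw [h2, h1]

theorem inertia_smul_mem_iff [m.IsPrime] {τ : G} (hτ : τ ∈ m.inertia G) (x : R) :
    τ • x ∈ m ↔ x ∈ m := by
  have h := hτ x
  constructor
  · intro h1
    have := m.sub_mem h1 h
    rwa [sub_sub_cancel] at this
  · intro h1
    have := m.add_mem h h1
    rwa [sub_add_cancel] at this

end

section Norm

variable {R G : Type*} [CommRing R] [Group G] [Fintype G] [MulSemiringAction G R] (m : Ideal R)

open scoped Classical in
/-- The norm over the inertia group. -/
noncomputable def normI (x : R) : R := ∏ τ ∈ Finset.univ.filter (fun τ : G => τ ∈ m.inertia G), τ • x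

theorem smul_normI (x : R) (σ : G) (hσ : σ ∈ m.inertia G) :
    σ • normI (G := G) m x = normI (G := G) m x := by
  classical
  unfold normI
  rw [Finset.smul_prod']
  refine Finset.prod_equiv (Equiv.mulLeft σ) ?_ ?_
  · intro g
    simp only [Finset.mem_filter, Finset.mem_univ, true_and, Equiv.coe_mulLeft]
    rw [Subgroup.mul_mem_cancel_left _ hσ]
  · intro g _
    rw [smul_smul]
    rfl

theorem normI_sub_one_mem (x : R) (hx : x - 1 ∈ m) : normI (G := G) m x - 1 ∈ m := by
  classical
  unfold normI
  rw [← Ideal.Quotient.eq, map_prod, map_one]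
  apply Finset.prod_eq_one
  intro τ hτ
  simp only [Finset.mem_filter, Finset.mem_univ, true_and] at hτ
  rw [← map_one (Ideal.Quotient.mk m), Ideal.Quotient.eq]
  have h1 := hτ x
  have := m.add_mem h1 hx
  rwa [sub_add_sub_cancel] at this

theorem smul_normI_mem [m.IsPrime] (x : R) (g : G) (hx : g • x ∈ m) : g • normI (G := G) m x ∈ m := by
  classical
  unfold normI
  rw [Finset.smul_prod', Ideal.IsPrime.prod_mem_iff]
  refine ⟨1, ?_, ?_⟩
  · simp only [Finset.mem_filter, Finset.mem_univ, true_and]
    exact Subgroup.one_mem _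
  · rwa [one_smul]

end Norm

section Eps

variable {R G : Type*} [CommRing R] [Group G] [Finite G] [MulSemiringAction G R] (m : Ideal R)
  [m.IsMaximal]

/-- An inertia-invariant element `ε ≡ 1 mod m` lying in all other conjugates of `m`. -/
theorem exists_eps : ∃ ε : R, (∀ τ ∈ m.inertia G, τ • ε = ε) ∧ ε - 1 ∈ m ∧
    ∀ g : G, g • m ≠ m → g • ε ∈ m := by
  classical
  cases nonempty_fintype G
  have h1 : ∀ g : G, g • m ≠ m → ∃ a : R, g • a ∈ m ∧ a ∉ m := by
    intro g hg
    by_contra hcon
    push_neg at hcon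
    apply hg
    have hle' : m ≤ g • m := by
      intro a ha
      rw [Ideal.mem_pointwise_smul_iff_inv_smul_mem]
      exact hcon _ (by rwa [smul_inv_smul])
    have hprime : (g • m).IsPrime := inferInstance
    exact (Ideal.IsMaximal.eq_of_le inferInstance hprime.ne_top hle').symm
  have h1' : ∀ g : G, ∃ a : R, g • m ≠ m → (g • a ∈ m ∧ a ∉ m) := by
    intro g
    by_cases h : g • m = m
    · exact ⟨0, fun h' => absurd h h'⟩
    · obtain ⟨a, ha⟩ := h1 g h
      exact ⟨a, fun _ => ha⟩
  choose a ha using h1'
  set β := ∏ h ∈ Finset.univ.filter (fun g : G => g • m ≠ m), a h with hβ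
  have hβm : β ∉ m := by
    rw [hβ, Ideal.IsPrime.prod_mem_iff]
    rintro ⟨h, hh, hmem'⟩
    simp only [Finset.mem_filter, Finset.mem_univ, true_and] at hh
    exact (ha h hh).2 hmem'
  have hgβ : ∀ g : G, g • m ≠ m → g • β ∈ m := by
    intro g hg
    rw [hβ, Finset.smul_prod', Ideal.IsPrime.prod_mem_iff]
    exact ⟨g, by simp [hg], (ha g hg).1⟩
  obtain ⟨y, i, hi, hy⟩ := Ideal.IsMaximal.exists_inv (I := m) inferInstance hβm
  refine ⟨normI (G := G) m (y * β), fun τ hτ => smul_normI m _ τ hτ, ?_, fun g hg => ?_⟩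
  · apply normI_sub_one_mem
    have : y * β - 1 = -i := by rw [← hy]; ring
    rw [this]; exact m.neg_mem hi
  · apply smul_normI_mem
    rw [smul_mul']
    exact m.mul_mem_left _ (hgβ g hg)

end Eps

end Groth.Agent.H3.Inert8
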