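import Mathlib
import Groth.Agent.H3.Inert8

/-!
# Existence of `γ` : an inertia-invariant element not fixed mod `m` by `D ∖ I`
-/

open Polynomial Pointwise

namespace Groth.Agent.H3.Inert9

open Groth.Agent.H3.Inert8

attribute [local instance] Ideal.Quotient.field

theorem exists_gamma (B R G : Type*) [CommRing B] [CommRing R] [Algebra B R] [Group G] [Finite G]
    [MulSemiringAction G R] [SMulCommClass G B R] [Algebra.IsInvariant B R G] (m : Ideal R)
    [m.IsMaximal] :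
    ∃ γ : R, (∀ τ ∈ m.inertia G, τ • γ = γ) ∧ γ ∉ m ∧
      ∀ g : G, g • m = m → g ∉ m.inertia G → g • γ - γ ∉ m := by
  classical
  set I := m.inertia G with hI
  set m₀ := m.under B with hm₀
  let R' : Subalgebra B R := FixedPoints.subalgebra B R I
  haveI : Algebra.IsInvariant R' R I := ⟨fun x h => ⟨⟨x, h⟩, rfl⟩⟩
  haveI : Algebra.IsIntegral R' R := Algebra.IsInvariant.isIntegral R' R I
  set m' := m.under R' with hm'
  haveI : m'.IsMaximal := Ideal.isMaximal_comap_of_isIntegral_of_isMaximal m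
  have hR'mem : ∀ r : R, r ∈ R' ↔ ∀ τ ∈ I, τ • r = r := by
    intro r
    constructor
    · intro h τ hτ
      exact h ⟨τ, hτ⟩
    · intro h τ
      exact h τ.1 τ.2
  have hsurj := Ideal.Quotient.stabilizerHom_surjective G m₀ m
  haveI : Finite ((R ⧸ m) ≃ₐ[B ⧸ m₀] (R ⧸ m)) := Finite.of_surjective _ hsurj
  let Sr : Subring (R ⧸ m) := ((Ideal.Quotient.mk m).comp R'.val.toRingHom).range
  have hSr : ∀ x, x ∈ Sr ↔ ∃ r : R, (∀ τ ∈ I, τ • r = r) ∧ Ideal.Quotient.mk m r = x := by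
    intro x
    constructor
    · rintro ⟨r', rfl⟩
      exact ⟨r', (hR'mem _).mp r'.2, rfl⟩
    · rintro ⟨r, hr, rfl⟩
      exact ⟨⟨r, (hR'mem r).mpr hr⟩, rfl⟩
  let S : Subfield (R ⧸ m) :=
    { Sr with
      inv_mem' := by
        rintro x ⟨r', rfl⟩
        by_cases hr' : r' ∈ m'
        · have : (Ideal.Quotient.mk m) (r' : R) = 0 := Ideal.Quotient.eq_zero_iff_mem.mpr hr'
          show ((Ideal.Quotient.mk m) (r' : R))⁻¹ ∈ Sr
          rw [this, inv_zero]
          exact Sr.zero_mem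
        · obtain ⟨y', i, hi, hy⟩ := Ideal.IsMaximal.exists_inv (I := m') inferInstance hr'
          have h1 : (Ideal.Quotient.mk m) (y' : R) * (Ideal.Quotient.mk m) (r' : R) = 1 := by
            have h2 := congrArg (fun z : R' => Ideal.Quotient.mk m (z : R)) hy
            simp only [Subalgebra.coe_add, Subalgebra.coe_mul, Subalgebra.coe_one, map_add,
              map_mul, map_one] at h2
            have h3 : (Ideal.Quotient.mk m) (i : R) = 0 := Ideal.Quotient.eq_zero_iff_mem.mpr hi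
            rw [h3, add_zero] at h2
            exact h2
          show ((Ideal.Quotient.mk m) (r' : R))⁻¹ ∈ Sr
          rw [← eq_inv_of_mul_eq_one_left h1]
          exact ⟨y', rfl⟩ }
  have hS : ∀ x, x ∈ S ↔ ∃ r : R, (∀ τ ∈ I, τ • r = r) ∧ Ideal.Quotient.mk m r = x := hSr
  haveI : IsInvariantSubfield ((R ⧸ m) ≃ₐ[B ⧸ m₀] (R ⧸ m)) S := by
    refine ⟨fun σ x hx => ?_⟩
    obtain ⟨⟨g, hg⟩, rfl⟩ := hsurj σ
    obtain ⟨r, hr, rfl⟩ := (hS x).mp hx
    have hgm : g • m = m := MulAction.mem_stabilizer_iff.mp hg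
    refine (hS _).mpr ⟨g • r, smul_smul_eq_of_inertia m hgm hr, ?_⟩
    rfl
  obtain ⟨a, ha⟩ := exists_forall_smul_eq_imp_forall ((R ⧸ m) ≃ₐ[B ⧸ m₀] (R ⧸ m)) S
  obtain ⟨γ₀, hγ₀inv, hγ₀⟩ := (hS a.1).mp a.2
  have key : ∀ g : G, g • m = m → g ∉ I → g • γ₀ - γ₀ ∉ m := by
    intro g hgm hgI hmem
    apply hgI
    set σ : (R ⧸ m) ≃ₐ[B ⧸ m₀] (R ⧸ m) :=
      Ideal.Quotient.stabilizerHom m m₀ G ⟨g, MulAction.mem_stabilizer_iff.mpr hgm⟩ with hσ
    have hσa : σ • a = a := by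
      apply Subtype.ext
      show σ (a.1) = a.1
      rw [← hγ₀, hσ, Ideal.Quotient.stabilizerHom_apply]
      exact Ideal.Quotient.eq.mpr hmem
    have hσS := ha σ hσa
    have hσ1 : ∀ x : R ⧸ m, σ x = x := by
      let σ' : (R ⧸ m) ≃ₐ[R' ⧸ m'] (R ⧸ m) := AlgEquiv.ofRingEquiv (f := σ.toRingEquiv) (fun x => by
        obtain ⟨r', rfl⟩ := Ideal.Quotient.mk_surjective x
        have hmemS : (Ideal.Quotient.mk m (r' : R)) ∈ S :=
          (hS _).mpr ⟨r', (hR'mem _).mp r'.2, rfl⟩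
        have := hσS ⟨_, hmemS⟩
        exact congrArg Subtype.val this)
      obtain ⟨τ, hτ⟩ := Ideal.Quotient.stabilizerHom_surjective I m' m σ'
      intro x
      obtain ⟨r, rfl⟩ := Ideal.Quotient.mk_surjective x
      have h1 : σ (Ideal.Quotient.mk m r) = σ' (Ideal.Quotient.mk m r) := rfl
      rw [h1, ← hτ, Ideal.Quotient.stabilizerHom_apply]
      exact Ideal.Quotient.eq.mpr (τ.1.2 r)
    intro r
    have := hσ1 (Ideal.Quotient.mk m r)
    rw [hσ, Ideal.Quotient.stabilizerHom_apply] at this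
    exact Ideal.Quotient.eq.mp this
  by_cases hγm : γ₀ ∈ m
  · refine ⟨1, fun τ _ => smul_one τ, (Ideal.ne_top_iff_one m).mp (Ideal.IsPrime.ne_top'), ?_⟩
    intro g hgm hgI
    exfalso
    exact key g hgm hgI (m.sub_mem (smul_mem_of_smul_eq m hgm hγm) hγm)
  · exact ⟨γ₀, hγ₀inv, hγm, key⟩

/-- The key existence statement. -/
theorem exists_alpha (B R G : Type*) [CommRing B] [CommRing R] [Algebra B R] [Group G] [Finite G]
    [MulSemiringAction G R] [SMulCommClass G B R] [Algebra.IsInvariant B R G] (m : Ideal R)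
    [m.IsMaximal] :
    ∃ α : R, (∀ τ ∈ m.inertia G, τ • α = α) ∧ ∀ g : G, g ∉ m.inertia G → α - g • α ∉ m := by
  obtain ⟨γ, hγinv, hγm, hγ⟩ := exists_gamma B R G m
  obtain ⟨ε, hεinv, hε1, hε⟩ := exists_eps (G := G) m
  refine ⟨γ * ε, fun τ hτ => by rw [smul_mul', hγinv τ hτ, hεinv τ hτ], fun g hgI hmem => ?_⟩
  have h1 : γ * ε - γ ∈ m := by
    have : γ * ε - γ = γ * (ε - 1) := by ring
    rw [this]; exact m.mul_mem_left _ hε1
  by_cases hgm : g • m = m
  · apply hγ g hgm hgI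
    have h2 : g • (γ * ε - γ) ∈ m := smul_mem_of_smul_eq m hgm h1
    have : g • γ - γ = g • (γ * ε) - g • (γ * ε - γ) - γ := by rw [smul_sub]; ring
    have h3 : g • γ - γ = -(γ * ε - g • (γ * ε)) + (γ * ε - γ) - g • (γ * ε - γ) := by
      rw [smul_sub]; ring
    rw [h3]
    exact m.sub_mem (m.add_mem (m.neg_mem hmem) h1) h2
  · apply hγm
    have h2 : g • (γ * ε) ∈ m := by
      rw [smul_mul']; exact m.mul_mem_left _ (hε g hgm)
    have h3 : γ = (γ * ε - g • (γ * ε)) + g • (γ * ε) - (γ * ε - γ) := by ring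
    rw [h3]
    exact m.sub_mem (m.add_mem hmem h2) h1

end Groth.Agent.H3.Inert9
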