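import Mathlib
import Groth.Agent.H3.Inert6
import Groth.Agent.H3.Inert7
import Groth.Agent.H3.Inert9

/-!
# The ring of inertia invariants is étale over the ring of invariants at the prime below
(normal domain case)
-/

open Polynomial Pointwise

namespace Groth.Agent.H3.Inert10

universe u

theorem formallyEtale_atPrime_inertia_invariants
    (B₀ R' R : Type u) (G : Type*) [CommRing B₀] [IsDomain B₀] [IsIntegrallyClosed B₀]
    [CommRing R] [IsDomain R] [Algebra B₀ R] [FaithfulSMul B₀ R] [Group G] [Finite G]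
    [MulSemiringAction G R] [SMulCommClass G B₀ R] [Algebra.IsInvariant B₀ R G]
    (m : Ideal R) [m.IsMaximal]
    [CommRing R'] [Algebra B₀ R'] [Algebra R' R] [IsScalarTower B₀ R' R] [FaithfulSMul R' R]
    (hR' : ∀ r : R, (∀ σ ∈ m.inertia G, σ • r = r) ↔ r ∈ Set.range (algebraMap R' R)) :
    Algebra.FormallyEtale B₀ (Localization.AtPrime (m.comap (algebraMap R' R))) := by
  classical
  cases nonempty_fintype G
  have hι : Function.Injective (algebraMap R' R) := FaithfulSMul.algebraMap_injective R' R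
  haveI : IsDomain R' := hι.isDomain _
  haveI : FaithfulSMul B₀ R' := by
    rw [faithfulSMul_iff_algebraMap_injective]
    have h := FaithfulSMul.algebraMap_injective B₀ R
    rw [IsScalarTower.algebraMap_eq B₀ R' R] at h
    exact Function.Injective.of_comp h
  obtain ⟨α, hαinv, hα⟩ := Inert9.exists_alpha B₀ R G m
  obtain ⟨f₀, hmonic, hroot, hder, hum, huinv, K⟩ :=
    Inert7.exists_lagrange_data (B := B₀) (m.inertia G) α hαinv m hα
  obtain ⟨α', hα'⟩ := (hR' α).mp hαinv
  obtain ⟨u', hu'⟩ := (hR' _).mp huinv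
  refine Inert6.formallyEtale_atPrime_of_lagrange B₀ R' (m.comap (algebraMap R' R)) α' f₀ hmonic
    ?_ ?_ u' ?_ ?_
  · apply hι
    rw [← aeval_algebraMap_apply, hα', hroot, map_zero]
  · rw [Ideal.mem_comap, ← aeval_algebraMap_apply, hα']
    exact hder
  · rw [Ideal.mem_comap, hu']
    exact hum
  · intro r'
    obtain ⟨Q, hQ⟩ := K (algebraMap R' R r') ((hR' _).mpr ⟨r', rfl⟩)
    refine ⟨Q, ?_⟩
    apply hι
    rw [← aeval_algebraMap_apply, hα', hQ, map_mul, hu']

end Groth.Agent.H3.Inert10
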