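import Mathlib

/-!
# Localizations of a finite domain over a DVR at maximal ideals are finitely presented
-/

open Polynomial Pointwise IsLocalRing

namespace Groth.Agent.H3.Inert11

theorem finitePresentation_atPrime_of_finite_dvr (A C : Type*) [CommRing A] [IsDomain A]
    [IsDiscreteValuationRing A] [CommRing C] [IsDomain C] [Algebra A C] [Module.Finite A C]
    (q : Ideal C) [q.IsMaximal] :
    Algebra.FinitePresentation A (Localization.AtPrime q) := by
  classical
  haveI : Algebra.IsIntegral A C := Algebra.IsIntegral.of_finite A C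
  have hfin : ((maximalIdeal A).primesOver C).Finite :=
    Algebra.QuasiFinite.finite_primesOver (maximalIdeal A)
  -- elements x_n ∈ n ∖ q
  have hx : ∀ n ∈ hfin.toFinset.erase q, ∃ x : C, x ∈ n ∧ x ∉ q := by
    intro n hn
    rw [Finset.mem_erase, Set.Finite.mem_toFinset] at hn
    obtain ⟨hnq, hnprime, hnover⟩ := hn
    haveI := hnprime
    haveI := hnover
    have hnmax : n.IsMaximal := by
      apply Ideal.isMaximal_of_isIntegral_of_isMaximal_comap (R := A) n
      have : n.comap (algebraMap A C) = maximalIdeal A := (Ideal.over_def n (maximalIdeal A)).symm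
      rw [this]; infer_instance
    by_contra hcon
    push_neg at hcon
    exact hnq (hnmax.eq_of_le (Ideal.IsPrime.ne_top') hcon)
  choose! x hx using hx
  set t : C := ∏ n ∈ hfin.toFinset.erase q, x n with ht
  have htq : t ∉ q := by
    rw [ht, Ideal.IsPrime.prod_mem_iff]
    rintro ⟨n, hn, hmem⟩
    exact (hx n hn).2 hmem
  have htn : ∀ n ∈ hfin.toFinset.erase q, t ∈ n := by
    intro n hn
    rw [ht]
    exact Ideal.mem_of_dvd _ (Finset.dvd_prod_of_mem _ hn) (hx n hn).1
  set T := Localization.Away t with hT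
  have hunit : ∀ r ∈ q.primeCompl, IsUnit (algebraMap C T r) := by
    intro r hr
    by_contra hnu
    obtain ⟨𝔮, h𝔮max, h𝔮mem⟩ := exists_max_ideal_of_mem_nonunits (mem_nonunits_iff.mpr hnu)
    set 𝔮₀ := 𝔮.comap (algebraMap C T) with h𝔮₀
    haveI : 𝔮₀.IsPrime := Ideal.comap_isPrime _ _
    have hr𝔮₀ : r ∈ 𝔮₀ := h𝔮mem
    have ht𝔮₀ : t ∉ 𝔮₀ := by
      intro h
      have : algebraMap C T t ∈ 𝔮 := h
      exact h𝔮max.ne_top (Ideal.eq_top_of_isUnit_mem _ this (IsLocalization.Away.algebraMap_isUnit t))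
    have hr0 : r ≠ 0 := fun h => hr (by rw [h]; exact q.zero_mem)
    have hne : 𝔮₀.comap (algebraMap A C) ≠ ⊥ :=
      Ideal.comap_ne_bot_of_integral_mem hr0 hr𝔮₀ (Algebra.IsIntegral.isIntegral r)
    haveI : (𝔮₀.comap (algebraMap A C)).IsPrime := Ideal.comap_isPrime _ _
    have hmaxA : (𝔮₀.comap (algebraMap A C)).IsMaximal :=
      Ring.DimensionLEOne.maximalOfPrime hne inferInstance
    have hover : 𝔮₀.comap (algebraMap A C) = maximalIdeal A := IsLocalRing.eq_maximalIdeal hmaxA
    have hmem𝒫 : 𝔮₀ ∈ (maximalIdeal A).primesOver C := ⟨inferInstance, ⟨hover.symm⟩⟩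
    by_cases h𝔮q : 𝔮₀ = q
    · exact hr (h𝔮q ▸ hr𝔮₀)
    · apply ht𝔮₀
      apply htn
      rw [Finset.mem_erase, Set.Finite.mem_toFinset]
      exact ⟨h𝔮q, hmem𝒫⟩
  haveI : IsLocalization q.primeCompl T := by
    refine IsLocalization.of_le (M := Submonoid.powers t) q.primeCompl ?_ hunit
    rintro _ ⟨k, rfl⟩
    show t ^ k ∉ q
    exact fun h => htq (Ideal.IsPrime.mem_of_pow_mem inferInstance k h)
  haveI : Algebra.FinitePresentation A C :=
    Algebra.FinitePresentation.of_finiteType.mp inferInstance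
  haveI : Algebra.FinitePresentation C T := IsLocalization.Away.finitePresentation t
  haveI : Algebra.FinitePresentation A T := Algebra.FinitePresentation.trans A C T
  let e : T ≃ₐ[C] Localization.AtPrime q := IsLocalization.algEquiv q.primeCompl T _
  exact Algebra.FinitePresentation.equiv (e.restrictScalars A)

end Groth.Agent.H3.Inert11
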