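import Mathlib
import Groth.Agent.H3.Inert10
import Groth.Agent.H3.Inert11

/-!
# S7139 : the inertia field of a DVR is étale at the prime below
-/

open Polynomial Pointwise IsLocalRing

namespace Groth.Agent.H3.Inert12

universe u

theorem main (A K L B : Type u) [CommRing A] [IsDomain A]
    [IsDiscreteValuationRing A] [Field K] [Field L] [Algebra A K] [IsFractionRing A K] [Algebra K L]
    [Algebra A L] [IsScalarTower A K L] [FiniteDimensional K L] [IsGalois K L]
    [CommRing B] [Algebra A B] [Algebra B L] [IsScalarTower A B L] [IsIntegralClosure B A L]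
    [MulSemiringAction (L ≃ₐ[K] L) B]
    (hact : ∀ (σ : L ≃ₐ[K] L) (b : B), algebraMap B L (σ • b) = σ (algebraMap B L b))
    (m : Ideal B) [m.IsMaximal]
    (B' : Type u) [CommRing B'] [Algebra A B'] [Algebra B' B] [IsScalarTower A B' B] [Algebra B' L]
    [IsScalarTower B' B L]
    [Algebra B' (IntermediateField.fixedField (m.inertia (L ≃ₐ[K] L)))]
    [IsScalarTower B' (IntermediateField.fixedField (m.inertia (L ≃ₐ[K] L))) L]
    [IsIntegralClosure B' A (IntermediateField.fixedField (m.inertia (L ≃ₐ[K] L)))] :
    (∀ b : B, (∀ σ ∈ m.inertia (L ≃ₐ[K] L), σ • b = b) ↔ b ∈ Set.range (algebraMap B' B)) ∧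
      Algebra.Etale A (Localization.AtPrime (m.comap (algebraMap B' B))) := by
  have hBL : Function.Injective (algebraMap B L) := IsIntegralClosure.algebraMap_injective B A L
  haveI : IsScalarTower A (IntermediateField.fixedField (m.inertia (L ≃ₐ[K] L))) L :=
    IsScalarTower.of_algebraMap_eq (fun a => rfl)
  have hB'E : Function.Injective (algebraMap B' (IntermediateField.fixedField (m.inertia (L ≃ₐ[K] L)))) := IsIntegralClosure.algebraMap_injective B' A (IntermediateField.fixedField (m.inertia (L ≃ₐ[K] L)))
  have hEL : Function.Injective (algebraMap (IntermediateField.fixedField (m.inertia (L ≃ₐ[K] L))) L) := (algebraMap (IntermediateField.fixedField (m.inertia (L ≃ₐ[K] L))) L).injective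
  have hB'L : ∀ b' : B', algebraMap B L (algebraMap B' B b') =
      algebraMap (IntermediateField.fixedField (m.inertia (L ≃ₐ[K] L))) L (algebraMap B' (IntermediateField.fixedField (m.inertia (L ≃ₐ[K] L))) b') := fun b' => by
    rw [← IsScalarTower.algebraMap_apply, ← IsScalarTower.algebraMap_apply]
  -- Part 1
  have part1 : ∀ b : B, (∀ σ ∈ (m.inertia (L ≃ₐ[K] L)), σ • b = b) ↔ b ∈ Set.range (algebraMap B' B) := by
    intro b
    constructor
    · intro hb
      have hx : algebraMap B L b ∈ (IntermediateField.fixedField (m.inertia (L ≃ₐ[K] L))) := by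
        rw [IntermediateField.mem_fixedField_iff]
        intro σ hσ
        rw [← hact, hb σ hσ]
      have hint : IsIntegral A (⟨algebraMap B L b, hx⟩ : (IntermediateField.fixedField (m.inertia (L ≃ₐ[K] L)))) := by
        have h1 : IsIntegral A (algebraMap B L b) := (IsIntegralClosure.isIntegral A L b).algebraMap
        rwa [← isIntegral_algebraMap_iff hEL]
      obtain ⟨b', hb'⟩ := (IsIntegralClosure.isIntegral_iff (A := B')).mp hint
      refine ⟨b', hBL ?_⟩
      rw [hB'L, hb']
      rfl
    · rintro ⟨b', rfl⟩ σ hσ
      apply hBL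
      rw [hact, hB'L]
      exact (algebraMap B' (IntermediateField.fixedField (m.inertia (L ≃ₐ[K] L))) b').2 ⟨σ, hσ⟩
  refine ⟨part1, ?_⟩
  -- instances
  haveI : IsDomain B := hBL.isDomain _
  have hAL : Function.Injective (algebraMap A L) := by
    rw [IsScalarTower.algebraMap_eq A K L]
    exact (algebraMap K L).injective.comp (IsFractionRing.injective A K)
  haveI : FaithfulSMul A B := by
    rw [faithfulSMul_iff_algebraMap_injective]
    rw [IsScalarTower.algebraMap_eq A B L] at hAL
    exact Function.Injective.of_comp hAL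
  haveI : SMulCommClass (L ≃ₐ[K] L) A B := by
    refine ⟨fun σ a b => hBL ?_⟩
    rw [hact, Algebra.smul_def, Algebra.smul_def, map_mul, map_mul, map_mul, hact,
      ← IsScalarTower.algebraMap_apply, IsScalarTower.algebraMap_apply A K L, AlgEquiv.commutes]
  haveI : Algebra.IsInvariant A B (L ≃ₐ[K] L) := by
    refine ⟨fun b hb => ?_⟩
    have h1 : ∀ σ : L ≃ₐ[K] L, σ • algebraMap B L b = algebraMap B L b := fun σ => by
      show σ (algebraMap B L b) = _
      rw [← hact, hb σ]
    obtain ⟨k, hk⟩ := Algebra.IsInvariant.isInvariant (A := K) (G := L ≃ₐ[K] L) _ h1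
    have hint : IsIntegral A k := by
      have h2 : IsIntegral A (algebraMap B L b) := (IsIntegralClosure.isIntegral A L b).algebraMap
      rwa [← hk, isIntegral_algebraMap_iff (algebraMap K L).injective] at h2
    obtain ⟨a, rfl⟩ := IsIntegrallyClosed.algebraMap_eq_of_integral hint
    refine ⟨a, hBL ?_⟩
    rw [← hk, ← IsScalarTower.algebraMap_apply, ← IsScalarTower.algebraMap_apply]
  haveI : FaithfulSMul B' B := by
    rw [faithfulSMul_iff_algebraMap_injective]
    intro x y hxy
    apply hB'E
    apply hEL
    rw [← hB'L, ← hB'L, hxy]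
  haveI hfe : Algebra.FormallyEtale A (Localization.AtPrime (m.comap (algebraMap B' B))) :=
    Inert10.formallyEtale_atPrime_inertia_invariants A B' B (L ≃ₐ[K] L) m part1
  -- finiteness
  haveI : IsDomain B' := (FaithfulSMul.algebraMap_injective B' B).isDomain _
  haveI : IsScalarTower A B' (IntermediateField.fixedField (m.inertia (L ≃ₐ[K] L))) := by
    refine IsScalarTower.of_algebraMap_eq (fun a => hEL ?_)
    rw [← hB'L, ← IsScalarTower.algebraMap_apply A B' B, ← IsScalarTower.algebraMap_apply A B L,
      ← IsScalarTower.algebraMap_apply A _ L]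
  haveI : Module.Finite A B' := IsIntegralClosure.finite A K (IntermediateField.fixedField (m.inertia (L ≃ₐ[K] L))) B'
  haveI : Algebra.IsIntegral B' B := by
    haveI : Algebra.IsIntegral A B := IsIntegralClosure.isIntegral_algebra A L
    exact Algebra.IsIntegral.tower_top A
  haveI : (m.comap (algebraMap B' B)).IsMaximal :=
    Ideal.isMaximal_comap_of_isIntegral_of_isMaximal m
  haveI : Algebra.FinitePresentation A (Localization.AtPrime (m.comap (algebraMap B' B))) :=
    Inert11.finitePresentation_atPrime_of_finite_dvr A B' _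
  exact ⟨hfe, inferInstance⟩

end Groth.Agent.H3.Inert12
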