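import Mathlib
import Groth.Agent.H3.Inert1

/-!
# Trivial inertia implies unramified (local case)
-/

open Polynomial IsLocalRing Pointwise

namespace Groth.Agent.H3.Inert2

universe u

attribute [local instance] Ideal.Quotient.field

theorem smul_mem_of_mem (S G : Type*) [CommRing S] [IsLocalRing S] [Group G]
    [MulSemiringAction G S] (n : Ideal S) [n.IsMaximal] (g : G) (x : S) (hx : x ∈ n) :
    g • x ∈ n := by
  have hn : n = maximalIdeal S := IsLocalRing.eq_maximalIdeal ‹_›
  rw [hn, mem_maximalIdeal, mem_nonunits_iff] at hx ⊢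
  intro h
  apply hx
  exact (isUnit_map_iff (MulSemiringAction.toRingEquiv G S g) x).mp h

theorem smul_eq (S G : Type*) [CommRing S] [IsLocalRing S] [Group G]
    [MulSemiringAction G S] (n : Ideal S) [n.IsMaximal] (g : G) : g • n = n := by
  ext x
  rw [Ideal.mem_pointwise_smul_iff_inv_smul_mem]
  constructor
  · intro h
    have := smul_mem_of_mem S G n g _ h
    rwa [smul_inv_smul] at this
  · exact smul_mem_of_mem S G n g⁻¹ x

/-- Key: an element of `S` whose conjugates are pairwise distinct modulo `n`. -/
theorem exists_isUnit_sub (R S G : Type u) [CommRing R] [CommRing S] [IsLocalRing R]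
    [IsLocalRing S] [Algebra R S] [Group G] [Finite G] [MulSemiringAction G S]
    [SMulCommClass G R S] [Algebra.IsInvariant R S G] (n : Ideal S) [n.IsMaximal]
    [n.LiesOver (maximalIdeal R)] (h : n.toAddSubgroup.inertia G = ⊥) :
    ∃ α : S, ∀ g : G, g ≠ 1 → IsUnit (α - g • α) := by
  have hn : n = maximalIdeal S := IsLocalRing.eq_maximalIdeal ‹_›
  have hsurj := Ideal.Quotient.stabilizerHom_surjective G (maximalIdeal R) n
  haveI : Finite ((S ⧸ n) ≃ₐ[R ⧸ maximalIdeal R] (S ⧸ n)) := Finite.of_surjective _ hsurj
  obtain ⟨a, ha⟩ := Inert1.exists_forall_smul_eq_imp_eq_one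
    ((S ⧸ n) ≃ₐ[R ⧸ maximalIdeal R] (S ⧸ n)) (S ⧸ n)
  obtain ⟨α, rfl⟩ := Ideal.Quotient.mk_surjective a
  refine ⟨α, fun g hg => ?_⟩
  by_contra hnu
  apply hg
  have hmem : α - g • α ∈ n := by rw [hn]; exact hnu
  have h1 : Ideal.Quotient.stabilizerHom n (maximalIdeal R) G ⟨g, smul_eq S G n g⟩ = 1 := by
    apply ha
    show Ideal.Quotient.stabilizerHom n (maximalIdeal R) G ⟨g, smul_eq S G n g⟩
      (Ideal.Quotient.mk n α) = Ideal.Quotient.mk n α
    rw [Ideal.Quotient.stabilizerHom_apply]
    exact (Ideal.Quotient.eq.mpr hmem).symm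
  have h2 : g ∈ n.toAddSubgroup.inertia G := by
    intro s
    have := DFunLike.congr_fun h1 (Ideal.Quotient.mk n s)
    rw [Ideal.Quotient.stabilizerHom_apply] at this
    exact Ideal.Quotient.eq.mp this
  rw [h] at h2
  exact Subgroup.mem_bot.mp h2

theorem forward (R S G : Type u) [CommRing R] [CommRing S] [IsLocalRing R]
    [IsLocalRing S] [Algebra R S] [Group G] [Finite G] [MulSemiringAction G S]
    [SMulCommClass G R S] [Algebra.IsInvariant R S G] (n : Ideal S) [n.IsMaximal]
    [n.LiesOver (maximalIdeal R)] (h : n.toAddSubgroup.inertia G = ⊥) :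
    (maximalIdeal R).map (algebraMap R S) = n ∧
      Module.Finite (R ⧸ maximalIdeal R) (S ⧸ n) ∧
      Algebra.IsSeparable (R ⧸ maximalIdeal R) (S ⧸ n) := by
  classical
  cases nonempty_fintype G
  have hn : n = maximalIdeal S := IsLocalRing.eq_maximalIdeal ‹_›
  obtain ⟨α, hα⟩ := exists_isUnit_sub R S G n h
  have hint : Algebra.IsIntegral R S := Algebra.IsInvariant.isIntegral R S G
  have hadj : ∀ t : S, t ∈ Algebra.adjoin R {α} :=
    Inert1.mem_adjoin_of_isUnit (R := R) (G := G) α hα
  have hfin : Module.Finite R S := by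
    have h1 : Module.Finite R (Algebra.adjoin R {α}) :=
      Algebra.finite_adjoin_simple_of_isIntegral (Algebra.IsIntegral.isIntegral α)
    have h2 : Algebra.adjoin R {α} = ⊤ := eq_top_iff.mpr (fun t _ => hadj t)
    rw [h2] at h1
    exact Module.Finite.equiv (Subalgebra.topEquiv (R := R) (A := S)).toLinearEquiv
  refine ⟨?_, ?_, ?_⟩
  · apply le_antisymm
    · rw [Ideal.map_le_iff_le_comap, ← Ideal.under_def,
        ← Ideal.LiesOver.over (P := n) (p := maximalIdeal R)]
    · intro s hs
      have := Inert1.mem_map_comap_of_isUnit (R := R) (G := G) α hα n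
        (smul_mem_of_mem S G n) s hs
      rwa [← Ideal.under_def, ← Ideal.LiesOver.over (P := n) (p := maximalIdeal R)] at this
  · have : Module.Finite R (S ⧸ n) := inferInstance
    exact Module.Finite.of_restrictScalars_finite R _ _
  · -- separability
    obtain ⟨f₀, hf₀⟩ := Algebra.IsInvariant.charpoly_mem_lifts R S G α
    rw [Polynomial.coe_mapRingHom] at hf₀
    set k := R ⧸ maximalIdeal R
    set l := S ⧸ n
    set a : l := Ideal.Quotient.mk n α with ha
    have hcomp : (algebraMap k l).comp (Ideal.Quotient.mk (maximalIdeal R)) =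
        (Ideal.Quotient.mk n).comp (algebraMap R S) := by
      ext r; rfl
    have hmap : ((f₀.map (Ideal.Quotient.mk (maximalIdeal R))).map (algebraMap k l)) =
        ∏ g : G, (X - C (Ideal.Quotient.mk n (g • α))) := by
      rw [Polynomial.map_map, hcomp, ← Polynomial.map_map, hf₀, MulSemiringAction.charpoly_eq,
        Polynomial.map_prod]
      simp
    have hinj : Function.Injective (fun g : G => Ideal.Quotient.mk n (g • α)) := by
      intro g g' hgg
      by_contra hne
      have hne' : g⁻¹ * g' ≠ 1 := fun h1 => hne (by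
        have := congrArg (fun x => g * x) h1
        simpa using this.symm)
      have hu := hα _ hne'
      have hu2 : IsUnit (g • (α - (g⁻¹ * g') • α)) :=
        (isUnit_map_iff (MulSemiringAction.toRingEquiv G S g) _).mpr hu
      rw [smul_sub, smul_smul, mul_inv_cancel_left] at hu2
      have hmem : g • α - g' • α ∈ n := Ideal.Quotient.eq.mp hgg
      rw [hn] at hmem
      exact hmem hu2
    have hsep : (f₀.map (Ideal.Quotient.mk (maximalIdeal R))).Separable := by
      rw [← Polynomial.separable_map (algebraMap k l), hmap]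
      exact Polynomial.separable_prod_X_sub_C_iff.mpr hinj
    have hroot : Polynomial.aeval a (f₀.map (Ideal.Quotient.mk (maximalIdeal R))) = 0 := by
      rw [Polynomial.aeval_def, ← Polynomial.eval_map, hmap, Polynomial.eval_prod]
      apply Finset.prod_eq_zero (Finset.mem_univ (1 : G))
      simp [ha]
    have hasep : IsSeparable k a := hsep.of_dvd (minpoly.dvd k a hroot)
    refine ⟨fun x => ?_⟩
    obtain ⟨s, rfl⟩ := Ideal.Quotient.mk_surjective x
    rw [← mem_separableClosure_iff]
    have := hadj s
    induction this using Algebra.adjoin_induction with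
    | mem x hx =>
      rw [Set.mem_singleton_iff] at hx
      subst hx
      exact mem_separableClosure_iff.mpr hasep
    | algebraMap r =>
      have : Ideal.Quotient.mk n (algebraMap R S r) =
          algebraMap k l (Ideal.Quotient.mk (maximalIdeal R) r) := rfl
      rw [this]
      exact (separableClosure k l).algebraMap_mem _
    | add x y _ _ hx hy =>
      rw [map_add]; exact add_mem hx hy
    | mul x y _ _ hx hy =>
      rw [map_mul]; exact mul_mem hx hy

end Groth.Agent.H3.Inert2
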