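import Mathlib
import Groth.Agent.H3.Inert2
import Groth.Agent.H3.HPair9
import Groth.Agent.H3.HInt

/-!
# Unramified implies trivial inertia (finite local case); the complete normal case
-/

open Polynomial IsLocalRing Pointwise

namespace Groth.Agent.H3.Inert3

universe u

theorem backward (R S G : Type u) [CommRing R] [CommRing S] [IsLocalRing R]
    [IsLocalRing S] [Algebra R S] [Module.Finite R S] [Group G] [MulSemiringAction G S]
    [SMulCommClass G R S] [FaithfulSMul G S] (n : Ideal S) [n.IsMaximal]
    [n.LiesOver (maximalIdeal R)]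
    (h1 : (maximalIdeal R).map (algebraMap R S) = n)
    (h3 : Algebra.IsSeparable (R ⧸ maximalIdeal R) (S ⧸ n)) :
    n.toAddSubgroup.inertia G = ⊥ := by
  obtain rfl : n = maximalIdeal S := IsLocalRing.eq_maximalIdeal ‹_›
  haveI : Algebra.IsIntegral R S := inferInstance
  haveI : IsLocalHom (algebraMap R S) := Groth.Agent.H3.isLocalHom_of_isIntegral R S
  haveI : Algebra.IsSeparable (ResidueField R) (ResidueField S) := h3
  haveI : Algebra.FormallyUnramified R S := Algebra.FormallyUnramified.of_map_maximalIdeal h1
  rw [eq_bot_iff]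
  intro g hg
  rw [Subgroup.mem_bot]
  have hjac : maximalIdeal R ≤ Ideal.jacobson ⊥ :=
    (IsLocalRing.jacobson_eq_maximalIdeal ⊥ bot_ne_top).ge
  have := Groth.Agent.H3.algHom_eq_of_sub_mem (maximalIdeal R) hjac (AlgHom.id R S)
    (MulSemiringAction.toAlgHom R S g) (fun s => by rw [h1]; exact hg s)
  apply eq_of_smul_eq_smul (α := S)
  intro s
  have := DFunLike.congr_fun this s
  simpa using this.symm

theorem finite_of_isGaloisGroup (R S G : Type u) [CommRing R] [CommRing S] [IsDomain R]
    [IsDomain S] [IsNoetherianRing R] [IsIntegrallyClosed R]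
    [Algebra R S] [FaithfulSMul R S] [IsIntegrallyClosed S]
    [Group G] [Finite G] [MulSemiringAction G S] [IsGaloisGroup G R S] :
    Module.Finite R S := by
  haveI hint : Algebra.IsIntegral R S := Algebra.IsInvariant.isIntegral R S G
  let := FractionRing.liftAlgebra R (FractionRing S)
  let := IsFractionRing.mulSemiringAction G S (FractionRing S)
  have := IsGaloisGroup.to_isFractionRing G R S (FractionRing R) (FractionRing S)
  have : IsGalois (FractionRing R) (FractionRing S) :=
    IsGaloisGroup.isGalois G (FractionRing R) (FractionRing S)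
  have : FiniteDimensional (FractionRing R) (FractionRing S) :=
    IsGaloisGroup.finiteDimensional G (FractionRing R) (FractionRing S)
  have : IsIntegralClosure S R (FractionRing S) :=
    IsIntegralClosure.of_isIntegrallyClosed S R (FractionRing S)
  exact IsIntegralClosure.finite R (FractionRing R) (FractionRing S) S

theorem main (R S G : Type u) [CommRing R] [CommRing S] [IsDomain R] [IsDomain S]
    [IsNoetherianRing R] [IsLocalRing R] [IsIntegrallyClosed R]
    [IsAdicComplete (IsLocalRing.maximalIdeal R) R]
    [Algebra R S] [FaithfulSMul R S] [IsIntegrallyClosed S]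
    [Group G] [Finite G] [MulSemiringAction G S] [SMulCommClass G R S] [IsGaloisGroup G R S]
    (n : Ideal S) [n.IsMaximal] [n.LiesOver (IsLocalRing.maximalIdeal R)] :
    n.toAddSubgroup.inertia G = ⊥ ↔
      ((IsLocalRing.maximalIdeal R).map (algebraMap R S) = n ∧
        Module.Finite (R ⧸ IsLocalRing.maximalIdeal R) (S ⧸ n) ∧
        Algebra.IsSeparable (R ⧸ IsLocalRing.maximalIdeal R) (S ⧸ n)) := by
  haveI hint : Algebra.IsIntegral R S := Algebra.IsInvariant.isIntegral R S G
  haveI : HenselianLocalRing R := Groth.Agent.H3.henselianLocalRing_of_henselianRing_maximalIdeal R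
  haveI : IsLocalRing S := Groth.Agent.H3.isLocalRing_of_isIntegral_of_isDomain R S
  haveI : FaithfulSMul G S := IsGaloisGroup.faithful R
  constructor
  · exact Inert2.forward R S G n
  · rintro ⟨h1, -, h3⟩
    haveI : Module.Finite R S := finite_of_isGaloisGroup R S G
    exact backward R S G n h1 h3

end Groth.Agent.H3.Inert3
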