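import Mathlib
import Groth.Agent.H3.Inert1
import Groth.Agent.H47.EtaleNormal

/-!
# Trivial decomposition group at a maximal ideal implies étale at that ideal
(invariants `B` a normal domain)
-/

open Polynomial IsLocalRing Pointwise

namespace Groth.Agent.H3.Inert4

universe u

theorem exists_sub_smul_notMem (R G : Type*) [CommRing R] [Group G] [Finite G]
    [MulSemiringAction G R] (m : Ideal R) [m.IsMaximal]
    (hstab : ∀ g : G, g • m = m → g = 1) :
    ∃ α : R, ∀ g : G, g ≠ 1 → α - g • α ∉ m := by
  classical
  cases nonempty_fintype G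
  have h1 : ∀ g : G, g ≠ 1 → ∃ a : R, g • a ∈ m ∧ a ∉ m := by
    intro g hg
    by_contra hcon
    push_neg at hcon
    apply hg
    apply hstab
    have hle' : m ≤ g • m := by
      intro a ha
      rw [Ideal.mem_pointwise_smul_iff_inv_smul_mem]
      exact hcon _ (by rwa [smul_inv_smul])
    have hprime : (g • m).IsPrime := inferInstance
    exact (Ideal.IsMaximal.eq_of_le inferInstance hprime.ne_top hle').symm
  have h1' : ∀ g : G, ∃ a : R, g ≠ 1 → (g • a ∈ m ∧ a ∉ m) := by
    intro g
    by_cases h : g = 1
    · exact ⟨0, fun h' => absurd h h'⟩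
    · obtain ⟨a, ha⟩ := h1 g h
      exact ⟨a, fun _ => ha⟩
  choose a ha using h1'
  refine ⟨∏ h ∈ Finset.univ.erase (1 : G), a h, fun g hg hmem => ?_⟩
  have hα : ∏ h ∈ Finset.univ.erase (1 : G), a h ∉ m := by
    rw [Ideal.IsPrime.prod_mem_iff]
    rintro ⟨h, hh, hmem'⟩
    exact (ha h (Finset.ne_of_mem_erase hh)).2 hmem'
  have hgα : g • ∏ h ∈ Finset.univ.erase (1 : G), a h ∈ m := by
    rw [Finset.smul_prod', Ideal.IsPrime.prod_mem_iff]
    exact ⟨g, Finset.mem_erase.mpr ⟨hg, Finset.mem_univ _⟩, (ha g hg).1⟩
  apply hα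
  have := m.add_mem hmem hgα
  rwa [sub_add_cancel] at this

theorem formallyEtale_atPrime_of_stabilizer_trivial
    (B R : Type u) (G : Type*) [CommRing B] [IsDomain B] [IsIntegrallyClosed B] [CommRing R] [IsDomain R]
    [Algebra B R] [FaithfulSMul B R] [Group G] [Finite G] [MulSemiringAction G R]
    [SMulCommClass G B R] [Algebra.IsInvariant B R G] (m : Ideal R) [m.IsMaximal]
    (hstab : ∀ g : G, g • m = m → g = 1) :
    Algebra.FormallyEtale B (Localization.AtPrime m) := by
  classical
  cases nonempty_fintype G
  obtain ⟨α, hα⟩ := exists_sub_smul_notMem R G m hstab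
  set u : R := ∏ h ∈ Finset.univ.erase (1 : G), (α - h • α) with hu
  have hum : u ∉ m := by
    rw [hu, Ideal.IsPrime.prod_mem_iff]
    rintro ⟨g, hg, hmem⟩
    exact hα g (Finset.ne_of_mem_erase hg) hmem
  obtain ⟨f₀, hf₀map, -, hf₀monic⟩ := Polynomial.lifts_and_natDegree_eq_and_monic
    (Algebra.IsInvariant.charpoly_mem_lifts B R G α) (MulSemiringAction.monic_charpoly G α)
  have hf₀root : aeval α f₀ = 0 := by
    rw [← eval_map_algebraMap, hf₀map, MulSemiringAction.eval_charpoly]
  have hf₀der : aeval α (derivative f₀) = u := by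
    rw [← eval_map_algebraMap, ← Polynomial.derivative_map, hf₀map, MulSemiringAction.charpoly_eq,
      Polynomial.derivative_prod_finset, eval_finset_sum, Finset.sum_eq_single (1 : G)]
    · simp [eval_prod, hu]
    · intro g _ hg
      rw [eval_mul, eval_prod, Finset.prod_eq_zero (i := (1 : G))
        (Finset.mem_erase.mpr ⟨hg.symm, Finset.mem_univ _⟩) (by simp), zero_mul]
    · simp
  let P : StandardEtalePair B := ⟨f₀, hf₀monic, derivative f₀, ⟨1, 0, 1, by simp⟩⟩
  set T := Localization.AtPrime m with hT
  have hmap : P.HasMap (algebraMap R T α) := by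
    refine ⟨?_, ?_⟩
    · show aeval (algebraMap R T α) f₀ = 0
      rw [aeval_algebraMap_apply, hf₀root, map_zero]
    · show IsUnit (aeval (algebraMap R T α) (derivative f₀))
      rw [aeval_algebraMap_apply, hf₀der]
      exact IsLocalization.map_units T (⟨u, hum⟩ : m.primeCompl)
  let φ : P.Ring →ₐ[B] T := P.lift _ hmap
  letI : Algebra P.Ring T := φ.toRingHom.toAlgebra
  haveI : IsScalarTower B P.Ring T := .of_algebraMap_eq (fun b => (φ.commutes b).symm)
  have hφalg : ∀ e : P.Ring, algebraMap P.Ring T e = φ e := fun _ => rfl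
  set n' : Ideal P.Ring := (maximalIdeal T).comap φ.toRingHom with hn'
  haveI : n'.IsPrime := Ideal.comap_isPrime _ _
  -- key fact
  have K1 : ∀ r : R, ∃ e : P.Ring, φ e = algebraMap R T (r * u) := by
    intro r
    obtain ⟨Q, hQ⟩ := Inert1.lag_mem_lifts (R := B) (G := G) α r
    rw [Polynomial.coe_mapRingHom] at hQ
    refine ⟨aeval P.X Q, ?_⟩
    rw [← Polynomial.aeval_algHom_apply, StandardEtalePair.lift_X, aeval_algebraMap_apply,
      ← eval_map_algebraMap, hQ, Inert1.eval_lag]
  have hinjBR : Function.Injective (algebraMap B R) := FaithfulSMul.algebraMap_injective B R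
  have hinjRT : Function.Injective (algebraMap R T) :=
    IsLocalization.injective T m.primeCompl_le_nonZeroDivisors
  have hinjBT : Function.Injective (algebraMap B T) := by
    rw [IsScalarTower.algebraMap_eq B R T]
    exact hinjRT.comp hinjBR
  have hunits : ∀ y : n'.primeCompl, IsUnit (algebraMap P.Ring T y) := by
    intro y
    have : φ y ∉ maximalIdeal T := y.2
    rw [mem_maximalIdeal, mem_nonunits_iff, not_not] at this
    exact this
  haveI : IsLocalization.AtPrime T n' := by
    refine ⟨hunits, ?_, ?_⟩
    · intro t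
      obtain ⟨r, s, rfl⟩ := IsLocalization.exists_mk'_eq m.primeCompl t
      obtain ⟨er, her⟩ := K1 r
      obtain ⟨es, hes⟩ := K1 s
      have hsu : (s : R) * u ∉ m := fun h =>
        (Ideal.IsPrime.mem_or_mem inferInstance h).elim s.2 hum
      have hes_unit : IsUnit (φ es) := by
        rw [hes]; exact IsLocalization.map_units T (⟨s * u, hsu⟩ : m.primeCompl)
      have hes_mem : es ∈ n'.primeCompl := by
        intro h
        have : φ es ∈ maximalIdeal T := h
        exact this hes_unit
      refine ⟨(er, ⟨es, hes_mem⟩), ?_⟩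
      show IsLocalization.mk' T r s * φ es = φ er
      rw [hes, her, map_mul, map_mul, ← mul_assoc, IsLocalization.mk'_spec]
    · intro x y hxy
      rw [hφalg, hφalg] at hxy
      -- domain argument
      obtain ⟨hdom, -⟩ := Groth.Agent.H47.EtaleNormal.isDomain_isIntegrallyClosed_atPrime B P.Ring n'
        (Localization.AtPrime n')
      let ψ : Localization.AtPrime n' →+* T :=
        IsLocalization.lift (M := n'.primeCompl) (g := algebraMap P.Ring T) hunits
      have hψ : ∀ e : P.Ring, ψ (algebraMap P.Ring (Localization.AtPrime n') e) = φ e :=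
        fun e => IsLocalization.lift_eq _ e
      set d := x - y with hd
      have hφd : φ d = 0 := by rw [hd, map_sub, hxy, sub_self]
      have hd0 : algebraMap P.Ring (Localization.AtPrime n') d = 0 := by
        by_contra hne
        have halg : IsAlgebraic B (algebraMap P.Ring (Localization.AtPrime n') d) :=
          (Groth.Agent.H47.EtaleNormal.isAlgebraic_of_etale B P.Ring d).algHom
            (IsScalarTower.toAlgHom B P.Ring (Localization.AtPrime n'))
        obtain ⟨q, hq0, hq⟩ := halg.exists_nonzero_coeff_and_aeval_eq_zero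
          (mem_nonZeroDivisors_of_ne_zero hne)
        apply hq0
        apply hinjBT
        rw [map_zero]
        have h1 := congrArg ψ hq
        rw [map_zero, Polynomial.aeval_def, Polynomial.hom_eval₂, hψ, hφd,
          Polynomial.eval₂_at_zero] at h1
        rw [← h1]
        have : (ψ.comp (algebraMap B (Localization.AtPrime n'))) = algebraMap B T := by
          ext b
          rw [RingHom.comp_apply, IsScalarTower.algebraMap_apply B P.Ring (Localization.AtPrime n'),
            hψ, φ.commutes]
        rw [this]
      obtain ⟨c, hc⟩ := (IsLocalization.map_eq_zero_iff n'.primeCompl _ d).mp hd0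
      refine ⟨c, ?_⟩
      rw [hd, mul_sub, sub_eq_zero] at hc
      exact hc
  haveI : Algebra.FormallyEtale P.Ring T := Algebra.FormallyEtale.of_isLocalization n'.primeCompl
  exact Algebra.FormallyEtale.comp B P.Ring T

end Groth.Agent.H3.Inert4
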