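import Mathlib
import Groth.Agent.H3.Inert4

/-!
# Étale at a closed point of `X → X/G` iff trivial stabilizer (alg. closed base field)
-/

open Polynomial IsLocalRing Pointwise

namespace Groth.Agent.H3.Inert5

universe u v w

/-- The ring of invariants of a normal domain is normal. -/
theorem isIntegrallyClosed_of_isInvariant (B R G : Type*) [CommRing B] [IsDomain B] [CommRing R]
    [IsDomain R] [IsIntegrallyClosed R] [Algebra B R] [FaithfulSMul B R] [Group G]
    [MulSemiringAction G R] [SMulCommClass G B R] [Algebra.IsInvariant B R G] :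
    IsIntegrallyClosed B := by
  rw [isIntegrallyClosed_iff (FractionRing B)]
  intro x hx
  have hinj : Function.Injective (algebraMap B R) := FaithfulSMul.algebraMap_injective B R
  have hinj' : Function.Injective (Algebra.ofId B (FractionRing R)) := by
    show Function.Injective (algebraMap B (FractionRing R))
    rw [IsScalarTower.algebraMap_eq B R (FractionRing R)]
    exact (IsFractionRing.injective R (FractionRing R)).comp hinj
  let ι : FractionRing B →ₐ[B] FractionRing R := IsFractionRing.liftAlgHom hinj'
  obtain ⟨a, b, hb, rfl⟩ := IsFractionRing.div_surjective (A := B) x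
  have hb0 : b ≠ 0 := nonZeroDivisors.ne_zero hb
  have h1 : IsIntegral R (ι (algebraMap B (FractionRing B) a / algebraMap B (FractionRing B) b)) :=
    (hx.map ι).tower_top
  obtain ⟨r, hr⟩ := IsIntegrallyClosed.algebraMap_eq_of_integral h1
  have hιa : ∀ c : B, ι (algebraMap B (FractionRing B) c) =
      algebraMap R (FractionRing R) (algebraMap B R c) := fun c => by
    rw [AlgHom.commutes, IsScalarTower.algebraMap_apply B R (FractionRing R)]
  have hbR : algebraMap R (FractionRing R) (algebraMap B R b) ≠ 0 := by
    intro h
    apply hb0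
    apply hinj
    apply IsFractionRing.injective R (FractionRing R)
    rw [h, map_zero, map_zero]
  have hrel : r * algebraMap B R b = algebraMap B R a := by
    apply IsFractionRing.injective R (FractionRing R)
    rw [map_mul, hr, map_div₀, hιa, hιa, div_mul_cancel₀ _ hbR]
  have hbR' : algebraMap B R b ≠ 0 := fun h => hbR (by rw [h, map_zero])
  have hinv : ∀ g : G, g • r = r := by
    intro g
    have := congrArg (fun z => g • z) hrel
    simp only [smul_mul', smul_algebraMap] at this
    rw [← hrel] at this
    exact mul_right_cancel₀ hbR' this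
  obtain ⟨c, rfl⟩ := Algebra.IsInvariant.isInvariant (A := B) r hinv
  refine ⟨c, ?_⟩
  rw [eq_div_iff (by simpa using hb0), ← map_mul]
  congr 1
  apply hinj
  rw [map_mul, hrel]

/-- A group element in the inertia group of a prime at which the extension is unramified
is trivial. -/
theorem eq_one_of_formallyUnramified (B R G : Type*) [CommRing B] [CommRing R] [IsDomain R]
    [IsNoetherianRing R] [Algebra B R] [Group G] [MulSemiringAction G R] [FaithfulSMul G R]
    [SMulCommClass G B R] (m : Ideal R) [m.IsPrime]
    [Algebra.FormallyUnramified B (Localization.AtPrime m)] (g : G) (hgm : g • m = m)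
    (hg : ∀ r : R, g • r - r ∈ m) : g = 1 := by
  set T := Localization.AtPrime m
  have hy : m.primeCompl ≤ m.primeCompl.comap (MulSemiringAction.toRingHom G R g) := by
    intro s hs hmem
    apply hs
    have h1 : g • s ∈ g • m := by rw [hgm]; exact hmem
    exact Ideal.smul_mem_pointwise_smul_iff.mp h1
  let ĝ : T →+* T := IsLocalization.map T (MulSemiringAction.toRingHom G R g) hy
  have hĝ : ∀ r : R, ĝ (algebraMap R T r) = algebraMap R T (g • r) := fun r =>
    IsLocalization.map_eq hy r
  let ĝa : T →ₐ[B] T := { ĝ with
    commutes' := fun b => by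
      show ĝ (algebraMap B T b) = algebraMap B T b
      rw [IsScalarTower.algebraMap_apply B R T, hĝ, smul_algebraMap] }
  have hĝa : ∀ x, ĝa x = ĝ x := fun _ => rfl
  haveI : IsNoetherianRing T := IsLocalization.isNoetherianRing m.primeCompl T inferInstance
  have hmemM : ∀ r ∈ m, algebraMap R T r ∈ maximalIdeal T := fun r hr =>
    (IsLocalization.AtPrime.to_map_mem_maximal_iff T m r).mpr hr
  have key : ∀ x : T, ĝ x - x ∈ maximalIdeal T := by
    intro x
    obtain ⟨r, s, rfl⟩ := IsLocalization.exists_mk'_eq m.primeCompl x
    have hs1 : IsUnit (algebraMap R T s) := IsLocalization.map_units T s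
    have hs2 : IsUnit (algebraMap R T (g • (s : R))) :=
      IsLocalization.map_units T (⟨g • (s : R), hy s.2⟩ : m.primeCompl)
    have e1 : IsLocalization.mk' T r s * algebraMap R T s = algebraMap R T r :=
      IsLocalization.mk'_spec T r s
    have e2 : ĝ (IsLocalization.mk' T r s) * algebraMap R T (g • (s : R)) =
        algebraMap R T (g • r) := by
      rw [← hĝ, ← map_mul, e1, hĝ]
    have e3 : (ĝ (IsLocalization.mk' T r s) - IsLocalization.mk' T r s) *
        (algebraMap R T s * algebraMap R T (g • (s : R))) =
        algebraMap R T ((g • r - r) * s - r * (g • (s : R) - s)) := by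
      have : (ĝ (IsLocalization.mk' T r s) - IsLocalization.mk' T r s) *
        (algebraMap R T s * algebraMap R T (g • (s : R))) =
        (ĝ (IsLocalization.mk' T r s) * algebraMap R T (g • (s : R))) * algebraMap R T s -
        (IsLocalization.mk' T r s * algebraMap R T s) * algebraMap R T (g • (s : R)) := by ring
      rw [this, e1, e2, ← map_mul, ← map_mul, ← map_sub]
      congr 1
      ring
    have e4 : algebraMap R T ((g • r - r) * s - r * (g • (s : R) - s)) ∈ maximalIdeal T :=
      hmemM _ (m.sub_mem (m.mul_mem_right _ (hg r)) (m.mul_mem_left _ (hg s)))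
    rw [← e3] at e4
    exact (Ideal.mul_unit_mem_iff_mem _ (hs1.mul hs2)).mp e4
  have hid : ĝa = AlgHom.id B T := by
    apply Algebra.FormallyUnramified.ext_of_iInf (I := maximalIdeal T)
      (Ideal.iInf_pow_eq_bot_of_isLocalRing (maximalIdeal T) Ideal.IsPrime.ne_top')
    intro x
    rw [Ideal.Quotient.eq]
    exact key x
  apply eq_of_smul_eq_smul (α := R)
  intro r
  rw [one_smul]
  apply IsLocalization.injective T m.primeCompl_le_nonZeroDivisors
  rw [← hĝ, ← hĝa, hid]
  rfl

theorem main (k : Type u) [Field k] [IsAlgClosed k]
    (R : Type v) [CommRing R] [IsDomain R] [IsIntegrallyClosed R] [Algebra k R]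
    [Algebra.FiniteType k R]
    (G : Type w) [Group G] [Finite G] [MulSemiringAction G R] [FaithfulSMul G R]
    [SMulCommClass G k R]
    (B : Type v) [CommRing B] [Algebra k B] [Algebra B R] [IsScalarTower k B R] [FaithfulSMul B R]
    [SMulCommClass G B R] [Algebra.IsInvariant B R G]
    (m : Ideal R) [m.IsMaximal] :
    Algebra.IsEtaleAt B m ↔ MulAction.stabilizer G m = ⊥ := by
  haveI : IsDomain B := (FaithfulSMul.algebraMap_injective B R).isDomain _
  haveI : IsIntegrallyClosed B := isIntegrallyClosed_of_isInvariant B R G
  haveI : IsNoetherianRing R := Algebra.FiniteType.isNoetherianRing k R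
  constructor
  · intro h
    haveI : Algebra.FormallyEtale B (Localization.AtPrime m) := h
    rw [eq_bot_iff]
    intro g hg
    rw [Subgroup.mem_bot]
    have hgm : g • m = m := MulAction.mem_stabilizer_iff.mp hg
    refine eq_one_of_formallyUnramified B R G m g hgm (fun r => ?_)
    -- residue field is k
    letI : Field (R ⧸ m) := Ideal.Quotient.field m
    haveI : Algebra.FiniteType k (R ⧸ m) :=
      Algebra.FiniteType.of_surjective (Ideal.Quotient.mkₐ k m) (Ideal.Quotient.mkₐ_surjective k m)
    haveI : Module.Finite k (R ⧸ m) := finite_of_finite_type_of_isJacobsonRing k (R ⧸ m)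
    haveI : Algebra.IsIntegral k (R ⧸ m) := Algebra.IsIntegral.of_finite k (R ⧸ m)
    obtain ⟨c, hc⟩ := (IsAlgClosed.algebraMap_bijective_of_isIntegral (k := k) (K := R ⧸ m)).2
      (Ideal.Quotient.mk m r)
    have hmem : r - algebraMap k R c ∈ m := by
      rw [← Ideal.Quotient.eq, ← hc]; rfl
    have h2 : g • (r - algebraMap k R c) ∈ m := by
      rw [← hgm]; exact Ideal.smul_mem_pointwise_smul_iff.mpr hmem
    have : g • r - r = g • (r - algebraMap k R c) - (r - algebraMap k R c) := by
      rw [smul_sub, smul_algebraMap]; ring
    rw [this]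
    exact m.sub_mem h2 hmem
  · intro h
    refine Inert4.formallyEtale_atPrime_of_stabilizer_trivial B R G m (fun g hg => ?_)
    have : g ∈ MulAction.stabilizer G m := MulAction.mem_stabilizer_iff.mpr hg
    rw [h] at this
    exact Subgroup.mem_bot.mp this

end Groth.Agent.H3.Inert5
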