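import Groth.Agent.H3.KSym3

/-!
# A retract with free Kähler differentials over the smooth locus (helper3)
-/

set_option autoImplicit false
set_option linter.style.haveILetI false
universe u

namespace Groth.Agent.H3.KSym

open TensorProduct

theorem finiteType_sym (A : Type u) [CommRing A] (K : Type u) [AddCommGroup K] [Module A K]
    [Module.Finite A K] : Algebra.FiniteType A (SymmetricAlgebra A K) := by
  classical
  obtain ⟨s, hs⟩ := (Module.Finite.fg_top : (⊤ : Submodule A K).FG)
  refine ⟨⟨s.image (SymmetricAlgebra.ι A K), ?_⟩⟩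
  rw [eq_top_iff, ← adjoin_range_ι A K]
  apply Algebra.adjoin_le
  rintro _ ⟨k, rfl⟩
  have hk : k ∈ Submodule.span A (s : Set K) := by rw [hs]; trivial
  have hle : Submodule.span A (s : Set K) ≤
      (Subalgebra.toSubmodule (Algebra.adjoin A
        ((s.image (SymmetricAlgebra.ι A K) : Finset _) : Set (SymmetricAlgebra A K)))).comap
        (SymmetricAlgebra.ι A K) := by
    rw [Submodule.span_le]
    intro x hx
    exact Algebra.subset_adjoin (by simpa using ⟨x, hx, rfl⟩)
  exact hle hk


open KaehlerDifferential in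
/-- Freeness of `Ω[Sym_A(K)_a / R]` when `A_a` is smooth and `K = ker(F → Ω[A/R])` with `F` finite
free. -/
theorem free_kaehler_away_sym {R A : Type u} [CommRing R] [CommRing A] [Algebra R A]
    {F : Type u} [AddCommGroup F] [Module A F] [Module.Free A F] [Module.Finite A F]
    (p : F →ₗ[A] Ω[A⁄R]) (hp : Function.Surjective p) (a : A)
    (A' : Type u) [CommRing A'] [Algebra A A'] [Algebra R A'] [IsScalarTower R A A']
    [IsLocalization.Away a A'] [Algebra.FormallySmooth R A']
    (B : Type u) [CommRing B] [Algebra (SymmetricAlgebra A (LinearMap.ker p)) B] [Algebra A B]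
    [Algebra R B] [IsScalarTower A (SymmetricAlgebra A (LinearMap.ker p)) B]
    [IsScalarTower R A B]
    [IsLocalization.Away (algebraMap A (SymmetricAlgebra A (LinearMap.ker p)) a) B] :
    Module.Free B Ω[B⁄R] := by
  haveI : Algebra.FormallyEtale A A' := Algebra.FormallyEtale.of_isLocalization (Submonoid.powers a)
  haveI : Module.Projective A' (A' ⊗[A] Ω[A⁄R]) :=
    Module.Projective.of_equiv (tensorKaehlerEquivOfFormallyEtale R A A').symm
  haveI : Module.Flat A A' := IsLocalization.flat A' (Submonoid.powers a)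
  obtain ⟨e1⟩ := baseChange_split (A' := A') p hp
  haveI : Module.Projective A' (A' ⊗[A] LinearMap.ker p) := projective_of_split e1
  haveI : Algebra.FormallySmooth A B := formallySmooth_away_sym (LinearMap.ker p) a A' B
  obtain ⟨e2⟩ := nonempty_kaehler_prod R A B
  haveI : Algebra.FormallyEtale (SymmetricAlgebra A (LinearMap.ker p)) B :=
    Algebra.FormallyEtale.of_isLocalization
      (Submonoid.powers (algebraMap A (SymmetricAlgebra A (LinearMap.ker p)) a))
  obtain ⟨e3⟩ := nonempty_kaehler_sym A (LinearMap.ker p)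
  -- `Ω[B/A] ≃ B ⊗[A] K`
  let e4 : Ω[B⁄A] ≃ₗ[B] B ⊗[A] LinearMap.ker p :=
    (tensorKaehlerEquivOfFormallyEtale A (SymmetricAlgebra A (LinearMap.ker p)) B).symm ≪≫ₗ
      (TensorProduct.AlgebraTensorModule.congr (LinearEquiv.refl B B) e3) ≪≫ₗ
      (TensorProduct.AlgebraTensorModule.cancelBaseChange A
        (SymmetricAlgebra A (LinearMap.ker p)) B B (LinearMap.ker p))
  -- `B` as an `A'`-algebra
  have hunitB : IsUnit (algebraMap A B a) := by
    rw [IsScalarTower.algebraMap_apply A (SymmetricAlgebra A (LinearMap.ker p)) B]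
    exact IsLocalization.Away.algebraMap_isUnit _
  letI : Algebra A' B := (IsLocalization.Away.lift a hunitB).toAlgebra
  haveI : IsScalarTower A A' B :=
    IsScalarTower.of_algebraMap_eq fun x => (IsLocalization.Away.lift_eq a hunitB x).symm
  let e5 : B ⊗[A] F ≃ₗ[B] (B ⊗[A] LinearMap.ker p) × (B ⊗[A] Ω[A⁄R]) :=
    (TensorProduct.AlgebraTensorModule.cancelBaseChange A A' B B F).symm ≪≫ₗ
      (TensorProduct.AlgebraTensorModule.congr (LinearEquiv.refl B B) e1) ≪≫ₗ
      (TensorProduct.prodRight A' B B _ _) ≪≫ₗ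
      LinearEquiv.prodCongr
        (TensorProduct.AlgebraTensorModule.cancelBaseChange A A' B B (LinearMap.ker p))
        (TensorProduct.AlgebraTensorModule.cancelBaseChange A A' B B Ω[A⁄R])
  let e6 : Ω[B⁄R] ≃ₗ[B] B ⊗[A] F :=
    e2 ≪≫ₗ LinearEquiv.prodCongr (LinearEquiv.refl B _) e4 ≪≫ₗ LinearEquiv.prodComm B _ _ ≪≫ₗ
      e5.symm
  exact Module.Free.of_equiv e6.symm

end Groth.Agent.H3.KSym
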