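import Mathlib
import Groth.Agent.H3.Sep1
import Groth.Agent.H3.KSym4
import Groth.Agent.S2031

/-!
# The Elkik step for the separable residue field case (helper3)
-/

set_option autoImplicit false
set_option linter.style.haveILetI false
universe u

namespace Groth.Agent.H3.Sep

open TensorProduct KaehlerDifferential Groth.Agent.H44.LocTrick

/-- `Sym_B(K)[1/b]` is formally smooth over `B` when `B[1/b]` is formally smooth over `R`, for
`K = ker(F → Ω[B/R])`. -/
theorem formallySmooth_away_sym' {R B : Type u} [CommRing R] [CommRing B] [Algebra R B]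
    {F : Type u} [AddCommGroup F] [Module B F] [Module.Free B F] [Module.Finite B F]
    (p : F →ₗ[B] Ω[B⁄R]) (hp : Function.Surjective p) (b : B)
    [Algebra.FormallySmooth R (Localization.Away b)] :
    Algebra.FormallySmooth B
      (Localization.Away (algebraMap B (SymmetricAlgebra B (LinearMap.ker p)) b)) := by
  haveI : Algebra.FormallyEtale B (Localization.Away b) :=
    Algebra.FormallyEtale.of_isLocalization (Submonoid.powers b)
  haveI : Module.Projective (Localization.Away b) ((Localization.Away b) ⊗[B] Ω[B⁄R]) :=
    Module.Projective.of_equiv (tensorKaehlerEquivOfFormallyEtale R B (Localization.Away b)).symm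
  haveI : Module.Flat B (Localization.Away b) := IsLocalization.flat _ (Submonoid.powers b)
  obtain ⟨e1⟩ := Groth.Agent.H3.KSym.baseChange_split (A' := Localization.Away b) p hp
  haveI : Module.Projective (Localization.Away b) ((Localization.Away b) ⊗[B] LinearMap.ker p) :=
    Groth.Agent.H3.KSym.projective_of_split e1
  exact Groth.Agent.H3.KSym.formallySmooth_away_sym (LinearMap.ker p) b (Localization.Away b) _

theorem exists_elkik {R B : Type u} [CommRing R] [IsNoetherianRing R] [CommRing B] [Algebra R B]
    [Algebra.FinitePresentation R B] {d : ℕ} (x : Fin d → R)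
    (hx : ∀ i, algebraMap R B (x i) ∈ Smoothing.singularIdeal R B) :
    ∃ (C : Type u) (_ : CommRing C) (_ : Algebra R C) (_ : Algebra B C) (_ : IsScalarTower R B C),
      Algebra.FinitePresentation R C ∧ Nonempty (C →ₐ[B] B) ∧
      (∀ b ∈ Smoothing.singularIdeal R B, algebraMap B C b ∈ Smoothing.singularIdeal R C) ∧
      ∃ c : ℕ, 0 < c ∧ ∀ i, Smoothing.IsStrictlyStandard R C (algebraMap R C (x i ^ c)) := by
  classical
  obtain ⟨F, _, _, hFfree, hFfin, p, hp, hK⟩ := Groth.Agent.H3.KSym.exists_conormal R B
  letI algRC : Algebra R (SymmetricAlgebra B (LinearMap.ker p)) :=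
    ((algebraMap B (SymmetricAlgebra B (LinearMap.ker p))).comp (algebraMap R B)).toAlgebra
  haveI tow : IsScalarTower R B (SymmetricAlgebra B (LinearMap.ker p)) :=
    IsScalarTower.of_algebraMap_eq (fun _ => rfl)
  haveI hft : Algebra.FiniteType B (SymmetricAlgebra B (LinearMap.ker p)) :=
    Groth.Agent.H3.KSym.finiteType_sym B _
  haveI hftR : Algebra.FiniteType R (SymmetricAlgebra B (LinearMap.ker p)) :=
    Algebra.FiniteType.trans (inferInstance : Algebra.FiniteType R B) hft
  haveI hfp : Algebra.FinitePresentation R (SymmetricAlgebra B (LinearMap.ker p)) :=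
    Algebra.FinitePresentation.of_finiteType.mp hftR
  have hmem : ∀ b ∈ Smoothing.singularIdeal R B,
      algebraMap B (SymmetricAlgebra B (LinearMap.ker p)) b ∈
        Smoothing.singularIdeal R (SymmetricAlgebra B (LinearMap.ker p)) := by
    intro b hb
    have hsm : Algebra.Smooth R (Localization.Away b) := (mem_singularIdeal_iff b).mp hb
    haveI := hsm.formallySmooth
    exact mem_singularIdeal_of_smooth_away b hb (formallySmooth_away_sym' p hp b)
  have hstd : ∀ i, ∃ e₀ : ℕ, ∀ n : ℕ, e₀ ≤ n → Smoothing.IsStrictlyStandard R
      (SymmetricAlgebra B (LinearMap.ker p))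
      (algebraMap B (SymmetricAlgebra B (LinearMap.ker p)) (algebraMap R B (x i)) ^ n) := by
    intro i
    have hsm : Algebra.Smooth R (Localization.Away (algebraMap R B (x i))) :=
      (mem_singularIdeal_iff _).mp (hx i)
    haveI := hsm.formallySmooth
    haveI hsmC : Algebra.Smooth R (Localization.Away
        (algebraMap B (SymmetricAlgebra B (LinearMap.ker p)) (algebraMap R B (x i)))) :=
      (mem_singularIdeal_iff _).mp (hmem _ (hx i))
    haveI hfree : Module.Free
        (Localization.Away (algebraMap B (SymmetricAlgebra B (LinearMap.ker p)) (algebraMap R B (x i))))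
        Ω[Localization.Away
          (algebraMap B (SymmetricAlgebra B (LinearMap.ker p)) (algebraMap R B (x i)))⁄R] :=
      Groth.Agent.H3.KSym.free_kaehler_away_sym p hp (algebraMap R B (x i))
        (Localization.Away (algebraMap R B (x i))) _
    haveI : Algebra.FinitePresentation R (Localization.Away
        (algebraMap B (SymmetricAlgebra B (LinearMap.ker p)) (algebraMap R B (x i)))) :=
      hsmC.finitePresentation
    haveI : Module.Finite
        (Localization.Away (algebraMap B (SymmetricAlgebra B (LinearMap.ker p)) (algebraMap R B (x i))))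
        Ω[Localization.Away
          (algebraMap B (SymmetricAlgebra B (LinearMap.ker p)) (algebraMap R B (x i)))⁄R] :=
      inferInstance
    let bas := Module.Free.chooseBasis
        (Localization.Away (algebraMap B (SymmetricAlgebra B (LinearMap.ker p)) (algebraMap R B (x i))))
        Ω[Localization.Away
          (algebraMap B (SymmetricAlgebra B (LinearMap.ker p)) (algebraMap R B (x i)))⁄R]
    let eqv := Fintype.equivFin (Module.Free.ChooseBasisIndex
        (Localization.Away (algebraMap B (SymmetricAlgebra B (LinearMap.ker p)) (algebraMap R B (x i))))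
        Ω[Localization.Away
          (algebraMap B (SymmetricAlgebra B (LinearMap.ker p)) (algebraMap R B (x i)))⁄R])
    exact Groth.Agent.S2031.result
      (algebraMap B (SymmetricAlgebra B (LinearMap.ker p)) (algebraMap R B (x i))) 0 _
      ((LinearEquiv.prodUnique).trans ((bas.reindex eqv).equivFun))
  choose e₀ he₀ using hstd
  refine ⟨SymmetricAlgebra B (LinearMap.ker p), inferInstance, algRC, inferInstance, tow, hfp,
    ⟨SymmetricAlgebra.algebraMapInv⟩, hmem, (Finset.univ.sup e₀) + 1, Nat.succ_pos _, fun i => ?_⟩
  have h1 : algebraMap R (SymmetricAlgebra B (LinearMap.ker p)) (x i ^ (Finset.univ.sup e₀ + 1)) =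
      algebraMap B (SymmetricAlgebra B (LinearMap.ker p)) (algebraMap R B (x i)) ^
        (Finset.univ.sup e₀ + 1) := by
    rw [map_pow]; rfl
  rw [h1]
  exact he₀ i _ (le_trans (Finset.le_sup (Finset.mem_univ i)) (Nat.le_succ _))

end Groth.Agent.H3.Sep
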