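import Mathlib

/-!
# Powers of variables are regular modulo powers of other variables (helper3)
-/

set_option autoImplicit false
universe u

namespace Groth.Agent.H3.Sep

open MvPolynomial

theorem X_mul_mem_monomial {k : Type u} [CommRing k] {σ : Type*} (i : σ) (S : Set (σ →₀ ℕ))
    (hS : ∀ s ∈ S, s i = 0) (y : MvPolynomial σ k)
    (h : X i * y ∈ Ideal.span ((fun s => monomial s (1 : k)) '' S)) :
    y ∈ Ideal.span ((fun s => monomial s (1 : k)) '' S) := by
  classical
  rw [mem_ideal_span_monomial_image] at h ⊢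
  intro v hv
  have hv' : Finsupp.single i 1 + v ∈ (X i * y).support := by
    rw [support_X_mul, Finset.mem_map]
    exact ⟨v, hv, rfl⟩
  obtain ⟨s, hs, hle⟩ := h _ hv'
  refine ⟨s, hs, fun j => ?_⟩
  by_cases hj : j = i
  · subst hj
    rw [hS s hs]
    exact Nat.zero_le _
  · have := hle j
    rwa [Finsupp.add_apply, Finsupp.single_eq_of_ne hj, zero_add] at this

theorem X_pow_mul_mem_monomial {k : Type u} [CommRing k] {σ : Type*} (i : σ) (S : Set (σ →₀ ℕ))
    (hS : ∀ s ∈ S, s i = 0) (m : ℕ) (y : MvPolynomial σ k)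
    (h : X i ^ m * y ∈ Ideal.span ((fun s => monomial s (1 : k)) '' S)) :
    y ∈ Ideal.span ((fun s => monomial s (1 : k)) '' S) := by
  induction m with
  | zero => simpa using h
  | succ m ih =>
    apply ih
    apply X_mul_mem_monomial i S hS
    rwa [← mul_assoc, ← pow_succ']

theorem span_pow_eq {k : Type u} [CommRing k] (d c : ℕ) (i : Fin d) :
    Ideal.span (Set.range fun j : {j : Fin d // (j : ℕ) < (i : ℕ)} =>
      ((X (j : Fin d) : MvPolynomial (Fin d) k) ^ c) ^ 8) =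
    Ideal.span ((fun s => monomial s (1 : k)) ''
      {s | ∃ j : Fin d, (j : ℕ) < (i : ℕ) ∧ s = Finsupp.single j (c * 8)}) := by
  congr 1
  ext p
  constructor
  · rintro ⟨⟨j, hj⟩, rfl⟩
    refine ⟨Finsupp.single j (c * 8), ⟨j, hj, rfl⟩, ?_⟩
    show monomial _ 1 = ((X j : MvPolynomial (Fin d) k) ^ c) ^ 8
    rw [← pow_mul, X_pow_eq_monomial]
  · rintro ⟨s, ⟨j, hj, rfl⟩, rfl⟩
    refine ⟨⟨j, hj⟩, ?_⟩
    show ((X j : MvPolynomial (Fin d) k) ^ c) ^ 8 = monomial _ 1
    rw [← pow_mul, X_pow_eq_monomial]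

/-- The annihilator condition in the polynomial ring. -/
theorem poly_ann {k : Type u} [CommRing k] (d c : ℕ) (i : Fin d)
    (x : MvPolynomial (Fin d) k ⧸ Ideal.span (Set.range
      fun j : {j : Fin d // (j : ℕ) < (i : ℕ)} => ((X (j : Fin d) : MvPolynomial (Fin d) k) ^ c) ^ 8))
    (h : Ideal.Quotient.mk _ ((X i : MvPolynomial (Fin d) k) ^ c) ^ 2 * x = 0) :
    Ideal.Quotient.mk _ ((X i : MvPolynomial (Fin d) k) ^ c) * x = 0 := by
  obtain ⟨y, rfl⟩ := Ideal.Quotient.mk_surjective x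
  rw [← map_pow, ← map_mul, Ideal.Quotient.eq_zero_iff_mem, span_pow_eq, ← pow_mul] at h
  have hy := X_pow_mul_mem_monomial i _ (by
    rintro s ⟨j, hj, rfl⟩
    rw [Finsupp.single_eq_of_ne]
    intro hij
    rw [hij] at hj
    exact lt_irrefl _ hj) _ y h
  rw [← map_mul, Ideal.Quotient.eq_zero_iff_mem, span_pow_eq]
  exact Ideal.mul_mem_left _ _ hy

end Groth.Agent.H3.Sep
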