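import Mathlib
import Groth.Agent.H3.Sep3
import Groth.Agent.H3.Sep4
import Groth.Agent.H3.Sep5
import Groth.Agent.H3.Sep7
import Groth.Agent.H3.Sep8
import Groth.Agent.H14.AnnParams
import Groth.Agent.S6822
import Groth.Agent.H44.RegEnd4

/-!
# Separable residue field case, positive dimension (helper3)
-/

set_option autoImplicit false
set_option linter.style.haveILetI false
universe u

namespace Groth.Agent.H3.Sep

open MvPolynomial TensorProduct

set_option maxHeartbeats 1000000 in
theorem main_pos {k A Λ : Type u} [Field k] [CommRing A] [Algebra k A]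
    [Algebra.FinitePresentation k A] [CommRing Λ] [Algebra k Λ] [IsNoetherianRing Λ]
    (φ : A →ₐ[k] Λ) (𝔮 : Ideal Λ) [𝔮.IsPrime]
    (hmin : 𝔮 ∈ (Smoothing.singRad k φ).minimalPrimes)
    [IsRegularLocalRing (Localization.AtPrime 𝔮)]
    [Algebra.IsGeometricallyReduced k 𝔮.ResidueField] (d : ℕ)
    (hd : ringKrullDim (Localization.AtPrime 𝔮) = d) (hdpos : 0 < d) :
    Smoothing.Resolvable k φ 𝔮 := by
  classical
  haveI : IsNoetherianRing A := Algebra.FiniteType.isNoetherianRing k A
  obtain ⟨r, a, ha⟩ := Submodule.fg_iff_exists_fin_generating_family.mp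
    (IsNoetherian.noetherian (Smoothing.singularIdeal k A))
  have haH : ∀ j, a j ∈ Smoothing.singularIdeal k A := fun j => by
    rw [← ha]; exact Submodule.subset_span ⟨j, rfl⟩
  have hIq : (Smoothing.singularIdeal k A).map φ ≤ 𝔮 := le_trans Ideal.le_radical hmin.1.2
  obtain ⟨n, hn, hpow⟩ := exists_pow_map_le ((Smoothing.singularIdeal k A).map φ) 𝔮 hmin
  have hBX := X_mem k A d r n a hn haH
  obtain ⟨C, _, _, _, _, hCfp, ⟨ρ⟩, hmemC, c, hc, hstd⟩ :=
    exists_elkik (R := MvPolynomial (Fin d) k) (B := BB k A d r n a) (fun i => X i) hBX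
  have hc8 : 0 < c * 8 := by positivity
  obtain ⟨π, hπgen, hπI, hπann⟩ := Groth.Agent.H14.AnnParams.main
    ((Smoothing.singularIdeal k A).map φ) 𝔮 n (c * 8) d hn hc8 hpow hd
  have hπ𝔮 : ∀ i, π i ∈ 𝔮 := fun i => Ideal.IsPrime.mem_of_pow_mem inferInstance n (hIq (hπI i))
  have hlam : ∀ i, ∃ lam : Fin r → Λ, π i ^ n = ∑ j, φ (a j) * lam j := by
    intro i
    have h1 := hπI i
    rw [← ha] at h1
    have h2 : Ideal.map φ (Submodule.span A (Set.range a)) =
        Ideal.span (Set.range fun j => φ (a j)) := by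
      show Ideal.map φ (Ideal.span (Set.range a)) = _
      rw [Ideal.map_span]
      congr 1
      ext x
      constructor
      · rintro ⟨_, ⟨j, rfl⟩, rfl⟩; exact ⟨j, rfl⟩
      · rintro ⟨j, rfl⟩; exact ⟨_, ⟨j, rfl⟩, rfl⟩
    rw [h2, Ideal.mem_span_range_iff_exists_fun] at h1
    obtain ⟨cf, hcf⟩ := h1
    exact ⟨cf, by rw [← hcf]; exact Finset.sum_congr rfl fun j _ => mul_comm _ _⟩
  choose lam hlam using hlam
  letI algRΛ : Algebra (MvPolynomial (Fin d) k) Λ :=
    (aeval π : MvPolynomial (Fin d) k →ₐ[k] Λ).toRingHom.toAlgebra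
  haveI : IsScalarTower k (MvPolynomial (Fin d) k) Λ :=
    IsScalarTower.of_algebraMap_eq fun t => ((aeval π : MvPolynomial (Fin d) k →ₐ[k] Λ).commutes t).symm
  have hX : ∀ i, algebraMap (MvPolynomial (Fin d) k) Λ (X i) = π i := fun i => aeval_X π i
  obtain ⟨β, hβ⟩ := exists_lift k A d r n a φ lam (fun i => by rw [hX]; exact hlam i)
  let ψ : C →ₐ[MvPolynomial (Fin d) k] Λ := β.comp (ρ.restrictScalars (MvPolynomial (Fin d) k))
  have hψ : ∀ b : BB k A d r n a, ψ (algebraMap (BB k A d r n a) C b) = β b := by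
    intro b
    show β (ρ (algebraMap (BB k A d r n a) C b)) = β b
    rw [ρ.commutes]; rfl
  -- the reduced problem
  set K : Ideal (MvPolynomial (Fin d) k) :=
    Ideal.span (Set.range fun i => ((X i : MvPolynomial (Fin d) k) ^ c) ^ 8) with hKdef
  have hK' : K = Ideal.span (Set.range fun i => (X i : MvPolynomial (Fin d) k) ^ (c * 8)) := by
    rw [hKdef]; congr 1; ext x; simp only [Set.mem_range, pow_mul]
  have hXK : ∀ i, (X i : MvPolynomial (Fin d) k) ^ (c * 8) ∈ K := fun i => by
    rw [hK']; exact Ideal.subset_span ⟨i, rfl⟩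
  have hK𝔮 : K.map (algebraMap (MvPolynomial (Fin d) k) Λ) ≤ 𝔮 := by
    rw [hK', Ideal.map_span, Ideal.span_le]
    rintro _ ⟨_, ⟨i, rfl⟩, rfl⟩
    show algebraMap (MvPolynomial (Fin d) k) Λ (X i ^ (c * 8)) ∈ 𝔮
    rw [map_pow, hX]
    exact Ideal.pow_mem_of_mem _ (hπ𝔮 i) _ hc8
  have hmaxS : 𝔮.map (algebraMap Λ (Localization.AtPrime 𝔮)) =
      IsLocalRing.maximalIdeal (Localization.AtPrime 𝔮) := Localization.AtPrime.map_eq_maximalIdeal
  have hXS : ∀ i, algebraMap (MvPolynomial (Fin d) k) (Localization.AtPrime 𝔮) (X i) =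
      algebraMap Λ (Localization.AtPrime 𝔮) (π i) := fun i => by
    rw [IsScalarTower.algebraMap_apply (MvPolynomial (Fin d) k) Λ (Localization.AtPrime 𝔮), hX]
  have hπS : ∀ i, algebraMap Λ (Localization.AtPrime 𝔮) (π i) ∈
      IsLocalRing.maximalIdeal (Localization.AtPrime 𝔮) := fun i => by
    rw [← hmaxS]; exact Ideal.mem_map_of_mem _ (hπ𝔮 i)
  have hKm : K.map (algebraMap (MvPolynomial (Fin d) k) (Localization.AtPrime 𝔮)) ≤
      IsLocalRing.maximalIdeal (Localization.AtPrime 𝔮) := by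
    rw [hK', Ideal.map_span, Ideal.span_le]
    rintro _ ⟨_, ⟨i, rfl⟩, rfl⟩
    show algebraMap (MvPolynomial (Fin d) k) (Localization.AtPrime 𝔮) (X i ^ (c * 8)) ∈ _
    rw [map_pow, hXS]
    exact Ideal.pow_mem_of_mem _ (hπS i) _ hc8
  have hdim0 : IsLocalRing.maximalIdeal (Localization.AtPrime 𝔮) ≤
      (K.map (algebraMap (MvPolynomial (Fin d) k) (Localization.AtPrime 𝔮))).radical := by
    rw [← hmaxS, ← hπgen, Ideal.span_le]
    rintro _ ⟨i, rfl⟩
    refine ⟨c * 8, ?_⟩
    show algebraMap Λ (Localization.AtPrime 𝔮) (π i) ^ (c * 8) ∈ _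
    rw [← hXS, ← map_pow]
    exact Ideal.mem_map_of_mem _ (hXK i)
  haveI : IsScalarTower k (MvPolynomial (Fin d) k) (Localization.AtPrime 𝔮) := by
    refine IsScalarTower.of_algebraMap_eq fun t => ?_
    rw [IsScalarTower.algebraMap_apply k Λ (Localization.AtPrime 𝔮),
      IsScalarTower.algebraMap_apply k (MvPolynomial (Fin d) k) Λ,
      ← IsScalarTower.algebraMap_apply (MvPolynomial (Fin d) k) Λ (Localization.AtPrime 𝔮)]
  have hind : Smoothing.IndSmooth (MvPolynomial (Fin d) k ⧸ K)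
      (Localization.AtPrime 𝔮 ⧸ K.map (algebraMap (MvPolynomial (Fin d) k) (Localization.AtPrime 𝔮))) :=
    Groth.Agent.H44.RegEnd.indSmooth_quot (by
      rw [show (fun i => algebraMap (MvPolynomial (Fin d) k) (Localization.AtPrime 𝔮) (X i)) =
        fun i => algebraMap Λ (Localization.AtPrime 𝔮) (π i) from funext hXS]
      exact hπgen.trans hmaxS) hd (c * 8) hc8 K hK'
  have hres : Smoothing.Resolvable (MvPolynomial (Fin d) k ⧸ K) (quotMapK ψ K)
      (𝔮.map (Ideal.Quotient.mk (K.map (algebraMap (MvPolynomial (Fin d) k) Λ)))) :=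
    final_step_abstract 𝔮 K hK𝔮
      (fun s hs => isUnit_mk_of_notMem 𝔮 d π hπ𝔮 hX K (c * 8) hXK s hs) hdim0 hKm hind (quotMapK ψ K)
  -- apply the reduction lemma
  have hres2 : Smoothing.Resolvable (MvPolynomial (Fin d) k) ψ 𝔮 := by
    refine Groth.Agent.S6822.result ψ 𝔮 hdpos (fun i => (X i : MvPolynomial (Fin d) k) ^ c) ?_ ?_ ?_
      hstd K hKdef (quotMapK ψ K) (fun x => quotMapK_mk ψ K x) hres
    · intro i
      show algebraMap (MvPolynomial (Fin d) k) Λ (X i ^ c) ∈ 𝔮
      rw [map_pow, hX]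
      exact Ideal.pow_mem_of_mem _ (hπ𝔮 i) _ hc
    · intro i x hx
      exact poly_ann d c i x hx
    · intro i x hx
      obtain ⟨y, rfl⟩ := Ideal.Quotient.mk_surjective x
      have hJ : Ideal.span (Set.range fun j : {j : Fin d // (j : ℕ) < (i : ℕ)} =>
          algebraMap (MvPolynomial (Fin d) k) Λ ((X (j : Fin d) : MvPolynomial (Fin d) k) ^ c) ^ 8) =
          Ideal.span (Set.range fun j : {j : Fin d // (j : ℕ) < (i : ℕ)} => π j ^ (c * 8)) := by
        congr 1; ext z
        simp only [Set.mem_range, map_pow, hX, pow_mul]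
      rw [← map_pow, ← map_mul, Ideal.Quotient.eq_zero_iff_mem, hJ, map_pow, hX] at hx
      rw [← map_mul, Ideal.Quotient.eq_zero_iff_mem, hJ, map_pow, hX]
      exact ann_pow _ (π i) (hπann i) c hc y hx
  -- back to `k`
  obtain ⟨D, _, _, hDfp, g, h, hgh, hrad, hnot⟩ := hres2
  letI algkD : Algebra k D := ((algebraMap (MvPolynomial (Fin d) k) D).comp
    (algebraMap k (MvPolynomial (Fin d) k))).toAlgebra
  haveI : IsScalarTower k (MvPolynomial (Fin d) k) D := IsScalarTower.of_algebraMap_eq fun _ => rfl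
  haveI : Algebra.FinitePresentation k D :=
    Algebra.FinitePresentation.trans k (MvPolynomial (Fin d) k) D
  let g' : A →ₐ[k] D :=
    { toRingHom := g.toRingHom.comp ((algebraMap (BB k A d r n a) C).comp (ιA k A d r n a).toRingHom)
      commutes' := by
        intro t
        show g (algebraMap (BB k A d r n a) C (ιA k A d r n a (algebraMap k A t))) = _
        rw [(ιA k A d r n a).commutes,
          IsScalarTower.algebraMap_apply k (MvPolynomial (Fin d) k) (BB k A d r n a),
          ← IsScalarTower.algebraMap_apply (MvPolynomial (Fin d) k) (BB k A d r n a) C,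
          g.commutes]
        rfl }
  have hg' : ∀ x, g' x = g (algebraMap (BB k A d r n a) C (ιA k A d r n a x)) := fun _ => rfl
  have hhg : ∀ y, h (g y) = ψ y := fun y => AlgHom.congr_fun hgh y
  have hle : Smoothing.singRad (MvPolynomial (Fin d) k) h ≤ Smoothing.singRad k (h.restrictScalars k) := by
    unfold Smoothing.singRad
    apply Ideal.radical_mono
    exact Ideal.map_mono (singularIdeal_le_of_formallySmooth (k := k) (R := MvPolynomial (Fin d) k))
  refine ⟨D, inferInstance, algkD, inferInstance, g', h.restrictScalars k, ?_, ?_, ?_⟩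
  · ext x
    show h (g' x) = φ x
    rw [hg', hhg, hψ, hβ]
  · unfold Smoothing.singRad
    rw [Ideal.radical_le_radical_iff, ← ha]
    show Ideal.map φ (Ideal.span (Set.range a)) ≤ _
    rw [Ideal.map_span, Ideal.span_le]
    rintro _ ⟨_, ⟨j, rfl⟩, rfl⟩
    apply hle
    apply hrad
    apply Ideal.le_radical
    have h1 : φ (a j) = ψ (algebraMap (BB k A d r n a) C (ιA k A d r n a (a j))) := by
      rw [hψ, hβ]
    show φ (a j) ∈ _
    rw [h1]
    apply Ideal.mem_map_of_mem
    apply hmemC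
    exact aa_mem k A d r n a j (haH j)
  · intro hcon
    exact hnot (le_trans hle hcon)

end Groth.Agent.H3.Sep
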