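import Mathlib
import Groth.Agent.H3.Sep9

/-!
# Separable residue field case: dimension zero and the final statement (helper3)
-/

set_option autoImplicit false
set_option linter.style.haveILetI false
universe u

namespace Groth.Agent.H3.Sep

open MvPolynomial TensorProduct

theorem main_zero {k A Λ : Type u} [Field k] [CommRing A] [Algebra k A]
    [Algebra.FinitePresentation k A] [CommRing Λ] [Algebra k Λ] [IsNoetherianRing Λ]
    (φ : A →ₐ[k] Λ) (𝔮 : Ideal Λ) [𝔮.IsPrime]
    [IsRegularLocalRing (Localization.AtPrime 𝔮)]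
    [Algebra.IsGeometricallyReduced k 𝔮.ResidueField]
    (hd : ringKrullDim (Localization.AtPrime 𝔮) = (0 : ℕ)) :
    Smoothing.Resolvable k φ 𝔮 := by
  classical
  obtain ⟨g, hg⟩ := Groth.Agent.H14.AnnParams.exists_fin_generators (Localization.AtPrime 𝔮) 0 hd
  have hbot : IsLocalRing.maximalIdeal (Localization.AtPrime 𝔮) = ⊥ := by
    rw [← hg]
    have : Set.range g = ∅ := Set.range_eq_empty g
    rw [this, Ideal.span_empty]
  have hbij : Function.Bijective (IsLocalRing.residue (Localization.AtPrime 𝔮)) := by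
    refine ⟨?_, IsLocalRing.residue_surjective⟩
    rw [injective_iff_map_eq_zero]
    intro x hx
    have h1 : x ∈ IsLocalRing.maximalIdeal (Localization.AtPrime 𝔮) :=
      (IsLocalRing.residue_eq_zero_iff x).mp hx
    rwa [hbot, Ideal.mem_bot] at h1
  have hind : Smoothing.IndSmooth k (Localization.AtPrime 𝔮) := by
    refine Groth.Agent.H10.LiftTwice.indSmooth_of_ringEquiv (RingEquiv.refl k)
      (RingEquiv.ofBijective (IsLocalRing.residue (Localization.AtPrime 𝔮)) hbij) ?_
      (Groth.Agent.H44.RegEnd.indSmooth_field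
        (k := k) (K := IsLocalRing.ResidueField (Localization.AtPrime 𝔮)))
    intro t
    rfl
  haveI : IsLocalization.AtPrime k (𝔮.comap (algebraMap k Λ)) := by
    apply IsLocalization.of_le_isUnit
    intro s hs
    have hs0 : s ≠ 0 := by
      rintro rfl
      exact hs (Ideal.zero_mem _)
    exact IsUnit.mk0 s hs0
  exact resolvable_of_indSmooth (R := k) (Rₚ := k) (Λq := Localization.AtPrime 𝔮) φ 𝔮
    (by rw [hd]; rfl) hind

theorem main {k A Λ : Type u} [Field k] [CommRing A] [Algebra k A]
    [Algebra.FinitePresentation k A] [CommRing Λ] [Algebra k Λ] [IsNoetherianRing Λ]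
    (φ : A →ₐ[k] Λ) (𝔮 : Ideal Λ) [𝔮.IsPrime]
    (hmin : 𝔮 ∈ (Smoothing.singRad k φ).minimalPrimes)
    [IsRegularLocalRing (Localization.AtPrime 𝔮)]
    [Algebra.IsGeometricallyReduced k 𝔮.ResidueField] : Smoothing.Resolvable k φ 𝔮 := by
  have hd : ringKrullDim (Localization.AtPrime 𝔮) =
      ((IsLocalRing.maximalIdeal (Localization.AtPrime 𝔮)).spanFinrank : ℕ) :=
    (IsRegularLocalRing.spanFinrank_maximalIdeal (R := Localization.AtPrime 𝔮)).symm
  rcases Nat.eq_zero_or_pos (IsLocalRing.maximalIdeal (Localization.AtPrime 𝔮)).spanFinrank with h0 | hpos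
  · rw [h0] at hd
    exact main_zero φ 𝔮 hd
  · exact main_pos φ 𝔮 hmin _ hd hpos

end Groth.Agent.H3.Sep
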