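import Mathlib
import Groth.Agent.H3.Sep10
import Groth.Agent.Lead.GeomReg
import Groth.Agent.H44.MacLaneAll

/-!
# The zero-dimensional case of the inseparable Popescu step (helper3, for S6824)
-/

set_option autoImplicit false
set_option linter.unusedSimpArgs false
set_option linter.unusedVariables false
set_option linter.style.haveILetI false
universe u

namespace Groth.Agent.H3.InsepZero

open IsLocalRing

/-- (G4) the zero-dimensional case -/
theorem resolvable_dim_zero {k A Λ : Type u} [Field k] [CommRing A] [Algebra k A]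
    [Algebra.FinitePresentation k A] [CommRing Λ] [Algebra k Λ] [IsNoetherianRing Λ]
    (φ : A →ₐ[k] Λ) (𝔮 : Ideal Λ) [𝔮.IsPrime]
    (hS : CAlgX.IsAdicFormallySmooth k (Localization.AtPrime 𝔮)
      (maximalIdeal (Localization.AtPrime 𝔮)))
    (hd : ringKrullDim (Localization.AtPrime 𝔮) = (0 : ℕ)) :
    Smoothing.Resolvable k φ 𝔮 := by
  classical
  haveI hreg : IsRegularLocalRing (Localization.AtPrime 𝔮) := Groth.Agent.Lead.GeomReg.regular_of_fs hS
  obtain ⟨g, hg⟩ := Groth.Agent.H14.AnnParams.exists_fin_generators (Localization.AtPrime 𝔮) 0 hd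
  have hbot : IsLocalRing.maximalIdeal (Localization.AtPrime 𝔮) = ⊥ := by
    rw [← hg]
    have : Set.range g = ∅ := Set.range_eq_empty g
    rw [this, Ideal.span_empty]
  have hfield : IsField (Localization.AtPrime 𝔮) :=
    (IsLocalRing.isField_iff_maximalIdeal_eq).mpr hbot
  -- formal smoothness
  haveI hfs : Algebra.FormallySmooth k (Localization.AtPrime 𝔮) := by
    apply Algebra.FormallySmooth.of_comp_surjective
    intro B _ _ I hI ψ
    obtain ⟨χ, hχ⟩ := hS B I hI ψ ⟨1, fun x hx => by
      rw [pow_one, hbot, Ideal.mem_bot] at hx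
      rw [hx, map_zero]⟩
    exact ⟨χ, hχ⟩
  letI : Field (Localization.AtPrime 𝔮) := hfield.toField
  haveI : Algebra.IsGeometricallyReduced k (Localization.AtPrime 𝔮) :=
    Groth.Agent.H44.MacLane.formallySmooth_iff_isGeometricallyReduced.mp hfs
  have hind : Smoothing.IndSmooth k (Localization.AtPrime 𝔮) :=
    Groth.Agent.H44.RegEnd.indSmooth_field (k := k) (K := Localization.AtPrime 𝔮)
  haveI : IsLocalization.AtPrime k (𝔮.comap (algebraMap k Λ)) := by
    apply IsLocalization.of_le_isUnit
    intro s hs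
    have hs0 : s ≠ 0 := by
      rintro rfl
      exact hs (Ideal.zero_mem _)
    exact IsUnit.mk0 s hs0
  exact Groth.Agent.H3.Sep.resolvable_of_indSmooth (R := k) (Rₚ := k)
    (Λq := Localization.AtPrime 𝔮) φ 𝔮 (by rw [hd]; rfl) hind

end Groth.Agent.H3.InsepZero
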