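import Mathlib

/-!
# Linear algebra: choosing a maximal nonvanishing minor (helper3)
-/

set_option autoImplicit false
universe u

namespace Groth.Agent.H3.Jac

open Module

/-- From a finite family of vectors in `κ^n`, choose a spanning linearly independent subfamily
(indexed by `rows`) and columns such that the corresponding square minor is nonzero. -/
theorem exists_rows_cols {κ : Type*} [Field κ] {m n : ℕ} (v : Fin m → Fin n → κ) :
    ∃ (c : ℕ) (rows : Fin c ↪ Fin m) (cols : Fin c ↪ Fin n),
      (Matrix.of fun j k => v (rows j) (cols k)).det ≠ 0 ∧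
      ∀ ℓ, v ℓ ∈ Submodule.span κ (Set.range (v ∘ rows)) := by
  classical
  obtain ⟨ι', a, ha, hsp, hli⟩ := exists_linearIndependent' κ v
  haveI : Finite ι' := Finite.of_injective a ha
  letI : Fintype ι' := Fintype.ofFinite ι'
  obtain ⟨c, hc⟩ : ∃ c, c = Fintype.card ι' := ⟨_, rfl⟩
  let e : Fin c ≃ ι' := (Fintype.equivFinOfCardEq hc.symm).symm
  let rows : Fin c ↪ Fin m := ⟨a ∘ e, ha.comp e.injective⟩
  have hrows : LinearIndependent κ (v ∘ rows) := hli.comp e e.injective
  have hspan : ∀ ℓ, v ℓ ∈ Submodule.span κ (Set.range (v ∘ rows)) := by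
    intro ℓ
    have h1 : Set.range (v ∘ rows) = Set.range (v ∘ a) := by
      show Set.range ((v ∘ a) ∘ e) = _
      rw [Set.range_comp, e.range_eq_univ, Set.image_univ]
    rw [h1, hsp]
    exact Submodule.subset_span ⟨ℓ, rfl⟩
  let M : Matrix (Fin c) (Fin n) κ := Matrix.of (v ∘ rows)
  have hrank : M.rank = c := by
    have := LinearIndependent.rank_matrix (M := M) hrows
    simpa using this
  obtain ⟨ι'', b, hb, hsp', hli'⟩ := exists_linearIndependent' κ M.col
  haveI : Finite ι'' := Finite.of_injective b hb
  letI : Fintype ι'' := Fintype.ofFinite ι''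
  have hcard : Fintype.card ι'' = c := by
    rw [← finrank_span_eq_card hli', hsp', ← Matrix.rank_eq_finrank_span_cols, hrank]
  let e' : Fin c ≃ ι'' := (Fintype.equivFinOfCardEq hcard).symm
  let cols : Fin c ↪ Fin n := ⟨b ∘ e', hb.comp e'.injective⟩
  refine ⟨c, rows, cols, ?_, hspan⟩
  have hcols : LinearIndependent κ (M.col ∘ cols) := hli'.comp e' e'.injective
  have hunit : IsUnit (Matrix.of fun j k => v (rows j) (cols k)) := by
    rw [← Matrix.linearIndependent_cols_iff_isUnit]
    exact hcols
  exact ((Matrix.isUnit_iff_isUnit_det _).mp hunit).ne_zero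

end Groth.Agent.H3.Jac
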