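import Groth.Agent.H3.Jac1
import Groth.Agent.H3.Jac2

/-!
# Standard elements at smooth primes (helper3)
-/

set_option autoImplicit false
set_option linter.style.haveILetI false
universe u

namespace Groth.Agent.H3.Jac

open MvPolynomial

/-- The determinant trick: if `S f_ℓ ∈ J₀ + Q·(f)` for all `ℓ`, then `t f_ℓ ∈ J₀` for some
`t ≡ S^m mod Q`. -/
theorem det_trick {P : Type u} [CommRing P] {m : ℕ} (f : Fin m → P) (J₀ Q : Ideal P) (S : P)
    (hS : ∀ ℓ, S * f ℓ ∈ J₀ ⊔ Q * Ideal.span (Set.range f)) :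
    ∃ t : P, t - S ^ m ∈ Q ∧ ∀ ℓ, t * f ℓ ∈ J₀ := by
  classical
  have hdec : ∀ ℓ, ∃ cc : Fin m → P, (∀ ℓ', cc ℓ' ∈ Q) ∧ S * f ℓ - ∑ ℓ', cc ℓ' * f ℓ' ∈ J₀ := by
    intro ℓ
    obtain ⟨y, hy, z, hz, hyz⟩ := Submodule.mem_sup.mp (hS ℓ)
    have hz' : z ∈ Q • Submodule.span P (Set.range f) := hz
    obtain ⟨a, ha, haz⟩ := (Submodule.mem_ideal_smul_span_iff_exists_sum Q f z).mp hz'
    refine ⟨fun i => a i, ha, ?_⟩
    rw [Finsupp.sum_fintype _ _ (fun i => by simp)] at haz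
    have : S * f ℓ - ∑ ℓ', a ℓ' * f ℓ' = y := by
      rw [← hyz, ← haz]; simp only [smul_eq_mul]; ring
    rw [this]; exact hy
  choose cc hccQ hcc using hdec
  obtain ⟨C, hC⟩ : ∃ C : Matrix (Fin m) (Fin m) P, C = S • (1 : Matrix (Fin m) (Fin m) P) -
    Matrix.of cc := ⟨_, rfl⟩
  have hCf : ∀ ℓ, (C.mulVec f) ℓ ∈ J₀ := by
    intro ℓ
    have : (C.mulVec f) ℓ = S * f ℓ - ∑ ℓ', cc ℓ ℓ' * f ℓ' := by
      rw [hC, Matrix.sub_mulVec, Matrix.smul_mulVec, Matrix.one_mulVec]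
      simp [Matrix.mulVec, dotProduct]
    rw [this]; exact hcc ℓ
  refine ⟨C.det, ?_, ?_⟩
  · rw [← Ideal.Quotient.eq, map_pow, RingHom.map_det]
    have : (Ideal.Quotient.mk Q).mapMatrix C =
        (Ideal.Quotient.mk Q S) • (1 : Matrix (Fin m) (Fin m) (P ⧸ Q)) := by
      ext i j
      have h0 : Ideal.Quotient.mk Q (cc i j) = 0 := Ideal.Quotient.eq_zero_iff_mem.mpr (hccQ i j)
      simp [hC, Matrix.one_apply, h0]
      split_ifs <;> simp
    rw [this, Matrix.det_smul, Matrix.det_one, mul_one, Fintype.card_fin]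
  · intro ℓ
    have h1 : (C.det • f) = (Matrix.adjugate C).mulVec (C.mulVec f) := by
      rw [Matrix.mulVec_mulVec, Matrix.adjugate_mul, Matrix.smul_mulVec, Matrix.one_mulVec]
    have h2 : C.det * f ℓ = ((Matrix.adjugate C).mulVec (C.mulVec f)) ℓ := by
      rw [← h1]; rfl
    rw [h2]
    show ∑ ℓ', Matrix.adjugate C ℓ ℓ' * (C.mulVec f) ℓ' ∈ J₀
    exact Ideal.sum_mem _ fun ℓ' _ => Ideal.mul_mem_left _ _ (hCf ℓ')


/-- Local-global step: at a prime `q` where `A = P/I` is smooth, relations whose Jacobian rows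
span mod `q` generate `I/I²` after inverting an element outside `q`. -/
theorem exists_standard {R A : Type u} [CommRing R] [CommRing A] [Algebra R A] {n m : ℕ}
    (f : Fin m → MvPolynomial (Fin n) R) (φ : MvPolynomial (Fin n) R →ₐ[R] A)
    (hφ : Function.Surjective φ)
    (hker : RingHom.ker φ.toRingHom = Ideal.span (Set.range f)) (q : Ideal A) [q.IsPrime]
    [Algebra.IsSmoothAt R q] :
    ∃ a : A, a ∉ q ∧ ∃ (c : ℕ) (rows : Fin c ↪ Fin m) (cols : Fin c ↪ Fin n) (a' : A),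
      a = a' * φ (Matrix.det (Matrix.of fun j k : Fin c => pderiv (cols k) (f (rows j)))) ∧
      ∀ a₁ : MvPolynomial (Fin n) R, φ a₁ = a → ∀ ℓ : Fin m,
        a₁ * f ℓ ∈ Ideal.span (Set.range (f ∘ rows)) ⊔ Ideal.span (Set.range f) ^ 2 := by
  classical
  haveI : Algebra.FinitePresentation R A :=
    Algebra.FinitePresentation.of_surjective hφ
      (by rw [hker]; exact Submodule.fg_span (Set.finite_range f))
  obtain ⟨g, hgq, hsm⟩ := Algebra.IsSmoothAt.exists_notMem_smooth R q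
  obtain ⟨gt, rfl⟩ := hφ g
  haveI := hsm.formallySmooth
  obtain ⟨u, K, hu, hspl⟩ := exists_splitting φ hφ gt (Localization.Away (φ gt))
  obtain ⟨I, hI⟩ : ∃ I : Ideal (MvPolynomial (Fin n) R), I = Ideal.span (Set.range f) := ⟨_, rfl⟩
  rw [← hI] at hker ⊢
  rw [hker] at hu hspl
  have hfI : ∀ ℓ, f ℓ ∈ I := fun ℓ => by rw [hI]; exact Ideal.subset_span ⟨ℓ, rfl⟩
  have hφI : ∀ x, x ∈ I ↔ φ x = 0 := fun x => by rw [← hker]; rfl
  have hφf : ∀ ℓ, φ (f ℓ) = 0 := fun ℓ => (hφI _).mp (hfI ℓ)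
  obtain ⟨Q, hQ⟩ : ∃ Q : Ideal (MvPolynomial (Fin n) R), Q = Ideal.comap φ q := ⟨_, rfl⟩
  have hQmem : ∀ x, x ∈ Q ↔ φ x ∈ q := fun x => by rw [hQ]; rfl
  haveI hQprime : Q.IsPrime := by rw [hQ]; infer_instance
  -- the residue field and Jacobian rows
  let ψ : A →+* FractionRing (A ⧸ q) :=
    (algebraMap (A ⧸ q) (FractionRing (A ⧸ q))).comp (Ideal.Quotient.mk q)
  have hψ : ∀ x, ψ x = 0 ↔ x ∈ q := fun x => by
    show algebraMap (A ⧸ q) (FractionRing (A ⧸ q)) (Ideal.Quotient.mk q x) = 0 ↔ _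
    rw [map_eq_zero_iff _ (IsFractionRing.injective (A ⧸ q) (FractionRing (A ⧸ q))),
      Ideal.Quotient.eq_zero_iff_mem]
  obtain ⟨v, hv⟩ : ∃ v : Fin m → Fin n → FractionRing (A ⧸ q),
    v = fun ℓ i => ψ (φ (pderiv i (f ℓ))) := ⟨_, rfl⟩
  obtain ⟨c, rows, cols, hdet, hspan⟩ := exists_rows_cols v
  have hminor : φ (Matrix.det (Matrix.of fun j k : Fin c => pderiv (cols k) (f (rows j)))) ∉ q := by
    rw [← hψ]
    have h1 : ψ (φ (Matrix.det (Matrix.of fun j k : Fin c => pderiv (cols k) (f (rows j))))) =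
        (ψ.comp φ.toRingHom) (Matrix.det (Matrix.of fun j k : Fin c =>
          pderiv (cols k) (f (rows j)))) := rfl
    rw [h1, RingHom.map_det]
    have h2 : (ψ.comp φ.toRingHom).mapMatrix (Matrix.of fun j k : Fin c =>
        pderiv (cols k) (f (rows j))) = Matrix.of fun j k => v (rows j) (cols k) := by
      ext j k; rw [hv]; rfl
    rw [h2]; exact hdet
  -- N1
  have N1 : ∀ w ∈ I, (∀ i, φ (pderiv i w) ∈ q) → ∃ N : ℕ, gt ^ N * w ∈ Q * I ⊔ I ^ 2 := by
    intro w hw hd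
    obtain ⟨N, hN⟩ := hspl w hw
    refine ⟨N + K, ?_⟩
    have hS : ∑ i, pderiv i w * u i ∈ Q * I :=
      Ideal.sum_mem _ fun i _ => Ideal.mul_mem_mul ((hQmem _).mpr (hd i)) (hu i)
    have : gt ^ (N + K) * w = gt ^ N * (gt ^ K * w - ∑ i, pderiv i w * u i) +
        gt ^ N * ∑ i, pderiv i w * u i := by
      rw [pow_add]; ring
    rw [this]
    exact Ideal.add_mem _ (Ideal.mem_sup_right hN)
      (Ideal.mem_sup_left (Ideal.mul_mem_left _ _ hS))
  -- N2
  have N2 : ∀ ℓ, ∃ s : MvPolynomial (Fin n) R, φ s ∉ q ∧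
      s * f ℓ ∈ Ideal.span (Set.range (f ∘ rows)) ⊔ (Q * I ⊔ I ^ 2) := by
    intro ℓ
    obtain ⟨lam, hlam⟩ := (Submodule.mem_span_range_iff_exists_fun _).mp (hspan ℓ)
    obtain ⟨b, hb⟩ := IsLocalization.exist_integer_multiples (nonZeroDivisors (A ⧸ q))
      Finset.univ lam
    obtain ⟨d, hd⟩ := Ideal.Quotient.mk_surjective (b : A ⧸ q)
    have hdq : d ∉ q := by
      rw [← Ideal.Quotient.eq_zero_iff_mem, hd]
      exact nonZeroDivisors.coe_ne_zero b
    have hb' : ∀ j, ∃ bb : A, ψ bb = ψ d * lam j := by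
      intro j
      obtain ⟨y, hy⟩ := hb j (Finset.mem_univ j)
      obtain ⟨bb, rfl⟩ := Ideal.Quotient.mk_surjective y
      refine ⟨bb, ?_⟩
      show algebraMap (A ⧸ q) (FractionRing (A ⧸ q)) (Ideal.Quotient.mk q bb) =
        algebraMap (A ⧸ q) (FractionRing (A ⧸ q)) (Ideal.Quotient.mk q d) * lam j
      rw [hy, hd, Algebra.smul_def]
    choose bb hbb using hb'
    obtain ⟨dt, hdt⟩ := hφ d
    choose bt hbt using fun j => hφ (bb j)
    obtain ⟨w, hw⟩ : ∃ w, w = dt * f ℓ - ∑ j, bt j * f (rows j) := ⟨_, rfl⟩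
    have hwI : w ∈ I := by
      rw [hw]
      exact Ideal.sub_mem _ (Ideal.mul_mem_left _ _ (hfI ℓ))
        (Ideal.sum_mem _ fun j _ => Ideal.mul_mem_left _ _ (hfI _))
    have hderiv : ∀ i, φ (pderiv i w) ∈ q := by
      intro i
      rw [← hψ]
      have h1 : φ (pderiv i w) = d * φ (pderiv i (f ℓ)) -
          ∑ j, bb j * φ (pderiv i (f (rows j))) := by
        rw [hw, map_sub, map_sum, map_sub, map_sum]
        simp only [Derivation.leibniz, smul_eq_mul, map_add, map_mul, hφf, zero_mul, add_zero,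
          hdt, hbt]
      have h2 := congrFun hlam i
      simp only [Finset.sum_apply, Pi.smul_apply, smul_eq_mul, Function.comp_apply] at h2
      rw [h1, map_sub, map_mul, map_sum]
      simp only [map_mul, hbb]
      have h3 : ψ (φ (pderiv i (f ℓ))) = v ℓ i := by rw [hv]
      have h4 : ∀ j, ψ (φ (pderiv i (f (rows j)))) = v (rows j) i := fun j => by rw [hv]
      rw [h3, ← h2, Finset.mul_sum]
      simp only [h4]
      rw [← Finset.sum_sub_distrib]
      exact Finset.sum_eq_zero fun j _ => by ring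
    obtain ⟨N, hN⟩ := N1 w hwI hderiv
    refine ⟨gt ^ N * dt, ?_, ?_⟩
    · rw [map_mul, map_pow, hdt]
      intro h
      rcases Ideal.IsPrime.mem_or_mem ‹q.IsPrime› h with h | h
      · exact hgq (Ideal.IsPrime.mem_of_pow_mem ‹q.IsPrime› _ h)
      · exact hdq h
    · have : gt ^ N * dt * f ℓ = gt ^ N * w + gt ^ N * ∑ j, bt j * f (rows j) := by
        rw [hw]; ring
      rw [this]
      refine Ideal.add_mem _ (Ideal.mem_sup_right hN) (Ideal.mem_sup_left ?_)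
      exact Ideal.mul_mem_left _ _ (Ideal.sum_mem _ fun j _ => Ideal.mul_mem_left _ _
        (Ideal.subset_span ⟨j, rfl⟩))
  -- N3
  choose s hsq hs using N2
  have hSq : φ (∏ ℓ, s ℓ) ∉ q := by
    rw [map_prod]
    exact prod_mem (S := q.primeCompl) fun ℓ _ => hsq ℓ
  have hS : ∀ ℓ, (∏ ℓ, s ℓ) * f ℓ ∈
      (Ideal.span (Set.range (f ∘ rows)) ⊔ I ^ 2) ⊔ Q * Ideal.span (Set.range f) := by
    intro ℓ
    obtain ⟨r, hr⟩ := Finset.dvd_prod_of_mem s (Finset.mem_univ ℓ)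
    have : (∏ ℓ, s ℓ) * f ℓ = r * (s ℓ * f ℓ) := by rw [hr]; ring
    rw [this, ← hI]
    have hle : Ideal.span (Set.range (f ∘ rows)) ⊔ (Q * I ⊔ I ^ 2) ≤
        (Ideal.span (Set.range (f ∘ rows)) ⊔ I ^ 2) ⊔ Q * I :=
      sup_le (le_sup_left.trans le_sup_left)
        (sup_le le_sup_right (le_sup_right.trans le_sup_left))
    exact Ideal.mul_mem_left _ _ (hle (hs ℓ))
  obtain ⟨t, htS, ht⟩ := det_trick f _ Q _ hS
  have htq : φ t ∉ q := by
    intro h
    have h1 : t ∈ Q := (hQmem t).mpr h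
    have h2 : (∏ ℓ, s ℓ) ^ m ∈ Q := by
      have := Q.sub_mem h1 htS
      rwa [sub_sub_cancel] at this
    exact hSq ((hQmem _).mp (Ideal.IsPrime.mem_of_pow_mem hQprime _ h2))
  refine ⟨φ t * φ (Matrix.det (Matrix.of fun j k : Fin c => pderiv (cols k) (f (rows j)))),
    ?_, c, rows, cols, φ t, rfl, ?_⟩
  · intro h
    rcases Ideal.IsPrime.mem_or_mem ‹q.IsPrime› h with h | h
    · exact htq h
    · exact hminor h
  · intro a₁ ha₁ ℓ
    have h1 : a₁ - t * (Matrix.det (Matrix.of fun j k : Fin c =>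
        pderiv (cols k) (f (rows j)))) ∈ I := by
      rw [hφI, map_sub, ha₁, map_mul, sub_self]
    have h2 : a₁ * f ℓ = (a₁ - t * (Matrix.det (Matrix.of fun j k : Fin c =>
        pderiv (cols k) (f (rows j))))) * f ℓ +
        (Matrix.det (Matrix.of fun j k : Fin c => pderiv (cols k) (f (rows j)))) *
          (t * f ℓ) := by ring
    rw [h2]
    refine Ideal.add_mem _ (Ideal.mem_sup_right ?_) (Ideal.mul_mem_left _ _ (ht ℓ))
    rw [pow_two]; exact Ideal.mul_mem_mul h1 (hfI ℓ)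

end Groth.Agent.H3.Jac
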