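import Mathlib

/-!
# Kähler differentials: splitting for formally smooth maps; symmetric algebras (helper3)
-/

set_option autoImplicit false
universe u

namespace Groth.Agent.H3.KSym

open TensorProduct KaehlerDifferential

/-- For `S → T` formally smooth, `Ω[T/R] ≅ (T ⊗_S Ω[S/R]) × Ω[T/S]`. -/
theorem nonempty_kaehler_prod (R S T : Type u) [CommRing R] [CommRing S] [CommRing T]
    [Algebra R S] [Algebra R T] [Algebra S T] [IsScalarTower R S T] [Algebra.FormallySmooth S T] :
    Nonempty (Ω[T⁄R] ≃ₗ[T] (T ⊗[S] Ω[S⁄R]) × Ω[T⁄S]) := by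
  have hinj : Function.Injective (mapBaseChange R S T) := by
    rw [injective_iff_map_eq_zero]
    intro x hx
    obtain ⟨x, rfl⟩ := (Algebra.H1Cotangent.exact_δ_mapBaseChange R S T x).mp hx
    rw [Subsingleton.elim x 0, map_zero]
  obtain ⟨l, hl⟩ := Module.projective_lifting_property (KaehlerDifferential.map R S T T)
    LinearMap.id (KaehlerDifferential.map_surjective R S T)
  exact ⟨((KaehlerDifferential.exact_mapBaseChange_map R S T).splitSurjectiveEquiv hinj
    ⟨l, hl⟩).1⟩

variable (A : Type u) [CommRing A] (K : Type u) [AddCommGroup K] [Module A K]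

/-- The universal `A`-derivation of the symmetric algebra with values in `Sym ⊗ K`. -/
theorem exists_derivation_sym :
    ∃ δ : Derivation A (SymmetricAlgebra A K) (SymmetricAlgebra A K ⊗[A] K),
      ∀ k, δ (SymmetricAlgebra.ι A K k) = 1 ⊗ₜ k := by
  let C := SymmetricAlgebra A K
  let N := C ⊗[A] K
  let Φ : C →ₐ[A] TrivSqZeroExt C N :=
    SymmetricAlgebra.lift
      ((TrivSqZeroExt.inlAlgHom A C N).toLinearMap ∘ₗ SymmetricAlgebra.ι A K +
        (TrivSqZeroExt.inrHom C N).restrictScalars A ∘ₗ (TensorProduct.mk A C K 1))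
  have hΦι : ∀ k, Φ (SymmetricAlgebra.ι A K k) =
      TrivSqZeroExt.inl (SymmetricAlgebra.ι A K k) + TrivSqZeroExt.inr (1 ⊗ₜ k) := by
    intro k
    rw [SymmetricAlgebra.lift_ι_apply]
    rfl
  have hfst : (TrivSqZeroExt.fstHom A C N).comp Φ = AlgHom.id A C := by
    apply SymmetricAlgebra.algHom_ext
    apply LinearMap.ext
    intro k
    show TrivSqZeroExt.fst (Φ (SymmetricAlgebra.ι A K k)) = SymmetricAlgebra.ι A K k
    rw [hΦι]
    simp
  have hfst' : ∀ c, TrivSqZeroExt.fst (Φ c) = c := fun c => AlgHom.congr_fun hfst c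
  refine ⟨{ toLinearMap := (TrivSqZeroExt.sndHom C N).restrictScalars A ∘ₗ Φ.toLinearMap
            map_one_eq_zero' := ?_
            leibniz' := ?_ }, ?_⟩
  · show TrivSqZeroExt.snd (Φ 1) = 0
    rw [map_one]; rfl
  · intro a b
    show TrivSqZeroExt.snd (Φ (a * b)) = a • TrivSqZeroExt.snd (Φ b) + b • TrivSqZeroExt.snd (Φ a)
    rw [map_mul, TrivSqZeroExt.snd_mul, hfst', hfst']
    simp
  · intro k
    show TrivSqZeroExt.snd (Φ (SymmetricAlgebra.ι A K k)) = 1 ⊗ₜ k
    rw [hΦι]
    simp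


theorem adjoin_range_ι : Algebra.adjoin A (Set.range (SymmetricAlgebra.ι A K)) = ⊤ := by
  rw [eq_top_iff]
  intro y _
  induction y using SymmetricAlgebra.induction with
  | algebraMap r => exact Subalgebra.algebraMap_mem _ r
  | ι k => exact Algebra.subset_adjoin ⟨k, rfl⟩
  | mul a b ha hb => exact mul_mem (ha trivial) (hb trivial)
  | add a b ha hb => exact add_mem (ha trivial) (hb trivial)

/-- `Ω[Sym_A K / A] ≅ Sym_A K ⊗_A K`. -/
theorem nonempty_kaehler_sym :
    Nonempty (Ω[SymmetricAlgebra A K⁄A] ≃ₗ[SymmetricAlgebra A K] SymmetricAlgebra A K ⊗[A] K) := by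
  obtain ⟨δ, hδ⟩ := exists_derivation_sym A K
  let C := SymmetricAlgebra A K
  let f : Ω[C⁄A] →ₗ[C] C ⊗[A] K := δ.liftKaehlerDifferential
  let g : C ⊗[A] K →ₗ[C] Ω[C⁄A] :=
    LinearMap.liftBaseChange C (((D A C : Derivation A C Ω[C⁄A]) : C →ₗ[A] Ω[C⁄A]) ∘ₗ
      SymmetricAlgebra.ι A K)
  have hg : ∀ c k, g (c ⊗ₜ k) = c • D A C (SymmetricAlgebra.ι A K k) := fun c k => by
    simp [g]
  have hf : ∀ c, f (D A C c) = δ c := fun c => Derivation.liftKaehlerDifferential_comp_D δ c
  have hfg : ∀ x, f (g x) = x := by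
    intro x
    induction x using TensorProduct.induction_on with
    | zero => simp
    | tmul c k =>
      rw [hg, map_smul, hf, hδ, TensorProduct.smul_tmul', smul_eq_mul, mul_one]
    | add x y hx hy => rw [map_add, map_add, hx, hy]
  have hgf : g ∘ₗ f = LinearMap.id := by
    apply Derivation.liftKaehlerDifferential_unique
    apply Derivation.ext_of_adjoin_eq_top _ (adjoin_range_ι A K)
    rintro _ ⟨k, rfl⟩
    show g (f (D A C (SymmetricAlgebra.ι A K k))) = D A C (SymmetricAlgebra.ι A K k)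
    rw [hf, hδ, hg, one_smul]
  exact ⟨LinearEquiv.ofLinear f g (LinearMap.ext hfg) hgf⟩

end Groth.Agent.H3.KSym
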