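import Groth.Agent.H3.KSym1

/-!
# The conormal sequence of a finite presentation (helper3)
-/

set_option autoImplicit false
set_option linter.style.haveILetI false
universe u

namespace Groth.Agent.H3.KSym

open TensorProduct KaehlerDifferential

/-- A finitely presented algebra has a finite free module `F` with a surjection onto `Ω[A/R]` whose
kernel is finitely generated. -/
theorem exists_conormal (R A : Type u) [CommRing R] [CommRing A] [Algebra R A]
    [Algebra.FinitePresentation R A] :
    ∃ (F : Type u) (_ : AddCommGroup F) (_ : Module A F) (_ : Module.Free A F)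
      (_ : Module.Finite A F) (p : F →ₗ[A] Ω[A⁄R]),
      Function.Surjective p ∧ Module.Finite A (LinearMap.ker p) := by
  obtain ⟨n, φ, hφ, hfg⟩ := Algebra.FinitePresentation.out (R := R) (A := A)
  letI : Algebra (MvPolynomial (Fin n) R) A := φ.toRingHom.toAlgebra
  haveI : IsScalarTower R (MvPolynomial (Fin n) R) A :=
    IsScalarTower.of_algebraMap_eq (fun r => (φ.commutes r).symm)
  have hsurj : Function.Surjective (algebraMap (MvPolynomial (Fin n) R) A) := hφ
  haveI : Module.Free (MvPolynomial (Fin n) R) Ω[MvPolynomial (Fin n) R⁄R] :=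
    Module.Free.of_basis (KaehlerDifferential.mvPolynomialBasis R (Fin n))
  haveI : Module.Finite (MvPolynomial (Fin n) R) Ω[MvPolynomial (Fin n) R⁄R] :=
    Module.Finite.of_basis (KaehlerDifferential.mvPolynomialBasis R (Fin n))
  refine ⟨A ⊗[MvPolynomial (Fin n) R] Ω[MvPolynomial (Fin n) R⁄R], inferInstance, inferInstance,
    inferInstance, inferInstance, mapBaseChange R (MvPolynomial (Fin n) R) A,
    mapBaseChange_surjective R _ A hsurj, ?_⟩
  have hfg' : (RingHom.ker (algebraMap (MvPolynomial (Fin n) R) A)).FG := hfg
  haveI : Module.Finite (MvPolynomial (Fin n) R)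
      (RingHom.ker (algebraMap (MvPolynomial (Fin n) R) A)) := Module.Finite.iff_fg.mpr hfg'
  haveI : Module.Finite (MvPolynomial (Fin n) R)
      (RingHom.ker (algebraMap (MvPolynomial (Fin n) R) A)).Cotangent :=
    Module.Finite.of_surjective (Ideal.toCotangent _) (Ideal.toCotangent_surjective _)
  have h1 : (LinearMap.range (kerCotangentToTensor R (MvPolynomial (Fin n) R) A)).FG := by
    rw [LinearMap.range_eq_map]
    exact Submodule.FG.map _ (Module.Finite.fg_top)
  rw [range_kerCotangentToTensor R _ A hsurj] at h1
  exact Module.Finite.iff_fg.mpr (Submodule.FG.of_restrictScalars _ h1)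

end Groth.Agent.H3.KSym
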