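import Groth.Agent.H3.KSym2

/-!
# Splitting after flat base change; formal smoothness of localized symmetric algebras (helper3)
-/

set_option autoImplicit false
set_option linter.style.haveILetI false
universe u

namespace Groth.Agent.H3.KSym

open TensorProduct

/-- If `p : F → W` is surjective and `A' ⊗ W` is projective over the flat `A`-algebra `A'`, then
the base-changed sequence splits. -/
theorem baseChange_split {A A' : Type u} [CommRing A] [CommRing A'] [Algebra A A']
    [Module.Flat A A'] {F W : Type u} [AddCommGroup F] [Module A F] [AddCommGroup W] [Module A W]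
    (p : F →ₗ[A] W) (hp : Function.Surjective p) [Module.Projective A' (A' ⊗[A] W)] :
    Nonempty (A' ⊗[A] F ≃ₗ[A'] (A' ⊗[A] LinearMap.ker p) × (A' ⊗[A] W)) := by
  have hex : Function.Exact ((LinearMap.ker p).subtype.baseChange A') (p.baseChange A') := by
    have := Module.Flat.lTensor_exact A' (LinearMap.exact_subtype_ker_map p)
    intro x
    rw [LinearMap.baseChange_eq_ltensor, ← LinearMap.baseChange_eq_ltensor]
    have h := this x
    simp only [← LinearMap.baseChange_eq_ltensor] at h ⊢
    convert h using 1
  have hinj : Function.Injective ((LinearMap.ker p).subtype.baseChange A') := by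
    rw [LinearMap.baseChange_eq_ltensor]
    exact Module.Flat.lTensor_preserves_injective_linearMap _ (Submodule.subtype_injective _)
  have hsurj : Function.Surjective (p.baseChange A') := by
    rw [LinearMap.baseChange_eq_ltensor]
    exact LinearMap.lTensor_surjective _ hp
  obtain ⟨l, hl⟩ := Module.projective_lifting_property (p.baseChange A') LinearMap.id hsurj
  exact ⟨(hex.splitSurjectiveEquiv hinj ⟨l, hl⟩).1⟩

theorem projective_of_split {A' : Type u} [CommRing A'] {M N P : Type u} [AddCommGroup M]
    [Module A' M] [AddCommGroup N] [Module A' N] [AddCommGroup P] [Module A' P]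
    [Module.Projective A' M] (e : M ≃ₗ[A'] N × P) : Module.Projective A' N :=
  Module.Projective.of_split (e.symm.toLinearMap ∘ₗ LinearMap.inl A' N P)
    (LinearMap.fst A' N P ∘ₗ e.toLinearMap) (by ext x; simp)


/-- The localization `Sym_A(K)[1/a]` is formally smooth over `A` as soon as `A[1/a] ⊗ K` is
projective over `A[1/a]`. -/
theorem formallySmooth_away_sym {A : Type u} [CommRing A] (K : Type u) [AddCommGroup K]
    [Module A K] (a : A) (A' : Type u) [CommRing A'] [Algebra A A'] [IsLocalization.Away a A']
    [Module.Projective A' (A' ⊗[A] K)]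
    (B : Type u) [CommRing B] [Algebra (SymmetricAlgebra A K) B] [Algebra A B]
    [IsScalarTower A (SymmetricAlgebra A K) B]
    [IsLocalization.Away (algebraMap A (SymmetricAlgebra A K) a) B] :
    Algebra.FormallySmooth A B := by
  apply Algebra.FormallySmooth.of_comp_surjective
  intro T _ _ J hJ g
  have hunitB : IsUnit (algebraMap A B a) := by
    rw [IsScalarTower.algebraMap_apply A (SymmetricAlgebra A K) B]
    exact IsLocalization.Away.algebraMap_isUnit _
  have hunitTJ : IsUnit (Ideal.Quotient.mk J (algebraMap A T a)) := by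
    have := hunitB.map g
    rwa [AlgHom.commutes] at this
  have hunitT : IsUnit (algebraMap A T a) :=
    (IsNilpotent.isUnit_quotient_mk_iff ⟨2, hJ⟩).mp hunitTJ
  letI : Algebra A' T := (IsLocalization.Away.lift a hunitT).toAlgebra
  haveI : IsScalarTower A A' T :=
    IsScalarTower.of_algebraMap_eq fun x => (IsLocalization.Away.lift_eq a hunitT x).symm
  let h : K →ₗ[A] T ⧸ J :=
    g.toLinearMap ∘ₗ (IsScalarTower.toAlgHom A (SymmetricAlgebra A K) B).toLinearMap ∘ₗ
      SymmetricAlgebra.ι A K
  have hh : ∀ k, h k = g (algebraMap (SymmetricAlgebra A K) B (SymmetricAlgebra.ι A K k)) :=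
    fun k => rfl
  let hext : A' ⊗[A] K →ₗ[A'] T ⧸ J := LinearMap.liftBaseChange A' h
  obtain ⟨l, hl⟩ := Module.projective_lifting_property ((Ideal.Quotient.mkₐ A' J).toLinearMap)
    hext (Ideal.Quotient.mk_surjective)
  let h' : K →ₗ[A] T := (l.restrictScalars A) ∘ₗ (TensorProduct.mk A A' K 1)
  have hh' : ∀ k, Ideal.Quotient.mk J (h' k) = h k := by
    intro k
    have := LinearMap.congr_fun hl ((1 : A') ⊗ₜ[A] k)
    have h2 : hext ((1 : A') ⊗ₜ[A] k) = h k := by
      show LinearMap.liftBaseChange A' h ((1 : A') ⊗ₜ[A] k) = h k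
      rw [LinearMap.liftBaseChange_tmul, one_smul]
    rw [h2] at this
    exact this
  let gC : SymmetricAlgebra A K →ₐ[A] T := SymmetricAlgebra.lift h'
  have hgC : IsUnit (gC.toRingHom (algebraMap A (SymmetricAlgebra A K) a)) := by
    show IsUnit (gC (algebraMap A (SymmetricAlgebra A K) a))
    rw [AlgHom.commutes]; exact hunitT
  let g'r : B →+* T := IsLocalization.Away.lift (algebraMap A (SymmetricAlgebra A K) a) hgC
  have hg'r : ∀ c, g'r (algebraMap (SymmetricAlgebra A K) B c) = gC c := fun c =>
    IsLocalization.Away.lift_eq _ hgC c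
  let g' : B →ₐ[A] T :=
    { g'r with
      commutes' := fun x => by
        show g'r (algebraMap A B x) = algebraMap A T x
        rw [IsScalarTower.algebraMap_apply A (SymmetricAlgebra A K) B, hg'r]
        exact gC.commutes x }
  refine ⟨g', ?_⟩
  have hC : ((Ideal.Quotient.mkₐ A J).comp g').comp
      (IsScalarTower.toAlgHom A (SymmetricAlgebra A K) B) =
      g.comp (IsScalarTower.toAlgHom A (SymmetricAlgebra A K) B) := by
    apply SymmetricAlgebra.algHom_ext
    apply LinearMap.ext
    intro k
    show Ideal.Quotient.mk J (g'r (algebraMap (SymmetricAlgebra A K) B (SymmetricAlgebra.ι A K k)))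
      = g (algebraMap (SymmetricAlgebra A K) B (SymmetricAlgebra.ι A K k))
    rw [hg'r]
    show Ideal.Quotient.mk J (SymmetricAlgebra.lift h' (SymmetricAlgebra.ι A K k)) = _
    rw [SymmetricAlgebra.lift_ι_apply, hh', hh]
  apply AlgHom.coe_ringHom_injective
  apply IsLocalization.ringHom_ext (Submonoid.powers (algebraMap A (SymmetricAlgebra A K) a))
  ext c
  exact AlgHom.congr_fun hC c

end Groth.Agent.H3.KSym
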