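import Groth.Agent.H3.Ked1

/-!
# Nagata's trick: integrality statement (helper3)
-/

set_option autoImplicit false

open Polynomial MvPolynomial

namespace Groth.Agent.H3.Ked

variable {k : Type*} [Field k] {n : ℕ}

/-- evaluation of a polynomial in `n+1` variables through `finSuccEquiv`. -/
theorem aeval_cons_eq {C : Type*} [CommRing C] [Algebra k C] (z : C) (c : Fin n → C)
    (g : MvPolynomial (Fin (n + 1)) k) :
    MvPolynomial.aeval (Fin.cons z c : Fin (n + 1) → C) g =
      Polynomial.eval₂ (MvPolynomial.aeval c : MvPolynomial (Fin n) k →ₐ[k] C).toRingHom z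
        (finSuccEquiv k n g) := by
  induction g using MvPolynomial.induction_on with
  | C a =>
    simp [finSuccEquiv_apply]
  | add p q hp hq => simp only [map_add, hp, hq, Polynomial.eval₂_add]
  | mul_X p i hp =>
    rw [map_mul, hp, map_mul, Polynomial.eval₂_mul]
    congr 1
    cases i using Fin.cases with
    | zero => simp [finSuccEquiv_X_zero]
    | succ j => simp [finSuccEquiv_X_succ]

open NoetherNormalization in
theorem aeval_T1 {C : Type*} [CommRing C] [Algebra k C] (f : MvPolynomial (Fin (n + 1)) k)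
    (c : Fin (n + 1) → C) (g : MvPolynomial (Fin (n + 1)) k) :
    MvPolynomial.aeval (Fin.cons (c 0) fun i : Fin n => c i.succ - c 0 ^ ((2 + f.totalDegree) ^ (i.succ : Fin (n+1)).1) :
        Fin (n + 1) → C) (T1 f 1 g) = MvPolynomial.aeval c g := by
  have : (MvPolynomial.aeval (Fin.cons (c 0) fun i : Fin n =>
      c i.succ - c 0 ^ ((2 + f.totalDegree) ^ (i.succ : Fin (n+1)).1) : Fin (n + 1) → C)).comp (T1 f 1) =
      MvPolynomial.aeval c := by
    apply MvPolynomial.algHom_ext
    intro j
    cases j using Fin.cases with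
    | zero => simp
    | succ i => simp [Fin.succ_ne_zero]
  exact DFunLike.congr_fun this g

/-- **Nagata's trick**: if `(c 0, c 1, …, c n)` satisfy a nontrivial polynomial relation over
the field `k`, then `c 0` is integral over `k[c i - (c 0) ^ e i]` for suitable exponents. -/
theorem exists_isIntegral_of_aeval_eq_zero {C : Type*} [CommRing C] [Algebra k C]
    (f : MvPolynomial (Fin (n + 1)) k) (fne : f ≠ 0) (c : Fin (n + 1) → C)
    (h : MvPolynomial.aeval c f = 0) :
    ∃ e : Fin n → ℕ,
      IsIntegral (Algebra.adjoin k (Set.range fun i : Fin n => c i.succ - c 0 ^ e i)) (c 0) := by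
  refine ⟨fun i => (2 + f.totalDegree) ^ (i.succ : Fin (n+1)).1, ?_⟩
  set c'' : Fin n → C := fun i : Fin n =>
    c i.succ - c 0 ^ ((2 + f.totalDegree) ^ (i.succ : Fin (n+1)).1) with hc''
  have h1 : MvPolynomial.aeval (Fin.cons (c 0) c'' : Fin (n + 1) → C) (T f f) = 0 := by
    rw [AlgEquiv.ofAlgHom_apply, aeval_T1, h]
  rw [aeval_cons_eq] at h1
  have hu := T_leadingcoeff_isUnit f fne
  set G := finSuccEquiv k n (T f f) with hG
  have hmonic := Polynomial.monic_of_isUnit_leadingCoeff_inv_smul hu
  set G₁ := (hu.unit⁻¹ : (MvPolynomial (Fin n) k)ˣ) • G with hG₁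
  have h2 : Polynomial.eval₂ (MvPolynomial.aeval c'' : MvPolynomial (Fin n) k →ₐ[k] C).toRingHom
      (c 0) G₁ = 0 := by
    rw [hG₁, Units.smul_def, Polynomial.smul_eq_C_mul, Polynomial.eval₂_mul, h1, mul_zero]
  -- restrict the coefficient map to the subalgebra
  set S := Algebra.adjoin k (Set.range c'') with hS
  let ρ : MvPolynomial (Fin n) k →ₐ[k] S :=
    (MvPolynomial.aeval c'' : MvPolynomial (Fin n) k →ₐ[k] C).codRestrict S (by
      intro p
      have : (MvPolynomial.aeval c'' : MvPolynomial (Fin n) k →ₐ[k] C) p ∈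
          (MvPolynomial.aeval c'' : MvPolynomial (Fin n) k →ₐ[k] C).range := ⟨p, rfl⟩
      rwa [← Algebra.adjoin_range_eq_range_aeval] at this)
  refine ⟨G₁.map ρ.toRingHom, hmonic.map _, ?_⟩
  rw [Polynomial.eval₂_map]
  exact h2

end Groth.Agent.H3.Ked
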