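import Mathlib

/-!
# Etaleness of a map from a polynomial ring via differentials (helper3)
-/

set_option autoImplicit false

open TensorProduct KaehlerDifferential

namespace Groth.Agent.H3.Ked

section general

variable (R S T : Type*) [CommRing R] [CommRing S] [CommRing T]
variable [Algebra R S] [Algebra R T] [Algebra S T] [IsScalarTower R S T]

/-- If `T/R` has vanishing `H¹(L)` and `T ⊗ Ω[S/R] → Ω[T/R]` is bijective, then `T/S` is formally
étale. -/
theorem formallyEtale_of_bijective_mapBaseChange [Subsingleton (Algebra.H1Cotangent R T)]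
    (h : Function.Bijective (mapBaseChange R S T)) : Algebra.FormallyEtale S T := by
  refine ⟨?_, ?_⟩
  · refine ⟨fun a b => ?_⟩
    suffices H : ∀ x : Ω[T⁄S], x = 0 by rw [H a, H b]
    intro x
    obtain ⟨y, rfl⟩ := KaehlerDifferential.map_surjective R S T x
    obtain ⟨z, rfl⟩ := h.2 y
    exact (KaehlerDifferential.exact_mapBaseChange_map R S T _).mpr ⟨z, rfl⟩
  · refine ⟨fun a b => ?_⟩
    suffices H : ∀ x : Algebra.H1Cotangent S T, x = 0 by rw [H a, H b]
    intro x
    have h1 : Algebra.H1Cotangent.δ R S T x = 0 := by
      apply h.1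
      rw [map_zero]
      exact (Algebra.H1Cotangent.exact_δ_mapBaseChange R S T _).mpr ⟨x, rfl⟩
    obtain ⟨y, rfl⟩ := (Algebra.H1Cotangent.exact_map_δ R S T x).mp h1
    rw [Subsingleton.elim y 0, map_zero]

end general

section mvpoly

variable (k : Type*) [CommRing k] (σ : Type*) (T : Type*) [CommRing T]
  [Algebra k T] [Algebra (MvPolynomial σ k) T] [IsScalarTower k (MvPolynomial σ k) T]

theorem mapBaseChange_baseChange_basis (i : σ) :
    mapBaseChange k (MvPolynomial σ k) T
      (((mvPolynomialBasis k σ).baseChange T) i) =
      D k T (algebraMap (MvPolynomial σ k) T (MvPolynomial.X i)) := by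
  rw [Module.Basis.baseChange_apply, mvPolynomialBasis_apply, mapBaseChange_tmul, one_smul, map_D]

theorem basis_of_bijective_mapBaseChange
    (h : Function.Bijective (mapBaseChange k (MvPolynomial σ k) T)) :
    LinearIndependent T (fun i : σ => D k T (algebraMap (MvPolynomial σ k) T (MvPolynomial.X i))) ∧
    Submodule.span T (Set.range
      (fun i : σ => D k T (algebraMap (MvPolynomial σ k) T (MvPolynomial.X i)))) = ⊤ := by
  let e := LinearEquiv.ofBijective (mapBaseChange k (MvPolynomial σ k) T) h
  let b := ((mvPolynomialBasis k σ).baseChange T).map e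
  have hb : ∀ i, b i = D k T (algebraMap (MvPolynomial σ k) T (MvPolynomial.X i)) := by
    intro i
    rw [Module.Basis.map_apply]
    exact mapBaseChange_baseChange_basis k σ T i
  have hfun : (fun i : σ => D k T (algebraMap (MvPolynomial σ k) T (MvPolynomial.X i))) = b :=
    funext fun i => (hb i).symm
  rw [hfun]
  exact ⟨b.linearIndependent, b.span_eq⟩

theorem bijective_mapBaseChange_of_basis
    (hli : LinearIndependent T
      (fun i : σ => D k T (algebraMap (MvPolynomial σ k) T (MvPolynomial.X i))))
    (hsp : Submodule.span T (Set.range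
      (fun i : σ => D k T (algebraMap (MvPolynomial σ k) T (MvPolynomial.X i)))) = ⊤) :
    Function.Bijective (mapBaseChange k (MvPolynomial σ k) T) := by
  let b' : Module.Basis σ T Ω[T⁄k] := Module.Basis.mk hli hsp.ge
  let b := (mvPolynomialBasis k σ).baseChange T
  let e := b.equiv b' (Equiv.refl σ)
  have : mapBaseChange k (MvPolynomial σ k) T = e.toLinearMap := by
    apply b.ext
    intro i
    rw [mapBaseChange_baseChange_basis, LinearEquiv.coe_coe, Module.Basis.equiv_apply,
      Equiv.refl_apply, Module.Basis.mk_apply]
  rw [this]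
  exact e.bijective

end mvpoly

section main

variable {k : Type*} [CommRing k] {σ : Type*} [Finite σ] {C : Type*} [CommRing C] [Algebra k C]

/-- A `k`-algebra map `k[σ] → C`, `X i ↦ u i`, into a smooth `k`-algebra is étale as soon as
the `d(u i)` form a basis of `Ω[C/k]`. -/
theorem etale_aeval_of_basis [Algebra.FormallySmooth k C] [Algebra.FinitePresentation k C]
    (u : σ → C) (hli : LinearIndependent C (fun i : σ => D k C (u i)))
    (hsp : Submodule.span C (Set.range (fun i : σ => D k C (u i))) = ⊤) :
    (MvPolynomial.aeval u : MvPolynomial σ k →ₐ[k] C).toRingHom.Etale := by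
  letI : Algebra (MvPolynomial σ k) C :=
    (MvPolynomial.aeval u : MvPolynomial σ k →ₐ[k] C).toRingHom.toAlgebra
  haveI : IsScalarTower k (MvPolynomial σ k) C := IsScalarTower.of_algebraMap_eq' (by
    ext r
    show algebraMap k C r = (MvPolynomial.aeval u) (algebraMap k (MvPolynomial σ k) r)
    rw [AlgHom.commutes])
  have hX : ∀ i, algebraMap (MvPolynomial σ k) C (MvPolynomial.X i) = u i := by
    intro i
    show (MvPolynomial.aeval u) (MvPolynomial.X i) = u i
    rw [MvPolynomial.aeval_X]
  have hbij : Function.Bijective (mapBaseChange k (MvPolynomial σ k) C) := by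
    apply bijective_mapBaseChange_of_basis
    · simpa only [hX] using hli
    · simpa only [hX] using hsp
  haveI := formallyEtale_of_bijective_mapBaseChange k (MvPolynomial σ k) C hbij
  haveI : Algebra.FinitePresentation (MvPolynomial σ k) C :=
    Algebra.FinitePresentation.of_restrict_scalars_finitePresentation k _ _
  show Algebra.Etale (MvPolynomial σ k) C
  exact ⟨inferInstance, inferInstance⟩

/-- Conversely, an étale `k[σ]`-algebra has the `d(X i)` as a basis of its differentials. -/
theorem basis_of_etale [Algebra (MvPolynomial σ k) C] [IsScalarTower k (MvPolynomial σ k) C]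
    [Algebra.FormallyEtale (MvPolynomial σ k) C] :
    LinearIndependent C (fun i : σ => D k C (algebraMap (MvPolynomial σ k) C (MvPolynomial.X i))) ∧
    Submodule.span C (Set.range
      (fun i : σ => D k C (algebraMap (MvPolynomial σ k) C (MvPolynomial.X i)))) = ⊤ :=
  basis_of_bijective_mapBaseChange k σ C
    (tensorKaehlerEquivOfFormallyEtale k (MvPolynomial σ k) C).bijective

end main

end Groth.Agent.H3.Ked
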