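import Groth.Agent.H3.Ked2

/-!
# Elements of an unramified finite type algebra over a domain are algebraic (helper3)
-/

set_option autoImplicit false

open TensorProduct Polynomial

namespace Groth.Agent.H3.Ked

/-- Every element of a finite type, formally unramified algebra `C` over a domain `P` satisfies a
nonzero polynomial over `P`. -/
theorem exists_ne_zero_aeval_eq_zero (P C : Type*) [CommRing P] [IsDomain P] [CommRing C]
    [Algebra P C] [Algebra.FiniteType P C] [Algebra.FormallyUnramified P C] (z : C) :
    ∃ G : P[X], G ≠ 0 ∧ Polynomial.aeval z G = 0 := by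
  let K := FractionRing P
  haveI : Algebra.EssFiniteType K (K ⊗[P] C) := inferInstance
  haveI : Module.Finite K (K ⊗[P] C) := Algebra.FormallyUnramified.finite_of_free K (K ⊗[P] C)
  have hint : IsAlgebraic K ((Algebra.TensorProduct.includeRight : C →ₐ[P] K ⊗[P] C) z) :=
    (IsIntegral.of_finite K _).isAlgebraic
  have halg : IsAlgebraic P ((Algebra.TensorProduct.includeRight : C →ₐ[P] K ⊗[P] C) z) :=
    (IsFractionRing.isAlgebraic_iff P K (K ⊗[P] C)).mpr hint
  obtain ⟨G, hG, hGz⟩ := halg
  rw [Polynomial.aeval_algHom_apply] at hGz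
  -- `1 ⊗ w = 0` in the localization
  haveI : IsLocalizedModule (nonZeroDivisors P) (TensorProduct.mk P K C 1) :=
    (isLocalizedModule_iff_isBaseChange (nonZeroDivisors P) K _).mpr
      (TensorProduct.isBaseChange P C K)
  have h0 : (TensorProduct.mk P K C 1) (Polynomial.aeval z G) = 0 := hGz
  obtain ⟨s, hs⟩ := (IsLocalizedModule.eq_zero_iff (nonZeroDivisors P) _).mp h0
  refine ⟨Polynomial.C (s : P) * G, ?_, ?_⟩
  · exact mul_ne_zero (by simpa using nonZeroDivisors.coe_ne_zero s) hG
  · rw [map_mul, Polynomial.aeval_C, ← Algebra.smul_def]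
    exact hs

end Groth.Agent.H3.Ked
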