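import Groth.Agent.H3.Ked3
import Groth.Agent.H3.Ked4

/-!
# Kedlaya's trick: making an étale map from affine space finite (helper3)
-/

set_option autoImplicit false

open Polynomial MvPolynomial KaehlerDifferential

namespace Groth.Agent.H3.Ked

variable {k : Type*} [Field k] {n : ℕ} {C : Type*} [CommRing C] [Algebra k C]

/-- The subalgebra `k[u]`. -/
noncomputable abbrev Rg (u : Fin n → C) : Subalgebra k C :=
  (MvPolynomial.aeval u : MvPolynomial (Fin n) k →ₐ[k] C).range

theorem isIntegral_of_eq {S S' : Subalgebra k C} (h : S = S') {a : C} (ha : IsIntegral S a) :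
    IsIntegral S' a := by
  subst h; exact ha

theorem mem_Rg (u : Fin n → C) (i : Fin n) : u i ∈ Rg (k := k) u :=
  ⟨MvPolynomial.X i, MvPolynomial.aeval_X u i⟩

theorem isIntegral_of_mem_Rg (u : Fin n → C) {a : C} (ha : a ∈ Rg (k := k) u) :
    IsIntegral (Rg (k := k) u) a := by
  have : a = algebraMap (Rg (k := k) u) C ⟨a, ha⟩ := rfl
  rw [this]
  exact isIntegral_algebraMap

/-- algebraicity in `MvPolynomial` form -/
theorem exists_relation (u : Fin n → C)
    (het : (MvPolynomial.aeval u : MvPolynomial (Fin n) k →ₐ[k] C).toRingHom.Etale) (z : C) :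
    ∃ f : MvPolynomial (Fin (n + 1)) k, f ≠ 0 ∧
      MvPolynomial.aeval (Fin.cons z u : Fin (n + 1) → C) f = 0 := by
  letI : Algebra (MvPolynomial (Fin n) k) C :=
    (MvPolynomial.aeval u : MvPolynomial (Fin n) k →ₐ[k] C).toRingHom.toAlgebra
  haveI : Algebra.Etale (MvPolynomial (Fin n) k) C := het
  obtain ⟨G, hG, hGz⟩ := exists_ne_zero_aeval_eq_zero (MvPolynomial (Fin n) k) C z
  refine ⟨(finSuccEquiv k n).symm G, ?_, ?_⟩
  · intro h
    apply hG
    have := congrArg (finSuccEquiv k n) h
    rwa [AlgEquiv.apply_symm_apply, map_zero] at this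
  · rw [aeval_cons_eq, AlgEquiv.apply_symm_apply]
    exact hGz

/-- one step of the normalisation -/
theorem exists_step (p : ℕ) (hp : 0 < p) (u : Fin n → C)
    (het : (MvPolynomial.aeval u : MvPolynomial (Fin n) k →ₐ[k] C).toRingHom.Etale) (y : C) :
    ∃ e : Fin n → ℕ, IsIntegral (Rg (k := k) fun i => u i - (y ^ p) ^ e i) y := by
  obtain ⟨f, hf, hfz⟩ := exists_relation u het (y ^ p)
  obtain ⟨e, he⟩ := exists_isIntegral_of_aeval_eq_zero f hf _ hfz
  refine ⟨e, ?_⟩
  simp only [Fin.cons_succ, Fin.cons_zero] at he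
  have h1 := isIntegral_of_eq (Algebra.adjoin_range_eq_range_aeval k _) he
  exact IsIntegral.of_pow hp h1

/-- transitivity of integrality along a change of coordinates -/
theorem isIntegral_trans_Rg (u u' : Fin n → C)
    (hu : ∀ i, IsIntegral (Rg (k := k) u') (u i)) {a : C} (ha : IsIntegral (Rg (k := k) u) a) :
    IsIntegral (Rg (k := k) u') a := by
  have step1 : ∀ b ∈ Rg (k := k) u, IsIntegral (Rg (k := k) u') b := by
    rintro b ⟨q, rfl⟩
    induction q using MvPolynomial.induction_on with
    | C r =>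
      have : (MvPolynomial.aeval u : MvPolynomial (Fin n) k →ₐ[k] C).toRingHom (MvPolynomial.C r) =
          algebraMap (Rg (k := k) u') C (algebraMap k (Rg (k := k) u') r) := by
        simp
      rw [this]
      exact isIntegral_algebraMap
    | add p q hp hq =>
      rw [map_add]
      exact hp.add hq
    | mul_X p i hp =>
      rw [map_mul]
      refine hp.mul ?_
      have : (MvPolynomial.aeval u : MvPolynomial (Fin n) k →ₐ[k] C).toRingHom (MvPolynomial.X i) =
          u i := by simp
      rw [this]
      exact hu i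
  let A := integralClosure (Rg (k := k) u') C
  let ι : (Rg (k := k) u) →+* A :=
    RingHom.codRestrict ((Rg (k := k) u).val.toRingHom) A (fun b => step1 b.1 b.2)
  have h3 : IsIntegral A ((RingHom.id C) a) :=
    IsIntegral.map_of_comp_eq ι (RingHom.id C) (RingHom.ext fun b => rfl) ha
  exact isIntegral_trans (R := Rg (k := k) u') (A := A) a h3

end Groth.Agent.H3.Ked
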