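import Groth.Agent.H3.Ked5

/-!
# Kedlaya's trick: the induction (helper3)
-/

set_option autoImplicit false

open Polynomial MvPolynomial KaehlerDifferential

namespace Groth.Agent.H3.Ked

variable {k : Type*} [Field k] (p : ℕ) [hp : Fact p.Prime] [CharP k p] {n : ℕ}
  {C : Type*} [CommRing C] [Algebra k C]

include hp in
theorem D_pow_char (y : C) (m : ℕ) : D k C ((y ^ p) ^ m) = 0 := by
  have hpC : (p : C) = 0 := by
    have : (p : C) = algebraMap k C (p : k) := by rw [map_natCast]
    rw [this, CharP.cast_eq_zero k p, map_zero]
  have h1 : D k C (y ^ p) = 0 := by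
    rw [Derivation.leibniz_pow, ← Nat.cast_smul_eq_nsmul C, hpC, zero_smul]
  rw [Derivation.leibniz_pow, h1, smul_zero, smul_zero]

variable [Algebra.FormallySmooth k C] [Algebra.FinitePresentation k C]
  (x : Fin n → C)

/-- the coordinates `u` have the same differentials as `x` -/
def Good (u : Fin n → C) : Prop := ∀ i, D k C (u i) = D k C (x i)

variable {x}

theorem etale_of_good (hli : LinearIndependent C fun i => D k C (x i))
    (hsp : Submodule.span C (Set.range fun i => D k C (x i)) = ⊤) {u : Fin n → C}
    (hu : Good (k := k) x u) :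
    (MvPolynomial.aeval u : MvPolynomial (Fin n) k →ₐ[k] C).toRingHom.Etale := by
  have : (fun i => D k C (u i)) = fun i => D k C (x i) := funext hu
  exact etale_aeval_of_basis u (by rw [this]; exact hli) (by rw [this]; exact hsp)

include hp in
theorem exists_good (hli : LinearIndependent C fun i => D k C (x i))
    (hsp : Submodule.span C (Set.range fun i => D k C (x i)) = ⊤) (s : Finset C) :
    ∃ u : Fin n → C, Good (k := k) x u ∧ ∀ a ∈ s, IsIntegral (Rg (k := k) u) a := by
  classical
  induction s using Finset.induction_on with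
  | empty => exact ⟨x, fun i => rfl, by simp⟩
  | insert y s _ ih =>
    obtain ⟨u, hu, hs⟩ := ih
    obtain ⟨e, he⟩ := exists_step p hp.out.pos u (etale_of_good hli hsp hu) y
    refine ⟨fun i => u i - (y ^ p) ^ e i, ?_, ?_⟩
    · intro i
      rw [map_sub, D_pow_char p, sub_zero]
      exact hu i
    · have hui : ∀ i, IsIntegral (Rg (k := k) fun i => u i - (y ^ p) ^ e i) (u i) := by
        intro i
        have h1 : IsIntegral (Rg (k := k) fun i => u i - (y ^ p) ^ e i) (u i - (y ^ p) ^ e i) :=
          isIntegral_of_mem_Rg _ (mem_Rg (fun i => u i - (y ^ p) ^ e i) i)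
        have h2 := h1.add ((he.pow p).pow (e i))
        rwa [sub_add_cancel] at h2
      intro a ha
      rcases Finset.mem_insert.mp ha with rfl | ha
      · exact he
      · exact isIntegral_trans_Rg u _ hui (hs a ha)

include hp in
/-- **Kedlaya**: in characteristic `p`, étale coordinates on a smooth algebra can be modified
to give a finite étale map from affine space. -/
theorem exists_finite_etale (hli : LinearIndependent C fun i => D k C (x i))
    (hsp : Submodule.span C (Set.range fun i => D k C (x i)) = ⊤) :
    ∃ u : Fin n → C,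
      (MvPolynomial.aeval u : MvPolynomial (Fin n) k →ₐ[k] C).toRingHom.Finite ∧
      (MvPolynomial.aeval u : MvPolynomial (Fin n) k →ₐ[k] C).toRingHom.Etale := by
  obtain ⟨s, hs⟩ := (Algebra.FiniteType.out : (⊤ : Subalgebra k C).FG)
  obtain ⟨u, hu, hint⟩ := exists_good p hli hsp s
  have het := etale_of_good hli hsp hu
  refine ⟨u, ?_, het⟩
  have hall : ∀ a : C, IsIntegral (Rg (k := k) u) a := by
    intro a
    have ha : a ∈ Algebra.adjoin k (s : Set C) := by rw [hs]; trivial
    induction ha using Algebra.adjoin_induction with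
    | mem b hb => exact hint b hb
    | algebraMap r =>
      have : algebraMap k C r = algebraMap (Rg (k := k) u) C (algebraMap k (Rg (k := k) u) r) :=
        rfl
      rw [this]
      exact isIntegral_algebraMap
    | add a b _ _ ha hb => exact ha.add hb
    | mul a b _ _ ha hb => exact ha.mul hb
  have h1 : (algebraMap (Rg (k := k) u) C).IsIntegral := fun a => hall a
  have h2 : ((MvPolynomial.aeval u : MvPolynomial (Fin n) k →ₐ[k] C).rangeRestrict).toRingHom.IsIntegral :=
    RingHom.isIntegral_of_surjective _ (AlgHom.rangeRestrict_surjective _)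
  have h3 : (MvPolynomial.aeval u : MvPolynomial (Fin n) k →ₐ[k] C).toRingHom.IsIntegral :=
    RingHom.IsIntegral.trans _ _ h2 h1
  have h4 : (MvPolynomial.aeval u : MvPolynomial (Fin n) k →ₐ[k] C).toRingHom.FiniteType := by
    letI : Algebra (MvPolynomial (Fin n) k) C :=
      (MvPolynomial.aeval u : MvPolynomial (Fin n) k →ₐ[k] C).toRingHom.toAlgebra
    haveI : Algebra.Etale (MvPolynomial (Fin n) k) C := het
    show Algebra.FiniteType (MvPolynomial (Fin n) k) C
    infer_instance
  exact RingHom.IsIntegral.to_finite h3 h4

end Groth.Agent.H3.Ked
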