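import Groth.Agent.H3.Hensel3
import Mathlib.Algebra.Polynomial.Inductions

/-!
# Newton's lemma for Henselian pairs (helper3)
-/

set_option autoImplicit false

open Polynomial

namespace Groth.Agent.H3.Kras

/-- Newton's lemma: if `F(a) ∈ F'(a)² J` for a Henselian pair `(B, J)`, then `F` has a root
congruent to `a` modulo `F'(a) J`. -/
theorem newton {B : Type*} [CommRing B] (J : Ideal B) [HenselianRing B J] (F : B[X]) (a e : B)
    (he : e ∈ J) (hF : F.eval a = (F.derivative.eval a) ^ 2 * e) :
    ∃ z ∈ J, F.IsRoot (a + F.derivative.eval a * z) := by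
  set t := F.derivative.eval a with ht
  set P := taylor a F with hP
  have hc0 : P.coeff 0 = t ^ 2 * e := by rw [hP, taylor_coeff_zero]; exact hF
  have hc1 : P.divX.coeff 0 = t := by rw [coeff_divX, hP, taylor_coeff_one]
  set Q := (P.divX.divX).comp (C t * X) with hQ
  set H : B[X] := C e + X + X ^ 2 * Q with hH
  have hH0 : H.eval 0 = e := by simp [hH]
  have hH1 : H.derivative.eval 0 = 1 := by simp [hH, derivative_mul]
  obtain ⟨z, hz, hzJ⟩ := Groth.Agent.H3.exists_root_of_henselianRing J H 0
    (by rw [hH0]; exact he) (by rw [hH1]; exact isUnit_one)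
  rw [sub_zero] at hzJ
  refine ⟨z, hzJ, ?_⟩
  have key : P.comp (C t * X) = C (t ^ 2) * H := by
    conv_lhs => rw [← divX_mul_X_add P, ← divX_mul_X_add P.divX]
    rw [hc0, hc1, hH, hQ]
    simp only [add_comp, mul_comp, X_comp, C_comp, map_mul, map_pow, pow_comp]
    ring
  rw [IsRoot.def, add_comm, ← taylor_eval, ← hP]
  have := congrArg (eval z) key
  rw [eval_comp, eval_mul, eval_mul, eval_C, eval_C, eval_X, IsRoot.def.mp hz, mul_zero] at this
  exact this

end Groth.Agent.H3.Kras
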