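import Mathlib.RingTheory.AdicCompletion.LocalRing
import Mathlib.RingTheory.DiscreteValuationRing.Basic
import Mathlib.RingTheory.Henselian

/-!
# The completion of a discrete valuation ring: basic approximation facts (helper3)
-/

set_option autoImplicit false

open IsLocalRing

namespace Groth.Agent.H3.Kras

section dvr

variable (A : Type*) [CommRing A] [IsDomain A] [IsDiscreteValuationRing A]

local notation "Ah" => AdicCompletion (maximalIdeal A) A

/-- density of `A` in its completion modulo powers of the maximal ideal -/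
theorem exists_sub_mem_pow (c : Ah) (k : ℕ) :
    ∃ a : A, c - algebraMap A Ah a ∈ (maximalIdeal Ah) ^ k := by
  have fg : (maximalIdeal A).FG := (maximalIdeal A).fg_of_isNoetherianRing
  obtain ⟨a, ha⟩ := Submodule.Quotient.mk_surjective _
    (AdicCompletion.eval (maximalIdeal A) A k c)
  refine ⟨a, ?_⟩
  rw [AdicCompletion.maximalIdeal_eq_map, ← Ideal.map_pow, ← Submodule.restrictScalars_mem A,
    ← Ideal.smul_top_eq_map, AdicCompletion.pow_smul_top_eq_ker_eval fg, LinearMap.mem_ker,
    map_sub, AdicCompletion.algebraMap_apply, AdicCompletion.eval_of, sub_eq_zero]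
  exact ha.symm

/-- every nonzero element of the completion divides a power of the uniformizer -/
theorem exists_pow_le_span {e : Ah} (he : e ≠ 0) :
    ∃ k : ℕ, (maximalIdeal Ah) ^ k ≤ Ideal.span {e} := by
  obtain ⟨ϖ, hϖ⟩ := IsDiscreteValuationRing.exists_irreducible A
  have hm : maximalIdeal Ah = Ideal.span {algebraMap A Ah ϖ} := by
    rw [AdicCompletion.maximalIdeal_eq_map, hϖ.maximalIdeal_eq, Ideal.map_span, Set.image_singleton]
  set π := algebraMap A Ah ϖ with hπ
  -- Hausdorff
  have hH : IsHausdorff (maximalIdeal Ah) Ah := inferInstance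
  have hex : ∃ k : ℕ, e ∉ (maximalIdeal Ah) ^ k := by
    by_contra hcon
    push_neg at hcon
    apply he
    apply hH.haus'
    intro n
    rw [SModEq.zero, smul_eq_mul, Ideal.mul_top]
    exact hcon n
  classical
  let k := Nat.find hex
  have hk : e ∉ (maximalIdeal Ah) ^ k := Nat.find_spec hex
  have hk0 : k ≠ 0 := by
    intro h0
    rw [h0, pow_zero, Ideal.one_eq_top] at hk
    exact hk Submodule.mem_top
  obtain ⟨j, hj⟩ := Nat.exists_eq_succ_of_ne_zero hk0
  have hjmem : e ∈ (maximalIdeal Ah) ^ j := by
    by_contra hcon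
    exact Nat.find_min hex (by omega : j < k) hcon
  rw [hm, Ideal.span_singleton_pow, Ideal.mem_span_singleton'] at hjmem
  obtain ⟨u, hu⟩ := hjmem
  have hunit : IsUnit u := by
    by_contra hnu
    have : u ∈ maximalIdeal Ah := (IsLocalRing.mem_maximalIdeal u).mpr hnu
    rw [hm, Ideal.mem_span_singleton'] at this
    obtain ⟨w, hw⟩ := this
    apply hk
    rw [hj, hm, Ideal.span_singleton_pow, Ideal.mem_span_singleton']
    exact ⟨w, by rw [← hu, ← hw, pow_succ]; ring⟩
  refine ⟨j, ?_⟩
  rw [hm, Ideal.span_singleton_pow, Ideal.span_singleton_le_span_singleton]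
  obtain ⟨v, hv⟩ := hunit.exists_right_inv
  exact ⟨v, by rw [← hu]; calc π ^ j = π ^ j * (u * v) := by rw [hv, mul_one]
    _ = u * π ^ j * v := by ring⟩

/-- density of `A` in its completion modulo any nonzero ideal -/
theorem exists_sub_mem_span (c : Ah) {e : Ah} (he : e ≠ 0) :
    ∃ a : A, c - algebraMap A Ah a ∈ Ideal.span {e} := by
  obtain ⟨k, hk⟩ := exists_pow_le_span A he
  obtain ⟨a, ha⟩ := exists_sub_mem_pow A c k
  exact ⟨a, hk ha⟩

end dvr

end Groth.Agent.H3.Kras
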