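import Mathlib.RingTheory.Localization.Integral
import Mathlib.RingTheory.Localization.FractionRing
import Mathlib.FieldTheory.Separable
import Mathlib.Algebra.Polynomial.Monic

/-!
# Bezout identity with denominators; approximation of monic polynomials (helper3)
-/

set_option autoImplicit false

open Polynomial

namespace Groth.Agent.H3.Kras

section bezout

variable (R F : Type*) [CommRing R] [IsDomain R] [Field F] [Algebra R F] [IsFractionRing R F]

theorem exists_bezout (g : R[X]) (hsep : (g.map (algebraMap R F)).Separable) :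
    ∃ (a₀ b₀ : R[X]) (d : R), d ≠ 0 ∧ a₀ * g + b₀ * derivative g = C d := by
  obtain ⟨a, b, hab⟩ := hsep
  obtain ⟨d₁, hd₁⟩ := IsLocalization.integerNormalization_map_to_map (nonZeroDivisors R) a
  obtain ⟨d₂, hd₂⟩ := IsLocalization.integerNormalization_map_to_map (nonZeroDivisors R) b
  set a₁ := IsLocalization.integerNormalization (nonZeroDivisors R) a
  set b₁ := IsLocalization.integerNormalization (nonZeroDivisors R) b
  refine ⟨C (d₂ : R) * a₁, C (d₁ : R) * b₁, (d₁ : R) * (d₂ : R),
    mul_ne_zero (nonZeroDivisors.ne_zero d₁.2) (nonZeroDivisors.ne_zero d₂.2), ?_⟩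
  apply Polynomial.map_injective (algebraMap R F) (IsFractionRing.injective R F)
  rw [derivative_map] at hab
  simp only [Polynomial.map_add, Polynomial.map_mul, Polynomial.map_C, hd₁, hd₂,
    Algebra.smul_def, Polynomial.algebraMap_apply, map_mul, C_mul]
  linear_combination (C (algebraMap R F (d₁ : R)) * C (algebraMap R F (d₂ : R))) * hab

end bezout

section approx

variable {A₀ R : Type*} [CommRing A₀] [Nontrivial A₀] [CommRing R] [Nontrivial R]

theorem exists_approx (ψ : A₀ →+* R) (e : R)
    (hdense : ∀ c : R, ∃ a : A₀, c - ψ a ∈ Ideal.span {e}) (g : R[X]) (hg : g.Monic) :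
    ∃ (gt : A₀[X]) (h₁ : R[X]), gt.Monic ∧ gt.natDegree = g.natDegree ∧
      gt.map ψ = g + C e * h₁ := by
  have hd : ∀ c : R, ∃ (a : A₀) (w : R), c - ψ a = e * w := fun c => by
    obtain ⟨a, ha⟩ := hdense c
    obtain ⟨w, hw⟩ := Ideal.mem_span_singleton'.mp ha
    exact ⟨a, w, by rw [← hw, mul_comm]⟩
  choose a w haw using hd
  set n := g.natDegree with hn
  have hdeg : (∑ i ∈ Finset.range n, C (a (g.coeff i)) * X ^ i : A₀[X]).degree < n := by
    rw [degree_lt_iff_coeff_zero]
    intro m hm
    rw [finset_sum_coeff]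
    refine Finset.sum_eq_zero fun i hi => ?_
    rw [coeff_C_mul_X_pow, if_neg]
    have := Finset.mem_range.mp hi
    omega
  refine ⟨X ^ n + ∑ i ∈ Finset.range n, C (a (g.coeff i)) * X ^ i,
    - ∑ i ∈ Finset.range n, C (w (g.coeff i)) * X ^ i, monic_X_pow_add hdeg,
    ?_, ?_⟩
  · apply natDegree_eq_of_degree_eq_some
    rw [degree_add_eq_left_of_degree_lt (by rwa [degree_X_pow]), degree_X_pow]
  have hgs : g = X ^ n + ∑ i ∈ Finset.range n, C (g.coeff i) * X ^ i := hg.as_sum
  generalize hcf : g.coeff = cf at *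
  rw [hgs]
  simp only [Polynomial.map_add, Polynomial.map_pow, Polynomial.map_X, Polynomial.map_sum,
    Polynomial.map_mul, Polynomial.map_C, mul_neg, Finset.mul_sum]
  rw [add_assoc, ← sub_eq_add_neg, ← Finset.sum_sub_distrib]
  congr 1
  refine Finset.sum_congr rfl fun i _ => ?_
  rw [← mul_assoc, ← C_mul, ← sub_mul, ← C_sub, ← haw, sub_sub_cancel]

end approx

end Groth.Agent.H3.Kras
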