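import Groth.Agent.H3.Kras1
import Groth.Agent.H3.Kras3
import Groth.Agent.H3.Kras4
import Groth.Agent.H3.HPair9
import Mathlib.RingTheory.Polynomial.Tower

/-!
# Approximating a primitive element by a root of a polynomial over a dense subring (helper3)
-/

set_option autoImplicit false

open Polynomial IntermediateField IsLocalRing

namespace Groth.Agent.H3.Kras

universe u

section main

variable (R F M : Type u) [CommRing R] [IsDomain R] [IsLocalRing R]
  [HenselianRing R (maximalIdeal R)]
  [Field F] [Algebra R F] [IsFractionRing R F]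
  [Field M] [Algebra F M] [Algebra R M] [IsScalarTower R F M] [FiniteDimensional F M]
  [Algebra.IsSeparable F M]
  {A₀ : Type*} [CommRing A₀] [Nontrivial A₀] (ψ : A₀ →+* R)

theorem exists_root_primitive
    (hdense : ∀ (c e : R), e ≠ 0 → ∃ a : A₀, c - ψ a ∈ Ideal.span {e})
    (hm : ∃ π ∈ maximalIdeal R, π ≠ 0) :
    ∃ (gt : A₀[X]) (β : M), gt.Monic ∧ gt.natDegree = Module.finrank F M ∧
      aeval β (gt.map ψ) = 0 ∧ F⟮β⟯ = ⊤ := by
  obtain ⟨g, α, hgm, hgdeg, hgmap, hprim⟩ := exists_primitive_monic R F M
  have hsep : (g.map (algebraMap R F)).Separable := by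
    rw [hgmap]; exact Algebra.IsSeparable.isSeparable F α
  obtain ⟨a₀, b₀, d, hd, hbez⟩ := exists_bezout R F g hsep
  obtain ⟨π, hπm, hπ0⟩ := hm
  set e := d ^ 2 * π with he
  have he0 : e ≠ 0 := mul_ne_zero (pow_ne_zero 2 hd) hπ0
  obtain ⟨gt, h₁, hgtm, hgtdeg, hgtmap⟩ := exists_approx ψ e (fun c => hdense c e he0) g hgm
  have hα : aeval α g = 0 := by
    rw [← aeval_map_algebraMap F, hgmap, minpoly.aeval]
  have hαint : IsIntegral R α := ⟨g, hgm, hα⟩
  -- the ring B = R[α]
  let B : Subalgebra R M := Algebra.adjoin R {α}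
  let αB : B := ⟨α, Algebra.subset_adjoin rfl⟩
  haveI hBint : Algebra.IsIntegral R B :=
    Algebra.IsIntegral.adjoin (fun x hx => by rw [Set.mem_singleton_iff.mp hx]; exact hαint)
  haveI hBfin : Module.Finite R B := Algebra.finite_adjoin_simple_of_isIntegral hαint
  set J : Ideal B := (maximalIdeal R).map (algebraMap R B) with hJ
  haveI hHens : HenselianRing B J := henselianRing_map_of_isIntegral (maximalIdeal R) B
  have hJjac : J ≤ Ideal.jacobson ⊥ := hHens.jac
  -- evaluation at αB
  have hev_g : aeval αB g = 0 := by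
    apply Subtype.ext
    rw [← Subalgebra.aeval_coe]
    exact hα
  have hbezB : aeval αB b₀ * aeval αB (derivative g) = algebraMap R B d := by
    have := congrArg (aeval αB) hbez
    rw [map_add, map_mul, map_mul, hev_g, mul_zero, zero_add, aeval_C] at this
    exact this
  set dB := algebraMap R B d with hdB
  set πB := algebraMap R B π with hπB
  have hπJ : πB ∈ J := Ideal.mem_map_of_mem _ hπm
  set Fp : B[X] := (gt.map ψ).map (algebraMap R B) with hFp
  have hFpeq : Fp = (g + C e * h₁).map (algebraMap R B) := by rw [hFp, hgtmap]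
  have hFval : Fp.eval αB = dB ^ 2 * πB * aeval αB h₁ := by
    rw [hFpeq, eval_map_algebraMap, map_add, map_mul, hev_g, zero_add, aeval_C, he, map_mul,
      map_pow]
  set t := Fp.derivative.eval αB with ht
  have htval : t = aeval αB (derivative g) + dB ^ 2 * πB * aeval αB (derivative h₁) := by
    rw [ht, hFpeq, derivative_map, eval_map_algebraMap, derivative_add, derivative_mul,
      derivative_C, zero_mul, zero_add, map_add, map_mul, aeval_C, he, map_mul, map_pow]
  set u := πB * (aeval αB b₀ * dB * aeval αB (derivative h₁)) + 1 with hu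
  have hunit : IsUnit u := (Ideal.mem_jacobson_bot.mp (hJjac hπJ)) _
  have htu : t = aeval αB (derivative g) * u := by
    rw [htval, hu, ← hbezB]
    ring
  obtain ⟨v, hv⟩ := hunit.exists_right_inv
  set e' := v ^ 2 * (aeval αB b₀) ^ 2 * πB * aeval αB h₁ with he'
  have he'J : e' ∈ J := by
    rw [he']
    have : v ^ 2 * (aeval αB b₀) ^ 2 * πB * aeval αB h₁ =
        (v ^ 2 * (aeval αB b₀) ^ 2 * aeval αB h₁) * πB := by ring
    rw [this]
    exact J.mul_mem_left _ hπJ
  have hFt : Fp.eval αB = t ^ 2 * e' := by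
    rw [hFval, htu, he', ← hbezB]
    have : (aeval αB (derivative g) * u) ^ 2 * (v ^ 2 * aeval αB b₀ ^ 2 * πB * aeval αB h₁) =
        (u * v) ^ 2 * ((aeval αB b₀ * aeval αB (derivative g)) ^ 2 * πB * aeval αB h₁) := by ring
    rw [this, hv, one_pow, one_mul]
  obtain ⟨z, hzJ, hroot⟩ := newton J Fp αB e' he'J hFt
  set βB : B := αB + t * z with hβB
  have hdiff : αB - βB ∈ J := by
    rw [hβB, sub_add_cancel_left]
    exact J.neg_mem (J.mul_mem_left _ hzJ)
  -- Nakayama: B = R[βB]
  have hle : (⊤ : Submodule R B) ≤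
      Subalgebra.toSubmodule (Algebra.adjoin R {βB}) ⊔ (maximalIdeal R) • (⊤ : Submodule R B) := by
    intro x _
    have hx : (x : M) ∈ Algebra.adjoin R {α} := x.2
    rw [Algebra.adjoin_singleton_eq_range_aeval] at hx
    obtain ⟨p, hp⟩ := hx
    have hxp : x = aeval αB p := by
      apply Subtype.ext
      rw [← Subalgebra.aeval_coe]
      exact hp.symm
    have h1 : aeval βB p ∈ Subalgebra.toSubmodule (Algebra.adjoin R {βB}) :=
      Polynomial.aeval_mem_adjoin_singleton R βB
    have h2 : x - aeval βB p ∈ (maximalIdeal R) • (⊤ : Submodule R B) := by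
      rw [Ideal.smul_top_eq_map, Submodule.restrictScalars_mem, hxp,
        ← eval_map_algebraMap, ← eval_map_algebraMap]
      exact Ideal.mem_of_dvd J (Polynomial.sub_dvd_eval_sub αB βB _) hdiff
    have : x = aeval βB p + (x - aeval βB p) := by ring
    rw [this]
    exact Submodule.add_mem_sup h1 h2
  have hle' : (⊤ : Submodule R B) ≤ Subalgebra.toSubmodule (Algebra.adjoin R {βB}) :=
    Submodule.le_of_le_smul_of_le_jacobson_bot (Module.Finite.fg_top)
      (IsLocalRing.maximalIdeal_le_jacobson ⊥) hle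
  have hαmem : αB ∈ Algebra.adjoin R {βB} := hle' Submodule.mem_top
  rw [Algebra.adjoin_singleton_eq_range_aeval] at hαmem
  obtain ⟨q, hq0⟩ := hαmem
  have hq : aeval βB q = αB := hq0
  -- conclusion
  refine ⟨gt, (βB : M), hgtm, by rw [hgtdeg, hgdeg], ?_, ?_⟩
  · have h0 : aeval βB (gt.map ψ) = 0 := by
      rw [← eval_map_algebraMap]
      exact hroot
    have := congrArg (Subtype.val) h0
    rw [← Subalgebra.aeval_coe] at this
    exact this
  · rw [eq_top_iff, ← hprim, IntermediateField.adjoin_le_iff, Set.singleton_subset_iff]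
    have hαq : α = aeval (βB : M) q := by
      have := congrArg (Subtype.val) hq
      rw [← Subalgebra.aeval_coe] at this
      exact this.symm
    rw [hαq, ← aeval_map_algebraMap F]
    exact IntermediateField.algebra_adjoin_le_adjoin F _
      (Polynomial.aeval_mem_adjoin_singleton F (βB : M))

end main

end Groth.Agent.H3.Kras
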