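import Groth.Agent.H3.Kras2
import Groth.Agent.H3.Kras5
import Mathlib.RingTheory.AdjoinRoot
import Mathlib.FieldTheory.SeparableDegree

/-!
# Descent of finite separable extensions from the completion of a DVR (helper3)
-/

set_option autoImplicit false

open Polynomial IntermediateField IsLocalRing TensorProduct

namespace Groth.Agent.H3.Kras

universe u

section final

/-- abstract final step: a monic polynomial over `K` whose image over `Kh` is the minimal
polynomial of a primitive element of `M` gives a descent of `M` -/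
theorem exists_descent_of_root (K Kh M : Type u) [Field K] [Field Kh] [Algebra K Kh] [Field M]
    [Algebra Kh M] [FiniteDimensional Kh M] [Algebra.IsSeparable Kh M]
    (gK : K[X]) (hgm : gK.Monic) (hdeg : gK.natDegree = Module.finrank Kh M) (β : M)
    (hroot : aeval β (gK.map (algebraMap K Kh)) = 0) (hprim : Kh⟮β⟯ = ⊤) :
    ∃ (L : Type u) (_ : Field L) (_ : Algebra K L), FiniteDimensional K L ∧
      Algebra.IsSeparable K L ∧ Nonempty ((Kh ⊗[K] L) ≃ₐ[Kh] M) := by
  have hint : IsIntegral Kh β := Algebra.IsIntegral.isIntegral β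
  set gKh := gK.map (algebraMap K Kh) with hgKh
  have hgKhm : gKh.Monic := hgm.map _
  have hgKhdeg : gKh.natDegree = gK.natDegree := natDegree_map _
  have hmin : gKh = minpoly Kh β := by
    apply (eq_of_monic_of_dvd_of_natDegree_le (minpoly.monic hint) hgKhm
      (minpoly.dvd Kh β hroot) ?_)
    rw [← IntermediateField.adjoin.finrank hint, hprim, IntermediateField.finrank_top', hgKhdeg,
      hdeg]
  have hirrKh : Irreducible gKh := hmin ▸ minpoly.irreducible hint
  have hsepKh : gKh.Separable := hmin ▸ Algebra.IsSeparable.isSeparable Kh β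
  have hirr : Irreducible gK :=
    Monic.irreducible_of_irreducible_map (algebraMap K Kh) gK hgm hirrKh
  have hsep : gK.Separable := (separable_map (algebraMap K Kh)).mp hsepKh
  haveI : Fact (Irreducible gK) := ⟨hirr⟩
  have hg0 : gK ≠ 0 := hgm.ne_zero
  let L := AdjoinRoot gK
  haveI hfd : FiniteDimensional K L := (AdjoinRoot.powerBasis hg0).finite
  have hfr : Module.finrank K L = gK.natDegree := by
    rw [(AdjoinRoot.powerBasis hg0).finrank, AdjoinRoot.powerBasis_dim]
  -- separability of L
  have hLsep : Algebra.IsSeparable K L := by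
    have htop : K⟮AdjoinRoot.root gK⟯ = ⊤ :=
      IntermediateField.adjoin_eq_top_of_algebra K _ AdjoinRoot.adjoinRoot_eq_top
    have hrs : IsSeparable K (AdjoinRoot.root gK) := by
      rw [IsSeparable, AdjoinRoot.minpoly_root hg0, hgm.leadingCoeff, inv_one, map_one, mul_one]
      exact hsep
    haveI h1 : Algebra.IsSeparable K K⟮AdjoinRoot.root gK⟯ :=
      (IntermediateField.isSeparable_adjoin_simple_iff_isSeparable K L).2 hrs
    rw [htop] at h1
    exact AlgEquiv.Algebra.isSeparable (IntermediateField.topEquiv (F := K) (E := L))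
  refine ⟨L, inferInstance, inferInstance, hfd, hLsep, ?_⟩
  -- the isomorphism
  letI : Algebra K M := ((algebraMap Kh M).comp (algebraMap K Kh)).toAlgebra
  haveI : IsScalarTower K Kh M := IsScalarTower.of_algebraMap_eq' rfl
  have hrootK : aeval β gK = 0 := by
    rw [← aeval_map_algebraMap Kh]; exact hroot
  let ψL : L →ₐ[K] M := AdjoinRoot.liftAlgHom gK (Algebra.ofId K M) β hrootK
  let φ : Kh ⊗[K] L →ₐ[Kh] M :=
    Algebra.TensorProduct.lift (Algebra.ofId Kh M) ψL (fun _ _ => Commute.all _ _)
  have hφβ : φ (1 ⊗ₜ AdjoinRoot.root gK) = β := by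
    rw [Algebra.TensorProduct.lift_tmul, map_one, one_mul]
    exact AdjoinRoot.liftAlgHom_root gK (Algebra.ofId K M) β hrootK
  have hsurj : Function.Surjective φ := by
    rw [← AlgHom.range_eq_top, eq_top_iff]
    have hadj : Algebra.adjoin Kh {β} = ⊤ := by
      rw [← IntermediateField.adjoin_simple_toSubalgebra_of_isAlgebraic hint.isAlgebraic, hprim,
        IntermediateField.top_toSubalgebra]
    rw [← hadj]
    apply Algebra.adjoin_le
    rintro _ rfl
    exact ⟨_, hφβ⟩
  have hfrank : Module.finrank Kh (Kh ⊗[K] L) = Module.finrank Kh M := by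
    rw [Module.finrank_baseChange, hfr, hdeg]
  have hinj : Function.Injective φ :=
    (LinearMap.injective_iff_surjective_of_finrank_eq_finrank (f := φ.toLinearMap) hfrank).mpr
      hsurj
  exact ⟨AlgEquiv.ofBijective φ ⟨hinj, hsurj⟩⟩

end final

end Groth.Agent.H3.Kras
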