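import Groth.Agent.H3.Kras6

/-!
# Finite separable extensions of the fraction field of the completion of a DVR descend (helper3)
-/

set_option autoImplicit false

open Polynomial IntermediateField IsLocalRing TensorProduct

namespace Groth.Agent.H3.Kras

universe u

theorem descent_dvr (A K : Type u) [CommRing A] [IsDomain A]
    [IsDiscreteValuationRing A] [Field K] [Algebra A K] [IsFractionRing A K]
    (Kh : Type u) [Field Kh] [Algebra (AdicCompletion (IsLocalRing.maximalIdeal A) A) Kh]
    [IsFractionRing (AdicCompletion (IsLocalRing.maximalIdeal A) A) Kh] [Algebra A Kh] [Algebra K Kh]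
    [IsScalarTower A (AdicCompletion (IsLocalRing.maximalIdeal A) A) Kh] [IsScalarTower A K Kh]
    (M : Type u) [Field M] [Algebra Kh M] [FiniteDimensional Kh M] [Algebra.IsSeparable Kh M] :
    ∃ (L : Type u) (_ : Field L) (_ : Algebra K L), FiniteDimensional K L ∧ Algebra.IsSeparable K L ∧
      Nonempty ((Kh ⊗[K] L) ≃ₐ[Kh] M) := by
  set Ah := AdicCompletion (IsLocalRing.maximalIdeal A) A with hAh
  haveI : IsDomain Ah := (IsFractionRing.injective Ah Kh).isDomain (algebraMap Ah Kh)
  letI : Algebra Ah M := ((algebraMap Kh M).comp (algebraMap Ah Kh)).toAlgebra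
  haveI : IsScalarTower Ah Kh M := IsScalarTower.of_algebraMap_eq' rfl
  -- injectivity of A → Ah
  have hinj : Function.Injective (algebraMap A Ah) := by
    have h1 : Function.Injective (algebraMap A Kh) := by
      rw [IsScalarTower.algebraMap_eq A K Kh]
      exact (algebraMap K Kh).injective.comp (IsFractionRing.injective A K)
    rw [IsScalarTower.algebraMap_eq A Ah Kh] at h1
    exact Function.Injective.of_comp h1
  have hm : ∃ π ∈ maximalIdeal Ah, π ≠ 0 := by
    obtain ⟨ϖ, hϖ⟩ := IsDiscreteValuationRing.exists_irreducible A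
    refine ⟨algebraMap A Ah ϖ, ?_, ?_⟩
    · rw [AdicCompletion.maximalIdeal_eq_map]
      exact Ideal.mem_map_of_mem _ ((IsLocalRing.mem_maximalIdeal ϖ).mpr hϖ.not_isUnit)
    · rw [Ne, ← map_zero (algebraMap A Ah)]
      exact fun h => hϖ.ne_zero (hinj h)
  obtain ⟨gt, β, hgtm, hgtdeg, hroot, hprim⟩ :=
    exists_root_primitive Ah Kh M (algebraMap A Ah)
      (fun c e he => exists_sub_mem_span A c he) hm
  refine exists_descent_of_root K Kh M (gt.map (algebraMap A K)) (hgtm.map _) ?_ β ?_ hprim
  · rw [hgtm.natDegree_map, hgtdeg]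
  · rw [Polynomial.map_map, ← IsScalarTower.algebraMap_eq, IsScalarTower.algebraMap_eq A Ah Kh,
      ← Polynomial.map_map, aeval_map_algebraMap]
    exact hroot

end Groth.Agent.H3.Kras
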