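import Groth.Agent.H3.Kras1
import Groth.Agent.H3.Kras3
import Groth.Agent.H3.Kras4
import Groth.Agent.H3.HInt
import Mathlib

/-!
# A finite DVR extension of a complete DVR is determined by a truncation (helper3)
-/

set_option autoImplicit false

open Polynomial IntermediateField IsLocalRing

namespace Groth.Agent.H3.Kras8

universe u

theorem algebraMap_injective_of_dvr (A C : Type*) [CommRing A] [IsDomain A]
    [IsDiscreteValuationRing A] [CommRing C] [IsDomain C] [IsDiscreteValuationRing C]
    [Algebra A C] [Algebra.IsIntegral A C] : Function.Injective (algebraMap A C) := by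
  rw [RingHom.injective_iff_ker_eq_bot]
  by_contra hne
  have hprime : (RingHom.ker (algebraMap A C)).IsPrime := RingHom.ker_isPrime _
  have hmax : (RingHom.ker (algebraMap A C)).IsMaximal := hprime.isMaximal hne
  obtain ⟨y, hy⟩ := IsDiscreteValuationRing.exists_irreducible C
  have hlt : (⊥ : Ideal C).comap (algebraMap A C) < (maximalIdeal C).comap (algebraMap A C) :=
    Ideal.comap_lt_comap_of_integral_mem_sdiff bot_le
      ⟨(mem_maximalIdeal y).2 hy.not_isUnit, fun h => hy.ne_zero ((Ideal.mem_bot).1 h)⟩
      (Algebra.IsIntegral.isIntegral y)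
  have hlt' : RingHom.ker (algebraMap A C) < (maximalIdeal C).comap (algebraMap A C) := hlt
  have htop := hmax.eq_of_le (Ideal.comap_ne_top _ (maximalIdeal.isMaximal C).ne_top) hlt'.le
  exact hlt'.ne htop

section main

variable (A : Type u) [CommRing A] [IsDomain A] [IsDiscreteValuationRing A]
  [IsAdicComplete (IsLocalRing.maximalIdeal A) A] (ϖ : A) (hϖ : Irreducible ϖ)
  (K : Type u) [Field K] [Algebra A K] [IsFractionRing A K]
  (L : Type u) [Field L] [Algebra K L] [Algebra A L] [IsScalarTower A K L]
  [FiniteDimensional K L] [Algebra.IsSeparable K L]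
  (B : Type u) [CommRing B] [Algebra A B] [Algebra B L] [IsScalarTower A B L]
  [IsIntegralClosure B A L]

include hϖ in
theorem nonempty_algEquiv_of_quotient
    (g : A[X]) (α : L) (hgm : g.Monic) (hgmap : g.map (algebraMap A K) = minpoly K α)
    (hprim : K⟮α⟯ = ⊤)
    (a₀ b₀ : A[X]) (u : Aˣ) (j : ℕ) (hbez : a₀ * g + b₀ * derivative g = C ((u : A) * ϖ ^ j))
    (C' : Type u) [CommRing C'] [IsDomain C'] [IsDiscreteValuationRing C'] [Algebra A C']
    [Module.Finite A C']
    (m : ℕ) (hm : 2 * j + 1 < m)
    (ψ : (B ⧸ Ideal.span {algebraMap A B (ϖ ^ m)}) ≃ₐ[A]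
      (C' ⧸ Ideal.span {algebraMap A C' (ϖ ^ m)})) :
    Nonempty (B ≃ₐ[A] C') := by
  classical
  haveI hAh : HenselianLocalRing A :=
    Groth.Agent.H3.henselianLocalRing_of_henselianRing_maximalIdeal A
  haveI hCint : Algebra.IsIntegral A C' := Algebra.IsIntegral.of_finite A C'
  haveI hCh : HenselianLocalRing C' :=
    Groth.Agent.H3.henselianLocalRing_of_isIntegral_of_isLocalRing A C'
  haveI hloc : IsLocalHom (algebraMap A C') := Groth.Agent.H3.isLocalHom_of_isIntegral A C'
  have hinjAC : Function.Injective (algebraMap A C') := algebraMap_injective_of_dvr A C'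
  haveI : FaithfulSMul A C' := (faithfulSMul_iff_algebraMap_injective A C').mpr hinjAC
  haveI hBint : Algebra.IsIntegral A B := IsIntegralClosure.isIntegral_algebra A L
  haveI hBdom : IsDomain B := (IsIntegralClosure.algebraMap_injective B A L).isDomain _
  -- the element αB
  have hαroot : aeval α g = 0 := by
    rw [← aeval_map_algebraMap K, hgmap, minpoly.aeval]
  have hαint : IsIntegral A α := ⟨g, hgm, hαroot⟩
  set αB : B := IsIntegralClosure.mk' B α hαint with hαB
  have hαBmap : algebraMap B L αB = α := IsIntegralClosure.algebraMap_mk' B α hαint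
  have hαBroot : aeval αB g = 0 := by
    apply IsIntegralClosure.algebraMap_injective B A L
    rw [map_zero, ← aeval_algebraMap_apply, hαBmap, hαroot]
  -- notation
  set ϖC : C' := algebraMap A C' ϖ with hϖC
  have hϖCm : ϖC ∈ maximalIdeal C' := by
    rw [mem_maximalIdeal, mem_nonunits_iff]
    intro h
    exact hϖ.not_isUnit (isUnit_of_map_unit (algebraMap A C') ϖ h)
  -- lift of ψ αB
  obtain ⟨θ', hθ'⟩ := Ideal.Quotient.mk_surjective (ψ (Ideal.Quotient.mk _ αB))
  have hgθ' : aeval θ' g ∈ Ideal.span {algebraMap A C' (ϖ ^ m)} := by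
    rw [← Ideal.Quotient.eq_zero_iff_mem]
    have h1 : (Ideal.Quotient.mk (Ideal.span {algebraMap A C' (ϖ ^ m)})) (aeval θ' g)
        = aeval ((Ideal.Quotient.mk (Ideal.span {algebraMap A C' (ϖ ^ m)})) θ') g :=
      (aeval_algHom_apply (Ideal.Quotient.mkₐ A (Ideal.span {algebraMap A C' (ϖ ^ m)})) θ' g).symm
    have h3 : aeval (ψ ((Ideal.Quotient.mk (Ideal.span {algebraMap A B (ϖ ^ m)})) αB)) g
        = ψ (aeval ((Ideal.Quotient.mk (Ideal.span {algebraMap A B (ϖ ^ m)})) αB) g) :=
      aeval_algHom_apply ψ.toAlgHom ((Ideal.Quotient.mk (Ideal.span {algebraMap A B (ϖ ^ m)})) αB) g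
    rw [h1, hθ', h3]
    have h2 : aeval ((Ideal.Quotient.mk (Ideal.span {algebraMap A B (ϖ ^ m)})) αB) g
        = (Ideal.Quotient.mk (Ideal.span {algebraMap A B (ϖ ^ m)})) (aeval αB g) :=
      aeval_algHom_apply (Ideal.Quotient.mkₐ A (Ideal.span {algebraMap A B (ϖ ^ m)})) αB g
    rw [h2, hαBroot, map_zero, map_zero]
  obtain ⟨c₁, hc₁⟩ := Ideal.mem_span_singleton'.mp hgθ'
  rw [map_pow, ← hϖC] at hc₁
  -- Bezout at θ'
  set t := aeval θ' (derivative g) with ht
  have hbezθ : aeval θ' a₀ * aeval θ' g + aeval θ' b₀ * t = algebraMap A C' (u : A) * ϖC ^ j := by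
    have := congrArg (aeval θ') hbez
    rw [map_add, map_mul, map_mul, aeval_C, map_mul, map_pow] at this
    exact this
  set uC : C' := algebraMap A C' (u : A) with huC
  have huCunit : IsUnit uC := (u.isUnit).map (algebraMap A C')
  set v : C' := uC - aeval θ' a₀ * c₁ * ϖC ^ (m - j) with hv
  have hvunit : IsUnit v := by
    by_contra hnv
    have hvm : v ∈ maximalIdeal C' := (mem_maximalIdeal v).2 hnv
    have hpm : aeval θ' a₀ * c₁ * ϖC ^ (m - j) ∈ maximalIdeal C' :=
      Ideal.mul_mem_left _ _ (Ideal.pow_mem_of_mem _ hϖCm _ (by omega))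
    have : uC ∈ maximalIdeal C' := by
      have := Ideal.add_mem _ hvm hpm
      rwa [hv, sub_add_cancel] at this
    exact (mem_maximalIdeal uC).1 this huCunit
  have hbt : aeval θ' b₀ * t = ϖC ^ j * v := by
    have hmj : ϖC ^ m = ϖC ^ j * ϖC ^ (m - j) := by rw [← pow_add]; congr 1; omega
    rw [hv]
    rw [← hc₁] at hbezθ
    linear_combination hbezθ - (aeval θ' a₀ * c₁) * hmj
  obtain ⟨vi, hvi⟩ := hvunit.exists_right_inv
  set w : C' := aeval θ' b₀ * vi with hw
  have htw : ϖC ^ j = t * w := by
    rw [hw]
    linear_combination (-vi) * hbt - (ϖC ^ j) * hvi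
  set e : C' := w ^ 2 * ϖC ^ (m - 2 * j) * c₁ with he
  have hem : e ∈ maximalIdeal C' := by
    rw [he]
    exact Ideal.mul_mem_right _ _ (Ideal.mul_mem_left _ _ (Ideal.pow_mem_of_mem _ hϖCm _ (by omega)))
  set G : C'[X] := g.map (algebraMap A C') with hG
  have hGe : G.eval θ' = aeval θ' g := by rw [hG, eval_map_algebraMap]
  have hGd : G.derivative.eval θ' = t := by rw [hG, derivative_map, eval_map_algebraMap]
  have hF : G.eval θ' = (G.derivative.eval θ') ^ 2 * e := by
    rw [hGe, hGd, ← hc₁, he]
    have hm2 : ϖC ^ m = (ϖC ^ j) ^ 2 * ϖC ^ (m - 2 * j) := by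
      rw [← pow_mul, ← pow_add]; congr 1; omega
    rw [hm2, htw]
    ring
  obtain ⟨z, hz, hroot⟩ := Groth.Agent.H3.Kras.newton (maximalIdeal C') G θ' e hem hF
  set θ'' : C' := θ' + G.derivative.eval θ' * z with hθ''
  have hθ''root : aeval θ'' g = 0 := by
    rw [← eval_map_algebraMap]; exact hroot
  -- the fraction field of C'
  let M := FractionRing C'
  have hinjAM : Function.Injective (algebraMap A M) := by
    rw [IsScalarTower.algebraMap_eq A C' M]
    exact (IsFractionRing.injective C' M).comp hinjAC
  letI algKM : Algebra K M := (IsFractionRing.lift hinjAM).toAlgebra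
  haveI : IsScalarTower A K M :=
    IsScalarTower.of_algebraMap_eq (fun a => (IsFractionRing.lift_algebraMap hinjAM a).symm)
  -- the embedding σ
  have hint : IsIntegral K α := Algebra.IsIntegral.isIntegral α
  let pb₀ := IntermediateField.adjoin.powerBasis hint
  let eL : K⟮α⟯ ≃ₐ[K] L := (IntermediateField.equivOfEq hprim).trans IntermediateField.topEquiv
  let pb := pb₀.map eL
  have hpbgen : pb.gen = α := by
    simp [pb, pb₀, eL]
  have hmin : minpoly K pb.gen = g.map (algebraMap A K) := by rw [hpbgen, hgmap]
  set y : M := algebraMap C' M θ'' with hy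
  have hyroot : aeval y (minpoly K pb.gen) = 0 := by
    rw [hmin, aeval_map_algebraMap, hy, aeval_algebraMap_apply, hθ''root, map_zero]
  let σ : L →ₐ[K] M := pb.lift y hyroot
  have hσinj : Function.Injective σ := σ.toRingHom.injective
  -- dimension count
  haveI hBfr : IsFractionRing B L := IsIntegralClosure.isFractionRing_of_finite_extension A K L B
  haveI hBfin : Module.Finite A B := IsIntegralClosure.finite A K L B
  have hrankB : Module.finrank K L = Module.finrank A B := IsFractionRing.finrank_eq A K B L
  have hrankC : Module.finrank K M = Module.finrank A C' := IsFractionRing.finrank_eq A K C' M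
  haveI hMfin : Module.Finite K M :=
    Module.Finite.of_isLocalization A C' (nonZeroDivisors A)
  haveI hBfree : Module.Free A B := by
    haveI : Module.IsTorsionFree A B := by
      have hinjAB : Function.Injective (algebraMap A B) := by
        have h1 : Function.Injective (algebraMap A L) := by
          rw [IsScalarTower.algebraMap_eq A K L]
          exact (algebraMap K L).injective.comp (IsFractionRing.injective A K)
        rw [IsScalarTower.algebraMap_eq A B L] at h1
        exact Function.Injective.of_comp h1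
      haveI : FaithfulSMul A B := (faithfulSMul_iff_algebraMap_injective A B).mpr hinjAB
      infer_instance
    infer_instance
  have hle : Module.finrank A C' ≤ Module.finrank A B := by
    let bB := Module.Free.chooseBasis A B
    have hsurjc : ∀ i, ∃ c : C', Ideal.Quotient.mk _ c = ψ (Ideal.Quotient.mk _ (bB i)) :=
      fun i => Ideal.Quotient.mk_surjective _
    choose cc hcc using hsurjc
    have hspan : Submodule.span A (Set.range cc) = ⊤ := by
      rw [eq_top_iff]
      apply Submodule.le_of_le_smul_of_le_jacobson_bot (I := maximalIdeal A)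
        (Module.finite_def.mp inferInstance) (IsLocalRing.maximalIdeal_le_jacobson ⊥)
      intro c _
      obtain ⟨bq, hbq⟩ := ψ.surjective (Ideal.Quotient.mk _ c)
      obtain ⟨b, rfl⟩ := Ideal.Quotient.mk_surjective bq
      have hb := bB.sum_repr b
      set c₀ : C' := ∑ i, bB.repr b i • cc i with hc₀
      have hc₀mem : c₀ ∈ Submodule.span A (Set.range cc) :=
        Submodule.sum_mem _ (fun i _ => Submodule.smul_mem _ _ (Submodule.subset_span ⟨i, rfl⟩))
      have hdiff : c - c₀ ∈ Ideal.span {algebraMap A C' (ϖ ^ m)} := by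
        rw [← Ideal.Quotient.eq, ← hbq, ← hb, map_sum, map_sum, hc₀, map_sum]
        apply Finset.sum_congr rfl
        intro i _
        rw [Algebra.smul_def, Algebra.smul_def, map_mul, map_mul, map_mul, hcc]
        congr 1
        rw [← Ideal.Quotient.algebraMap_eq, ← Ideal.Quotient.algebraMap_eq,
          ← IsScalarTower.algebraMap_apply, ← IsScalarTower.algebraMap_apply, ψ.commutes]
      obtain ⟨r, hr⟩ := Ideal.mem_span_singleton'.mp hdiff
      have hcm : c - c₀ ∈ maximalIdeal A • (⊤ : Submodule A C') := by
        rw [← hr, mul_comm, ← Algebra.smul_def]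
        apply Submodule.smul_mem_smul _ Submodule.mem_top
        rw [mem_maximalIdeal, mem_nonunits_iff]
        intro h
        exact hϖ.not_isUnit ((isUnit_pow_iff (by omega)).mp h)
      have : c = c₀ + (c - c₀) := by ring
      rw [this]
      exact Submodule.add_mem_sup hc₀mem hcm
    calc Module.finrank A C' = Module.finrank A (⊤ : Submodule A C') := (finrank_top A C').symm
      _ = Module.finrank A (Submodule.span A (Set.range cc)) := by rw [hspan]
      _ ≤ (Set.range cc).toFinset.card := finrank_span_le_card _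
      _ ≤ Fintype.card (Module.Free.ChooseBasisIndex A B) := by
          rw [Set.toFinset_range]; exact Finset.card_image_le.trans (by simp)
      _ = Module.finrank A B := (Module.finrank_eq_card_chooseBasisIndex A B).symm
  have hσsurj : Function.Surjective σ := by
    have hle' : Module.finrank K M ≤ Module.finrank K L := by rw [hrankB, hrankC]; exact hle
    have hge : Module.finrank K L ≤ Module.finrank K M :=
      LinearMap.finrank_le_finrank_of_injective (f := σ.toLinearMap) hσinj
    exact (LinearMap.injective_iff_surjective_of_finrank_eq_finrank (f := σ.toLinearMap)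
      (le_antisymm hge hle')).mp hσinj
  -- the map B → C'
  letI algBM : Algebra B M := (σ.toRingHom.comp (algebraMap B L)).toAlgebra
  have halgBM : ∀ b : B, algebraMap B M b = σ (algebraMap B L b) := fun _ => rfl
  haveI : IsScalarTower A B M := IsScalarTower.of_algebraMap_eq (fun a => by
    rw [halgBM, ← IsScalarTower.algebraMap_apply A B L, IsScalarTower.algebraMap_apply A K L,
      AlgHom.commutes, ← IsScalarTower.algebraMap_apply])
  haveI : IsIntegralClosure C' A M := IsIntegralClosure.of_isIntegrallyClosed C' A M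
  let φ : B →ₐ[A] C' := IsIntegralClosure.lift A C' M
  have hφ : ∀ b, algebraMap C' M (φ b) = σ (algebraMap B L b) := fun b =>
    IsIntegralClosure.algebraMap_lift A C' M b
  have hφinj : Function.Injective φ := by
    intro b₁ b₂ h
    apply IsIntegralClosure.algebraMap_injective B A L
    apply hσinj
    rw [← hφ, ← hφ, h]
  have hφsurj : Function.Surjective φ := by
    intro c
    obtain ⟨l, hl⟩ := hσsurj (algebraMap C' M c)
    have hcint : IsIntegral A c := Algebra.IsIntegral.isIntegral c
    obtain ⟨P, hPm, hPc⟩ := hcint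
    have hlint : IsIntegral A l := by
      refine ⟨P, hPm, ?_⟩
      apply hσinj
      have h1 : σ (aeval l P) = aeval (σ l) P := by
        have := aeval_algHom_apply (σ.restrictScalars A) l P
        exact this.symm
      rw [← aeval_def, h1, hl, aeval_algebraMap_apply, aeval_def, hPc, map_zero, map_zero]
    obtain ⟨b, hb⟩ := (IsIntegralClosure.isIntegral_iff (A := B)).mp hlint
    refine ⟨b, ?_⟩
    apply IsFractionRing.injective C' M
    rw [hφ, hb, hl]
  exact ⟨AlgEquiv.ofBijective φ ⟨hφinj, hφsurj⟩⟩

end main

end Groth.Agent.H3.Kras8
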