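import Mathlib

/-!
# The lifting lemma: charts and polynomial identities (helper3)
-/

set_option autoImplicit false
universe u

namespace Groth.Agent.H3.Lift

open MvPolynomial

variable {R : Type u} [CommRing R] {n m : ℕ}

/-- The inclusion `R[x] → R[x, z]`. -/
noncomputable def ι : MvPolynomial (Fin n) R →ₐ[R] MvPolynomial (Fin n ⊕ Fin m) R :=
  rename Sum.inl

/-- The relation `f_ℓ - π z_ℓ`. -/
noncomputable def Lrel (π : R) (f : Fin m → MvPolynomial (Fin n) R) (ℓ : Fin m) :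
    MvPolynomial (Fin n ⊕ Fin m) R :=
  ι (f ℓ) - C π * X (Sum.inr ℓ)

/-- The relation `t z_ℓ - Σ h_j z_{rows j} - π g`. -/
noncomputable def Mrel (π : R) {c : ℕ} (rows : Fin c → Fin m) (t : MvPolynomial (Fin n) R)
    (h : Fin c → MvPolynomial (Fin n) R) (g : MvPolynomial (Fin n) R) (ℓ : Fin m) :
    MvPolynomial (Fin n ⊕ Fin m) R :=
  ι t * X (Sum.inr ℓ) - ∑ j, ι (h j) * X (Sum.inr (rows j)) - C π * ι g

theorem key_identity (π : R) (f : Fin m → MvPolynomial (Fin n) R) {c : ℕ} (rows : Fin c → Fin m)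
    (t : MvPolynomial (Fin n) R) (h : Fin c → MvPolynomial (Fin n) R) (g : MvPolynomial (Fin n) R)
    (ℓ : Fin m) (H1 : t * f ℓ = ∑ j, h j * f (rows j) + C (π ^ 2) * g) :
    (ι t : MvPolynomial (Fin n ⊕ Fin m) R) * Lrel π f ℓ + C π * Mrel π rows t h g ℓ =
      ∑ j, ι (h j) * Lrel π f (rows j) := by
  have h1 := congrArg (ι (m := m)) H1
  simp only [map_mul, map_add, map_sum] at h1
  have h2 : (ι (C (π ^ 2)) : MvPolynomial (Fin n ⊕ Fin m) R) = C π * C π := by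
    unfold ι; rw [rename_C, pow_two, C_mul]
  rw [h2] at h1
  have e1 : ∑ j, (ι (h j) : MvPolynomial (Fin n ⊕ Fin m) R) * Lrel π f (rows j) =
      ∑ j, ι (h j) * ι (f (rows j)) - C π * ∑ j, ι (h j) * X (Sum.inr (rows j)) := by
    unfold Lrel
    rw [Finset.mul_sum, ← Finset.sum_sub_distrib]
    exact Finset.sum_congr rfl fun j _ => by ring
  rw [e1]
  unfold Lrel Mrel
  linear_combination h1

/-- Chart data. -/
structure Chart (π : R) (f : Fin m → MvPolynomial (Fin n) R) where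
  c : ℕ
  rows : Fin c ↪ Fin m
  cols : Fin c ↪ Fin n
  t : MvPolynomial (Fin n) R
  h : Fin m → Fin c → MvPolynomial (Fin n) R
  g : Fin m → MvPolynomial (Fin n) R
  H1 : ∀ ℓ, t * f ℓ = ∑ j, h ℓ j * f (rows j) + C (π ^ 2) * g ℓ
  H2h : ∀ j j', h (rows j) j' = if j' = j then t else 0
  H2g : ∀ j, g (rows j) = 0

namespace Chart

variable {π : R} {f : Fin m → MvPolynomial (Fin n) R} (ch : Chart π f)

/-- The Jacobian minor of the chart. -/
noncomputable def minor : MvPolynomial (Fin n) R :=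
  Matrix.det (Matrix.of fun j j' : Fin ch.c => pderiv (ch.cols j') (f (ch.rows j)))

/-- The relation `M_ℓ` of the chart. -/
noncomputable def M (ℓ : Fin m) : MvPolynomial (Fin n ⊕ Fin m) R :=
  Mrel π ch.rows ch.t (ch.h ℓ) (ch.g ℓ) ℓ

theorem M_rows (j : Fin ch.c) : ch.M (ch.rows j) = 0 := by
  classical
  unfold M Mrel
  rw [ch.H2g, map_zero, mul_zero, sub_zero]
  simp only [ch.H2h]
  rw [Finset.sum_eq_single j]
  · rw [if_pos rfl, sub_self]
  · intro j' _ hj'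
    rw [if_neg hj', map_zero, zero_mul]
  · intro h; exact (h (Finset.mem_univ j)).elim

/-- The ideal of leading relations of the chart. -/
noncomputable def lead : Ideal (MvPolynomial (Fin n ⊕ Fin m) R) :=
  Ideal.span (Set.range (fun j => Lrel π f (ch.rows j)) ∪ Set.range ch.M)

theorem L_rows_mem (j : Fin ch.c) : Lrel π f (ch.rows j) ∈ ch.lead :=
  Ideal.subset_span (Or.inl ⟨j, rfl⟩)

theorem M_mem (ℓ : Fin m) : ch.M ℓ ∈ ch.lead :=
  Ideal.subset_span (Or.inr ⟨ℓ, rfl⟩)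

/-- (F1) `t L_ℓ` lies in the ideal of leading relations. -/
theorem t_mul_L_mem (ℓ : Fin m) : (ι ch.t : MvPolynomial (Fin n ⊕ Fin m) R) * Lrel π f ℓ ∈ ch.lead := by
  have h1 := key_identity π f ch.rows ch.t (ch.h ℓ) (ch.g ℓ) ℓ (ch.H1 ℓ)
  have h2 : (ι ch.t : MvPolynomial (Fin n ⊕ Fin m) R) * Lrel π f ℓ =
      ∑ j, ι (ch.h ℓ j) * Lrel π f (ch.rows j) - C π * ch.M ℓ := by
    unfold M; rw [← h1]; ring
  rw [h2]
  exact Ideal.sub_mem _ (Ideal.sum_mem _ fun j _ => Ideal.mul_mem_left _ _ (ch.L_rows_mem j))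
    (Ideal.mul_mem_left _ _ (ch.M_mem ℓ))

/-- (F2) `t π M'` lies in the ideal of leading relations, for any relation `M'` of the same
shape. -/
theorem t_mul_pi_mul_M_mem {c' : ℕ} (rows' : Fin c' → Fin m) (t' : MvPolynomial (Fin n) R)
    (h' : Fin c' → MvPolynomial (Fin n) R) (g' : MvPolynomial (Fin n) R) (ℓ₀ : Fin m)
    (H1' : t' * f ℓ₀ = ∑ j', h' j' * f (rows' j') + C (π ^ 2) * g') :
    (ι ch.t : MvPolynomial (Fin n ⊕ Fin m) R) * (C π * Mrel π rows' t' h' g' ℓ₀) ∈ ch.lead := by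
  have h1 := key_identity π f rows' t' h' g' ℓ₀ H1'
  have h2 : (ι ch.t : MvPolynomial (Fin n ⊕ Fin m) R) * (C π * Mrel π rows' t' h' g' ℓ₀) =
      ∑ j', ι (h' j') * (ι ch.t * Lrel π f (rows' j')) - ι t' * (ι ch.t * Lrel π f ℓ₀) := by
    have : C π * Mrel π rows' t' h' g' ℓ₀ =
        ∑ j', (ι (h' j') : MvPolynomial (Fin n ⊕ Fin m) R) * Lrel π f (rows' j') -
          ι t' * Lrel π f ℓ₀ := by rw [← h1]; ring
    rw [this, mul_sub, Finset.mul_sum]
    congr 1
    · exact Finset.sum_congr rfl fun j' _ => by ring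
    · ring
  rw [h2]
  exact Ideal.sub_mem _ (Ideal.sum_mem _ fun j' _ => Ideal.mul_mem_left _ _ (ch.t_mul_L_mem _))
    (Ideal.mul_mem_left _ _ (ch.t_mul_L_mem _))

end Chart

end Groth.Agent.H3.Lift
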