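import Groth.Agent.H3.Lift1

/-!
# The lifting lemma: the congruence modulo `π` (helper3)
-/

set_option autoImplicit false
universe u

namespace Groth.Agent.H3.Lift

open MvPolynomial

variable {R : Type u} [CommRing R] {n m : ℕ}

namespace Chart

variable {π : R} {f : Fin m → MvPolynomial (Fin n) R} (ch : Chart π f)

/-- The coefficients `γ_j`. -/
noncomputable def gam {c' : ℕ} (rows' : Fin c' → Fin m) (t' : MvPolynomial (Fin n) R)
    (h' : Fin c' → MvPolynomial (Fin n) R) (ℓ₀ : Fin m) (j : Fin ch.c) : MvPolynomial (Fin n) R :=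
  t' * ch.h ℓ₀ j - ∑ j', h' j' * ch.h (rows' j') j

theorem sum_gam_mul {c' : ℕ} (rows' : Fin c' → Fin m) (t' : MvPolynomial (Fin n) R)
    (h' : Fin c' → MvPolynomial (Fin n) R) (ℓ₀ : Fin m) {A : Type*} [CommRing A]
    (θ : MvPolynomial (Fin n) R →+* A) (y : Fin ch.c → A) :
    ∑ j, θ (ch.gam rows' t' h' ℓ₀ j) * y j =
      θ t' * ∑ j, θ (ch.h ℓ₀ j) * y j - ∑ j', θ (h' j') * ∑ j, θ (ch.h (rows' j') j) * y j := by
  unfold gam
  simp only [map_sub, map_mul, map_sum, sub_mul, Finset.sum_sub_distrib, Finset.mul_sum,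
    Finset.sum_mul]
  congr 1
  · exact Finset.sum_congr rfl fun j _ => by ring
  · rw [Finset.sum_comm]
    exact Finset.sum_congr rfl fun j' _ => Finset.sum_congr rfl fun j _ => by ring

theorem sum_gam_mul_f {c' : ℕ} (rows' : Fin c' → Fin m) (t' : MvPolynomial (Fin n) R)
    (h' : Fin c' → MvPolynomial (Fin n) R) (g' : MvPolynomial (Fin n) R) (ℓ₀ : Fin m)
    (H1' : t' * f ℓ₀ = ∑ j', h' j' * f (rows' j') + C (π ^ 2) * g') :
    ∑ j, ch.gam rows' t' h' ℓ₀ j * f (ch.rows j) =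
      C (π ^ 2) * (ch.t * g' - t' * ch.g ℓ₀ + ∑ j', h' j' * ch.g (rows' j')) := by
  have h0 := ch.sum_gam_mul rows' t' h' ℓ₀ (RingHom.id _) (fun j => f (ch.rows j))
  simp only [RingHom.id_apply] at h0
  rw [h0]
  have h1 : ∀ ℓ, ∑ j, ch.h ℓ j * f (ch.rows j) = ch.t * f ℓ - C (π ^ 2) * ch.g ℓ := by
    intro ℓ; rw [ch.H1 ℓ]; ring
  simp only [h1]
  have h2 : ∑ j', h' j' * (ch.t * f (rows' j') - C (π ^ 2) * ch.g (rows' j')) =
      ch.t * ∑ j', h' j' * f (rows' j') - C (π ^ 2) * ∑ j', h' j' * ch.g (rows' j') := by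
    rw [Finset.mul_sum, Finset.mul_sum, ← Finset.sum_sub_distrib]
    exact Finset.sum_congr rfl fun j' _ => by ring
  rw [h2]
  have h3 : ∑ j', h' j' * f (rows' j') = t' * f ℓ₀ - C (π ^ 2) * g' := by rw [H1']; ring
  rw [h3]
  ring

/-- `minor * γ_j` lies in `(f_rows) + (π²)`. -/
theorem minor_mul_gam_mem {c' : ℕ} (rows' : Fin c' → Fin m) (t' : MvPolynomial (Fin n) R)
    (h' : Fin c' → MvPolynomial (Fin n) R) (g' : MvPolynomial (Fin n) R) (ℓ₀ : Fin m)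
    (H1' : t' * f ℓ₀ = ∑ j', h' j' * f (rows' j') + C (π ^ 2) * g') (j : Fin ch.c) :
    ch.minor * ch.gam rows' t' h' ℓ₀ j ∈
      Ideal.span (Set.range fun j => f (ch.rows j)) ⊔ Ideal.span {C (π ^ 2)} := by
  classical
  set 𝔫 : Ideal (MvPolynomial (Fin n) R) :=
    Ideal.span (Set.range fun j => f (ch.rows j)) ⊔ Ideal.span {C (π ^ 2)} with h𝔫
  set γ := ch.gam rows' t' h' ℓ₀ with hγ
  let N : Matrix (Fin ch.c) (Fin ch.c) (MvPolynomial (Fin n) R) :=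
    Matrix.of fun j j' : Fin ch.c => pderiv (ch.cols j') (f (ch.rows j))
  have hf𝔫 : ∀ j, f (ch.rows j) ∈ 𝔫 := fun j => Ideal.mem_sup_left (Ideal.subset_span ⟨j, rfl⟩)
  have hπ𝔫 : ∀ p, C (π ^ 2) * p ∈ 𝔫 := fun p =>
    Ideal.mem_sup_right (Ideal.mul_mem_right _ _ (Ideal.mem_span_singleton_self _))
  have hv : ∀ i, ∑ j, γ j * pderiv i (f (ch.rows j)) ∈ 𝔫 := by
    intro i
    have h1 := congrArg (pderiv i) (ch.sum_gam_mul_f rows' t' h' g' ℓ₀ H1')
    rw [map_sum, pderiv_C_mul] at h1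
    simp only [Derivation.leibniz, smul_eq_mul] at h1
    rw [Finset.sum_add_distrib] at h1
    have h2 : ∑ j, γ j * pderiv i (f (ch.rows j)) =
        C (π ^ 2) * pderiv i (ch.t * g' - t' * ch.g ℓ₀ + ∑ j', h' j' * ch.g (rows' j')) -
          ∑ j, f (ch.rows j) * pderiv i (γ j) := by
      rw [← h1]; ring
    rw [h2]
    exact Ideal.sub_mem _ (hπ𝔫 _)
      (Ideal.sum_mem _ fun j _ => Ideal.mul_mem_right _ _ (hf𝔫 j))
  have h3 : Matrix.vecMul (Matrix.vecMul γ N) (Matrix.adjugate N) = N.det • γ := by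
    rw [Matrix.vecMul_vecMul, Matrix.mul_adjugate, Matrix.vecMul_smul, Matrix.vecMul_one]
  have h4 := congrFun h3 j
  rw [Pi.smul_apply, smul_eq_mul] at h4
  show N.det * γ j ∈ 𝔫
  rw [← h4]
  show ∑ j'', Matrix.vecMul γ N j'' * Matrix.adjugate N j'' j ∈ 𝔫
  refine Ideal.sum_mem _ fun j'' _ => Ideal.mul_mem_right _ _ ?_
  exact hv (ch.cols j'')

/-- (F3) `minor * t * M'` lies in the leading ideal plus `(π)`. -/
theorem minor_mul_t_mul_M_mem {c' : ℕ} (rows' : Fin c' → Fin m) (t' : MvPolynomial (Fin n) R)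
    (h' : Fin c' → MvPolynomial (Fin n) R) (g' : MvPolynomial (Fin n) R) (ℓ₀ : Fin m)
    (H1' : t' * f ℓ₀ = ∑ j', h' j' * f (rows' j') + C (π ^ 2) * g') :
    (ι ch.minor : MvPolynomial (Fin n ⊕ Fin m) R) * (ι ch.t * Mrel π rows' t' h' g' ℓ₀) ∈
      ch.lead ⊔ Ideal.span {C π} := by
  classical
  set 𝔪 : Ideal (MvPolynomial (Fin n ⊕ Fin m) R) := ch.lead ⊔ Ideal.span {C π} with h𝔪
  have hπ𝔪 : ∀ p, C π * p ∈ 𝔪 := fun p =>
    Ideal.mem_sup_right (Ideal.mul_mem_right _ _ (Ideal.mem_span_singleton_self _))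
  let A : Fin m → MvPolynomial (Fin n ⊕ Fin m) R := fun ℓ =>
    ι ch.t * X (Sum.inr ℓ) - ∑ j, ι (ch.h ℓ j) * X (Sum.inr (ch.rows j))
  have hA : ∀ ℓ, A ℓ ∈ 𝔪 := by
    intro ℓ
    have : A ℓ = ch.M ℓ + C π * ι (ch.g ℓ) := by
      show _ = Mrel π ch.rows ch.t (ch.h ℓ) (ch.g ℓ) ℓ + _
      unfold Mrel; ring
    rw [this]
    exact Ideal.add_mem _ (Ideal.mem_sup_left (ch.M_mem ℓ)) (hπ𝔪 _)
  have hι : ∀ p ∈ Ideal.span (Set.range fun j => f (ch.rows j)) ⊔ Ideal.span {C (π ^ 2)},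
      (ι p : MvPolynomial (Fin n ⊕ Fin m) R) ∈ 𝔪 := by
    intro p hp
    have hle : Ideal.span (Set.range fun j => f (ch.rows j)) ⊔ Ideal.span {C (π ^ 2)} ≤
        𝔪.comap (ι (m := m)) := by
      refine sup_le ?_ ?_
      · rw [Ideal.span_le]
        rintro _ ⟨j, rfl⟩
        show ι (f (ch.rows j)) ∈ 𝔪
        have : (ι (f (ch.rows j)) : MvPolynomial (Fin n ⊕ Fin m) R) =
            Lrel π f (ch.rows j) + C π * X (Sum.inr (ch.rows j)) := by unfold Lrel; ring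
        rw [this]
        exact Ideal.add_mem _ (Ideal.mem_sup_left (ch.L_rows_mem j)) (hπ𝔪 _)
      · rw [Ideal.span_le]
        rintro _ rfl
        show ι (C (π ^ 2)) ∈ 𝔪
        have : (ι (C (π ^ 2)) : MvPolynomial (Fin n ⊕ Fin m) R) = C π * C π := by
          unfold ι; rw [rename_C, pow_two, C_mul]
        rw [this]
        exact hπ𝔪 _
    exact hle hp
  have hmain : (ι ch.t : MvPolynomial (Fin n ⊕ Fin m) R) * Mrel π rows' t' h' g' ℓ₀ -
      ∑ j, ι (ch.gam rows' t' h' ℓ₀ j) * X (Sum.inr (ch.rows j)) ∈ 𝔪 := by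
    have h1 := ch.sum_gam_mul rows' t' h' ℓ₀ (ι (m := m)).toRingHom
      (fun j => X (Sum.inr (ch.rows j)))
    simp only [AlgHom.toRingHom_eq_coe, RingHom.coe_coe] at h1
    rw [h1]
    have h2 : (ι ch.t : MvPolynomial (Fin n ⊕ Fin m) R) * Mrel π rows' t' h' g' ℓ₀ -
        (ι t' * ∑ j, ι (ch.h ℓ₀ j) * X (Sum.inr (ch.rows j)) -
          ∑ j', ι (h' j') * ∑ j, ι (ch.h (rows' j') j) * X (Sum.inr (ch.rows j))) =
        ι t' * A ℓ₀ - ∑ j', ι (h' j') * A (rows' j') - C π * (ι ch.t * ι g') := by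
      have h3 : ∑ j', (ι (h' j') : MvPolynomial (Fin n ⊕ Fin m) R) * A (rows' j') =
          ι ch.t * ∑ j', ι (h' j') * X (Sum.inr (rows' j')) -
            ∑ j', ι (h' j') * ∑ j, ι (ch.h (rows' j') j) * X (Sum.inr (ch.rows j)) := by
        rw [Finset.mul_sum, ← Finset.sum_sub_distrib]
        exact Finset.sum_congr rfl fun j' _ => by ring
      rw [h3]
      unfold Mrel
      ring
    rw [h2]
    exact Ideal.sub_mem _ (Ideal.sub_mem _ (Ideal.mul_mem_left _ _ (hA _))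
      (Ideal.sum_mem _ fun j' _ => Ideal.mul_mem_left _ _ (hA _))) (hπ𝔪 _)
  have hfin : (ι ch.minor : MvPolynomial (Fin n ⊕ Fin m) R) * (ι ch.t * Mrel π rows' t' h' g' ℓ₀) =
      ι ch.minor * (ι ch.t * Mrel π rows' t' h' g' ℓ₀ -
        ∑ j, ι (ch.gam rows' t' h' ℓ₀ j) * X (Sum.inr (ch.rows j))) +
      ∑ j, ι (ch.minor * ch.gam rows' t' h' ℓ₀ j) * X (Sum.inr (ch.rows j)) := by
    rw [mul_sub, Finset.mul_sum]
    simp only [map_mul]
    have : ∀ a b : MvPolynomial (Fin n ⊕ Fin m) R, a = a - b + b := fun a b => by ring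
    convert this _ _ using 2
    exact Finset.sum_congr rfl fun j _ => by ring
  rw [hfin]
  exact Ideal.add_mem _ (Ideal.mul_mem_left _ _ hmain)
    (Ideal.sum_mem _ fun j _ => Ideal.mul_mem_right _ _
      (hι _ (ch.minor_mul_gam_mem rows' t' h' g' ℓ₀ H1' j)))

end Chart

end Groth.Agent.H3.Lift
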