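import Groth.Agent.H3.Lift2
import Groth.Agent.H3.Deloc2
import Groth.Agent.H3.Desing8

/-!
# The lifting lemma: the chart algebra, its Jacobian, and killing the other relations (helper3)
-/

set_option autoImplicit false
universe u

namespace Groth.Agent.H3.Lift

open MvPolynomial Smoothing

variable {R : Type u} [CommRing R] {n m : ℕ}

theorem pderiv_inr_ι (ℓ : Fin m) (p : MvPolynomial (Fin n) R) :
    pderiv (Sum.inr ℓ : Fin n ⊕ Fin m) (ι p) = 0 := by
  classical
  unfold ι
  induction p using MvPolynomial.induction_on with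
  | C a => simp
  | add p q hp hq => rw [map_add, map_add, hp, hq, add_zero]
  | mul_X p i hp =>
    rw [map_mul, Derivation.leibniz, hp, smul_zero, add_zero, rename_X, pderiv_X]
    have : (Pi.single (M := fun _ => MvPolynomial (Fin n ⊕ Fin m) R) (Sum.inr ℓ) 1 (Sum.inl i)) = 0 :=
      Pi.single_eq_of_ne (by simp) _
    rw [this, smul_zero]

theorem pderiv_inl_ι (i : Fin n) (p : MvPolynomial (Fin n) R) :
    pderiv (Sum.inl i : Fin n ⊕ Fin m) (ι p) = ι (pderiv i p) := by
  unfold ι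
  exact pderiv_rename Sum.inl_injective i p

theorem pderiv_inl_Z (i : Fin n) (ℓ : Fin m) :
    pderiv (Sum.inl i : Fin n ⊕ Fin m) (X (Sum.inr ℓ) : MvPolynomial (Fin n ⊕ Fin m) R) = 0 := by
  classical
  rw [pderiv_X]
  exact Pi.single_eq_of_ne (by simp) _

theorem pderiv_inr_Z (ℓ' ℓ : Fin m) :
    pderiv (Sum.inr ℓ' : Fin n ⊕ Fin m) (X (Sum.inr ℓ) : MvPolynomial (Fin n ⊕ Fin m) R) =
      if ℓ = ℓ' then 1 else 0 := by
  classical
  rw [pderiv_X, Pi.single_apply]
  simp only [Sum.inr.injEq]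

namespace Chart

variable {π : R} {f : Fin m → MvPolynomial (Fin n) R} (ch : Chart π f)

/-- The complement of the chosen rows. -/
abbrev Sc : Type := {ℓ : Fin m // ℓ ∉ Set.range ch.rows}

noncomputable instance : Fintype ch.Sc := by classical exact Subtype.fintype _

/-- The leading relations, indexed by `Fin c ⊕ Sc`. -/
noncomputable def leadrel : Fin ch.c ⊕ ch.Sc → MvPolynomial (Fin n ⊕ Fin m) R :=
  Sum.elim (fun j => Lrel π f (ch.rows j)) (fun ℓ => ch.M ℓ.1)

/-- The leading variables. -/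
def leadcol : Fin ch.c ⊕ ch.Sc ↪ Fin n ⊕ Fin m :=
  ⟨Sum.elim (fun j => Sum.inl (ch.cols j)) (fun ℓ => Sum.inr ℓ.1), by
    rintro (a | a) (b | b) hab
    · simp only [Sum.elim_inl, Sum.inl.injEq] at hab
      rw [ch.cols.injective hab]
    · simp at hab
    · simp at hab
    · simp only [Sum.elim_inr, Sum.inr.injEq] at hab
      rw [Subtype.ext hab]⟩

theorem lead_eq : ch.lead = Ideal.span (Set.range ch.leadrel) := by
  unfold lead
  apply le_antisymm
  · rw [Ideal.span_le]
    rintro _ (⟨j, rfl⟩ | ⟨ℓ, rfl⟩)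
    · exact Ideal.subset_span ⟨Sum.inl j, rfl⟩
    · by_cases hℓ : ℓ ∈ Set.range ch.rows
      · obtain ⟨j, rfl⟩ := hℓ
        rw [ch.M_rows]
        exact Ideal.zero_mem _
      · exact Ideal.subset_span ⟨Sum.inr ⟨ℓ, hℓ⟩, rfl⟩
  · rw [Ideal.span_le]
    rintro _ ⟨(j | ℓ), rfl⟩
    · exact Ideal.subset_span (Or.inl ⟨j, rfl⟩)
    · exact Ideal.subset_span (Or.inr ⟨ℓ.1, rfl⟩)

/-- The Jacobian minor of the leading relations. -/
theorem det_lead [DecidableEq ch.Sc] :
    Matrix.det (Matrix.of fun a b : Fin ch.c ⊕ ch.Sc => pderiv (ch.leadcol b) (ch.leadrel a)) =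
      ι ch.minor * ι ch.t ^ Fintype.card ch.Sc := by
  classical
  have h1 : (Matrix.of fun a b : Fin ch.c ⊕ ch.Sc => pderiv (ch.leadcol b) (ch.leadrel a)) =
      Matrix.fromBlocks
        ((ι (m := m)).mapMatrix (Matrix.of fun j j' : Fin ch.c =>
          pderiv (ch.cols j') (f (ch.rows j))))
        0
        (Matrix.of fun (ℓ : ch.Sc) (j' : Fin ch.c) =>
          pderiv (Sum.inl (ch.cols j') : Fin n ⊕ Fin m) (ch.M ℓ.1))
        ((ι ch.t : MvPolynomial (Fin n ⊕ Fin m) R) • (1 : Matrix ch.Sc ch.Sc _)) := by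
    refine Matrix.ext fun a b => ?_
    rcases a with j | ℓ <;> rcases b with j' | ℓ'
    · simp only [Matrix.of_apply, Matrix.fromBlocks_apply₁₁, AlgHom.mapMatrix_apply,
        Matrix.map_apply]
      show pderiv (Sum.inl (ch.cols j')) (Lrel π f (ch.rows j)) = _
      unfold Lrel
      rw [map_sub, pderiv_inl_ι, pderiv_C_mul, pderiv_inl_Z, mul_zero, sub_zero]
    · simp only [Matrix.of_apply, Matrix.fromBlocks_apply₁₂, Matrix.zero_apply]
      show pderiv (Sum.inr ℓ'.1) (Lrel π f (ch.rows j)) = 0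
      unfold Lrel
      rw [map_sub, pderiv_inr_ι, pderiv_C_mul, pderiv_inr_Z, if_neg, mul_zero, sub_zero]
      intro h
      exact ℓ'.2 ⟨j, h⟩
    · simp only [Matrix.of_apply, Matrix.fromBlocks_apply₂₁]
      rfl
    · simp only [Matrix.of_apply, Matrix.fromBlocks_apply₂₂, Matrix.smul_apply, Matrix.one_apply,
        smul_eq_mul]
      show pderiv (Sum.inr ℓ'.1) (ch.M ℓ.1) = _
      unfold M Mrel
      rw [map_sub, map_sub, Derivation.leibniz, pderiv_inr_ι, smul_zero, add_zero, pderiv_C_mul,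
        pderiv_inr_ι, mul_zero, sub_zero, map_sum, pderiv_inr_Z, smul_eq_mul]
      have h2 : ∑ j, pderiv (Sum.inr ℓ'.1 : Fin n ⊕ Fin m)
          (ι (ch.h ℓ.1 j) * X (Sum.inr (ch.rows j))) = 0 := by
        refine Finset.sum_eq_zero fun j _ => ?_
        rw [Derivation.leibniz, pderiv_inr_ι, smul_zero, add_zero, pderiv_inr_Z, if_neg,
          smul_zero]
        intro h
        exact ℓ'.2 ⟨j, h⟩
      rw [h2, sub_zero]
      by_cases hℓ : ℓ = ℓ'
      · subst hℓ
        simp
      · have : ¬ (ℓ.1 = ℓ'.1) := fun h => hℓ (Subtype.ext h)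
        simp [hℓ, this]
  rw [h1, Matrix.det_fromBlocks_zero₁₂, Matrix.det_smul, Matrix.det_one, mul_one,
    ← AlgHom.map_det]
  rfl

end Chart

end Groth.Agent.H3.Lift
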