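import Groth.Agent.H3.Lift3
import Groth.Agent.H3.Desing2
import Groth.Agent.H3.Jac5

/-!
# The lifting lemma: smoothness on a chart and away from `π` (helper3)
-/

set_option autoImplicit false
universe u

namespace Groth.Agent.H3.Lift

open MvPolynomial Smoothing

variable {R : Type u} [CommRing R] {n m : ℕ}

/-- All relations of `D`. -/
noncomputable def allrel (π : R) (f : Fin m → MvPolynomial (Fin n) R) {K : Type*}
    (cs : K → Chart π f) : Fin m ⊕ (K × Fin m) → MvPolynomial (Fin n ⊕ Fin m) R :=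
  Sum.elim (Lrel π f) (fun kl => (cs kl.1).M kl.2)

set_option maxHeartbeats 2000000 in
theorem chart_smooth (π : R) (hR : ∀ r : R, π ^ 2 * r = 0 → π * r = 0)
    (f : Fin m → MvPolynomial (Fin n) R) {K : Type*} [Fintype K] (cs : K → Chart π f)
    (𝔡 : Ideal (MvPolynomial (Fin n ⊕ Fin m) R))
    (h𝔡 : 𝔡 = Ideal.span (Set.range (allrel π f cs)))
    (k₀ : K) (Q : Ideal (MvPolynomial (Fin n ⊕ Fin m) R ⧸ 𝔡)) [Q.IsPrime]
    (hQ : Ideal.Quotient.mk 𝔡 (ι ((cs k₀).t * (cs k₀).minor)) ∉ Q) : Algebra.IsSmoothAt R Q := by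
  classical
  obtain ⟨ch, hch⟩ : ∃ ch, ch = cs k₀ := ⟨_, rfl⟩
  rw [← hch] at hQ
  have hle : ch.lead ≤ 𝔡 := by
    rw [h𝔡]
    unfold Chart.lead
    apply Ideal.span_mono
    rintro _ (⟨j, rfl⟩ | ⟨ℓ, rfl⟩)
    · exact ⟨Sum.inl (ch.rows j), rfl⟩
    · exact ⟨Sum.inr (k₀, ℓ), by rw [hch]; rfl⟩
  haveI : Algebra.FinitePresentation R (MvPolynomial (Fin n ⊕ Fin m) R ⧸ ch.lead) :=
    Algebra.FinitePresentation.quotient
      (Submodule.fg_span ((Set.finite_range _).union (Set.finite_range _)))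
  let q : (MvPolynomial (Fin n ⊕ Fin m) R ⧸ ch.lead) →ₐ[R] (MvPolynomial (Fin n ⊕ Fin m) R ⧸ 𝔡) :=
    Ideal.Quotient.factorₐ R hle
  have hq : Function.Surjective q := Ideal.Quotient.factor_surjective hle
  have hqmk : ∀ p, q (Ideal.Quotient.mk ch.lead p) = Ideal.Quotient.mk 𝔡 p := fun p => rfl
  obtain ⟨Δ, hΔ⟩ : ∃ Δ : MvPolynomial (Fin n ⊕ Fin m) R,
      Δ = ι ch.minor * ι ch.t ^ Fintype.card ch.Sc := ⟨_, rfl⟩
  have hE : IsElementaryStandard R (MvPolynomial (Fin n ⊕ Fin m) R ⧸ ch.lead)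
      (Ideal.Quotient.mk ch.lead Δ) := by
    refine Deloc.isElementaryStandard_of_fintype (K := Fin ch.c ⊕ ch.Sc) ch.leadrel
      (Ideal.Quotient.mkₐ R ch.lead) (Ideal.Quotient.mkₐ_surjective R ch.lead) ?_
      (Function.Embedding.refl _) ch.leadcol _ 1 ?_ ?_
    · ext p
      show Ideal.Quotient.mk ch.lead p = 0 ↔ p ∈ Ideal.span (Set.range ch.leadrel)
      rw [← ch.lead_eq]
      exact Ideal.Quotient.eq_zero_iff_mem
    · rw [one_mul, hΔ, ← ch.det_lead]
      rfl
    · intro a₁ _ ℓ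
      exact Ideal.mem_sup_left (Ideal.mul_mem_left _ _ (Ideal.subset_span ⟨ℓ, rfl⟩))
  -- the elements
  set tb := Ideal.Quotient.mk ch.lead (ι ch.t) with htb
  set mn := Ideal.Quotient.mk ch.lead (ι ch.minor) with hmn
  set pb := Ideal.Quotient.mk ch.lead (C π) with hpb
  have hpb' : algebraMap R (MvPolynomial (Fin n ⊕ Fin m) R ⧸ ch.lead) π = pb := rfl
  have htmn : tb * mn ∉ Q.comap q := by
    intro h
    apply hQ
    have : q (tb * mn) ∈ Q := h
    rw [htb, hmn, ← map_mul, hqmk, ← map_mul] at this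
    exact this
  have htQ : tb ∉ Q.comap q := fun h => htmn (Ideal.mul_mem_right _ _ h)
  have hmQ : mn ∉ Q.comap q := fun h => htmn (Ideal.mul_mem_left _ _ h)
  have hΔQ : Ideal.Quotient.mk ch.lead Δ ∉ Q.comap q := by
    rw [hΔ, map_mul, map_pow]
    intro h
    rcases Ideal.IsPrime.mem_or_mem inferInstance h with h1 | h1
    · exact hmQ h1
    · exact htQ (Ideal.IsPrime.mem_of_pow_mem inferInstance _ h1)
  have hsmQ' : Algebra.IsSmoothAt R (Q.comap q) :=
    Jac.smoothAt_of_strictly _ (Jac.strictly_of_elementary _ hE) ⟨Q.comap q, inferInstance⟩ hΔQ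
  haveI : Algebra.IsStandardSmooth R (Localization.Away (Ideal.Quotient.mk ch.lead Δ)) :=
    Groth.Agent.S2032.result _ hE
  haveI : Module.Flat R (Localization.Away (Ideal.Quotient.mk ch.lead Δ)) := inferInstance
  -- killing the relations
  have hkill : ∀ ρ : Fin m ⊕ (K × Fin m), ∃ d, d ∉ Q.comap q ∧
      d * Ideal.Quotient.mk ch.lead (allrel π f cs ρ) = 0 := by
    rintro (ℓ | ⟨k, ℓ⟩)
    · refine ⟨tb, htQ, ?_⟩
      rw [htb, ← map_mul, Ideal.Quotient.eq_zero_iff_mem]
      exact ch.t_mul_L_mem ℓ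
    · set ρp := Mrel π (cs k).rows (cs k).t ((cs k).h ℓ) ((cs k).g ℓ) ℓ with hρp
      have hρ : allrel π f cs (Sum.inr (k, ℓ)) = ρp := rfl
      rw [hρ]
      have hF3 := ch.minor_mul_t_mul_M_mem (cs k).rows (cs k).t ((cs k).h ℓ) ((cs k).g ℓ) ℓ
        ((cs k).H1 ℓ)
      have hF2 := ch.t_mul_pi_mul_M_mem (cs k).rows (cs k).t ((cs k).h ℓ) ((cs k).g ℓ) ℓ
        ((cs k).H1 ℓ)
      rw [← hρp] at hF3 hF2
      obtain ⟨l, hl, y', hy', hly⟩ := Submodule.mem_sup.mp hF3
      obtain ⟨y, rfl⟩ := Ideal.mem_span_singleton'.mp hy'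
      set p := Ideal.Quotient.mk ch.lead ρp with hp
      set yb := Ideal.Quotient.mk ch.lead y with hyb
      have h1 : mn * (tb * p) = pb * yb := by
        rw [hmn, htb, hp, ← map_mul, ← map_mul, ← hly, map_add, map_mul,
          Ideal.Quotient.eq_zero_iff_mem.mpr hl, zero_add, mul_comm]
      have h2 : tb * (pb * p) = 0 := by
        rw [htb, hpb, hp, ← map_mul, ← map_mul, Ideal.Quotient.eq_zero_iff_mem]
        exact hF2
      have h3 : pb ^ 2 * (tb * yb) = 0 := by
        have : pb ^ 2 * (tb * yb) = mn * tb * (tb * (pb * p)) := by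
          have : pb ^ 2 * (tb * yb) = tb * pb * (pb * yb) := by ring
          rw [this, ← h1]; ring
        rw [this, h2, mul_zero]
      have h4 : π ^ 2 • algebraMap (MvPolynomial (Fin n ⊕ Fin m) R ⧸ ch.lead)
          (Localization.Away (Ideal.Quotient.mk ch.lead Δ)) (tb * yb) = 0 := by
        rw [Algebra.smul_def, IsScalarTower.algebraMap_apply R
          (MvPolynomial (Fin n ⊕ Fin m) R ⧸ ch.lead)
          (Localization.Away (Ideal.Quotient.mk ch.lead Δ)),
          ← map_mul, map_pow, hpb', h3, map_zero]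
      have h5 := Desing.flat_ann2 π hR _ h4
      rw [Algebra.smul_def, IsScalarTower.algebraMap_apply R
          (MvPolynomial (Fin n ⊕ Fin m) R ⧸ ch.lead)
          (Localization.Away (Ideal.Quotient.mk ch.lead Δ)), ← map_mul, hpb'] at h5
      obtain ⟨⟨_, N, rfl⟩, hN⟩ := (IsLocalization.map_eq_zero_iff
        (Submonoid.powers (Ideal.Quotient.mk ch.lead Δ)) _ _).mp h5
      refine ⟨Ideal.Quotient.mk ch.lead Δ ^ N * tb * mn * tb, ?_, ?_⟩
      · intro h
        rcases Ideal.IsPrime.mem_or_mem inferInstance h with h6 | h6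
        · rcases Ideal.IsPrime.mem_or_mem inferInstance h6 with h7 | h7
          · rcases Ideal.IsPrime.mem_or_mem inferInstance h7 with h8 | h8
            · exact hΔQ (Ideal.IsPrime.mem_of_pow_mem inferInstance _ h8)
            · exact htQ h8
          · exact hmQ h7
        · exact htQ h6
      · have : Ideal.Quotient.mk ch.lead Δ ^ N * tb * mn * tb * p =
            Ideal.Quotient.mk ch.lead Δ ^ N * tb * (mn * (tb * p)) := by ring
        rw [this, h1]
        have : Ideal.Quotient.mk ch.lead Δ ^ N * tb * (pb * yb) =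
            Ideal.Quotient.mk ch.lead Δ ^ N * (pb * (tb * yb)) := by ring
        rw [this]
        exact hN
  choose d hdQ hd using hkill
  have hprod : (∏ ρ, d ρ) ∉ Q.comap q := by
    intro h
    obtain ⟨ρ, _, hρ⟩ := Ideal.IsPrime.prod_mem_iff.mp h
    exact hdQ ρ hρ
  have hspan0 : ∀ p ∈ Ideal.span (Set.range (allrel π f cs)),
      (∏ ρ, d ρ) * Ideal.Quotient.mk ch.lead p = 0 := by
    intro p hp
    induction hp using Submodule.span_induction with
    | mem x hx =>
      obtain ⟨ρ, rfl⟩ := hx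
      rw [← Finset.prod_erase_mul _ _ (Finset.mem_univ ρ), mul_assoc, hd, mul_zero]
    | zero => rw [map_zero, mul_zero]
    | add x y _ _ hx hy => rw [map_add, mul_add, hx, hy, add_zero]
    | smul c x _ hx => rw [smul_eq_mul, map_mul, mul_left_comm, hx, mul_zero]
  refine Desing.isSmoothAt_of_surjective q hq Q (∏ ρ, d ρ) hprod ?_ hsmQ'
  intro x hx
  obtain ⟨p, rfl⟩ := Ideal.Quotient.mk_surjective x
  rw [hqmk, Ideal.Quotient.eq_zero_iff_mem, h𝔡] at hx
  exact hspan0 p hx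

end Groth.Agent.H3.Lift
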