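import Groth.Agent.H3.Lift4

/-!
# The lifting lemma: smoothness where `π` is invertible (helper3)
-/

set_option autoImplicit false
universe u

namespace Groth.Agent.H3.Lift

open MvPolynomial Smoothing

variable {R : Type u} [CommRing R] {n m : ℕ}

set_option maxHeartbeats 1000000 in
theorem away_smooth (π : R) (f : Fin m → MvPolynomial (Fin n) R) {K : Type*} [Fintype K]
    (cs : K → Chart π f) (𝔡 : Ideal (MvPolynomial (Fin n ⊕ Fin m) R))
    (h𝔡 : 𝔡 = Ideal.span (Set.range (allrel π f cs)))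
    (Q : Ideal (MvPolynomial (Fin n ⊕ Fin m) R ⧸ 𝔡)) [Q.IsPrime]
    (hQ : Ideal.Quotient.mk 𝔡 (C π) ∉ Q) : Algebra.IsSmoothAt R Q := by
  classical
  haveI : Algebra.FinitePresentation R (MvPolynomial (Fin n ⊕ Fin m) R ⧸ 𝔡) := by
    rw [h𝔡]
    exact Algebra.FinitePresentation.quotient (Submodule.fg_span (Set.finite_range _))
  have hdet : Matrix.det (Matrix.of fun j k : Fin m =>
      pderiv (Sum.inr k : Fin n ⊕ Fin m) (Lrel π f j)) = (-(C π)) ^ m := by
    have h1 : (Matrix.of fun j k : Fin m => pderiv (Sum.inr k : Fin n ⊕ Fin m) (Lrel π f j)) =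
        (-(C π : MvPolynomial (Fin n ⊕ Fin m) R)) • (1 : Matrix (Fin m) (Fin m) _) := by
      refine Matrix.ext fun j k => ?_
      rw [Matrix.of_apply, Matrix.smul_apply, Matrix.one_apply, smul_eq_mul]
      unfold Lrel
      rw [map_sub, pderiv_inr_ι, pderiv_C_mul, pderiv_inr_Z, zero_sub]
      split_ifs <;> ring
    rw [h1, Matrix.det_smul, Matrix.det_one, mul_one, Fintype.card_fin]
  have hE : IsElementaryStandard R (MvPolynomial (Fin n ⊕ Fin m) R ⧸ 𝔡)
      (Ideal.Quotient.mk 𝔡 (C π) * Ideal.Quotient.mk 𝔡 ((-(C π)) ^ m)) := by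
    refine Deloc.isElementaryStandard_of_fintype (K := Fin m) (allrel π f cs)
      (Ideal.Quotient.mkₐ R 𝔡) (Ideal.Quotient.mkₐ_surjective R 𝔡) ?_
      ⟨Sum.inl, Sum.inl_injective⟩ ⟨Sum.inr, Sum.inr_injective⟩ _
      (Ideal.Quotient.mk 𝔡 (C π)) ?_ ?_
    · ext p
      show Ideal.Quotient.mk 𝔡 p = 0 ↔ p ∈ Ideal.span (Set.range (allrel π f cs))
      rw [← h𝔡]
      exact Ideal.Quotient.eq_zero_iff_mem
    · congr 1
      rw [← hdet]
      rfl
    · intro a₁ ha₁ ρ
      have hrange : Ideal.span (Set.range (allrel π f cs ∘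
          (⟨Sum.inl, Sum.inl_injective⟩ : Fin m ↪ Fin m ⊕ (K × Fin m)))) =
          Ideal.span (Set.range (Lrel π f)) := rfl
      rw [hrange, ← h𝔡]
      rcases ρ with ℓ | ⟨k, ℓ⟩
      · exact Ideal.mem_sup_left (Ideal.mul_mem_left _ _ (Ideal.subset_span ⟨ℓ, rfl⟩))
      · have h1 : a₁ - C π * (-(C π)) ^ m ∈ 𝔡 := by
          rw [← Ideal.Quotient.eq, map_mul]
          exact ha₁
        have hrel𝔡 : allrel π f cs (Sum.inr (k, ℓ)) ∈ 𝔡 := by
          rw [h𝔡]; exact Ideal.subset_span ⟨_, rfl⟩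
        have h2 := key_identity π f (cs k).rows (cs k).t ((cs k).h ℓ) ((cs k).g ℓ) ℓ ((cs k).H1 ℓ)
        have h3 : C π * allrel π f cs (Sum.inr (k, ℓ)) ∈ Ideal.span (Set.range (Lrel π f)) := by
          have : C π * allrel π f cs (Sum.inr (k, ℓ)) =
              ∑ j, (ι ((cs k).h ℓ j) : MvPolynomial (Fin n ⊕ Fin m) R) * Lrel π f ((cs k).rows j) -
                ι (cs k).t * Lrel π f ℓ := by
            rw [← h2]
            show C π * Mrel π (cs k).rows (cs k).t ((cs k).h ℓ) ((cs k).g ℓ) ℓ = _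
            ring
          rw [this]
          exact Ideal.sub_mem _
            (Ideal.sum_mem _ fun j _ => Ideal.mul_mem_left _ _ (Ideal.subset_span ⟨_, rfl⟩))
            (Ideal.mul_mem_left _ _ (Ideal.subset_span ⟨_, rfl⟩))
        have h4 : a₁ * allrel π f cs (Sum.inr (k, ℓ)) =
            (a₁ - C π * (-(C π)) ^ m) * allrel π f cs (Sum.inr (k, ℓ)) +
              (-(C π)) ^ m * (C π * allrel π f cs (Sum.inr (k, ℓ))) := by ring
        rw [h4]
        refine Ideal.add_mem _ (Ideal.mem_sup_right ?_)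
          (Ideal.mem_sup_left (Ideal.mul_mem_left _ _ h3))
        rw [pow_two]
        exact Ideal.mul_mem_mul h1 hrel𝔡
  have hnot : Ideal.Quotient.mk 𝔡 (C π) * Ideal.Quotient.mk 𝔡 ((-(C π)) ^ m) ∉ Q := by
    intro h
    rcases Ideal.IsPrime.mem_or_mem inferInstance h with h1 | h1
    · exact hQ h1
    · rw [map_pow, map_neg] at h1
      have := Ideal.IsPrime.mem_of_pow_mem inferInstance _ h1
      exact hQ (by simpa using Q.neg_mem this)
  exact Jac.smoothAt_of_strictly _ (Jac.strictly_of_elementary _ hE) ⟨Q, inferInstance⟩ hnot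

end Groth.Agent.H3.Lift
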