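import Groth.Agent.H3.Lift1
import Groth.Agent.H3.Jac3

/-!
# The lifting lemma: existence of charts at smooth primes (helper3)
-/

set_option autoImplicit false
universe u

namespace Groth.Agent.H3.Lift

open MvPolynomial

set_option maxHeartbeats 1600000 in
theorem exists_chart {R : Type u} [CommRing R] (π : R) {C' : Type u} [CommRing C']
    [Algebra (R ⧸ Ideal.span {π ^ 2}) C'] {n m : ℕ}
    (f : Fin m → MvPolynomial (Fin n) R)
    (φb : MvPolynomial (Fin n) (R ⧸ Ideal.span {π ^ 2}) →ₐ[R ⧸ Ideal.span {π ^ 2}] C')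
    (hφb : Function.Surjective φb)
    (hker : RingHom.ker φb.toRingHom = Ideal.span (Set.range fun ℓ =>
      MvPolynomial.map (Ideal.Quotient.mk (Ideal.span {π ^ 2})) (f ℓ)))
    (𝔮 : Ideal C') [𝔮.IsPrime] (hsm : Algebra.IsSmoothAt (R ⧸ Ideal.span {π ^ 2}) 𝔮) :
    ∃ ch : Chart π f,
      φb (MvPolynomial.map (Ideal.Quotient.mk (Ideal.span {π ^ 2})) (ch.t * ch.minor)) ∉ 𝔮 := by
  classical
  obtain ⟨mp, hmp⟩ : ∃ mp : MvPolynomial (Fin n) R →+* MvPolynomial (Fin n) (R ⧸ Ideal.span {π ^ 2}),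
      mp = MvPolynomial.map (Ideal.Quotient.mk (Ideal.span {π ^ 2})) := ⟨_, rfl⟩
  have hmpsurj : Function.Surjective mp := by
    rw [hmp]; exact MvPolynomial.map_surjective _ Ideal.Quotient.mk_surjective
  have hmpker : ∀ p, mp p = 0 → ∃ g, p = C (π ^ 2) * g := by
    intro p hp
    have h1 : p ∈ RingHom.ker mp := hp
    rw [hmp, MvPolynomial.ker_map, Ideal.mk_ker, Ideal.map_span, Set.image_singleton] at h1
    obtain ⟨g, hg⟩ := Ideal.mem_span_singleton'.mp h1
    exact ⟨g, by rw [← hg, mul_comm]⟩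
  rw [← hmp] at hker ⊢
  obtain ⟨fb, hfb⟩ : ∃ fb : Fin m → MvPolynomial (Fin n) (R ⧸ Ideal.span {π ^ 2}),
      fb = fun ℓ => mp (f ℓ) := ⟨_, rfl⟩
  have hfb' : ∀ ℓ, fb ℓ = mp (f ℓ) := fun ℓ => by rw [hfb]
  rw [← hfb] at hker
  haveI : Algebra.IsSmoothAt (R ⧸ Ideal.span {π ^ 2}) 𝔮 := hsm
  obtain ⟨ab, hab, c, rows, cols, ab', habeq, hkill⟩ := Jac.exists_standard fb φb hφb hker 𝔮
  obtain ⟨a₁, ha₁⟩ := hφb ab
  obtain ⟨tb, htb, htb'⟩ := Jac.det_trick fb (Ideal.span (Set.range (fb ∘ rows)))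
    (Ideal.span (Set.range fb)) a₁ (by
      intro ℓ
      have := hkill a₁ ha₁ ℓ
      rw [pow_two (Ideal.span (Set.range fb))] at this
      exact this)
  have hφtb : φb tb = ab ^ m := by
    have h1 : tb - a₁ ^ m ∈ RingHom.ker φb.toRingHom := by rw [hker]; exact htb
    have h2 : φb (tb - a₁ ^ m) = 0 := h1
    rw [map_sub, map_pow, ha₁, sub_eq_zero] at h2
    exact h2
  obtain ⟨t, ht⟩ := hmpsurj tb
  have hh : ∀ ℓ, ∃ h₀ : Fin c → MvPolynomial (Fin n) R,
      ∃ g₀, t * f ℓ = ∑ j, h₀ j * f (rows j) + C (π ^ 2) * g₀ := by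
    intro ℓ
    obtain ⟨hb, hhb⟩ := Ideal.mem_span_range_iff_exists_fun.mp (htb' ℓ)
    choose h₀ hh₀ using fun j => hmpsurj (hb j)
    have h1 : mp (t * f ℓ - ∑ j, h₀ j * f (rows j)) = 0 := by
      rw [map_sub, map_mul, map_sum, ht, ← hfb', ← hhb, sub_eq_zero]
      refine Finset.sum_congr rfl fun j _ => ?_
      rw [map_mul, hh₀, ← hfb']
      rfl
    obtain ⟨g₀, hg₀⟩ := hmpker _ h1
    exact ⟨h₀, g₀, by rw [← hg₀]; ring⟩
  choose h₀ g₀ hH using hh
  let h : Fin m → Fin c → MvPolynomial (Fin n) R := fun ℓ j =>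
    if hℓ : ∃ j₀, rows j₀ = ℓ then (if j = hℓ.choose then t else 0) else h₀ ℓ j
  let g : Fin m → MvPolynomial (Fin n) R := fun ℓ =>
    if ∃ j₀, rows j₀ = ℓ then 0 else g₀ ℓ
  have hchoose : ∀ j (hℓ : ∃ j₀, rows j₀ = rows j), hℓ.choose = j :=
    fun j hℓ => rows.injective hℓ.choose_spec
  let ch : Chart π f :=
    { c := c
      rows := rows
      cols := cols
      t := t
      h := h
      g := g
      H1 := by
        intro ℓ
        by_cases hℓ : ∃ j₀, rows j₀ = ℓ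
        · obtain ⟨j₀, rfl⟩ := hℓ
          have hℓ' : ∃ j, rows j = rows j₀ := ⟨j₀, rfl⟩
          simp only [h, g, dif_pos hℓ', if_pos hℓ', mul_zero, add_zero, hchoose j₀ hℓ']
          rw [Finset.sum_eq_single j₀]
          · rw [if_pos rfl]
          · intro j _ hj
            rw [if_neg hj, zero_mul]
          · intro hh; exact (hh (Finset.mem_univ j₀)).elim
        · simp only [h, g, dif_neg hℓ, if_neg hℓ]
          exact hH ℓ
      H2h := by
        intro j j'
        have hℓ' : ∃ j₀, rows j₀ = rows j := ⟨j, rfl⟩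
        simp only [h, dif_pos hℓ', hchoose j hℓ']
      H2g := by
        intro j
        have hℓ' : ∃ j₀, rows j₀ = rows j := ⟨j, rfl⟩
        simp only [g, if_pos hℓ'] }
  refine ⟨ch, ?_⟩
  have hminor : mp ch.minor =
      Matrix.det (Matrix.of fun j k : Fin c => pderiv (cols k) (fb (rows j))) := by
    show mp (Matrix.det _) = _
    rw [RingHom.map_det]
    congr 1
    refine Matrix.ext fun j k => ?_
    simp only [RingHom.mapMatrix_apply, Matrix.map_apply, Matrix.of_apply]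
    rw [hfb', hmp, pderiv_map]
  have h1 : φb (mp (ch.t * ch.minor)) = ab ^ m *
      φb (Matrix.det (Matrix.of fun j k : Fin c => pderiv (cols k) (fb (rows j)))) := by
    rw [map_mul, map_mul, hminor]
    show φb (mp t) * _ = _
    rw [ht, hφtb]
  rw [h1]
  intro hmem
  rcases Ideal.IsPrime.mem_or_mem inferInstance hmem with h2 | h2
  · exact hab (Ideal.IsPrime.mem_of_pow_mem inferInstance _ h2)
  · apply hab
    rw [habeq]
    exact Ideal.mul_mem_left _ _ h2

end Groth.Agent.H3.Lift
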