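import Groth.Agent.H3.Lift5
import Groth.Agent.H3.Lift6
import Groth.Agent.H3.Deloc4

/-!
# The lifting lemma (helper3)
-/

set_option autoImplicit false
universe u

namespace Groth.Agent.H3.Lift

open MvPolynomial Smoothing

/-- A finite family of charts covering the smooth locus. -/
theorem exists_charts {R : Type u} [CommRing R] [IsNoetherianRing R] (π : R) {C' : Type u}
    [CommRing C'] [Algebra (R ⧸ Ideal.span {π ^ 2}) C']
    [Algebra.FiniteType (R ⧸ Ideal.span {π ^ 2}) C'] {n m : ℕ}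
    (f : Fin m → MvPolynomial (Fin n) R)
    (φb : MvPolynomial (Fin n) (R ⧸ Ideal.span {π ^ 2}) →ₐ[R ⧸ Ideal.span {π ^ 2}] C')
    (hφb : Function.Surjective φb)
    (hker : RingHom.ker φb.toRingHom = Ideal.span (Set.range fun ℓ =>
      MvPolynomial.map (Ideal.Quotient.mk (Ideal.span {π ^ 2})) (f ℓ))) :
    ∃ (K : Type u) (_ : Fintype K) (cs : K → Chart π f),
      ∀ (𝔮 : Ideal C') [𝔮.IsPrime], Algebra.IsSmoothAt (R ⧸ Ideal.span {π ^ 2}) 𝔮 →
        ∃ k, φb (MvPolynomial.map (Ideal.Quotient.mk (Ideal.span {π ^ 2}))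
          ((cs k).t * (cs k).minor)) ∉ 𝔮 := by
  classical
  haveI : IsNoetherianRing C' := Algebra.FiniteType.isNoetherianRing (R ⧸ Ideal.span {π ^ 2}) C'
  let Sg := {𝔮 : PrimeSpectrum C' // Algebra.IsSmoothAt (R ⧸ Ideal.span {π ^ 2}) 𝔮.asIdeal}
  have hch : ∀ σ : Sg, ∃ ch : Chart π f,
      φb (MvPolynomial.map (Ideal.Quotient.mk (Ideal.span {π ^ 2})) (ch.t * ch.minor)) ∉
        σ.1.asIdeal := fun σ => exists_chart π f φb hφb hker σ.1.asIdeal σ.2
  choose ch hchσ using hch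
  let e : Sg → C' := fun σ =>
    φb (MvPolynomial.map (Ideal.Quotient.mk (Ideal.span {π ^ 2})) ((ch σ).t * (ch σ).minor))
  have hfg : (Submodule.span C' (Set.range e)).FG := IsNoetherian.noetherian _
  obtain ⟨s', hs's, hspan⟩ := (Submodule.fg_span_iff_fg_span_finset_subset _).mp hfg
  have hσ : ∀ x : s', ∃ σ : Sg, e σ = x.1 := fun x => hs's x.2
  choose σ hσx using hσ
  refine ⟨s', inferInstance, fun k => ch (σ k), ?_⟩
  intro 𝔮 _ hsm
  by_contra hcon
  push_neg at hcon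
  let σ₀ : Sg := ⟨⟨𝔮, inferInstance⟩, hsm⟩
  have h1 : e σ₀ ∈ Submodule.span C' (Set.range e) := Submodule.subset_span ⟨σ₀, rfl⟩
  rw [hspan] at h1
  have h2 : Submodule.span C' (s' : Set C') ≤ 𝔮 := by
    rw [Submodule.span_le]
    intro x hx
    have := hcon ⟨x, hx⟩
    show x ∈ 𝔮
    have h3 : e (σ ⟨x, hx⟩) = x := hσx ⟨x, hx⟩
    rw [← h3]
    exact this
  exact hchσ σ₀ (h2 h1)

end Groth.Agent.H3.Lift
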