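import Groth.Prelude.Def_Found
import Mathlib.RingTheory.DedekindDomain.IntegralClosure
import Mathlib.RingTheory.IntegralClosure.IntegrallyClosed
import Mathlib.FieldTheory.Perfect

set_option autoImplicit false
universe u

namespace Groth.Agent.H3

theorem isN2_of_isN1_of_charZero (R : Type u) [CommRing R] [IsDomain R] [IsNoetherianRing R]
    [CharZero R] (h : CAlg.IsN1 R) : CAlg.IsN2 R := by
  intro L _ _ _ _ hfd
  let K := FractionRing R
  let R' := integralClosure R K
  have hfin : Module.Finite R R' := h
  have hfrac : IsFractionRing R' K := integralClosure.isFractionRing_of_finite_extension K K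
  have hic : IsIntegrallyClosed R' := integralClosure.isIntegrallyClosedOfFiniteExtension K (L := K)
  have hnoeth : IsNoetherianRing R' := by
    have : IsNoetherian R R' := isNoetherian_of_isNoetherianRing_of_finite R R'
    exact isNoetherianRing_iff.mpr (isNoetherian_of_tower R this)
  have hchar : CharZero K := charZero_of_injective_algebraMap (IsFractionRing.injective R K)
  have hsep : Algebra.IsSeparable K L := Algebra.IsAlgebraic.isSeparable_of_perfectField
  have hst : IsScalarTower R' K L := IsScalarTower.of_algebraMap_eq (fun x => rfl)
  let C := integralClosure R' L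
  have hC : Module.Finite R' C := IsIntegralClosure.finite R' K L C
  have hCR : Module.Finite R C := Module.Finite.trans R' C
  have hint : Algebra.IsIntegral R R' := inferInstance
  let φ : C →ₗ[R] integralClosure R L :=
    { toFun := fun x => ⟨x.1, isIntegral_trans (A := R') x.1 x.2⟩
      map_add' := fun x y => rfl
      map_smul' := fun r x => by
        apply Subtype.ext
        simp only [RingHom.id_apply]
        rfl }
  have hφ : Function.Surjective φ := by
    rintro ⟨x, hx⟩
    exact ⟨⟨x, hx.tower_top⟩, rfl⟩
  exact Module.Finite.of_surjective φ hφ

end Groth.Agent.H3
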