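import Mathlib
import Groth.Agent.H57.NoEmb.Defs
import Groth.Agent.H57.RelAssSU.Key
import Groth.Agent.H57.RelAssSU.Bridge
import Groth.Agent.H57.RelAssBC2
import Groth.Agent.H24.ConsLocus
import Groth.Agent.H42.FPKernel
set_option autoImplicit false
set_option linter.style.haveILetI false
universe u
open AlgebraicGeometry CategoryTheory Limits TopologicalSpace
open Groth.Agent.H57.NoEmb

namespace Groth.Agent.H3.NE_ISO

/-- associated points are invariant under isomorphism -/
theorem ass_eq_of_iso {Z : Scheme.{u}} {M N : Z.Modules} (e : M ≅ N) :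
    AssSch.Ass M = AssSch.Ass N := by
  ext x
  let l : M.presheaf.stalk x ≃ₗ[Z.presheaf.stalk x] N.presheaf.stalk x :=
    LinearEquiv.ofBijective (Groth.Agent.H17.StalkSeq.stalkMapₗ e.hom x)
      (Groth.Agent.H17.ReflSheaf.stalkMap_bijective_of_isIso e.hom x)
  exact l.isAssociatedPrime_iff

theorem noEmbedded_iff_of_iso {Z : Scheme.{u}} {M N : Z.Modules} (e : M ≅ N) :
    AssSch.NoEmbedded M ↔ AssSch.NoEmbedded N := by
  unfold AssSch.NoEmbedded
  rw [ass_eq_of_iso e]

end Groth.Agent.H3.NE_ISO
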