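import Mathlib
import Groth.Agent.H57.NoEmb.Defs
import Groth.Agent.H57.RelAssSU.Key
import Groth.Agent.H57.RelAssSU.Bridge
import Groth.Agent.H57.RelAssBC2
import Groth.Agent.H24.ConsLocus
import Groth.Agent.H42.FPKernel
set_option autoImplicit false
set_option linter.style.haveILetI false
universe u
open AlgebraicGeometry CategoryTheory Limits TopologicalSpace
open Groth.Agent.H57.NoEmb

namespace Groth.Agent.H3.NE_LCPRE

theorem isLocallyConstructible_preimage {X Y : Scheme.{u}} (h : X ⟶ Y) (T : Set Y)
    (hT : Topology.IsLocallyConstructible T) : Topology.IsLocallyConstructible (h ⁻¹' T) := by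
  rw [Groth.Agent.S3402.result] at hT ⊢
  obtain ⟨hind, hpro⟩ := hT
  refine ⟨Groth.Agent.S15543.result h T hind, ?_⟩
  rw [Groth.Agent.H17.isProConstructible_iff_compl] at hpro ⊢
  have := Groth.Agent.S15543.result h Tᶜ hpro
  simpa [Set.preimage_compl] using this

end Groth.Agent.H3.NE_LCPRE
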