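import Mathlib
import Groth.Prelude.Def_DRing2
import Groth.Agent.H75.PD_NS
import Groth.Agent.H75.PD_G2
import Groth.Agent.H10.PD_G1
import Groth.Agent.H75.PD_LR
import Groth.Agent.H29.PD_SE
import Groth.Agent.H96.PD_SM
import Groth.Agent.H44.PD_GL
import Groth.Agent.H35.PD_TI

/-!
# Perfect diagonal ⇒ smooth (S2206, S6503): assembly

Pieces by helper35 (TI), helper75 (NS, G2, LR), helper29 (SE), helper10 (G1).
-/

set_option autoImplicit false
universe u
open TensorProduct IsLocalRing

namespace Groth.Agent.H3.PD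


/-- regularity of the geometric fibres at closed points. -/
theorem regular_point {A B : Type u} [CommRing A] [CommRing B] [Algebra A B]
    [IsNoetherianRing A] [Algebra.FiniteType A B] [Module.Flat A B]
    [Algebra (B ⊗[A] B) B] (hmul : ∀ x y : B, algebraMap (B ⊗[A] B) B (x ⊗ₜ[A] y) = x * y)
    (h : DRing.HasFiniteTorDim (B ⊗[A] B) B)
    (Ω : Type u) [Field Ω] [IsAlgClosed Ω] [Algebra A Ω]
    (𝔪 : Ideal (Ω ⊗[A] B)) [𝔪.IsMaximal] : IsRegularLocalRing (Localization.AtPrime 𝔪) := by
  obtain ⟨π, hπ⟩ := Groth.Agent.H75.PD_NS.exists_point_of_isMaximal (Ω := Ω) 𝔪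
  have h1 := Groth.Agent.H35.PD_TI.point_finiteTorDim hmul h Ω π
  have h2 := Groth.Agent.H75.PD_LR.hasFiniteTorDim_residueField_of_point π h1 𝔪 hπ
  haveI : IsNoetherianRing (Ω ⊗[A] B) :=
    Algebra.FiniteType.isNoetherianRing Ω (Ω ⊗[A] B)
  exact Groth.Agent.H29.PD_SE.isRegularLocalRing_of_hasFiniteTorDim_residueField _ h2

/-- S2206. -/
theorem main {A B : Type u} [CommRing A] [CommRing B]
    [Algebra A B] [IsNoetherianRing A] [Algebra.FiniteType A B] [Module.Flat A B]
    [Algebra (B ⊗[A] B) B]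
    (hmul : ∀ x y : B, algebraMap (B ⊗[A] B) B (x ⊗ₜ[A] y) = x * y)
    (h : DRing.HasFiniteTorDim (B ⊗[A] B) B) : Algebra.Smooth A B := by
  haveI : Algebra.FinitePresentation A B :=
    Algebra.FinitePresentation.of_finiteType.mp inferInstance
  refine Algebra.Smooth.of_formallySmooth_fiber fun p _ => ?_
  refine Groth.Agent.H10.PD_G1.formallySmooth_of_regular_geometric p.ResidueField (p.Fiber B)
    (AlgebraicClosure p.ResidueField) ?_
  exact Groth.Agent.H75.PD_G2.regular_transport (A := A) (B := B) (κ := p.ResidueField)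
    (Ω := AlgebraicClosure p.ResidueField)
    (fun 𝔪 _ => regular_point hmul h (AlgebraicClosure p.ResidueField) 𝔪)

/-- S6503. -/
theorem main2 {A B : Type u} [CommRing A] [CommRing B]
    [Algebra A B] [IsNoetherianRing A] [IsNoetherianRing B] [IsLocalRing A] [IsLocalRing B]
    [IsLocalHom (algebraMap A B)] [Module.Flat A B] [Algebra.EssFiniteType A B]
    [Algebra (B ⊗[A] B) B]
    (hmul : ∀ x y : B, algebraMap (B ⊗[A] B) B (x ⊗ₜ[A] y) = x * y)
    (h : DRing.HasFiniteTorDim (B ⊗[A] B) B) :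
    ∃ (C : Type u) (_ : CommRing C) (_ : Algebra A C) (_ : Algebra C B) (_ : IsScalarTower A C B)
      (q : Ideal C) (_ : q.IsPrime), Algebra.Smooth A C ∧ IsLocalization.AtPrime B q := by
  obtain ⟨S₀, M, hft, hloc⟩ := (Algebra.essFiniteType_iff_exists_subalgebra A B).mp
    (inferInstance : Algebra.EssFiniteType A B)
  haveI := hft
  haveI := hloc
  haveI : Algebra.FinitePresentation A S₀ := Algebra.FinitePresentation.of_finiteType.mp hft
  -- the geometric point
  let Ω := AlgebraicClosure (ResidueField B)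
  haveI : IsScalarTower A B Ω := inferInstance
  have hχ : RingHom.ker (algebraMap B Ω) = maximalIdeal B := by
    rw [IsScalarTower.algebraMap_eq B (ResidueField B) Ω, ← RingHom.comap_ker,
      (RingHom.injective_iff_ker_eq_bot _).mp (algebraMap (ResidueField B) Ω).injective]
    exact IsLocalRing.ker_residue
  let π : Ω ⊗[A] B →ₐ[Ω] Ω :=
    Algebra.TensorProduct.lift (Algebra.ofId Ω Ω) (IsScalarTower.toAlgHom A B Ω)
      (fun _ _ => Commute.all _ _)
  have hπ : ∀ b : B, π (1 ⊗ₜ[A] b) = algebraMap B Ω b := fun b => by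
    simp [π]
  have hsurj : Function.Surjective π.toRingHom := fun ω => ⟨ω ⊗ₜ 1, by simp [π]⟩
  haveI hmax : (RingHom.ker π.toRingHom).IsMaximal := RingHom.ker_isMaximal_of_surjective _ hsurj
  have h1 := Groth.Agent.H35.PD_TI.point_finiteTorDim hmul h Ω π
  have h2 := Groth.Agent.H75.PD_LR.hasFiniteTorDim_residueField_of_point π h1 _ rfl
  haveI : IsNoetherianRing (Ω ⊗[A] B) := Algebra.EssFiniteType.isNoetherianRing Ω _
  have hreg := Groth.Agent.H29.PD_SE.isRegularLocalRing_of_hasFiniteTorDim_residueField _ h2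
  haveI := Groth.Agent.H44.PD_GL.formallySmooth_closedFibre_of_regular (A := A) (B := B) Ω hχ π hπ _ rfl hreg
  haveI : Algebra.FormallySmooth A B :=
    Algebra.FormallySmooth.of_formallySmooth_residueField_tensor (P := S₀) M
  exact Groth.Agent.H96.PD_SM.exists_smooth_model

end Groth.Agent.H3.PD
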