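import Mathlib
import Groth.Agent.H3.HPair10
import Groth.Agent.H3.HPair9

/-!
# The henselization of a pair, as a filtered colimit

For a commutative ring `R` and an `R`-algebra `K` (any commutative ring), `EtPt R K` is the small
category of étale `R`-algebras (presented as quotients of polynomial rings) with an `R`-algebra map
to `K`.  It is filtered, and `H R K` is the colimit of the underlying rings.  (The construction
follows the one for fields `K` in `Groth.Agent.H47.HensK`.)
-/

set_option autoImplicit false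
set_option linter.unusedSimpArgs false
set_option linter.unusedVariables false
set_option linter.style.haveILetI false
universe u
open CategoryTheory CategoryTheory.Limits TensorProduct

namespace Groth.Agent.H3.PH

/-- The coequalizer of two maps out of an unramified algebra of finite type is a localization at
an idempotent. -/
theorem exists_idempotent_coequalizer {R : Type u} [CommRing R] (S₁ S₂ : Type u) [CommRing S₁]
    [CommRing S₂] [Algebra R S₁] [Algebra R S₂] [Algebra.FormallyUnramified R S₁]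
    [Algebra.EssFiniteType R S₁] (φ ψ : S₁ →ₐ[R] S₂) :
    ∃ e' : S₂, IsIdempotentElem e' ∧
      Ideal.span (Set.range fun a : S₁ => φ a - ψ a) = Ideal.span {1 - e'} := by
  set K : Ideal S₂ := Ideal.span (Set.range fun a : S₁ => φ a - ψ a) with hKdef
  let θ : S₁ ⊗[R] S₁ →ₐ[R] S₂ := Algebra.TensorProduct.lift φ ψ (fun _ _ => Commute.all _ _)
  let e := Algebra.FormallyUnramified.elem R S₁
  have hθ : ∀ s : S₁, θ (1 ⊗ₜ s - s ⊗ₜ 1) = ψ s - φ s := by
    intro s
    rw [map_sub, Algebra.TensorProduct.lift_tmul, Algebra.TensorProduct.lift_tmul]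
    simp
  have h1 : ∀ s : S₁, (φ s - ψ s) * θ e = 0 := by
    intro s
    have := congrArg θ (Algebra.FormallyUnramified.one_tmul_sub_tmul_one_mul_elem (R := R) s)
    rw [map_mul, hθ, map_zero] at this
    rw [← neg_sub, neg_mul, this, neg_zero]
  have hK : ∀ x ∈ K, x * θ e = 0 := by
    intro x hx
    refine Submodule.span_induction (p := fun x _ => x * θ e = 0) ?_ ?_ ?_ ?_ hx
    · rintro _ ⟨s, rfl⟩
      exact h1 s
    · exact zero_mul _
    · intro x y _ _ hx hy
      rw [add_mul, hx, hy, add_zero]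
    · intro a x _ hx
      rw [smul_eq_mul, mul_assoc, hx, mul_zero]
  have h2 : 1 - θ e ∈ K := by
    have hmem : (1 - e : S₁ ⊗[R] S₁) ∈ KaehlerDifferential.ideal R S₁ := by
      show Algebra.TensorProduct.lmul' R (1 - e) = 0
      rw [map_sub, map_one, Algebra.FormallyUnramified.lmul_elem, sub_self]
    rw [← KaehlerDifferential.span_range_eq_ideal] at hmem
    have hmap := Ideal.mem_map_of_mem θ.toRingHom hmem
    rw [Ideal.map_span] at hmap
    have hle : Ideal.span (θ.toRingHom '' (Set.range fun s : S₁ =>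
        (1 : S₁) ⊗ₜ[R] s - s ⊗ₜ[R] (1 : S₁))) ≤ K := by
      rw [Ideal.span_le]
      rintro _ ⟨_, ⟨s, rfl⟩, rfl⟩
      show θ (1 ⊗ₜ s - s ⊗ₜ 1) ∈ K
      rw [hθ, ← neg_sub]
      exact K.neg_mem (Ideal.subset_span ⟨s, rfl⟩)
    have := hle hmap
    simpa using this
  have hidem : IsIdempotentElem (θ e) := by
    have := hK _ h2
    rw [sub_mul, one_mul, sub_eq_zero] at this
    exact this.symm
  refine ⟨θ e, hidem, le_antisymm ?_ ?_⟩
  · rw [hKdef, Ideal.span_le]
    rintro _ ⟨s, rfl⟩
    rw [SetLike.mem_coe, Ideal.mem_span_singleton']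
    refine ⟨φ s - ψ s, ?_⟩
    rw [mul_sub, mul_one, h1 s, sub_zero]
  · rw [Ideal.span_le, Set.singleton_subset_iff]
    exact h2

/-- Étale `R`-algebras with a `K`-point, presented as quotients of polynomial rings. -/
structure EtPt (R : Type u) [CommRing R] (K : Type u) [CommRing K] [Algebra R K] : Type u where
  n : ℕ
  I : Ideal (MvPolynomial (Fin n) R)
  etale : Algebra.Etale R (MvPolynomial (Fin n) R ⧸ I)
  χ : (MvPolynomial (Fin n) R ⧸ I) →ₐ[R] K

namespace EtPt

variable {R : Type u} [CommRing R] {K : Type u} [CommRing K] [Algebra R K]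

/-- The underlying algebra. -/
abbrev A (X : EtPt R K) : Type u := MvPolynomial (Fin X.n) R ⧸ X.I

instance (X : EtPt R K) : Algebra.Etale R X.A := X.etale

/-- Morphisms: algebra maps compatible with the points. -/
@[ext]
structure Hom (X Y : EtPt R K) where
  f : X.A →ₐ[R] Y.A
  w : Y.χ.comp f = X.χ

noncomputable instance : Category (EtPt R K) where
  Hom X Y := EtPt.Hom X Y
  id X := ⟨AlgHom.id R X.A, AlgHom.comp_id _⟩
  comp f g := ⟨g.f.comp f.f, by rw [← AlgHom.comp_assoc, g.w, f.w]⟩
  id_comp f := Hom.ext (AlgHom.comp_id _)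
  comp_id f := Hom.ext (AlgHom.id_comp _)
  assoc f g h := Hom.ext (AlgHom.comp_assoc _ _ _).symm

theorem comp_f {X Y Z : EtPt R K} (f : X ⟶ Y) (g : Y ⟶ Z) : (f ≫ g).f = g.f.comp f.f := rfl

/-- Every étale algebra with a point is isomorphic to an object of `EtPt`. -/
theorem exists_obj (A : Type u) [CommRing A] [Algebra R A] [Algebra.Etale R A]
    (χ : A →ₐ[R] K) :
    ∃ (X : EtPt R K) (e : A ≃ₐ[R] X.A), X.χ.comp e.toAlgHom = χ := by
  obtain ⟨n, f, hf, -⟩ := Algebra.FinitePresentation.out (R := R) (A := A)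
  let e := Ideal.quotientKerAlgEquivOfSurjective hf
  refine ⟨⟨n, RingHom.ker f, Algebra.Etale.of_equiv e.symm, χ.comp e.toAlgHom⟩, e.symm, ?_⟩
  ext a
  simp

/-- An étale algebra over an object, with a compatible point, gives a new object. -/
theorem exists_obj_over (X : EtPt R K) (B : Type u) [CommRing B] [Algebra X.A B]
    [Algebra.Etale X.A B] (χ' : B →+* K)
    (hχ' : ∀ a, χ' (algebraMap X.A B a) = X.χ a) :
    ∃ (Z : EtPt R K) (f : X ⟶ Z) (j : B →+* Z.A),
      (∀ a, j (algebraMap X.A B a) = f.f a) ∧ (∀ b, Z.χ (j b) = χ' b) := by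
  letI : Algebra R B := ((algebraMap X.A B).comp (algebraMap R X.A)).toAlgebra
  haveI := IsScalarTower.of_algebraMap_eq (R := R) (S := X.A) (A := B) (fun _ => rfl)
  haveI : Algebra.Etale R B := Algebra.Etale.comp R X.A B
  let χ'' : B →ₐ[R] K :=
    { toRingHom := χ'
      commutes' := fun r => by
        show χ' (algebraMap X.A B (algebraMap R X.A r)) = _
        rw [hχ', X.χ.commutes] }
  obtain ⟨Z, e, he⟩ := exists_obj B χ''
  refine ⟨Z, ⟨e.toAlgHom.comp (IsScalarTower.toAlgHom R X.A B), ?_⟩, e.toAlgHom.toRingHom,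
    fun a => rfl, fun b => AlgHom.congr_fun he b⟩
  rw [← AlgHom.comp_assoc, he]
  exact AlgHom.ext fun a => hχ' a

theorem cocone_objs (X Y : EtPt R K) : ∃ (Z : EtPt R K) (_ : X ⟶ Z) (_ : Y ⟶ Z), True := by
  haveI : Algebra.Etale X.A (X.A ⊗[R] Y.A) := inferInstance
  haveI : Algebra.Etale R (X.A ⊗[R] Y.A) := Algebra.Etale.comp R X.A _
  obtain ⟨Z, e, he⟩ := exists_obj (X.A ⊗[R] Y.A)
    (Algebra.TensorProduct.lift X.χ Y.χ (fun _ _ => Commute.all _ _))
  refine ⟨Z, ⟨e.toAlgHom.comp Algebra.TensorProduct.includeLeft, ?_⟩,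
    ⟨e.toAlgHom.comp Algebra.TensorProduct.includeRight, ?_⟩, trivial⟩
  · rw [← AlgHom.comp_assoc, he]
    exact AlgHom.ext fun a => by simp
  · rw [← AlgHom.comp_assoc, he]
    exact AlgHom.ext fun a => by simp

theorem cocone_maps {X Y : EtPt R K} (f g : X ⟶ Y) :
    ∃ (Z : EtPt R K) (h : Y ⟶ Z), f ≫ h = g ≫ h := by
  obtain ⟨e', he', hK⟩ := exists_idempotent_coequalizer (R := R) X.A Y.A f.f g.f
  set K : Ideal Y.A := Ideal.span (Set.range fun a : X.A => f.f a - g.f a) with hKdef
  have hkerK : RingHom.ker (algebraMap Y.A (Y.A ⧸ K)) = Ideal.span {1 - e'} := by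
    rw [← hK]
    exact Ideal.mk_ker
  haveI := IsLocalization.away_of_isIdempotentElem (R := Y.A) (S := Y.A ⧸ K) he' hkerK
    Ideal.Quotient.mk_surjective
  haveI : Algebra.Etale Y.A (Y.A ⧸ K) := Algebra.Etale.of_isLocalizationAway e'
  haveI : Algebra.Etale R (Y.A ⧸ K) := Algebra.Etale.comp R Y.A _
  have hker : ∀ x ∈ K, Y.χ x = 0 := by
    intro x hx
    have hle : K ≤ RingHom.ker Y.χ.toRingHom := by
      rw [hKdef, Ideal.span_le]
      rintro _ ⟨a, rfl⟩
      rw [SetLike.mem_coe, RingHom.mem_ker, map_sub, sub_eq_zero]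
      exact (AlgHom.congr_fun f.w a).trans (AlgHom.congr_fun g.w a).symm
    exact hle hx
  obtain ⟨Z, e, he⟩ := exists_obj (Y.A ⧸ K) (Ideal.Quotient.liftₐ K Y.χ hker)
  refine ⟨Z, ⟨e.toAlgHom.comp (Ideal.Quotient.mkₐ R K), ?_⟩, ?_⟩
  · rw [← AlgHom.comp_assoc, he]
    exact AlgHom.ext fun a => rfl
  · apply Hom.ext
    refine AlgHom.ext fun a => ?_
    show e (Ideal.Quotient.mk K (f.f a)) = e (Ideal.Quotient.mk K (g.f a))
    congr 1
    rw [Ideal.Quotient.eq]
    exact Ideal.subset_span ⟨a, rfl⟩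

instance : Nonempty (EtPt R K) := by
  obtain ⟨X, -, -⟩ := exists_obj (K := K) R (Algebra.ofId R K)
  exact ⟨X⟩

instance : IsFiltered (EtPt R K) :=
  haveI : IsFilteredOrEmpty (EtPt R K) := ⟨cocone_objs, fun _ _ f g => cocone_maps f g⟩
  ⟨⟩

end EtPt

open EtPt

variable (R : Type u) [CommRing R] (K : Type u) [CommRing K] [Algebra R K]

/-- The diagram of underlying rings. -/
noncomputable def F : EtPt R K ⥤ CommRingCat.{u} where
  obj X := CommRingCat.of X.A
  map f := CommRingCat.ofHom f.f.toRingHom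
  map_id _ := rfl
  map_comp _ _ := rfl

/-- The colimit ring. -/
def H : Type u := (colimit (F R K) : CommRingCat.{u})

noncomputable instance : CommRing (H R K) :=
  inferInstanceAs (CommRing (colimit (F R K) : CommRingCat.{u}))

/-- The structure maps of the colimit. -/
noncomputable def ι (X : EtPt R K) : X.A →+* H R K := (colimit.ι (F R K) X).hom

theorem ι_map {X Y : EtPt R K} (f : X ⟶ Y) (a : X.A) : ι R K Y (f.f a) = ι R K X a := by
  have h := congrArg (fun g : (F R K).obj X ⟶ colimit (F R K) => g.hom a) (colimit.w (F R K) f)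
  exact h

theorem exists_rep (x : H R K) : ∃ (X : EtPt R K) (a : X.A), ι R K X a = x := by
  obtain ⟨X, a, h⟩ := Concrete.colimit_exists_rep (F R K) x
  exact ⟨X, a, h⟩

theorem ι_eq_iff {X Y : EtPt R K} (a : X.A) (b : Y.A) :
    ι R K X a = ι R K Y b ↔ ∃ (Z : EtPt R K) (f : X ⟶ Z) (g : Y ⟶ Z), f.f a = g.f b :=
  Concrete.colimit_rep_eq_iff_exists (F R K) (i := X) (j := Y) a b

/-- The cocone attached to a compatible family of ring maps. -/
noncomputable def descCocone {T : Type u} [CommRing T] (φ : ∀ X : EtPt R K, X.A →+* T)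
    (hφ : ∀ (X Y : EtPt R K) (f : X ⟶ Y), (φ Y).comp f.f.toRingHom = φ X) : Cocone (F R K) where
  pt := CommRingCat.of T
  ι :=
    { app := fun X => CommRingCat.ofHom (φ X)
      naturality := fun X Y f => by
        apply CommRingCat.hom_ext
        apply RingHom.ext
        intro a
        exact RingHom.congr_fun (hφ X Y f) a }

/-- Maps out of the colimit. -/
noncomputable def desc {T : Type u} [CommRing T] (φ : ∀ X : EtPt R K, X.A →+* T)
    (hφ : ∀ (X Y : EtPt R K) (f : X ⟶ Y), (φ Y).comp f.f.toRingHom = φ X) : H R K →+* T :=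
  (colimit.desc (F R K) (descCocone R K φ hφ)).hom

theorem desc_ι {T : Type u} [CommRing T] (φ : ∀ X : EtPt R K, X.A →+* T)
    (hφ : ∀ (X Y : EtPt R K) (f : X ⟶ Y), (φ Y).comp f.f.toRingHom = φ X) (X : EtPt R K)
    (a : X.A) : desc R K φ hφ (ι R K X a) = φ X a := by
  have h := congrArg (fun g : (F R K).obj X ⟶ CommRingCat.of T => g.hom a)
    (colimit.ι_desc (descCocone R K φ hφ) X)
  exact h

theorem hom_ext {T : Type u} [CommRing T] {g g' : H R K →+* T}
    (h : ∀ (X : EtPt R K) (a : X.A), g (ι R K X a) = g' (ι R K X a)) : g = g' := by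
  ext x
  obtain ⟨X, a, rfl⟩ := exists_rep R K x
  exact h X a

theorem exists_rep_finset (s : Finset (H R K)) :
    ∃ X : EtPt R K, ∀ x ∈ s, ∃ a : X.A, ι R K X a = x := by
  classical
  induction s using Finset.induction_on with
  | empty => exact ⟨Classical.arbitrary _, by simp⟩
  | insert x s hx ih =>
    obtain ⟨X, hX⟩ := ih
    obtain ⟨Y, a, rfl⟩ := exists_rep R K x
    obtain ⟨Z, f, g, -⟩ := cocone_objs X Y
    refine ⟨Z, fun y hy => ?_⟩
    rcases Finset.mem_insert.mp hy with rfl | hy
    · exact ⟨g.f a, ι_map R K g a⟩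
    · obtain ⟨b, rfl⟩ := hX y hy
      exact ⟨f.f b, ι_map R K f b⟩

/-- The canonical point of the colimit. -/
noncomputable def ε : H R K →+* K :=
  desc R K (fun X => X.χ.toRingHom) (fun X Y f => RingHom.ext fun a => AlgHom.congr_fun f.w a)

theorem ε_ι (X : EtPt R K) (a : X.A) : ε R K (ι R K X a) = X.χ a := desc_ι R K _ _ X a

/-- A base object, used to define the algebra structure. -/
noncomputable def X₀ : EtPt R K := Classical.arbitrary _

noncomputable instance : Algebra R (H R K) :=
  ((ι R K (X₀ R K)).comp (algebraMap R (X₀ R K).A)).toAlgebra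

theorem ι_algebraMap (X : EtPt R K) (r : R) :
    ι R K X (algebraMap R X.A r) = algebraMap R (H R K) r := by
  obtain ⟨Z, f, g, -⟩ := cocone_objs X (X₀ R K)
  show _ = ι R K (X₀ R K) (algebraMap R _ r)
  rw [← ι_map R K f, ← ι_map R K g, f.f.commutes, g.f.commutes]

/-- The structure maps as algebra maps. -/
noncomputable def ιₐ (X : EtPt R K) : X.A →ₐ[R] H R K :=
  { ι R K X with commutes' := ι_algebraMap R K X }

theorem ε_algebraMap (r : R) : ε R K (algebraMap R (H R K) r) = algebraMap R K r := by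
  rw [← ι_algebraMap R K (X₀ R K), ε_ι, AlgHom.commutes]

theorem ιₐ_comp {X Z : EtPt R K} (u : X ⟶ Z) : (ιₐ R K Z).comp u.f = ιₐ R K X :=
  AlgHom.ext (ι_map R K u)

/-- Elements whose value at the point is a unit are units. -/
theorem isUnit_of_isUnit_ε (x : H R K) (hx : IsUnit (ε R K x)) : IsUnit x := by
  obtain ⟨X, a, rfl⟩ := exists_rep R K x
  rw [ε_ι] at hx
  haveI : Algebra.Etale X.A (Localization.Away a) := Algebra.Etale.of_isLocalizationAway a
  have hu : ∀ y : Submonoid.powers a, IsUnit (X.χ.toRingHom y) := by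
    rintro ⟨_, n, rfl⟩
    show IsUnit (X.χ (a ^ n))
    rw [map_pow]
    exact hx.pow n
  obtain ⟨Z, f, j, hj, -⟩ := exists_obj_over X (Localization.Away a) (IsLocalization.lift hu)
    (fun b => IsLocalization.lift_eq hu b)
  rw [← ι_map R K f, ← hj]
  exact ((IsLocalization.Away.algebraMap_isUnit a).map j).map (ι R K Z)

/-! ### Flatness -/

theorem lift_lsmul_natural {R : Type*} [CommRing R] (I : Ideal R) {M N : Type*} [AddCommGroup M]
    [Module R M] [AddCommGroup N] [Module R N] (φ : M →ₗ[R] N) (z : I ⊗[R] M) :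
    TensorProduct.lift ((LinearMap.lsmul R N).comp I.subtype) (φ.lTensor I z) =
      φ (TensorProduct.lift ((LinearMap.lsmul R M).comp I.subtype) z) := by
  induction z using TensorProduct.induction_on with
  | zero => simp
  | tmul i m => simp
  | add x y hx hy => simp only [map_add, hx, hy]

theorem exists_rep_tensor {N : Type u} [AddCommGroup N] [Module R N] (z : N ⊗[R] H R K) :
    ∃ (X : EtPt R K) (zX : N ⊗[R] X.A), (ιₐ R K X).toLinearMap.lTensor N zX = z := by
  induction z using TensorProduct.induction_on with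
  | zero => exact ⟨Classical.arbitrary _, 0, map_zero _⟩
  | tmul n h =>
    obtain ⟨X, a, rfl⟩ := exists_rep R K h
    exact ⟨X, n ⊗ₜ a, rfl⟩
  | add x y hx hy =>
    obtain ⟨X, zX, rfl⟩ := hx
    obtain ⟨Y, zY, rfl⟩ := hy
    obtain ⟨Z, u, v, -⟩ := cocone_objs X Y
    refine ⟨Z, u.f.toLinearMap.lTensor N zX + v.f.toLinearMap.lTensor N zY, ?_⟩
    rw [map_add, ← LinearMap.lTensor_comp_apply, ← LinearMap.lTensor_comp_apply,
      ← AlgHom.comp_toLinearMap, ← AlgHom.comp_toLinearMap, ιₐ_comp, ιₐ_comp]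

instance flat : Module.Flat R (H R K) := by
  rw [Module.Flat.iff_lift_lsmul_comp_subtype_injective]
  intro I hI
  rw [injective_iff_map_eq_zero]
  intro z hz
  obtain ⟨X, zX, rfl⟩ := exists_rep_tensor R K z
  rw [lift_lsmul_natural I (ιₐ R K X).toLinearMap zX] at hz
  have hz' : ι R K X (TensorProduct.lift ((LinearMap.lsmul R X.A).comp I.subtype) zX) =
      ι R K X 0 := by
    rw [map_zero]
    exact hz
  obtain ⟨Z, u, v, huv⟩ := (ι_eq_iff R K _ _).mp hz'
  rw [map_zero] at huv
  have h2 := lift_lsmul_natural I u.f.toLinearMap zX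
  have hflat : Function.Injective
      (TensorProduct.lift ((LinearMap.lsmul R Z.A).comp I.subtype)) :=
    (Module.Flat.iff_lift_lsmul_comp_subtype_injective.mp inferInstance) hI
  have h3 : u.f.toLinearMap.lTensor I zX = 0 := by
    apply hflat
    rw [h2, map_zero]
    exact huv
  rw [← ιₐ_comp R K u, AlgHom.comp_toLinearMap, LinearMap.lTensor_comp_apply, h3, map_zero]

end Groth.Agent.H3.PH
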