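import Groth.Agent.H3.PH11

/-!
# Descending a finitely presented algebra over a henselization to an étale neighbourhood
-/

set_option autoImplicit false
set_option linter.unusedSimpArgs false
set_option linter.unusedVariables false
set_option linter.style.haveILetI false
universe u
open TensorProduct

namespace Groth.Agent.H3.PH

theorem exists_fp_descent {R : Type u} [CommRing R] (K : Ideal R) (B : Type u) [CommRing B]
    [Algebra R B] (hB : Hens2.IsPairHenselization R K B)
    (S : Type u) [CommRing S] [Algebra B S] [Algebra.FinitePresentation B S]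
    (C : Type u) [CommRing C] [Algebra S C]
    (hC : Hens2.IsPairHenselization S ((K.map (algebraMap R B)).map (algebraMap B S)) C) :
    ∃ (T : Type u) (_ : CommRing T) (_ : Algebra R T) (_ : Algebra.FinitePresentation R T)
      (θ : T →+* S),
      (∀ r, θ (algebraMap R T r) = algebraMap B S (algebraMap R B r)) ∧
      @Hens2.IsPairHenselization T _ (K.map (algebraMap R T)) C _
        ((algebraMap S C).comp θ).toAlgebra := by
  classical
  obtain ⟨m, π, hπ, G, hG⟩ := Algebra.FinitePresentation.out (R := B) (A := S)
  obtain ⟨E, iE1, iE2, iE3, hq, ρ, hρ⟩ :=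
    exists_nbhd_rep_finset K B hB (G.biUnion fun g => g.coeffs)
  have hlift : ∀ g ∈ G, ∃ g' : MvPolynomial (Fin m) E, MvPolynomial.map ρ.toRingHom g' = g := by
    intro g hg
    have : g ∈ Set.range (MvPolynomial.map ρ.toRingHom) := by
      rw [MvPolynomial.mem_range_map_iff_coeffs_subset]
      intro c hc
      obtain ⟨y, hy⟩ := hρ c (Finset.mem_biUnion.mpr ⟨g, hg, hc⟩)
      exact ⟨y, hy⟩
    exact this
  choose! g' hg' using hlift
  obtain ⟨KT, hKT⟩ : ∃ KT : Ideal (MvPolynomial (Fin m) E),
    KT = Ideal.span ((G.image g' : Finset _) : Set (MvPolynomial (Fin m) E)) := ⟨_, rfl⟩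
  have hTfp : Algebra.FinitePresentation R (MvPolynomial (Fin m) E ⧸ KT) := by
    rw [hKT]
    exact Algebra.FinitePresentation.quotient ⟨G.image g', rfl⟩
  have hθker : ∀ p ∈ KT, (π.toRingHom.comp (MvPolynomial.map ρ.toRingHom)) p = 0 := by
    have hle : KT ≤ RingHom.ker (π.toRingHom.comp (MvPolynomial.map ρ.toRingHom)) := by
      rw [hKT, Ideal.span_le]
      intro p hp
      obtain ⟨g, hg, rfl⟩ := Finset.mem_image.mp (Finset.mem_coe.mp hp)
      rw [SetLike.mem_coe, RingHom.mem_ker]
      show π (MvPolynomial.map ρ.toRingHom (g' g)) = 0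
      rw [hg' g hg]
      have : g ∈ RingHom.ker π.toRingHom := by
        rw [← hG]
        exact Ideal.subset_span hg
      exact this
    exact fun p hp => hle hp
  obtain ⟨θ, hθmk⟩ : ∃ θ : MvPolynomial (Fin m) E ⧸ KT →+* S,
      ∀ p, θ (Ideal.Quotient.mk KT p) = π (MvPolynomial.map ρ.toRingHom p) :=
    ⟨Ideal.Quotient.lift KT (π.toRingHom.comp (MvPolynomial.map ρ.toRingHom)) hθker,
      fun p => rfl⟩
  have hθR : ∀ r, θ (algebraMap R (MvPolynomial (Fin m) E ⧸ KT) r) =
      algebraMap B S (algebraMap R B r) := by
    intro r
    show θ (Ideal.Quotient.mk KT (MvPolynomial.C (algebraMap R E r))) = _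
    rw [hθmk, MvPolynomial.map_C]
    have h1 : ρ.toRingHom (algebraMap R E r) = algebraMap R B r := ρ.commutes r
    rw [h1, ← MvPolynomial.algebraMap_eq, π.commutes]
  refine ⟨MvPolynomial (Fin m) E ⧸ KT, inferInstance, inferInstance, hTfp, θ, hθR, ?_⟩
  · 
    letI : Algebra (MvPolynomial (Fin m) E ⧸ KT) C := ((algebraMap S C).comp θ).toAlgebra
    have halgTC : ∀ x, algebraMap (MvPolynomial (Fin m) E ⧸ KT) C x = algebraMap S C (θ x) :=
      fun x => rfl
    letI : Algebra E B := ρ.toRingHom.toAlgebra
    haveI : IsScalarTower R E B := IsScalarTower.of_algebraMap_eq (fun x => (ρ.commutes x).symm)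
    have hBE := isPairHenselization_of_nbhd K B hB E hq
    refine ⟨?_, ?_⟩
    · have hid : (K.map (algebraMap R (MvPolynomial (Fin m) E ⧸ KT))).map
          (algebraMap (MvPolynomial (Fin m) E ⧸ KT) C) =
          ((K.map (algebraMap R B)).map (algebraMap B S)).map (algebraMap S C) := by
        rw [Ideal.map_map, Ideal.map_map, Ideal.map_map]
        congr 1
        ext r
        show algebraMap S C (θ (algebraMap R _ r)) = _
        rw [hθR]
        rfl
      rw [hid]
      exact hC.1
    · intro D _ J t hD hJ
      let algET : E →+* MvPolynomial (Fin m) E ⧸ KT :=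
        (Ideal.Quotient.mk KT).comp MvPolynomial.C
      have hJe : (K.map (algebraMap R E)).map (t.comp algET) ≤ J := by
        rw [Ideal.map_map]
        have : (t.comp algET).comp (algebraMap R E) =
            t.comp (algebraMap R (MvPolynomial (Fin m) E ⧸ KT)) := rfl
        rw [this, ← Ideal.map_map]
        exact hJ
      obtain ⟨b, hb, hbuniq⟩ := hBE.2 D J (t.comp algET) hD hJe
      have hbρ : ∀ x : E, b (ρ x) = t (algET x) := fun x => RingHom.congr_fun hb x
      let σ₀ : MvPolynomial (Fin m) B →+* D :=
        MvPolynomial.eval₂Hom b (fun i => t (Ideal.Quotient.mk KT (MvPolynomial.X i)))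
      have htmk : t.comp (Ideal.Quotient.mk KT) = MvPolynomial.eval₂Hom (t.comp algET)
          (fun i => t (Ideal.Quotient.mk KT (MvPolynomial.X i))) := by
        apply MvPolynomial.ringHom_ext
        · intro x
          rw [MvPolynomial.eval₂Hom_C]
          rfl
        · intro i
          rw [MvPolynomial.eval₂Hom_X']
          rfl
      have key : ∀ p : MvPolynomial (Fin m) E,
          σ₀ (MvPolynomial.map ρ.toRingHom p) = t (Ideal.Quotient.mk KT p) := by
        intro p
        show MvPolynomial.eval₂Hom b _ (MvPolynomial.map ρ.toRingHom p) = _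
        rw [MvPolynomial.eval₂Hom_map_hom]
        have : b.comp ρ.toRingHom = t.comp algET := hb
        rw [this, ← htmk]
        rfl
      have hσ₀ker : ∀ p ∈ RingHom.ker π.toRingHom, σ₀ p = 0 := by
        have hle : RingHom.ker π.toRingHom ≤ RingHom.ker σ₀ := by
          rw [← hG, Ideal.span_le]
          intro g hg
          rw [SetLike.mem_coe, RingHom.mem_ker, ← hg' g hg, key]
          have : Ideal.Quotient.mk KT (g' g) = 0 := by
            rw [Ideal.Quotient.eq_zero_iff_mem, hKT]
            exact Ideal.subset_span (Finset.mem_coe.mpr (Finset.mem_image_of_mem _ hg))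
          rw [this, map_zero]
        exact fun p hp => hle hp
      let eqv : MvPolynomial (Fin m) B ⧸ RingHom.ker π.toRingHom ≃+* S :=
        RingHom.quotientKerEquivOfSurjective (f := π.toRingHom) hπ
      let σ : S →+* D := (Ideal.Quotient.lift _ σ₀ hσ₀ker).comp
        (eqv.symm : S →+* MvPolynomial (Fin m) B ⧸ RingHom.ker π.toRingHom)
      have hσπ : ∀ p, σ (π p) = σ₀ p := by
        intro p
        have : eqv.symm (π p) = Ideal.Quotient.mk _ p := by
          rw [RingEquiv.symm_apply_eq]
          rfl
        show Ideal.Quotient.lift _ σ₀ hσ₀ker (eqv.symm (π p)) = σ₀ p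
        rw [this]
        rfl
      have hσθ : ∀ x, σ (θ x) = t x := by
        intro x
        obtain ⟨p, rfl⟩ := Ideal.Quotient.mk_surjective x
        rw [hθmk, hσπ, key]
      have hJσ : ((K.map (algebraMap R B)).map (algebraMap B S)).map σ ≤ J := by
        rw [Ideal.map_map, Ideal.map_map]
        have : (σ.comp (algebraMap B S)).comp (algebraMap R B) =
            t.comp (algebraMap R (MvPolynomial (Fin m) E ⧸ KT)) := by
          ext r
          show σ (algebraMap B S (algebraMap R B r)) = t (algebraMap R _ r)
          rw [← hθR, hσθ]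
        rw [this, ← Ideal.map_map]
        exact hJ
      obtain ⟨c, hc, hcuniq⟩ := hC.2 D J σ hD hJσ
      refine ⟨c, ?_, ?_⟩
      · apply RingHom.ext
        intro x
        show c (algebraMap S C (θ x)) = t x
        have := RingHom.congr_fun hc (θ x)
        rw [RingHom.comp_apply] at this
        rw [this, hσθ]
      · intro c' hc'
        have hc'T : ∀ x, c' (algebraMap S C (θ x)) = t x := fun x => RingHom.congr_fun hc' x
        apply hcuniq
        show c'.comp (algebraMap S C) = σ
        -- the restriction to `B`
        have hβ : (c'.comp (algebraMap S C)).comp (algebraMap B S) = b := by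
          apply hbuniq
          ext x
          show c' (algebraMap S C (algebraMap B S (ρ x))) = t (algET x)
          have h1 : algebraMap B S (ρ x) = θ (algET x) := by
            show _ = θ (Ideal.Quotient.mk KT (MvPolynomial.C x))
            rw [hθmk, MvPolynomial.map_C, ← MvPolynomial.algebraMap_eq, π.commutes]
            rfl
          rw [h1, hc'T]
        have hmain : (c'.comp (algebraMap S C)).comp π.toRingHom = σ₀ := by
          apply MvPolynomial.ringHom_ext
          · intro b'
            show c' (algebraMap S C (π (MvPolynomial.C b'))) = σ₀ (MvPolynomial.C b')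
            rw [← MvPolynomial.algebraMap_eq, π.commutes, MvPolynomial.algebraMap_eq,
              MvPolynomial.eval₂Hom_C]
            exact RingHom.congr_fun hβ b'
          · intro i
            show c' (algebraMap S C (π (MvPolynomial.X i))) = σ₀ (MvPolynomial.X i)
            have h1 : π (MvPolynomial.X i) = θ (Ideal.Quotient.mk KT (MvPolynomial.X i)) := by
              rw [hθmk, MvPolynomial.map_X]
            rw [h1, hc'T, MvPolynomial.eval₂Hom_X']
        ext s
        obtain ⟨p, rfl⟩ := hπ s
        show c' (algebraMap S C (π p)) = σ (π p)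
        rw [hσπ]
        exact RingHom.congr_fun hmain p

end Groth.Agent.H3.PH
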