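import Groth.Agent.H3.PH3
import Groth.Agent.H3.HenselFinite
import Groth.Agent.H3.HenselConn
import Groth.Agent.H3.Hensel4

set_option autoImplicit false
set_option linter.style.haveILetI false
set_option linter.unusedSimpArgs false
set_option linter.unusedVariables false
universe u

namespace Groth.Agent.H3.PH

open Groth.Agent.H3

/-- Lifting complete systems of orthogonal idempotents along a Henselian pair. -/
theorem exists_completeOrthogonalIdempotents_lift {C : Type*} [CommRing C] (J : Ideal C)
    [hJ : HenselianRing C J] {n : ℕ} (a : Fin n → C)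
    (h1 : ∀ i j, i ≠ j → a i * a j ∈ J) (h2 : ∀ i, a i ^ 2 - a i ∈ J)
    (h3 : ∑ i, a i - 1 ∈ J) :
    ∃ e : Fin n → C, CompleteOrthogonalIdempotents e ∧ ∀ i, e i - a i ∈ J := by
  choose e he hea using fun i => exists_isIdempotentElem_of_henselianRing J (a i) (h2 i)
  have hortho : Pairwise (fun i j => e i * e j = 0) := by
    intro i j hij
    apply eq_zero_of_isIdempotentElem_of_mem_jacobson ((he i).mul (he j))
    apply hJ.jac
    have : e i * e j = (e i - a i) * e j + a i * (e j - a j) + a i * a j := by ring
    rw [this]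
    exact J.add_mem (J.add_mem (J.mul_mem_right _ (hea i)) (J.mul_mem_left _ (hea j)))
      (h1 i j hij)
  have hoi : OrthogonalIdempotents e := ⟨he, hortho⟩
  refine ⟨e, ⟨hoi, ?_⟩, hea⟩
  have hidem : IsIdempotentElem (1 - ∑ i, e i) :=
    (hoi.isIdempotentElem_sum (s := Finset.univ)).one_sub
  have hmem : 1 - ∑ i, e i ∈ J := by
    have : 1 - ∑ i, e i = -(∑ i, (e i - a i)) - (∑ i, a i - 1) := by
      rw [Finset.sum_sub_distrib]
      ring
    rw [this]
    exact J.sub_mem (J.neg_mem (J.sum_mem fun i _ => hea i)) h3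
  have := eq_zero_of_isIdempotentElem_of_mem_jacobson hidem (hJ.jac hmem)
  exact (sub_eq_zero.mp this).symm

/-- Chinese remainder theorem for henselizations of pairs. -/
theorem pairHenselization_crt (A : Type u) [CommRing A] {n : ℕ} (I : Fin n → Ideal A)
    (hI : Pairwise fun i j => I i ⊔ I j = ⊤) (B : Type u) [CommRing B] [Algebra A B]
    (hB : Hens2.IsPairHenselization A (⨅ i, I i) B) (Bi : Fin n → Type u)
    [∀ i, CommRing (Bi i)] [∀ i, Algebra A (Bi i)]
    (hBi : ∀ i, Hens2.IsPairHenselization A (I i) (Bi i)) :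
    Nonempty (B ≃ₐ[A] ∀ i, Bi i) := by
  classical
  obtain ⟨K, hK⟩ : ∃ K : Ideal A, K = ⨅ i, I i := ⟨_, rfl⟩
  rw [← hK] at hB
  have hKle : ∀ i, K ≤ I i := fun i => hK ▸ iInf_le I i
  have hKmem : ∀ x, (∀ i, x ∈ I i) → x ∈ K := fun x hx => by
    rw [hK, Ideal.mem_iInf]
    exact hx
  have hcop : Pairwise (Function.onFun IsCoprime I) :=
    fun i j hij => Ideal.isCoprime_iff_sup_eq.mpr (hI hij)
  have ha : ∀ i, ∃ r : A, ∀ j, r - (Pi.single i (1 : A) : Fin n → A) j ∈ I j :=
    fun i => Ideal.exists_forall_sub_mem_ideal hcop _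
  choose a ha using ha
  have ha1 : ∀ i, a i - 1 ∈ I i := fun i => by simpa using ha i i
  have ha0 : ∀ i j, j ≠ i → a i ∈ I j := fun i j hji => by
    simpa [Pi.single_eq_of_ne hji] using ha i j
  haveI hBh : HenselianRing B (K.map (algebraMap A B)) := hB.1
  have h1 : ∀ i j, i ≠ j → a i * a j ∈ K := by
    intro i j hij
    apply hKmem
    intro l
    rcases eq_or_ne l i with rfl | hl
    · exact Ideal.mul_mem_left _ _ (ha0 j l hij)
    · exact Ideal.mul_mem_right _ _ (ha0 i l hl)
  have h2 : ∀ i, a i ^ 2 - a i ∈ K := by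
    intro i
    apply hKmem
    intro l
    have : a i ^ 2 - a i = a i * (a i - 1) := by ring
    rw [this]
    rcases eq_or_ne l i with rfl | hl
    · exact Ideal.mul_mem_left _ _ (ha1 l)
    · exact Ideal.mul_mem_right _ _ (ha0 i l hl)
  have h3 : ∑ i, a i - 1 ∈ K := by
    apply hKmem
    intro l
    have : ∑ i, a i - 1 = (a l - 1) + ∑ i ∈ Finset.univ.erase l, a i := by
      rw [← Finset.add_sum_erase Finset.univ a (Finset.mem_univ l)]
      ring
    rw [this]
    refine Ideal.add_mem _ (ha1 l) (Ideal.sum_mem _ fun i hi => ha0 i l ?_)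
    exact (Finset.ne_of_mem_erase hi).symm
  obtain ⟨e, he, hea⟩ := exists_completeOrthogonalIdempotents_lift (K.map (algebraMap A B))
    (fun i => algebraMap A B (a i))
    (fun i j hij => by
      show algebraMap A B (a i) * algebraMap A B (a j) ∈ _
      rw [← map_mul]
      exact Ideal.mem_map_of_mem _ (h1 i j hij))
    (fun i => by
      show algebraMap A B (a i) ^ 2 - algebraMap A B (a i) ∈ _
      rw [← map_pow, ← map_sub]
      exact Ideal.mem_map_of_mem _ (h2 i))
    (by
      show ∑ i, algebraMap A B (a i) - 1 ∈ _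
      rw [← map_sum, ← map_one (algebraMap A B), ← map_sub]
      exact Ideal.mem_map_of_mem _ h3)
  have hea' : ∀ i, e i - algebraMap A B (a i) ∈ K.map (algebraMap A B) := hea
  have hfactor : ∀ i, Hens2.IsPairHenselization A (I i) (B ⧸ Ideal.span {1 - e i}) := by
    intro i
    have hmk1 : Ideal.Quotient.mk (Ideal.span {1 - e i}) (e i) = 1 := by
      have : Ideal.Quotient.mk (Ideal.span {1 - e i}) (1 - e i) = 0 :=
        Ideal.Quotient.eq_zero_iff_mem.mpr (Ideal.mem_span_singleton_self _)
      rw [map_sub, map_one, sub_eq_zero] at this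
      exact this.symm
    refine ⟨?_, ?_⟩
    · haveI : HenselianRing (B ⧸ Ideal.span {1 - e i})
          ((K.map (algebraMap A B)).map (Ideal.Quotient.mk (Ideal.span {1 - e i}))) :=
        henselianRing_map_of_surjective _ Ideal.Quotient.mk_surjective _
      refine henselianRing_of_le _
        ((K.map (algebraMap A B)).map (Ideal.Quotient.mk (Ideal.span {1 - e i}))) ?_
      rw [Ideal.map_le_iff_le_comap]
      intro x hx
      rw [Ideal.mem_comap]
      have h4 : algebraMap A (B ⧸ Ideal.span {1 - e i}) x =
          Ideal.Quotient.mk _ (algebraMap A B x * e i) := by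
        rw [map_mul, hmk1, mul_one]
        rfl
      rw [h4]
      apply Ideal.mem_map_of_mem
      have : algebraMap A B x * e i =
          algebraMap A B x * (e i - algebraMap A B (a i)) + algebraMap A B (x * a i) := by
        rw [map_mul]
        ring
      rw [this]
      refine Ideal.add_mem _ (Ideal.mul_mem_left _ _ (hea' i)) (Ideal.mem_map_of_mem _ ?_)
      apply hKmem
      intro l
      rcases eq_or_ne l i with rfl | hl
      · exact Ideal.mul_mem_right _ _ hx
      · exact Ideal.mul_mem_left _ _ (ha0 i l hl)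
    · intro C _ J f hC hle
      have hKJ : K.map f ≤ J := (Ideal.map_mono (hKle i)).trans hle
      obtain ⟨g, hg, hguniq⟩ := hB.2 C J f hC hKJ
      have hgc : g.comp (algebraMap A B) = f := hg
      have hg' : ∀ r, g (algebraMap A B r) = f r := fun r => RingHom.congr_fun hgc r
      have hge : g (e i) = 1 := by
        have hid : IsIdempotentElem (1 - g (e i)) := ((he.idem i).map g).one_sub
        have hmem : 1 - g (e i) ∈ J := by
          have : 1 - g (e i) = -(g (e i - algebraMap A B (a i))) - f (a i - 1) := by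
            rw [map_sub, hg', map_sub, map_one]
            ring
          rw [this]
          refine J.sub_mem (J.neg_mem ?_) (hle (Ideal.mem_map_of_mem _ (ha1 i)))
          apply hKJ
          have : (K.map (algebraMap A B)).map g = K.map f := by rw [Ideal.map_map, hgc]
          rw [← this]
          exact Ideal.mem_map_of_mem _ (hea' i)
        have := eq_zero_of_isIdempotentElem_of_mem_jacobson hid (hC.jac hmem)
        exact (sub_eq_zero.mp this).symm
      have hker : ∀ b ∈ Ideal.span ({1 - e i} : Set B), g b = 0 := by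
        intro b hb
        obtain ⟨c, rfl⟩ := Ideal.mem_span_singleton'.mp hb
        rw [map_mul, map_sub, map_one, hge, sub_self, mul_zero]
      refine ⟨Ideal.Quotient.lift _ g hker, ?_, ?_⟩
      · apply RingHom.ext
        intro r
        show Ideal.Quotient.lift _ g hker (Ideal.Quotient.mk _ (algebraMap A B r)) = f r
        rw [Ideal.Quotient.lift_mk, hg']
      · intro g₂ hg₂
        have hg₂c : g₂.comp (algebraMap A (B ⧸ Ideal.span {1 - e i})) = f := hg₂
        apply Ideal.Quotient.ringHom_ext
        have : g₂.comp (Ideal.Quotient.mk (Ideal.span {1 - e i})) = g := by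
          apply hguniq
          show (g₂.comp (Ideal.Quotient.mk (Ideal.span {1 - e i}))).comp (algebraMap A B) = f
          rw [RingHom.comp_assoc]
          exact hg₂c
        rw [this]
        apply RingHom.ext
        intro b
        rw [RingHom.comp_apply, Ideal.Quotient.lift_mk]
  have hbij := he.bijective_pi
  let Θ : B ≃ₐ[A] ∀ i, B ⧸ Ideal.span {1 - e i} :=
    AlgEquiv.ofBijective (AlgHom.pi fun i => Ideal.Quotient.mkₐ A (Ideal.span {1 - e i})) hbij
  have hequiv : ∀ i, Nonempty ((B ⧸ Ideal.span {1 - e i}) ≃ₐ[A] Bi i) := fun i =>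
    nonempty_algEquiv_of_isPairHenselization (I i) _ _ (hfactor i) (hBi i)
  exact ⟨Θ.trans (AlgEquiv.piCongrRight fun i => Classical.choice (hequiv i))⟩

end Groth.Agent.H3.PH
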