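import Groth.Agent.H3.PH12

set_option autoImplicit false
set_option linter.style.haveILetI false
set_option linter.unusedSimpArgs false
set_option linter.unusedVariables false
universe u

namespace Groth.Agent.H3.PH

open Groth.Agent.H3 TensorProduct

/-- A Henselian pair is its own henselization. -/
theorem isPairHenselization_self {S : Type u} [CommRing S] (J : Ideal S) [hJ : HenselianRing S J] :
    Hens2.IsPairHenselization S J S := by
  refine ⟨?_, ?_⟩
  · rw [Algebra.algebraMap_self, Ideal.map_id]
    exact hJ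
  · intro C _ J' f hC hle
    refine ⟨f, ?_, ?_⟩
    · rw [Algebra.algebraMap_self]
      exact RingHom.comp_id f
    · intro g hg
      have : g.comp (algebraMap S S) = f := hg
      rw [Algebra.algebraMap_self, RingHom.comp_id] at this
      exact this

theorem isPairHenselization_of_bijective {S : Type u} [CommRing S] (J : Ideal S)
    [hJ : HenselianRing S J] (C : Type u) [CommRing C] [Algebra S C]
    (hbij : Function.Bijective (algebraMap S C)) : Hens2.IsPairHenselization S J C :=
  isPairHenselization_of_algEquiv J S C (AlgEquiv.ofBijective (Algebra.ofId S C) hbij)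
    (isPairHenselization_self J)

/-- The kernel of the natural map from the henselization of `B ⊗ S` onto the henselization of `S`
is finitely generated, when `B` is the henselization of a finite type algebra. -/
theorem exists_fg_ker_of_tensor {A : Type u} [CommRing A] (I : Ideal A)
    (R : Type u) [CommRing R] [Algebra A R] [Algebra.FiniteType A R]
    (B : Type u) [CommRing B] [Algebra R B] [Algebra A B] [IsScalarTower A R B]
    (hB : Hens2.IsPairHenselization R (I.map (algebraMap A R)) B)
    (S : Type u) [CommRing S] [Algebra A S]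
    (C : Type u) [CommRing C] [Algebra S C] [Algebra A C] [IsScalarTower A S C]
    (hC : Hens2.IsPairHenselization S (I.map (algebraMap A S)) C)
    [Algebra B C] [IsScalarTower A B C]
    (Ch : Type u) [CommRing Ch] [Algebra (B ⊗[A] S) Ch]
    (hCh : Hens2.IsPairHenselization (B ⊗[A] S) (I.map (algebraMap A (B ⊗[A] S))) Ch) :
    ∃ (𝔞 : Ideal Ch) (p : Ch →+* C), 𝔞.FG ∧ Function.Surjective p ∧ RingHom.ker p = 𝔞 ∧
      ∀ b : B, p (algebraMap (B ⊗[A] S) Ch (b ⊗ₜ[A] (1 : S))) = algebraMap B C b := by
  classical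
  let μ : B ⊗[A] S →ₐ[A] C := Algebra.TensorProduct.lift (IsScalarTower.toAlgHom A B C)
    (IsScalarTower.toAlgHom A S C) (fun _ _ => Commute.all _ _)
  have hμ : ∀ b s, μ (b ⊗ₜ[A] s) = algebraMap B C b * algebraMap S C s := fun b s => by
    simp [μ]
  obtain ⟨ιC, hιC⟩ : ∃ ιC : B ⊗[A] S →+* Ch, ιC = algebraMap (B ⊗[A] S) Ch := ⟨_, rfl⟩
  rw [← hιC]
  have hIC : I.map (algebraMap A C) = (I.map (algebraMap A S)).map (algebraMap S C) := by
    rw [Ideal.map_map, ← IsScalarTower.algebraMap_eq]
  haveI hCC : HenselianRing C (I.map (algebraMap A C)) := hIC ▸ hC.1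
  haveI hChh : HenselianRing Ch ((I.map (algebraMap A (B ⊗[A] S))).map ιC) := hιC ▸ hCh.1
  have hμalg : (μ : B ⊗[A] S →+* C).comp (algebraMap A (B ⊗[A] S)) = algebraMap A C :=
    μ.comp_algebraMap
  -- the projection `p`
  obtain ⟨p, hp, hpuniq⟩ := hCh.2 C (I.map (algebraMap A C)) (μ : B ⊗[A] S →+* C) hCC (by
    rw [Ideal.map_map, hμalg])
  have hpc : p.comp ιC = (μ : B ⊗[A] S →+* C) := by rw [hιC]; exact hp
  have hp' : ∀ x, p (ιC x) = μ x := fun x => RingHom.congr_fun hpc x
  -- the section `j`
  have hinclR : ((Algebra.TensorProduct.includeRight : S →ₐ[A] B ⊗[A] S) : S →+* B ⊗[A] S).comp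
      (algebraMap A S) = algebraMap A (B ⊗[A] S) :=
    (Algebra.TensorProduct.includeRight : S →ₐ[A] B ⊗[A] S).comp_algebraMap
  obtain ⟨j, hj, hjuniq⟩ := hC.2 Ch ((I.map (algebraMap A (B ⊗[A] S))).map ιC)
    (ιC.comp ((Algebra.TensorProduct.includeRight : S →ₐ[A] B ⊗[A] S) : S →+* B ⊗[A] S)) hChh (by
    rw [Ideal.map_map, Ideal.map_map, RingHom.comp_assoc, hinclR])
  have hjc : j.comp (algebraMap S C) =
      ιC.comp ((Algebra.TensorProduct.includeRight : S →ₐ[A] B ⊗[A] S) : S →+* B ⊗[A] S) := hj
  have hj' : ∀ s, j (algebraMap S C s) = ιC ((1 : B) ⊗ₜ[A] s) :=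
    fun s => RingHom.congr_fun hjc s
  have hpj : ∀ c, p (j c) = c := by
    have h1 : p.comp j = RingHom.id C := by
      obtain ⟨k, hk, hkuniq⟩ := hC.2 C (I.map (algebraMap A C)) (algebraMap S C) hCC
        (by rw [hIC])
      rw [hkuniq (p.comp j) ?_, hkuniq (RingHom.id C) ?_]
      · rfl
      · apply RingHom.ext
        intro s
        show p (j (algebraMap S C s)) = algebraMap S C s
        rw [hj', hp', hμ, map_one, one_mul]
    intro c
    exact RingHom.congr_fun h1 c
  obtain ⟨s, hs⟩ := (Algebra.FiniteType.out : (⊤ : Subalgebra A R).FG)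
  let gen : R → Ch := fun r =>
    ιC (algebraMap R B r ⊗ₜ[A] (1 : S)) - j (algebraMap B C (algebraMap R B r))
  obtain ⟨𝔞, h𝔞⟩ : ∃ 𝔞 : Ideal Ch, 𝔞 = Ideal.span (gen '' (s : Set R)) := ⟨_, rfl⟩
  have hgenp : ∀ r, p (gen r) = 0 := by
    intro r
    simp only [gen, map_sub, hp', hμ, map_one, mul_one, hpj, sub_self]
  refine ⟨𝔞, p, ?_, fun c => ⟨j c, hpj c⟩, ?_, ?_⟩
  · rw [h𝔞]
    exact Submodule.fg_span (Set.Finite.image _ s.finite_toSet)
  · apply le_antisymm
    · -- `ker p ≤ 𝔞`
      have hD : HenselianRing (Ch ⧸ 𝔞)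
          (((I.map (algebraMap A (B ⊗[A] S))).map ιC).map (Ideal.Quotient.mk 𝔞)) :=
        henselianRing_map_of_surjective (Ideal.Quotient.mk 𝔞) Ideal.Quotient.mk_surjective _
      -- all `gen r` lie in `𝔞`
      have hgen : ∀ r : R, Ideal.Quotient.mk 𝔞 (ιC (algebraMap R B r ⊗ₜ[A] (1 : S))) =
          Ideal.Quotient.mk 𝔞 (j (algebraMap B C (algebraMap R B r))) := by
        intro r
        have hr : r ∈ Algebra.adjoin A (s : Set R) := by rw [hs]; trivial
        induction hr using Algebra.adjoin_induction with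
        | mem x hx =>
          rw [← sub_eq_zero, ← map_sub, Ideal.Quotient.eq_zero_iff_mem, h𝔞]
          exact Ideal.subset_span ⟨x, hx, rfl⟩
        | algebraMap a =>
          rw [← IsScalarTower.algebraMap_apply A R B, ← IsScalarTower.algebraMap_apply A B C,
            IsScalarTower.algebraMap_apply A S C, hj']
          congr 2
          rw [← Algebra.TensorProduct.algebraMap_apply, Algebra.TensorProduct.algebraMap_apply']
        | add x y _ _ hx hy =>
          rw [map_add, TensorProduct.add_tmul, map_add, map_add, hx, hy, map_add, map_add,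
            map_add]
        | mul x y _ _ hx hy =>
          have : (algebraMap R B (x * y)) ⊗ₜ[A] (1 : S) =
              (algebraMap R B x ⊗ₜ[A] (1 : S)) * (algebraMap R B y ⊗ₜ[A] (1 : S)) := by
            rw [Algebra.TensorProduct.tmul_mul_tmul, mul_one, map_mul]
          rw [this, map_mul, map_mul, hx, hy, map_mul, map_mul, map_mul, map_mul]
      -- the two maps `B → Ch ⧸ 𝔞` agree
      have hβ : ∀ b : B, Ideal.Quotient.mk 𝔞 (ιC (b ⊗ₜ[A] (1 : S))) =
          Ideal.Quotient.mk 𝔞 (j (algebraMap B C b)) := by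
        let β₁ : B →+* Ch ⧸ 𝔞 := (Ideal.Quotient.mk 𝔞).comp (ιC.comp
          ((Algebra.TensorProduct.includeLeft : B →ₐ[A] B ⊗[A] S) : B →+* B ⊗[A] S))
        let β₂ : B →+* Ch ⧸ 𝔞 := (Ideal.Quotient.mk 𝔞).comp (j.comp (algebraMap B C))
        have hinclL : ((Algebra.TensorProduct.includeLeft : B →ₐ[A] B ⊗[A] S) :
            B →+* B ⊗[A] S).comp (algebraMap A B) = algebraMap A (B ⊗[A] S) :=
          (Algebra.TensorProduct.includeLeft : B →ₐ[A] B ⊗[A] S).comp_algebraMap
        obtain ⟨k, hk, hkuniq⟩ := hB.2 (Ch ⧸ 𝔞)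
          (((I.map (algebraMap A (B ⊗[A] S))).map ιC).map (Ideal.Quotient.mk 𝔞))
          (β₁.comp (algebraMap R B)) hD (by
            rw [Ideal.map_map, Ideal.map_map, Ideal.map_map]
            apply le_of_eq
            congr 1
            show (β₁.comp (algebraMap R B)).comp (algebraMap A R) = _
            rw [RingHom.comp_assoc, ← IsScalarTower.algebraMap_eq A R B]
            show ((Ideal.Quotient.mk 𝔞).comp (ιC.comp _)).comp (algebraMap A B) = _
            rw [RingHom.comp_assoc, RingHom.comp_assoc, hinclL]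
            rfl)
        have e1 : β₁ = k := hkuniq β₁ rfl
        have e2 : β₂ = k := hkuniq β₂ (by
          apply RingHom.ext
          intro r
          exact (hgen r).symm)
        intro b
        exact RingHom.congr_fun (e1.trans e2.symm) b
      -- `q ∘ j ∘ p = q`
      have hqjp : ∀ x : Ch, Ideal.Quotient.mk 𝔞 (j (p x)) = Ideal.Quotient.mk 𝔞 x := by
        obtain ⟨k, hk, hkuniq⟩ := hCh.2 (Ch ⧸ 𝔞)
          (((I.map (algebraMap A (B ⊗[A] S))).map ιC).map (Ideal.Quotient.mk 𝔞))
          ((Ideal.Quotient.mk 𝔞).comp ιC) hD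
          (Ideal.map_map ιC (Ideal.Quotient.mk 𝔞)).symm.le
        have e1 : (Ideal.Quotient.mk 𝔞).comp (j.comp p) = k := hkuniq _ (by
          show ((Ideal.Quotient.mk 𝔞).comp (j.comp p)).comp (algebraMap (B ⊗[A] S) Ch) = _
          rw [← hιC]
          apply RingHom.ext
          intro x
          show Ideal.Quotient.mk 𝔞 (j (p (ιC x))) = Ideal.Quotient.mk 𝔞 (ιC x)
          rw [hp']
          induction x using TensorProduct.induction_on with
          | zero => simp
          | tmul b t =>
            rw [hμ, map_mul, map_mul, ← hβ, hj', ← map_mul, ← map_mul,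
              Algebra.TensorProduct.tmul_mul_tmul, mul_one, one_mul]
          | add x y hx hy => rw [map_add, map_add, map_add, hx, hy, map_add, map_add])
        have e2 : Ideal.Quotient.mk 𝔞 = k := hkuniq _ (by rw [← hιC])
        intro x
        exact RingHom.congr_fun (e1.trans e2.symm) x
      intro x hx
      rw [RingHom.mem_ker] at hx
      have := hqjp x
      rw [hx, map_zero, map_zero] at this
      exact Ideal.Quotient.eq_zero_iff_mem.mp this.symm
    · rw [h𝔞, Ideal.span_le]
      rintro _ ⟨r, hr, rfl⟩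
      exact hgenp r
  · intro b
    rw [hp', hμ, map_one, mul_one]

end Groth.Agent.H3.PH
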