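import Groth.Agent.H3.PH7
import Groth.Agent.Lead.ColimDescent

set_option autoImplicit false
set_option linter.unusedSimpArgs false
set_option linter.unusedVariables false
set_option linter.style.haveILetI false
universe u

open TensorProduct Groth.Agent.Lead.ColimDescent

namespace Groth.Agent.H3.PH

/-- The étale algebras with a `K`-point form a colimit-like system with colimit `H R K`. -/
theorem sys_H (R K : Type u) [CommRing R] [CommRing K] [Algebra R K] :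
    Sys R (fun X : EtPt R K => X.A) (H R K) (fun X => ιₐ R K X) where
  ne := inferInstance
  surj a := by
    obtain ⟨X, x, hx⟩ := exists_rep R K a
    exact ⟨X, x, hx⟩
  dir X Y := by
    obtain ⟨Z, f, g, -⟩ := EtPt.cocone_objs X Y
    exact ⟨Z, f.f, g.f, ιₐ_comp R K f, ιₐ_comp R K g⟩
  ker X x hx := by
    have h0 : ι R K X x = ι R K X 0 := by rw [map_zero]; exact hx
    obtain ⟨Z, f, g, hfg⟩ := (ι_eq_iff R K x (0 : X.A)).mp h0
    exact ⟨Z, f.f, ιₐ_comp R K f, by rw [hfg, map_zero]⟩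

section General

variable {ι : Type u} {A₀ : Type u} [CommRing A₀] {G : ι → Type u} [∀ i, CommRing (G i)]
  [∀ i, Algebra A₀ (G i)] {A : Type u} [CommRing A] [Algebra A₀ A] {g : ∀ i, G i →ₐ[A₀] A}
  (B₀ : Type u) [CommRing B₀] [Algebra A₀ B₀]

/-- Evaluation of a polynomial over `X` at `b ⊗ 1` in `B₀ ⊗ X`. -/
noncomputable def ev (X : Type u) [CommRing X] [Algebra A₀ X] (b : B₀) (q : Polynomial X) :
    B₀ ⊗[A₀] X :=
  Polynomial.eval₂ (Algebra.TensorProduct.includeRight : X →ₐ[A₀] B₀ ⊗[A₀] X).toRingHom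
    (b ⊗ₜ[A₀] (1 : X)) q

theorem Bm_ev {X Y : Type u} [CommRing X] [Algebra A₀ X] [CommRing Y] [Algebra A₀ Y]
    (φ : X →ₐ[A₀] Y) (b : B₀) (q : Polynomial X) :
    Bm B₀ φ (ev B₀ X b q) = ev B₀ Y b (q.map φ.toRingHom) := by
  unfold ev
  have h1 := Polynomial.hom_eval₂ q
    (Algebra.TensorProduct.includeRight : X →ₐ[A₀] B₀ ⊗[A₀] X).toRingHom
    (Bm B₀ φ).toRingHom (b ⊗ₜ[A₀] (1 : X))
  have h2 : (Bm B₀ φ).toRingHom.comp
      (Algebra.TensorProduct.includeRight : X →ₐ[A₀] B₀ ⊗[A₀] X).toRingHom =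
      (Algebra.TensorProduct.includeRight : Y →ₐ[A₀] B₀ ⊗[A₀] Y).toRingHom.comp φ.toRingHom := by
    apply RingHom.ext
    intro a
    change Bm B₀ φ ((1 : B₀) ⊗ₜ[A₀] a) = (1 : B₀) ⊗ₜ[A₀] φ a
    rw [Bm_tmul]
  have h3 : (Bm B₀ φ).toRingHom (b ⊗ₜ[A₀] (1 : X)) = b ⊗ₜ[A₀] (1 : Y) := by
    change Bm B₀ φ (b ⊗ₜ[A₀] (1 : X)) = _
    rw [Bm_tmul, map_one]
  rw [h2, h3] at h1
  rw [Polynomial.eval₂_map]
  exact h1

theorem mem_smul_top_map {M N : Type*} [AddCommGroup M] [Module A₀ M] [AddCommGroup N]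
    [Module A₀ N] (f : M →ₗ[A₀] N) (I : Ideal A₀) {y : M}
    (hy : y ∈ I • (⊤ : Submodule A₀ M)) : f y ∈ I • (⊤ : Submodule A₀ N) := by
  have h := Submodule.mem_map_of_mem (f := f) hy
  rw [Submodule.map_smul''] at h
  exact Submodule.smul_mono le_rfl le_top h

theorem Bm_mem_smul_top {X Y : Type u} [CommRing X] [Algebra A₀ X] [CommRing Y] [Algebra A₀ Y]
    (φ : X →ₐ[A₀] Y) (I : Ideal A₀) {y : B₀ ⊗[A₀] X}
    (hy : y ∈ I • (⊤ : Submodule A₀ (B₀ ⊗[A₀] X))) :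
    Bm B₀ φ y ∈ I • (⊤ : Submodule A₀ (B₀ ⊗[A₀] Y)) := by
  rw [Bm_eq_T]
  exact mem_smul_top_map (T B₀ φ) I hy

theorem _root_.Groth.Agent.Lead.ColimDescent.Sys.kill_finset (H : Sys A₀ G A g) (i : ι) (Z : Finset (B₀ ⊗[A₀] G i))
    (hZ : ∀ z ∈ Z, Bm B₀ (g i) z = 0) :
    ∃ (j : ι) (φ : G i →ₐ[A₀] G j), (g j).comp φ = g i ∧ ∀ z ∈ Z, Bm B₀ φ z = 0 := by
  classical
  induction Z using Finset.induction_on with
  | empty => exact ⟨i, AlgHom.id _ _, AlgHom.comp_id _, by simp⟩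
  | insert z Z hz ih =>
    obtain ⟨j, φ, hc, hk⟩ := ih (fun w hw => hZ w (Finset.mem_insert_of_mem hw))
    have hz0 : Bm B₀ (g j) (Bm B₀ φ z) = 0 := by
      rw [Bm_compat B₀ φ hc]; exact hZ z (Finset.mem_insert_self _ _)
    obtain ⟨k, ψ, hc', hk'⟩ := H.t2B B₀ j _ hz0
    refine ⟨k, ψ.comp φ, by rw [← AlgHom.comp_assoc, hc', hc], ?_⟩
    intro w hw
    rw [Bm_comp]
    rcases Finset.mem_insert.mp hw with rfl | hw
    · exact hk'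
    · rw [hk w hw, map_zero]

theorem _root_.Groth.Agent.Lead.ColimDescent.Sys.exists_common (H : Sys A₀ G A g) (s : Finset (B₀ ⊗[A₀] A)) (c : Finset A) :
    ∃ i, (∀ b ∈ s, b ∈ Set.range (Bm B₀ (g i))) ∧ (∀ a ∈ c, a ∈ Set.range (g i)) := by
  obtain ⟨i₁, h₁⟩ := H.liftB_finset B₀ s
  obtain ⟨i₂, h₂⟩ := H.common c (fun a i => a ∈ Set.range (g i))
    (by
      rintro a _ i j φ hc ⟨a', rfl⟩
      exact ⟨φ a', by rw [← hc]; rfl⟩)
    (fun a _ => by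
      obtain ⟨i, x, hx⟩ := H.surj a
      exact ⟨i, x, hx⟩)
  obtain ⟨j, φ₁, φ₂, c₁, c₂⟩ := H.dir i₁ i₂
  refine ⟨j, fun b hb => ?_, fun a ha => ?_⟩
  · obtain ⟨b', rfl⟩ := h₁ b hb
    exact ⟨Bm B₀ φ₁ b', Bm_compat B₀ φ₁ c₁ b'⟩
  · obtain ⟨a', rfl⟩ := h₂ a ha
    exact ⟨φ₂ a', by rw [← c₂]; rfl⟩

theorem _root_.Groth.Agent.Lead.ColimDescent.Sys.exists_lift_smul_top (H : Sys A₀ G A g) (I : Ideal A₀) (x : B₀ ⊗[A₀] A)
    (hx : x ∈ (I • ⊤ : Submodule A₀ (B₀ ⊗[A₀] A))) :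
    ∃ (i : ι) (y : B₀ ⊗[A₀] G i), y ∈ (I • ⊤ : Submodule A₀ (B₀ ⊗[A₀] G i)) ∧
      Bm B₀ (g i) y = x := by
  refine Submodule.smul_induction_on hx ?_ ?_
  · intro a ha t _
    obtain ⟨i, t', rfl⟩ := H.t1B B₀ t
    refine ⟨i, a • t', Submodule.smul_mem_smul ha Submodule.mem_top, ?_⟩
    rw [Bm_eq_T, Bm_eq_T, map_smul]
  · rintro x₁ x₂ ⟨i₁, y₁, hy₁, rfl⟩ ⟨i₂, y₂, hy₂, rfl⟩
    obtain ⟨j, φ₁, φ₂, c₁, c₂⟩ := H.dir i₁ i₂
    refine ⟨j, Bm B₀ φ₁ y₁ + Bm B₀ φ₂ y₂, Submodule.add_mem _ (Bm_mem_smul_top B₀ φ₁ I hy₁)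
      (Bm_mem_smul_top B₀ φ₂ I hy₂), ?_⟩
    rw [map_add, Bm_compat B₀ φ₁ c₁, Bm_compat B₀ φ₂ c₂]

/-- Descent of a "finite split" (idempotent, congruent to `1` modulo `I`, cutting out an integral
factor) to a finite stage of a colimit-like system. -/
theorem _root_.Groth.Agent.Lead.ColimDescent.Sys.descend_split (H : Sys A₀ G A g) (I : Ideal A₀) (s : Finset B₀) (e : B₀ ⊗[A₀] A)
    (he : IsIdempotentElem e) (hI : 1 - e ∈ (I • ⊤ : Submodule A₀ (B₀ ⊗[A₀] A)))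
    (p : B₀ → Polynomial A)
    (hp : ∀ b ∈ s, (p b).Monic ∧ e * ev B₀ A b (p b) = 0) :
    ∃ (i : ι) (e' : B₀ ⊗[A₀] G i), IsIdempotentElem e' ∧
      1 - e' ∈ (I • ⊤ : Submodule A₀ (B₀ ⊗[A₀] G i)) ∧
      ∀ b ∈ s, ∃ q : Polynomial (G i), q.Monic ∧ e' * ev B₀ (G i) b q = 0 := by
  classical
  let cs : Finset A := s.biUnion (fun b => (p b).support.image (p b).coeff)
  obtain ⟨i₁, h₁s, h₁c⟩ := H.exists_common B₀ {e} cs
  obtain ⟨e₁, he₁⟩ := h₁s e (Finset.mem_singleton_self e)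
  have hl : ∀ b ∈ s, p b ∈ Polynomial.lifts (g i₁).toRingHom := by
    intro b hb
    rw [Polynomial.lifts_iff_coeff_lifts]
    intro n
    by_cases h0 : (p b).coeff n = 0
    · rw [h0]; exact ⟨0, map_zero _⟩
    · exact h₁c _ (Finset.mem_biUnion.mpr
        ⟨b, hb, Finset.mem_image_of_mem _ (Polynomial.mem_support_iff.2 h0)⟩)
  have hq : ∀ b ∈ s, ∃ q : Polynomial (G i₁), q.map (g i₁).toRingHom = p b ∧ q.Monic := by
    intro b hb
    obtain ⟨q, hq, -, hqm⟩ := Polynomial.lifts_and_natDegree_eq_and_monic (hl b hb) (hp b hb).1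
    exact ⟨q, hq, hqm⟩
  choose! q hqmap hqmonic using hq
  obtain ⟨i₂, y₂, hy₂, hy₂x⟩ := H.exists_lift_smul_top B₀ I (1 - e) hI
  obtain ⟨j, φ₁, φ₂, c₁, c₂⟩ := H.dir i₁ i₂
  obtain ⟨ej, hejdef⟩ : ∃ ej, ej = Bm B₀ φ₁ e₁ := ⟨_, rfl⟩
  obtain ⟨yj, hyjdef⟩ : ∃ yj, yj = Bm B₀ φ₂ y₂ := ⟨_, rfl⟩
  have hej : Bm B₀ (g j) ej = e := by rw [hejdef, Bm_compat B₀ φ₁ c₁]; exact he₁
  have hyj : Bm B₀ (g j) yj = 1 - e := by rw [hyjdef, Bm_compat B₀ φ₂ c₂]; exact hy₂x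
  have hyjI : yj ∈ (I • ⊤ : Submodule A₀ (B₀ ⊗[A₀] G j)) := by
    rw [hyjdef]; exact Bm_mem_smul_top B₀ φ₂ I hy₂
  have hcomp : (g j).toRingHom.comp φ₁.toRingHom = (g i₁).toRingHom := by
    rw [← c₁]; rfl
  let Z : Finset (B₀ ⊗[A₀] G j) := insert (ej * ej - ej) (insert ((1 - ej) - yj)
    (s.image (fun b => ej * ev B₀ (G j) b ((q b).map φ₁.toRingHom))))
  have hZ : ∀ z ∈ Z, Bm B₀ (g j) z = 0 := by
    intro z hz
    simp only [Z, Finset.mem_insert, Finset.mem_image] at hz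
    rcases hz with rfl | rfl | ⟨b, hb, rfl⟩
    · rw [map_sub, map_mul, hej, he.eq, sub_self]
    · rw [map_sub, map_sub, map_one, hej, hyj, sub_self]
    · rw [map_mul, hej, Bm_ev, Polynomial.map_map, hcomp, hqmap b hb]
      exact (hp b hb).2
  obtain ⟨k, ψ, hck, hk⟩ := H.kill_finset B₀ j Z hZ
  refine ⟨k, Bm B₀ ψ ej, ?_, ?_, ?_⟩
  · have h := hk (ej * ej - ej) (by simp [Z])
    rw [map_sub, map_mul, sub_eq_zero] at h
    exact h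
  · have h := hk ((1 - ej) - yj) (by simp [Z])
    rw [map_sub, map_sub, map_one, sub_eq_zero] at h
    rw [h]
    exact Bm_mem_smul_top B₀ ψ I hyjI
  · intro b hb
    refine ⟨((q b).map φ₁.toRingHom).map ψ.toRingHom, ((hqmonic b hb).map _).map _, ?_⟩
    have h := hk (ej * ev B₀ (G j) b ((q b).map φ₁.toRingHom)) (by
      simp only [Z, Finset.mem_insert, Finset.mem_image]
      exact Or.inr (Or.inr ⟨b, hb, rfl⟩))
    rw [map_mul, Bm_ev] at h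
    exact h

end General

end Groth.Agent.H3.PH
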