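import Groth.Agent.H3.PH1
import Groth.Prelude.Def_Hens2

/-!
# The henselization of a pair `(A, I)`: `H A (A ⧸ I)` is henselian along `I` and universal
-/

set_option autoImplicit false
set_option linter.unusedSimpArgs false
set_option linter.unusedVariables false
set_option linter.style.haveILetI false
universe u
open CategoryTheory CategoryTheory.Limits TensorProduct Polynomial

namespace Groth.Agent.H3.PH

open EtPt

/-- Uniqueness of lifts modulo an ideal in the Jacobson radical, for unramified sources. -/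
theorem algHom_eq_of_sub_mem' {A : Type*} [CommRing A]
    {B₁ B₂ : Type*} [CommRing B₁] [CommRing B₂] [Algebra A B₁] [Algebra A B₂]
    [Algebra.EssFiniteType A B₁] [Algebra.FormallyUnramified A B₁]
    (𝔟 : Ideal B₂) (hj : 𝔟 ≤ Ideal.jacobson ⊥)
    (φ ψ : B₁ →ₐ[A] B₂) (h : ∀ s, ψ s - φ s ∈ 𝔟) : φ = ψ := by
  obtain ⟨tt, htt1, htt2⟩ :=
    (Algebra.FormallyUnramified.iff_exists_tensorProduct (R := A) (S := B₁)).mp inferInstance
  let Ψ : B₁ ⊗[A] B₁ →ₐ[A] B₂ := Algebra.TensorProduct.lift φ ψ (fun _ _ => Commute.all _ _)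
  have hΨ : ∀ x y, Ψ (x ⊗ₜ[A] y) = φ x * ψ y := fun x y =>
    Algebra.TensorProduct.lift_tmul _ _ _ x y
  have hdiff : ∀ z : B₁ ⊗[A] B₁, Ψ z - φ (Algebra.TensorProduct.lmul' A z) ∈ 𝔟 := by
    intro z
    induction z using TensorProduct.induction_on with
    | zero => simp
    | tmul x y =>
      rw [hΨ, Algebra.TensorProduct.lmul'_apply_tmul, map_mul]
      have : φ x * ψ y - φ x * φ y = φ x * (ψ y - φ y) := by ring
      rw [this]; exact 𝔟.mul_mem_left _ (h y)
    | add z₁ z₂ h₁ h₂ =>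
      rw [map_add, map_add, map_add]
      have : Ψ z₁ + Ψ z₂ - (φ (Algebra.TensorProduct.lmul' A z₁) +
          φ (Algebra.TensorProduct.lmul' A z₂)) =
          (Ψ z₁ - φ (Algebra.TensorProduct.lmul' A z₁)) +
          (Ψ z₂ - φ (Algebra.TensorProduct.lmul' A z₂)) := by ring
      rw [this]; exact 𝔟.add_mem h₁ h₂
  have hε : IsUnit (Ψ tt) := by
    have h1 := hdiff tt
    rw [htt2, map_one] at h1
    refine Groth.Agent.H3.isUnit_of_sub_mem 𝔟 hj isUnit_one ?_
    rw [← neg_sub]; exact 𝔟.neg_mem h1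
  ext s
  have h2 := congr_arg Ψ (htt1 s)
  rw [map_mul, map_zero, map_sub, hΨ, hΨ, map_one, map_one, one_mul, mul_one] at h2
  have := hε.mul_left_eq_zero.mp h2
  exact (sub_eq_zero.mp this).symm

/-- Étale lifting into an algebra which is henselian along an ideal. -/
theorem exists_algHom_lift_of_etale {A : Type u} [CommRing A] (C : Type u) [CommRing C]
    [Algebra A C] (J : Ideal C) [HenselianRing C J] (E : Type u) [CommRing E] [Algebra A E]
    [Algebra.Etale A E] (σ : E →ₐ[A] C ⧸ J) :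
    ∃ τ : E →ₐ[A] C, ∀ x, Ideal.Quotient.mk J (τ x) = σ x := by
  let σ' : C ⊗[A] E →ₐ[C] C ⧸ J :=
    Algebra.TensorProduct.lift (Algebra.ofId C (C ⧸ J)) σ (fun _ _ => Commute.all _ _)
  obtain ⟨τ', hτ'⟩ := Groth.Agent.H3.exists_lift_of_etale_of_henselianRing J (C ⊗[A] E) σ'
  refine ⟨(τ'.restrictScalars A).comp Algebra.TensorProduct.includeRight, fun x => ?_⟩
  have h1 := AlgHom.congr_fun hτ' ((1 : C) ⊗ₜ[A] x)
  simp only [AlgHom.comp_apply, σ', Algebra.TensorProduct.lift_tmul, map_one, one_mul] at h1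
  exact h1

variable (A : Type u) [CommRing A] (I : Ideal A)

theorem map_le_ker_ε :
    I.map (algebraMap A (H A (A ⧸ I))) ≤ RingHom.ker (ε A (A ⧸ I)) := by
  rw [Ideal.map_le_iff_le_comap]
  intro a ha
  rw [Ideal.mem_comap, RingHom.mem_ker, ε_algebraMap]
  exact Ideal.Quotient.eq_zero_iff_mem.mpr ha

theorem ι_mem_map (X : EtPt A (A ⧸ I)) (y : X.A) (hy : y ∈ I.map (algebraMap A X.A)) :
    ι A (A ⧸ I) X y ∈ I.map (algebraMap A (H A (A ⧸ I))) := by
  have := Ideal.mem_map_of_mem (ιₐ A (A ⧸ I) X).toRingHom hy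
  have hc : (ιₐ A (A ⧸ I) X).toRingHom.comp (algebraMap A X.A) =
      algebraMap A (H A (A ⧸ I)) :=
    RingHom.ext fun r => ι_algebraMap A (A ⧸ I) X r
  rw [Ideal.map_map, hc] at this
  exact this

theorem mem_map_of_ε_eq_zero (x : H A (A ⧸ I)) (hx : ε A (A ⧸ I) x = 0) :
    x ∈ I.map (algebraMap A (H A (A ⧸ I))) := by
  obtain ⟨X, a, rfl⟩ := exists_rep A (A ⧸ I) x
  rw [ε_ι] at hx
  have hχIX : ∀ y ∈ I.map (algebraMap A X.A), X.χ y = 0 := by
    intro y hy
    have hle : I.map (algebraMap A X.A) ≤ RingHom.ker X.χ.toRingHom := by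
      rw [Ideal.map_le_iff_le_comap]
      intro i hi
      rw [Ideal.mem_comap, RingHom.mem_ker]
      show X.χ (algebraMap A X.A i) = 0
      rw [X.χ.commutes]
      exact Ideal.Quotient.eq_zero_iff_mem.mpr hi
    exact hle hy
  -- the fibre, as an `A`-algebra
  let χA : (X.A ⧸ I.map (algebraMap A X.A)) →ₐ[A] A ⧸ I := Ideal.Quotient.liftₐ _ X.χ hχIX
  have hβ : ∀ i ∈ I, (Algebra.ofId A (X.A ⧸ I.map (algebraMap A X.A))) i = 0 := by
    intro i hi
    show Ideal.Quotient.mk _ (algebraMap A X.A i) = 0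
    exact Ideal.Quotient.eq_zero_iff_mem.mpr (Ideal.mem_map_of_mem _ hi)
  let β : A ⧸ I →ₐ[A] (X.A ⧸ I.map (algebraMap A X.A)) :=
    Ideal.Quotient.liftₐ I (Algebra.ofId A _) hβ
  have hχβ : ∀ z : A ⧸ I, χA (β z) = z := by
    intro z
    obtain ⟨r, rfl⟩ := Ideal.Quotient.mk_surjective z
    show χA (β (algebraMap A (A ⧸ I) r)) = algebraMap A (A ⧸ I) r
    rw [β.commutes, χA.commutes]
  obtain ⟨eb, heb, hspan⟩ := exists_idempotent_coequalizer (R := A)
    (X.A ⧸ I.map (algebraMap A X.A)) (X.A ⧸ I.map (algebraMap A X.A))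
    (AlgHom.id A _) (β.comp χA)
  -- everything in the span is killed by `χA`
  have hspanker : ∀ z ∈ Ideal.span (Set.range fun s : X.A ⧸ I.map (algebraMap A X.A) =>
      (AlgHom.id A _) s - (β.comp χA) s), χA z = 0 := by
    intro z hz
    have hle : Ideal.span (Set.range fun s : X.A ⧸ I.map (algebraMap A X.A) =>
        (AlgHom.id A _) s - (β.comp χA) s) ≤ RingHom.ker χA.toRingHom := by
      rw [Ideal.span_le]
      rintro _ ⟨s, rfl⟩
      rw [SetLike.mem_coe, RingHom.mem_ker]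
      show χA (s - β (χA s)) = 0
      rw [map_sub, hχβ, sub_self]
    exact hle hz
  have hχeb : χA eb = 1 := by
    have h1 : (1 : X.A ⧸ I.map (algebraMap A X.A)) - eb ∈ Ideal.span {1 - eb} :=
      Ideal.subset_span rfl
    rw [← hspan] at h1
    have h2 := hspanker _ h1
    rw [map_sub, map_one, sub_eq_zero] at h2
    exact h2.symm
  have hamem : Ideal.Quotient.mk (I.map (algebraMap A X.A)) a ∈ Ideal.span {1 - eb} := by
    rw [← hspan]
    have h1 : Ideal.Quotient.mk (I.map (algebraMap A X.A)) a =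
        (AlgHom.id A _) (Ideal.Quotient.mk (I.map (algebraMap A X.A)) a) -
          (β.comp χA) (Ideal.Quotient.mk (I.map (algebraMap A X.A)) a) := by
      have h2 : χA (Ideal.Quotient.mk (I.map (algebraMap A X.A)) a) = 0 := hx
      show _ = Ideal.Quotient.mk _ a - β (χA (Ideal.Quotient.mk _ a))
      rw [h2, map_zero, sub_zero]
    rw [h1]
    exact Ideal.subset_span ⟨_, rfl⟩
  obtain ⟨cb, hcb⟩ := Ideal.mem_span_singleton'.mp hamem
  obtain ⟨c, rfl⟩ := Ideal.Quotient.mk_surjective cb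
  obtain ⟨e', rfl⟩ := Ideal.Quotient.mk_surjective eb
  have h1 : a - c * (1 - e') ∈ I.map (algebraMap A X.A) := by
    rw [← Ideal.Quotient.eq, ← hcb, map_mul, map_sub, map_one]
  have h2 : e' * (1 - e') ∈ I.map (algebraMap A X.A) := by
    rw [← Ideal.Quotient.eq_zero_iff_mem, map_mul, map_sub, map_one]
    have hebeq := heb.eq
    linear_combination (-1 : X.A ⧸ I.map (algebraMap A X.A)) * hebeq
  have hχe' : X.χ e' = 1 := hχeb
  -- in the colimit
  have hu : IsUnit (ι A (A ⧸ I) X e') := by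
    apply isUnit_of_isUnit_ε
    rw [ε_ι, hχe']
    exact isUnit_one
  have h3 : ι A (A ⧸ I) X (1 - e') ∈ I.map (algebraMap A (H A (A ⧸ I))) := by
    have h4 := ι_mem_map A I X _ h2
    rw [map_mul] at h4
    exact (Ideal.unit_mul_mem_iff_mem _ hu).mp h4
  have h5 := ι_mem_map A I X _ h1
  have h6 : ι A (A ⧸ I) X a = ι A (A ⧸ I) X (a - c * (1 - e')) +
      ι A (A ⧸ I) X c * ι A (A ⧸ I) X (1 - e') := by
    rw [← map_mul, ← map_add]
    congr 1
    ring
  rw [h6]
  exact Ideal.add_mem _ h5 (Ideal.mul_mem_left _ _ h3)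

theorem ker_ε_eq_map :
    RingHom.ker (ε A (A ⧸ I)) = I.map (algebraMap A (H A (A ⧸ I))) :=
  le_antisymm (fun x hx => mem_map_of_ε_eq_zero A I x (RingHom.mem_ker.mp hx)) (map_le_ker_ε A I)

theorem map_le_jacobson : I.map (algebraMap A (H A (A ⧸ I))) ≤ Ideal.jacobson ⊥ := by
  intro x hx
  rw [Ideal.mem_jacobson_bot]
  intro y
  apply isUnit_of_isUnit_ε
  have h0 : ε A (A ⧸ I) x = 0 := RingHom.mem_ker.mp (map_le_ker_ε A I hx)
  rw [map_add, map_mul, h0, zero_mul, zero_add, map_one]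
  exact isUnit_one

theorem exists_sub_mem_map (x : H A (A ⧸ I)) :
    ∃ r : A, x - algebraMap A (H A (A ⧸ I)) r ∈ I.map (algebraMap A (H A (A ⧸ I))) := by
  obtain ⟨r, hr⟩ := Ideal.Quotient.mk_surjective (ε A (A ⧸ I) x)
  refine ⟨r, mem_map_of_ε_eq_zero A I _ ?_⟩
  rw [map_sub, ε_algebraMap, ← hr]
  exact sub_self _

theorem gabber_root (n : ℕ) (hn : 0 < n) (p : (H A (A ⧸ I))[X]) (hp : p.natDegree ≤ n)
    (hpI : ∀ i, p.coeff i ∈ I.map (algebraMap A (H A (A ⧸ I)))) :
    ∃ α : H A (A ⧸ I), α - 1 ∈ I.map (algebraMap A (H A (A ⧸ I))) ∧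
      IsRoot (X ^ n * (X - 1) + p) α := by
  classical
  obtain ⟨Y, hY⟩ := exists_rep_finset A (A ⧸ I) p.coeffs
  have hlift : p ∈ Polynomial.lifts (ι A (A ⧸ I) Y) := by
    rw [Polynomial.lifts_iff_coeffs_subset_range]
    intro c hc
    obtain ⟨b, hb⟩ := hY c hc
    exact ⟨b, hb⟩
  obtain ⟨pY, hpY, hdeg⟩ := Polynomial.exists_natDegree_eq_of_mem_lifts hlift
  have hpYn : pY.natDegree ≤ n := hdeg ▸ hp
  obtain ⟨FY, hFY⟩ : ∃ FY : Y.A[X], FY = X ^ n * (X - 1) + pY := ⟨_, rfl⟩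
  have hFYm : FY.Monic := hFY ▸ Groth.Agent.H3.monic_gabber n pY hpYn
  have hχcoeff : ∀ i, Y.χ (pY.coeff i) = 0 := by
    intro i
    have h1 : ι A (A ⧸ I) Y (pY.coeff i) = p.coeff i := by rw [← hpY, Polynomial.coeff_map]
    have h2 := map_le_ker_ε A I (hpI i)
    rw [RingHom.mem_ker, ← h1, ε_ι] at h2
    exact h2
  have hχp : ∀ q : Y.A[X], (∀ i, Y.χ (q.coeff i) = 0) → Y.χ (q.eval 1) = 0 := by
    intro q hq
    rw [Polynomial.eval_eq_sum_range, map_sum]
    apply Finset.sum_eq_zero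
    intro i _
    rw [one_pow, mul_one, hq i]
  have hχF : Y.χ (FY.eval 1) = 0 := by
    rw [hFY]
    simp only [Polynomial.eval_add, Polynomial.eval_mul, Polynomial.eval_pow, Polynomial.eval_X,
      Polynomial.eval_sub, Polynomial.eval_one, sub_self, mul_zero, zero_add]
    exact hχp pY hχcoeff
  have hd : derivative FY = C (n : Y.A) * X ^ (n - 1) * (X - 1) + X ^ n + derivative pY := by
    rw [hFY, derivative_add, derivative_mul, derivative_X_pow, derivative_sub, derivative_X,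
      derivative_one, sub_zero, mul_one]
  have hχF' : Y.χ ((derivative FY).eval 1) = 1 := by
    rw [hd]
    simp only [Polynomial.eval_add, Polynomial.eval_mul, Polynomial.eval_pow, Polynomial.eval_X,
      Polynomial.eval_sub, Polynomial.eval_one, sub_self, mul_zero, zero_add, one_pow]
    rw [map_add, map_one, hχp (derivative pY) (fun i => by
      rw [Polynomial.coeff_derivative, map_mul, hχcoeff, zero_mul]), add_zero]
  let P : StandardEtalePair Y.A :=
    { f := FY, monic_f := hFYm, g := derivative FY, cond := ⟨1, 0, 1, by simp⟩ }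
  letI : Algebra Y.A (A ⧸ I) := Y.χ.toRingHom.toAlgebra
  have hmap : P.HasMap (Y.χ 1) := by
    constructor
    · show Polynomial.aeval (Y.χ 1) FY = 0
      have : Polynomial.aeval (Y.χ 1) FY = Y.χ (FY.eval 1) := by
        rw [Polynomial.aeval_def]
        exact Polynomial.eval₂_at_apply Y.χ.toRingHom 1
      rw [this, hχF]
    · show IsUnit (Polynomial.aeval (Y.χ 1) (derivative FY))
      have : Polynomial.aeval (Y.χ 1) (derivative FY) = Y.χ ((derivative FY).eval 1) := by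
        rw [Polynomial.aeval_def]
        exact Polynomial.eval₂_at_apply Y.χ.toRingHom 1
      rw [this, hχF']
      exact isUnit_one
  obtain ⟨Z, u, j, hj, hjχ⟩ := exists_obj_over Y P.Ring (P.lift (Y.χ 1) hmap).toRingHom
    (fun b => (P.lift (Y.χ 1) hmap).commutes b)
  refine ⟨ι A (A ⧸ I) Z (j P.X), ?_, ?_⟩
  · apply mem_map_of_ε_eq_zero
    rw [map_sub, ε_ι, hjχ]
    have h1 : (P.lift (Y.χ 1) hmap) P.X = Y.χ 1 := P.lift_X _ _
    have h2 : ε A (A ⧸ I) 1 = 1 := map_one _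
    have h3 : Y.χ 1 = 1 := map_one _
    show (P.lift (Y.χ 1) hmap) P.X - ε A (A ⧸ I) 1 = 0
    rw [h1, h2, h3, sub_self]
  · have hFmap : (X ^ n * (X - 1) + p : (H A (A ⧸ I))[X]) = FY.map (ι A (A ⧸ I) Y) := by
      rw [hFY, ← hpY]
      simp only [Polynomial.map_add, Polynomial.map_mul, Polynomial.map_pow, Polynomial.map_X,
        Polynomial.map_sub, Polynomial.map_one]
    rw [hFmap]
    show Polynomial.eval (ι A (A ⧸ I) Z (j P.X)) (FY.map (ι A (A ⧸ I) Y)) = 0
    have hcomp : ι A (A ⧸ I) Y = ((ι A (A ⧸ I) Z).comp j).comp (algebraMap Y.A P.Ring) :=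
      RingHom.ext fun b => by
        show ι A (A ⧸ I) Y b = ι A (A ⧸ I) Z (j (algebraMap Y.A P.Ring b))
        rw [hj, ι_map]
    have h3 : ι A (A ⧸ I) Z (j (Polynomial.eval₂ (algebraMap Y.A P.Ring) P.X FY)) =
        Polynomial.eval₂ (((ι A (A ⧸ I) Z).comp j).comp (algebraMap Y.A P.Ring))
          (ι A (A ⧸ I) Z (j P.X)) FY :=
      Polynomial.hom_eval₂ FY (algebraMap Y.A P.Ring) ((ι A (A ⧸ I) Z).comp j) P.X
    have hroot : Polynomial.eval₂ (algebraMap Y.A P.Ring) P.X FY = 0 := P.hasMap_X.1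
    rw [Polynomial.eval_map, hcomp, ← h3, hroot, map_zero, map_zero]

instance henselianRing_H : HenselianRing (H A (A ⧸ I)) (I.map (algebraMap A (H A (A ⧸ I)))) :=
  Groth.Agent.H3.henselianRing_of_gabber _ (map_le_jacobson A I)
    (fun n hn p hp hpI => gabber_root A I n hn p hp hpI)

theorem existsUnique_desc (C : Type u) [CommRing C] (J : Ideal C) (f : A →+* C)
    (hC : HenselianRing C J) (hIJ : I.map f ≤ J) :
    ∃! g : H A (A ⧸ I) →+* C, g.comp (algebraMap A (H A (A ⧸ I))) = f := by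
  letI : Algebra A C := f.toAlgebra
  haveI := hC
  have hφb : ∀ a ∈ I, (Algebra.ofId A (C ⧸ J)) a = 0 := by
    intro a ha
    show Ideal.Quotient.mk J (f a) = 0
    exact Ideal.Quotient.eq_zero_iff_mem.mpr (hIJ (Ideal.mem_map_of_mem f ha))
  let φb : A ⧸ I →ₐ[A] C ⧸ J := Ideal.Quotient.liftₐ I (Algebra.ofId A (C ⧸ J)) hφb
  have hφbmk : ∀ r : A, φb (Ideal.Quotient.mk I r) = Ideal.Quotient.mk J (f r) := fun r => rfl
  have hlift : ∀ X : EtPt A (A ⧸ I), ∃ τ : X.A →ₐ[A] C,
      ∀ x, Ideal.Quotient.mk J (τ x) = φb (X.χ x) :=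
    fun X => exists_algHom_lift_of_etale C J X.A (φb.comp X.χ)
  choose τ hτ using hlift
  have hτuniq : ∀ (X : EtPt A (A ⧸ I)) (τ' : X.A →ₐ[A] C),
      (∀ x, Ideal.Quotient.mk J (τ' x) = φb (X.χ x)) → τ' = τ X := by
    intro X τ' h'
    apply algHom_eq_of_sub_mem' J hC.jac
    intro s
    rw [← Ideal.Quotient.eq, hτ, h']
  have hnat : ∀ (X Y : EtPt A (A ⧸ I)) (u : X ⟶ Y),
      (τ Y).toRingHom.comp u.f.toRingHom = (τ X).toRingHom := by
    intro X Y u
    have : (τ Y).comp u.f = τ X := hτuniq X _ (fun x => by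
      rw [AlgHom.comp_apply, hτ Y]
      congr 1
      exact AlgHom.congr_fun u.w x)
    exact congrArg AlgHom.toRingHom this
  refine ⟨desc A (A ⧸ I) (fun X => (τ X).toRingHom) hnat, ?_, ?_⟩
  · ext a
    show desc A (A ⧸ I) (fun X => (τ X).toRingHom) hnat (algebraMap A (H A (A ⧸ I)) a) = f a
    rw [← ι_algebraMap A (A ⧸ I) (X₀ A (A ⧸ I)) a, desc_ι]
    exact (τ _).commutes a
  · intro g' hg'
    apply hom_ext
    intro X a
    rw [desc_ι]
    let τ' : X.A →ₐ[A] C :=
      { toRingHom := g'.comp (ι A (A ⧸ I) X)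
        commutes' := fun r => by
          show g' (ι A (A ⧸ I) X (algebraMap A X.A r)) = algebraMap A C r
          rw [ι_algebraMap]
          exact RingHom.congr_fun hg' r }
    have hg'J : ∀ y ∈ I.map (algebraMap A (H A (A ⧸ I))), g' y ∈ J := by
      intro y hy
      have hle : I.map (algebraMap A (H A (A ⧸ I))) ≤ J.comap g' := by
        rw [Ideal.map_le_iff_le_comap]
        intro i hi
        rw [Ideal.mem_comap, Ideal.mem_comap]
        have : g' (algebraMap A _ i) = f i := RingHom.congr_fun hg' i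
        rw [this]
        exact hIJ (Ideal.mem_map_of_mem f hi)
      exact hle hy
    have hτ' : τ' = τ X := hτuniq X τ' (fun x => by
      obtain ⟨r, hr⟩ := Ideal.Quotient.mk_surjective (X.χ x)
      have hmem : ι A (A ⧸ I) X x - algebraMap A (H A (A ⧸ I)) r ∈
          I.map (algebraMap A (H A (A ⧸ I))) := by
        apply mem_map_of_ε_eq_zero
        rw [map_sub, ε_ι, ε_algebraMap, ← hr]
        exact sub_self _
      have h1 := hg'J _ hmem
      rw [map_sub, ← Ideal.Quotient.eq] at h1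
      show Ideal.Quotient.mk J (g' (ι A (A ⧸ I) X x)) = _
      rw [h1, ← hr, hφbmk]
      have : g' (algebraMap A _ r) = f r := RingHom.congr_fun hg' r
      rw [this])
    exact (AlgHom.congr_fun hτ' a)

theorem isPairHenselization_H : Hens2.IsPairHenselization A I (H A (A ⧸ I)) :=
  ⟨henselianRing_H A I, fun C _ J f hC hIJ => existsUnique_desc A I C J f hC hIJ⟩

end Groth.Agent.H3.PH
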