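import Groth.Agent.H3.PH16
import Groth.Agent.H3.HPairZMT2
import Groth.Agent.H3.PH2

set_option autoImplicit false
set_option linter.unusedSimpArgs false
set_option linter.unusedVariables false
set_option linter.style.haveILetI false
universe u

open TensorProduct Groth.Agent.Lead.ColimDescent

namespace Groth.Agent.H3.PH

attribute [local instance] Algebra.TensorProduct.rightAlgebra

/-- If the generators `b ⊗ 1` satisfy monic equations on the factor cut out by the idempotent `e`,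
that factor is finite over the right-hand ring. -/
theorem finite_quotient_of_monic_eq {A B Y : Type u} [CommRing A] [CommRing B] [Algebra A B]
    [CommRing Y] [Algebra A Y] (s : Finset B) (hs : Algebra.adjoin A (s : Set B) = ⊤)
    (e : B ⊗[A] Y) (he : IsIdempotentElem e)
    (h : ∀ b ∈ s, ∃ q : Polynomial Y, q.Monic ∧ e * ev B Y b q = 0) :
    Module.Finite Y ((B ⊗[A] Y) ⧸ Ideal.span ({1 - e} : Set (B ⊗[A] Y))) := by
  classical
  obtain ⟨𝔠, h𝔠⟩ : ∃ 𝔠 : Ideal (B ⊗[A] Y), 𝔠 = Ideal.span ({1 - e} : Set (B ⊗[A] Y)) := ⟨_, rfl⟩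
  rw [← h𝔠]
  have hmem : ∀ x : B ⊗[A] Y, e * x = 0 → x ∈ 𝔠 := by
    intro x hx
    rw [h𝔠, Ideal.mem_span_singleton']
    refine ⟨x, ?_⟩
    rw [mul_sub, mul_one, mul_comm x e, hx, sub_zero]
  let c : B → (B ⊗[A] Y) ⧸ 𝔠 := fun b => Ideal.Quotient.mk 𝔠 (b ⊗ₜ[A] (1 : Y))
  have hint : ∀ b ∈ s, IsIntegral Y (c b) := by
    intro b hb
    obtain ⟨q, hq, hqe⟩ := h b hb
    refine ⟨q, hq, ?_⟩
    have h1 := Polynomial.hom_eval₂ q (algebraMap Y (B ⊗[A] Y)) (Ideal.Quotient.mk 𝔠)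
      (b ⊗ₜ[A] (1 : Y))
    have h2 : (Ideal.Quotient.mk 𝔠).comp (algebraMap Y (B ⊗[A] Y)) =
        algebraMap Y ((B ⊗[A] Y) ⧸ 𝔠) := rfl
    rw [h2] at h1
    change Polynomial.eval₂ (algebraMap Y ((B ⊗[A] Y) ⧸ 𝔠))
      (Ideal.Quotient.mk 𝔠 (b ⊗ₜ[A] (1 : Y))) q = 0
    rw [← h1, Ideal.Quotient.eq_zero_iff_mem]
    exact hmem _ hqe
  let U : Subalgebra Y ((B ⊗[A] Y) ⧸ 𝔠) := Algebra.adjoin Y (c '' (s : Set B))
  let ψ : B →ₐ[A] (B ⊗[A] Y) ⧸ 𝔠 :=
    (Ideal.Quotient.mkₐ A 𝔠).comp (Algebra.TensorProduct.includeLeft : B →ₐ[A] B ⊗[A] Y)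
  have hψ : ∀ b, ψ b = c b := fun b => rfl
  have hB : ∀ b : B, c b ∈ U := by
    have hle : Algebra.adjoin A (s : Set B) ≤ (U.restrictScalars A).comap ψ := by
      apply Algebra.adjoin_le
      intro b hb
      change ψ b ∈ U
      rw [hψ]
      exact Algebra.subset_adjoin ⟨b, hb, rfl⟩
    intro b
    have hb : b ∈ Algebra.adjoin A (s : Set B) := by rw [hs]; trivial
    have := hle hb
    change ψ b ∈ U at this
    rwa [hψ] at this
  have hall : ∀ t : B ⊗[A] Y, Ideal.Quotient.mk 𝔠 t ∈ U := by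
    intro t
    induction t using TensorProduct.induction_on with
    | zero => rw [map_zero]; exact U.zero_mem
    | tmul b y =>
      have : Ideal.Quotient.mk 𝔠 (b ⊗ₜ[A] y) = y • c b := by
        have e1 : y • c b = algebraMap Y ((B ⊗[A] Y) ⧸ 𝔠) y * c b := Algebra.smul_def y (c b)
        refine Eq.trans ?_ e1.symm
        change _ = Ideal.Quotient.mk 𝔠 (algebraMap Y (B ⊗[A] Y) y) *
          Ideal.Quotient.mk 𝔠 (b ⊗ₜ[A] (1 : Y))
        rw [← map_mul, Algebra.TensorProduct.right_algebraMap_apply,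
          Algebra.TensorProduct.tmul_mul_tmul, one_mul, mul_one]
      rw [this]
      exact U.smul_mem (hB b) y
    | add a b ha hb => rw [map_add]; exact U.add_mem ha hb
  have hU : U = ⊤ := by
    rw [eq_top_iff]
    intro z _
    obtain ⟨t, rfl⟩ := Ideal.Quotient.mk_surjective z
    exact hall t
  have hfg : U.toSubmodule.FG := fg_adjoin_of_finite ((s.finite_toSet).image c) (by
    rintro _ ⟨b, hb, rfl⟩
    exact hint b hb)
  rw [hU, Algebra.top_toSubmodule] at hfg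
  exact ⟨hfg⟩

/-- Zariski's main theorem data over the pair henselization. -/
theorem exists_split_H {A : Type u} [CommRing A] (I : Ideal A) (B : Type u) [CommRing B]
    [Algebra A B] [Algebra.FiniteType A B] [hfin : Module.Finite A (B ⧸ I.map (algebraMap A B))]
    (s : Finset B) :
    ∃ e : B ⊗[A] H A (A ⧸ I), IsIdempotentElem e ∧
      1 - e ∈ (I • ⊤ : Submodule A (B ⊗[A] H A (A ⧸ I))) ∧
      ∃ p : B → Polynomial (H A (A ⧸ I)),
        ∀ b ∈ s, (p b).Monic ∧ e * ev B (H A (A ⧸ I)) b (p b) = 0 := by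
  classical
  obtain ⟨Ah, hAh⟩ : ∃ Ah : Type u, Ah = H A (A ⧸ I) := ⟨_, rfl⟩
  subst hAh
  obtain ⟨J, hJ⟩ : ∃ J : Ideal (H A (A ⧸ I)), J = I.map (algebraMap A (H A (A ⧸ I))) := ⟨_, rfl⟩
  haveI : HenselianRing (H A (A ⧸ I)) J := by rw [hJ]; exact henselianRing_H A I
  have hJmap : J.map (algebraMap (H A (A ⧸ I)) (H A (A ⧸ I) ⊗[A] B)) =
      I.map (algebraMap A (H A (A ⧸ I) ⊗[A] B)) := by
    rw [hJ, Ideal.map_map, ← IsScalarTower.algebraMap_eq]
  -- finiteness of the reduction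
  haveI hfinT : Module.Finite (H A (A ⧸ I))
      ((H A (A ⧸ I) ⊗[A] B) ⧸ J.map (algebraMap (H A (A ⧸ I)) (H A (A ⧸ I) ⊗[A] B))) := by
    let ψ₂ : B ⧸ I.map (algebraMap A B) →ₐ[A]
        (H A (A ⧸ I) ⊗[A] B) ⧸ J.map (algebraMap (H A (A ⧸ I)) (H A (A ⧸ I) ⊗[A] B)) :=
      Ideal.Quotient.liftₐ (I.map (algebraMap A B))
        ((Ideal.Quotient.mkₐ A _).comp
          (Algebra.TensorProduct.includeRight : B →ₐ[A] H A (A ⧸ I) ⊗[A] B)) (by
        intro b hb
        change Ideal.Quotient.mk _ ((1 : H A (A ⧸ I)) ⊗ₜ[A] b) = 0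
        rw [Ideal.Quotient.eq_zero_iff_mem, hJmap]
        have h1 := Ideal.mem_map_of_mem
          (Algebra.TensorProduct.includeRight : B →ₐ[A] H A (A ⧸ I) ⊗[A] B).toRingHom hb
        rw [Ideal.map_map] at h1
        have h2 : (Algebra.TensorProduct.includeRight :
            B →ₐ[A] H A (A ⧸ I) ⊗[A] B).toRingHom.comp (algebraMap A B) =
            algebraMap A (H A (A ⧸ I) ⊗[A] B) := by
          apply RingHom.ext
          intro a
          exact (Algebra.TensorProduct.includeRight :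
            B →ₐ[A] H A (A ⧸ I) ⊗[A] B).commutes a
        rw [h2] at h1
        exact h1)
    have hψ₂ : ∀ b : B, ψ₂ (Ideal.Quotient.mk _ b) =
        Ideal.Quotient.mk _ ((1 : H A (A ⧸ I)) ⊗ₜ[A] b) := by
      intro b
      change Ideal.Quotient.liftₐ _ _ _ (Ideal.Quotient.mk _ b) = _
      rw [Ideal.Quotient.liftₐ_apply, Ideal.Quotient.lift_mk]
      rfl
    let Ψ : H A (A ⧸ I) ⊗[A] (B ⧸ I.map (algebraMap A B)) →ₗ[H A (A ⧸ I)]
        (H A (A ⧸ I) ⊗[A] B) ⧸ J.map (algebraMap (H A (A ⧸ I)) (H A (A ⧸ I) ⊗[A] B)) :=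
      LinearMap.liftBaseChange _ ψ₂.toLinearMap
    refine Module.Finite.of_surjective Ψ ?_
    intro z
    obtain ⟨t, rfl⟩ := Ideal.Quotient.mk_surjective z
    induction t using TensorProduct.induction_on with
    | zero => exact ⟨0, map_zero _⟩
    | tmul a b =>
      refine ⟨a ⊗ₜ Ideal.Quotient.mk _ b, ?_⟩
      simp only [Ψ, LinearMap.liftBaseChange_tmul, AlgHom.toLinearMap_apply, hψ₂]
      have e1 : a • Ideal.Quotient.mk
          (J.map (algebraMap (H A (A ⧸ I)) (H A (A ⧸ I) ⊗[A] B))) ((1 : H A (A ⧸ I)) ⊗ₜ[A] b) =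
          Ideal.Quotient.mk _ (a • ((1 : H A (A ⧸ I)) ⊗ₜ[A] b)) := rfl
      rw [e1, TensorProduct.smul_tmul', smul_eq_mul, mul_one]
    | add x y hx hy =>
      obtain ⟨x', hx'⟩ := hx
      obtain ⟨y', hy'⟩ := hy
      exact ⟨x' + y', by rw [map_add, hx', hy', map_add]⟩
  obtain ⟨e₁, he₁, hfin₁, h1e₁⟩ := Groth.Agent.H3.finiteType_split_of_henselianRing J
    (H A (A ⧸ I) ⊗[A] B)
  let κ := Algebra.TensorProduct.comm A (H A (A ⧸ I)) B
  refine ⟨κ e₁, he₁.map κ, ?_, ?_⟩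
  · have h1 : (1 - e₁) ∈ (I • ⊤ : Submodule A (H A (A ⧸ I) ⊗[A] B)) := by
      rw [Ideal.smul_top_eq_map]
      rw [hJmap] at h1e₁
      exact h1e₁
    have h2 := mem_smul_top_map κ.toLinearMap I h1
    have h3 : κ.toLinearMap (1 - e₁) = 1 - κ e₁ := by
      change κ (1 - e₁) = _
      rw [map_sub, map_one]
    rw [h3] at h2
    exact h2
  · haveI := hfin₁
    haveI : Algebra.IsIntegral (H A (A ⧸ I))
        ((H A (A ⧸ I) ⊗[A] B) ⧸ Ideal.span ({1 - e₁} : Set (H A (A ⧸ I) ⊗[A] B))) :=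
      Algebra.IsIntegral.of_finite _ _
    have hex : ∀ b : B, ∃ p : Polynomial (H A (A ⧸ I)), p.Monic ∧
        κ e₁ * ev B (H A (A ⧸ I)) b p = 0 := by
      intro b
      obtain ⟨p, hp, hpe⟩ := Algebra.IsIntegral.isIntegral (R := H A (A ⧸ I))
        (Ideal.Quotient.mk (Ideal.span ({1 - e₁} : Set (H A (A ⧸ I) ⊗[A] B)))
          ((1 : H A (A ⧸ I)) ⊗ₜ[A] b))
      refine ⟨p, hp, ?_⟩
      have h1 := Polynomial.hom_eval₂ p (algebraMap (H A (A ⧸ I)) (H A (A ⧸ I) ⊗[A] B))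
        (Ideal.Quotient.mk (Ideal.span ({1 - e₁} : Set (H A (A ⧸ I) ⊗[A] B))))
        ((1 : H A (A ⧸ I)) ⊗ₜ[A] b)
      have hmem : Polynomial.eval₂ (algebraMap (H A (A ⧸ I)) (H A (A ⧸ I) ⊗[A] B))
          ((1 : H A (A ⧸ I)) ⊗ₜ[A] b) p ∈
          Ideal.span ({1 - e₁} : Set (H A (A ⧸ I) ⊗[A] B)) := by
        rw [← Ideal.Quotient.eq_zero_iff_mem, h1]
        exact hpe
      obtain ⟨w, hw⟩ := Ideal.mem_span_singleton'.mp hmem
      have h2 : e₁ * Polynomial.eval₂ (algebraMap (H A (A ⧸ I)) (H A (A ⧸ I) ⊗[A] B))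
          ((1 : H A (A ⧸ I)) ⊗ₜ[A] b) p = 0 := by
        rw [← hw]
        have := he₁.eq
        linear_combination (-w) * this
      have h3 := Polynomial.hom_eval₂ p (algebraMap (H A (A ⧸ I)) (H A (A ⧸ I) ⊗[A] B))
        κ.toAlgHom.toRingHom ((1 : H A (A ⧸ I)) ⊗ₜ[A] b)
      have h4 : κ.toAlgHom.toRingHom.comp
          (algebraMap (H A (A ⧸ I)) (H A (A ⧸ I) ⊗[A] B)) =
          (Algebra.TensorProduct.includeRight :
            H A (A ⧸ I) →ₐ[A] B ⊗[A] H A (A ⧸ I)).toRingHom := by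
        apply RingHom.ext
        intro a
        change κ (algebraMap (H A (A ⧸ I)) (H A (A ⧸ I) ⊗[A] B) a) = (1 : B) ⊗ₜ[A] a
        rw [Algebra.TensorProduct.algebraMap_apply, Algebra.algebraMap_self, RingHom.id_apply]
        exact Algebra.TensorProduct.comm_tmul _ _ _
      have h5 : κ.toAlgHom.toRingHom ((1 : H A (A ⧸ I)) ⊗ₜ[A] b) = b ⊗ₜ[A] (1 : H A (A ⧸ I)) :=
        Algebra.TensorProduct.comm_tmul _ _ _
      rw [h4, h5] at h3
      have h6 := congrArg κ h2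
      rw [map_mul, map_zero] at h6
      unfold ev
      rw [← h3]
      exact h6
    choose p hp using hex
    exact ⟨p, fun b _ => hp b⟩

/-- An étale neighbourhood of `(A, I)` over which a finite type algebra with finite reduction
splits off a finite part carrying the whole reduction (data form). -/
theorem exists_nbhd_split {A : Type u} [CommRing A] (I : Ideal A) (B : Type u) [CommRing B]
    [Algebra A B] [Algebra.FiniteType A B] [Module.Finite A (B ⧸ I.map (algebraMap A B))]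
    (s : Finset B) :
    ∃ (A' : Type u) (_ : CommRing A') (_ : Algebra A A') (_ : Algebra.Etale A A'),
      Function.Bijective (Ideal.quotientMap (I.map (algebraMap A A')) (algebraMap A A')
        Ideal.le_comap_map) ∧
      ∃ e' : B ⊗[A] A', IsIdempotentElem e' ∧
        1 - e' ∈ (I • ⊤ : Submodule A (B ⊗[A] A')) ∧
        ∀ b ∈ s, ∃ q : Polynomial A', q.Monic ∧ e' * ev B A' b q = 0 := by
  obtain ⟨e, he, hI, p, hp⟩ := exists_split_H I B s
  obtain ⟨X, eX, heX, hIX, hX⟩ := (sys_H A (A ⧸ I)).descend_split B I s e he hI p hp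
  obtain ⟨f, hf1, hEt, hbij⟩ := exists_nbhd_of_etPt I X
  let φ : X.A →ₐ[A] Localization.Away f := IsScalarTower.toAlgHom A X.A (Localization.Away f)
  have hI' : 1 - Bm B φ eX ∈ (I • ⊤ : Submodule A (B ⊗[A] Localization.Away f)) := by
    have := Bm_mem_smul_top B φ I hIX
    rwa [map_sub, map_one] at this
  refine ⟨Localization.Away f, inferInstance, inferInstance, hEt, hbij, Bm B φ eX, heX.map _,
    hI', fun b hb => ?_⟩
  obtain ⟨q, hq, hqe⟩ := hX b hb
  refine ⟨q.map φ.toRingHom, hq.map _, ?_⟩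
  rw [← Bm_ev, ← map_mul, hqe, map_zero]

end Groth.Agent.H3.PH
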