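import Groth.Agent.H3.PH17
import Groth.Agent.H3.HPair9
import Groth.Agent.H3.PH3

set_option autoImplicit false
set_option linter.unusedSimpArgs false
set_option linter.unusedVariables false
set_option linter.style.haveILetI false
universe u

open TensorProduct

namespace Groth.Agent.H3.PH

/-- Over a Henselian pair, a factor `R/(1-e)` finite over the base with `1 - e ∈ IR` is the
henselization of `(R, IR)`. -/
theorem isPairHenselization_quotient_idempotent {A : Type u} [CommRing A] (I : Ideal A)
    [HenselianRing A I] (R : Type u) [CommRing R] [Algebra A R] (e : R) (he : IsIdempotentElem e)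
    [Module.Finite A (R ⧸ Ideal.span ({1 - e} : Set R))] (h1e : 1 - e ∈ I.map (algebraMap A R)) :
    Hens2.IsPairHenselization R (I.map (algebraMap A R)) (R ⧸ Ideal.span ({1 - e} : Set R)) := by
  haveI : Algebra.IsIntegral A (R ⧸ Ideal.span ({1 - e} : Set R)) :=
    Algebra.IsIntegral.of_finite A _
  have hS : HenselianRing (R ⧸ Ideal.span ({1 - e} : Set R))
      (I.map (algebraMap A (R ⧸ Ideal.span ({1 - e} : Set R)))) :=
    Groth.Agent.H3.henselianRing_map_of_isIntegral I _
  have hideal : (I.map (algebraMap A R)).map (algebraMap R (R ⧸ Ideal.span ({1 - e} : Set R))) =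
      I.map (algebraMap A (R ⧸ Ideal.span ({1 - e} : Set R))) := by
    rw [Ideal.map_map, ← IsScalarTower.algebraMap_eq]
  refine ⟨hideal ▸ hS, ?_⟩
  intro C _ J f hC hle
  have hf0 : f (1 - e) = 0 := by
    apply Groth.Agent.H3.eq_zero_of_isIdempotentElem_of_mem_jacobson (he.one_sub.map f)
    exact hC.jac (hle (Ideal.mem_map_of_mem f h1e))
  have hker : ∀ a ∈ Ideal.span ({1 - e} : Set R), f a = 0 := by
    intro a ha
    obtain ⟨c, rfl⟩ := Ideal.mem_span_singleton'.mp ha
    rw [map_mul, hf0, mul_zero]
  refine ⟨Ideal.Quotient.lift _ f hker, ?_, ?_⟩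
  · apply RingHom.ext
    intro r
    rfl
  · intro g hg
    apply RingHom.ext
    intro z
    obtain ⟨r, rfl⟩ := Ideal.Quotient.mk_surjective z
    rw [Ideal.Quotient.lift_mk]
    exact RingHom.congr_fun hg r

/-- The henselization of a finite type algebra with finite reduction over a Henselian pair is a
finite factor of the algebra. -/
theorem exists_algEquiv_quotient_of_hfp {A : Type u} [CommRing A] (I : Ideal A)
    [HenselianRing A I] (R : Type u) [CommRing R] [Algebra A R] [Algebra.FiniteType A R]
    (B : Type u) [CommRing B] [Algebra R B]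
    (hB : Hens2.IsPairHenselization R (I.map (algebraMap A R)) B)
    [Module.Finite A (R ⧸ I.map (algebraMap A R))] :
    ∃ e : R, IsIdempotentElem e ∧ Module.Finite A (R ⧸ Ideal.span ({1 - e} : Set R)) ∧
      1 - e ∈ I.map (algebraMap A R) ∧
      Nonempty (B ≃ₐ[R] R ⧸ Ideal.span ({1 - e} : Set R)) := by
  obtain ⟨e, he, hfin, h1e⟩ := Groth.Agent.H3.finiteType_split_of_henselianRing I R
  haveI := hfin
  exact ⟨e, he, hfin, h1e, nonempty_algEquiv_of_isPairHenselization _ B _ hB
    (isPairHenselization_quotient_idempotent I R e he h1e)⟩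

/-- The reduction of `R` is finite when the reduction of its henselization is. -/
theorem finite_quotient_of_hfp {A : Type u} [CommRing A] (I : Ideal A)
    (R : Type u) [CommRing R] [Algebra A R]
    (B : Type u) [CommRing B] [Algebra R B] [Algebra A B] [IsScalarTower A R B]
    (hB : Hens2.IsPairHenselization R (I.map (algebraMap A R)) B)
    [Module.Finite A (B ⧸ I.map (algebraMap A B))] :
    Module.Finite A (R ⧸ I.map (algebraMap A R)) := by
  have hbij := quotientMap_pow_bijective (I.map (algebraMap A R)) B hB 1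
  have hideal : ((I.map (algebraMap A R)) ^ 1).map (algebraMap R B) = I.map (algebraMap A B) := by
    rw [pow_one, Ideal.map_map, ← IsScalarTower.algebraMap_eq]
  let θ : R ⧸ I.map (algebraMap A R) →ₐ[A] B ⧸ I.map (algebraMap A B) :=
    Ideal.quotientMapₐ (I.map (algebraMap A B)) (IsScalarTower.toAlgHom A R B) (by
      rw [Ideal.map_le_iff_le_comap]
      intro a ha
      rw [Ideal.mem_comap, Ideal.mem_comap]
      change algebraMap R B (algebraMap A R a) ∈ _
      rw [← IsScalarTower.algebraMap_apply A R B]
      exact Ideal.mem_map_of_mem _ ha)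
  have hθmk : ∀ r : R, θ (Ideal.Quotient.mk _ r) = Ideal.Quotient.mk _ (algebraMap R B r) :=
    fun r => rfl
  have hθ : Function.Bijective θ := by
    constructor
    · rw [injective_iff_map_eq_zero]
      intro z hz
      obtain ⟨r, rfl⟩ := Ideal.Quotient.mk_surjective z
      rw [hθmk, Ideal.Quotient.eq_zero_iff_mem, ← hideal] at hz
      have h1 : Ideal.quotientMap (((I.map (algebraMap A R)) ^ 1).map (algebraMap R B))
          (algebraMap R B) Ideal.le_comap_map (Ideal.Quotient.mk _ r) = 0 := by
        rw [Ideal.quotientMap_mk, Ideal.Quotient.eq_zero_iff_mem]; exact hz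
      have h2 := hbij.1 (h1.trans (map_zero _).symm)
      rw [Ideal.Quotient.eq_zero_iff_mem, pow_one] at h2
      exact Ideal.Quotient.eq_zero_iff_mem.mpr h2
    · intro z
      obtain ⟨b, rfl⟩ := Ideal.Quotient.mk_surjective z
      obtain ⟨w, hw⟩ := hbij.2 (Ideal.Quotient.mk _ b)
      obtain ⟨r, rfl⟩ := Ideal.Quotient.mk_surjective w
      refine ⟨Ideal.Quotient.mk _ r, ?_⟩
      rw [hθmk, Ideal.Quotient.eq]
      rw [Ideal.quotientMap_mk, Ideal.Quotient.eq, hideal] at hw
      exact hw
  exact Module.Finite.equiv (LinearEquiv.ofBijective θ.toLinearMap hθ).symm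

end Groth.Agent.H3.PH
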