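import Groth.Agent.H3.PH4

/-!
# h-formal smoothness / unramifiedness versus smoothness of the truncations `A/I^r → B/I^r B`
-/

set_option autoImplicit false
set_option linter.unusedSimpArgs false
set_option linter.unusedVariables false
set_option linter.style.haveILetI false
universe u
open TensorProduct Polynomial

namespace Groth.Agent.H3.PH

section HFormal

variable {A : Type u} [CommRing A] {I : Ideal A} {B : Type u} [CommRing B] [Algebra A B]

theorem exists_down (N : ℕ) {E : Type u} [CommRing E] [Algebra A E] [Algebra (A ⧸ I ^ N) E]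
    [IsScalarTower A (A ⧸ I ^ N) E] (v : B →ₐ[A] E) :
    ∃ v' : (B ⧸ (I ^ N).map (algebraMap A B)) →ₐ[A ⧸ I ^ N] E,
      ∀ b, v' (Ideal.Quotient.mk _ b) = v b := by
  have hker : ∀ b ∈ (I ^ N).map (algebraMap A B), v b = 0 := by
    have hle : (I ^ N).map (algebraMap A B) ≤ RingHom.ker v.toRingHom := by
      rw [Ideal.map_le_iff_le_comap]
      intro a ha
      rw [Ideal.mem_comap, RingHom.mem_ker]
      show v (algebraMap A B a) = 0
      rw [v.commutes, IsScalarTower.algebraMap_apply A (A ⧸ I ^ N) E]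
      have : algebraMap A (A ⧸ I ^ N) a = 0 := Ideal.Quotient.eq_zero_iff_mem.mpr ha
      rw [this, map_zero]
    intro b hb
    exact hle hb
  refine ⟨AlgHom.extendScalarsOfSurjective (Ideal.Quotient.mk_surjective (I := I ^ N))
    (Ideal.Quotient.liftₐ ((I ^ N).map (algebraMap A B)) v hker), fun b => ?_⟩
  rfl

/-- Restrict an `A/I^N`-algebra map out of `B/I^N B` to an `A`-algebra map out of `B`. -/
noncomputable def up (N : ℕ) {E : Type u} [CommRing E] [Algebra A E] [Algebra (A ⧸ I ^ N) E]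
    [IsScalarTower A (A ⧸ I ^ N) E]
    (v' : (B ⧸ (I ^ N).map (algebraMap A B)) →ₐ[A ⧸ I ^ N] E) : B →ₐ[A] E :=
  (v'.restrictScalars A).comp (Ideal.Quotient.mkₐ A _)

theorem up_injective (N : ℕ) {E : Type u} [CommRing E] [Algebra A E] [Algebra (A ⧸ I ^ N) E]
    [IsScalarTower A (A ⧸ I ^ N) E]
    {v₁ v₂ : (B ⧸ (I ^ N).map (algebraMap A B)) →ₐ[A ⧸ I ^ N] E}
    (h : up (I := I) N v₁ = up N v₂) : v₁ = v₂ := by
  apply AlgHom.ext
  intro x
  obtain ⟨b, rfl⟩ := Ideal.Quotient.mk_surjective x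
  exact AlgHom.congr_fun h b

theorem map_pow_eq_bot_of_tower (N : ℕ) (E : Type u) [CommRing E] [Algebra A E]
    [Algebra (A ⧸ I ^ N) E] [IsScalarTower A (A ⧸ I ^ N) E] :
    (I ^ N).map (algebraMap A E) = ⊥ := by
  rw [IsScalarTower.algebraMap_eq A (A ⧸ I ^ N) E, ← Ideal.map_map,
    Ideal.Quotient.algebraMap_eq, Ideal.map_quotient_self, Ideal.map_bot]

theorem ker_mkₐ_pow_two {E : Type u} [CommRing E] [Algebra A E] (J : Ideal E) (hJ : J ^ 2 = ⊥) :
    ∃ M : ℕ, 1 ≤ M ∧ RingHom.ker (Ideal.Quotient.mkₐ A J) ^ M = ⊥ := by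
  refine ⟨2, by norm_num, ?_⟩
  have : RingHom.ker (Ideal.Quotient.mkₐ A J) = J := by
    ext x
    rw [RingHom.mem_ker]
    exact Ideal.Quotient.eq_zero_iff_mem
  rw [this, hJ]

theorem formallySmooth_quotient_of_lifting (r : ℕ)
    (h : ∀ (E C : Type u) [CommRing E] [CommRing C] [Algebra A E] [Algebra A C],
        (I ^ r).map (algebraMap A E) = ⊥ → (I ^ r).map (algebraMap A C) = ⊥ →
        ∀ (p : E →ₐ[A] C), Function.Surjective p → (∃ M : ℕ, 1 ≤ M ∧ RingHom.ker p ^ M = ⊥) →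
        ∀ u : B →ₐ[A] C, ∃ v : B →ₐ[A] E, p.comp v = u) :
    Algebra.FormallySmooth (A ⧸ I ^ r) (B ⧸ (I ^ r).map (algebraMap A B)) := by
  apply Algebra.FormallySmooth.of_comp_surjective
  intro E _ _ J hJ u'
  letI : Algebra A E := Algebra.compHom E (Ideal.Quotient.mk (I ^ r))
  haveI : IsScalarTower A (A ⧸ I ^ r) E := IsScalarTower.of_algebraMap_eq (fun x => rfl)
  have hE : (I ^ r).map (algebraMap A E) = ⊥ := map_pow_eq_bot_of_tower r E
  have hEJ : (I ^ r).map (algebraMap A (E ⧸ J)) = ⊥ := map_pow_eq_bot_of_tower r (E ⧸ J)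
  obtain ⟨v, hv⟩ := h E (E ⧸ J) hE hEJ (Ideal.Quotient.mkₐ A J)
    (Ideal.Quotient.mkₐ_surjective A J) (ker_mkₐ_pow_two J hJ) (up r u')
  obtain ⟨v', hv'⟩ := exists_down (I := I) r v
  refine ⟨v', ?_⟩
  apply AlgHom.ext
  intro x
  obtain ⟨b, rfl⟩ := Ideal.Quotient.mk_surjective x
  show Ideal.Quotient.mk J (v' (Ideal.Quotient.mk _ b)) = u' (Ideal.Quotient.mk _ b)
  rw [hv' b]
  exact AlgHom.congr_fun hv b

theorem formallyUnramified_quotient_of_lifting (r : ℕ)
    (h : ∀ (E C : Type u) [CommRing E] [CommRing C] [Algebra A E] [Algebra A C],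
        (I ^ r).map (algebraMap A E) = ⊥ → (I ^ r).map (algebraMap A C) = ⊥ →
        ∀ (p : E →ₐ[A] C), Function.Surjective p → (∃ M : ℕ, 1 ≤ M ∧ RingHom.ker p ^ M = ⊥) →
        ∀ v₁ v₂ : B →ₐ[A] E, p.comp v₁ = p.comp v₂ → v₁ = v₂) :
    Algebra.FormallyUnramified (A ⧸ I ^ r) (B ⧸ (I ^ r).map (algebraMap A B)) := by
  rw [Algebra.FormallyUnramified.iff_comp_injective]
  intro E _ _ J hJ v₁ v₂ hv
  letI : Algebra A E := Algebra.compHom E (Ideal.Quotient.mk (I ^ r))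
  haveI : IsScalarTower A (A ⧸ I ^ r) E := IsScalarTower.of_algebraMap_eq (fun x => rfl)
  have hE : (I ^ r).map (algebraMap A E) = ⊥ := map_pow_eq_bot_of_tower r E
  have hEJ : (I ^ r).map (algebraMap A (E ⧸ J)) = ⊥ := map_pow_eq_bot_of_tower r (E ⧸ J)
  apply up_injective (I := I) r
  apply h E (E ⧸ J) hE hEJ (Ideal.Quotient.mkₐ A J)
    (Ideal.Quotient.mkₐ_surjective A J) (ker_mkₐ_pow_two J hJ)
  apply AlgHom.ext
  intro b
  exact AlgHom.congr_fun hv (Ideal.Quotient.mk _ b)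

theorem exists_lift_of_formallySmooth_quotient (N : ℕ)
    [Algebra.FormallySmooth (A ⧸ I ^ N) (B ⧸ (I ^ N).map (algebraMap A B))]
    (E C : Type u) [CommRing E] [CommRing C] [Algebra A E] [Algebra A C]
    (hE : (I ^ N).map (algebraMap A E) = ⊥) (hC : (I ^ N).map (algebraMap A C) = ⊥)
    (p : E →ₐ[A] C) (hp : Function.Surjective p)
    (hnil : ∃ M : ℕ, 1 ≤ M ∧ RingHom.ker p ^ M = ⊥)
    (u : B →ₐ[A] C) : ∃ v : B →ₐ[A] E, p.comp v = u := by
  have hE' : ∀ a ∈ I ^ N, algebraMap A E a = 0 := fun a ha => by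
    have := Ideal.mem_map_of_mem (algebraMap A E) ha
    rw [hE] at this
    exact (Ideal.mem_bot).mp this
  have hC' : ∀ a ∈ I ^ N, algebraMap A C a = 0 := fun a ha => by
    have := Ideal.mem_map_of_mem (algebraMap A C) ha
    rw [hC] at this
    exact (Ideal.mem_bot).mp this
  letI : Algebra (A ⧸ I ^ N) E := (Ideal.Quotient.lift (I ^ N) (algebraMap A E) hE').toAlgebra
  letI : Algebra (A ⧸ I ^ N) C := (Ideal.Quotient.lift (I ^ N) (algebraMap A C) hC').toAlgebra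
  haveI : IsScalarTower A (A ⧸ I ^ N) E := IsScalarTower.of_algebraMap_eq (fun x => rfl)
  haveI : IsScalarTower A (A ⧸ I ^ N) C := IsScalarTower.of_algebraMap_eq (fun x => rfl)
  let pN : E →ₐ[A ⧸ I ^ N] C :=
    AlgHom.extendScalarsOfSurjective (Ideal.Quotient.mk_surjective (I := I ^ N)) p
  obtain ⟨uN, huN⟩ := exists_down (I := I) N u
  obtain ⟨M, -, hM⟩ := hnil
  have hnil' : IsNilpotent (RingHom.ker (pN : E →+* C)) := ⟨M, by
    have : RingHom.ker (pN : E →+* C) = RingHom.ker p := Ideal.ext fun x => Iff.rfl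
    rw [this, hM]
    rfl⟩
  have hpN : Function.Surjective pN := hp
  refine ⟨up N (Algebra.FormallySmooth.liftOfSurjective uN pN hpN hnil'), ?_⟩
  apply AlgHom.ext
  intro b
  show pN (Algebra.FormallySmooth.liftOfSurjective uN pN hpN hnil' (Ideal.Quotient.mk _ b)) = u b
  rw [← huN b]
  exact Algebra.FormallySmooth.liftOfSurjective_apply uN pN hpN hnil' _

theorem eq_of_formallyUnramified_quotient (N : ℕ)
    [Algebra.FormallyUnramified (A ⧸ I ^ N) (B ⧸ (I ^ N).map (algebraMap A B))]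
    (E C : Type u) [CommRing E] [CommRing C] [Algebra A E] [Algebra A C]
    (hE : (I ^ N).map (algebraMap A E) = ⊥) (hC : (I ^ N).map (algebraMap A C) = ⊥)
    (p : E →ₐ[A] C)
    (hnil : ∃ M : ℕ, 1 ≤ M ∧ RingHom.ker p ^ M = ⊥)
    (v₁ v₂ : B →ₐ[A] E) (h : p.comp v₁ = p.comp v₂) : v₁ = v₂ := by
  have hE' : ∀ a ∈ I ^ N, algebraMap A E a = 0 := fun a ha => by
    have := Ideal.mem_map_of_mem (algebraMap A E) ha
    rw [hE] at this
    exact (Ideal.mem_bot).mp this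
  have hC' : ∀ a ∈ I ^ N, algebraMap A C a = 0 := fun a ha => by
    have := Ideal.mem_map_of_mem (algebraMap A C) ha
    rw [hC] at this
    exact (Ideal.mem_bot).mp this
  letI : Algebra (A ⧸ I ^ N) E := (Ideal.Quotient.lift (I ^ N) (algebraMap A E) hE').toAlgebra
  letI : Algebra (A ⧸ I ^ N) C := (Ideal.Quotient.lift (I ^ N) (algebraMap A C) hC').toAlgebra
  haveI : IsScalarTower A (A ⧸ I ^ N) E := IsScalarTower.of_algebraMap_eq (fun x => rfl)
  haveI : IsScalarTower A (A ⧸ I ^ N) C := IsScalarTower.of_algebraMap_eq (fun x => rfl)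
  let pN : E →ₐ[A ⧸ I ^ N] C :=
    AlgHom.extendScalarsOfSurjective (Ideal.Quotient.mk_surjective (I := I ^ N)) p
  obtain ⟨w₁, hw₁⟩ := exists_down (I := I) N v₁
  obtain ⟨w₂, hw₂⟩ := exists_down (I := I) N v₂
  obtain ⟨M, -, hM⟩ := hnil
  have hnil' : IsNilpotent (RingHom.ker (pN : E →+* C)) := ⟨M, by
    have : RingHom.ker (pN : E →+* C) = RingHom.ker p := Ideal.ext fun x => Iff.rfl
    rw [this, hM]
    rfl⟩
  have hw : w₁ = w₂ := Algebra.FormallyUnramified.lift_unique' pN hnil' w₁ w₂ (by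
    apply AlgHom.ext
    intro x
    obtain ⟨b, rfl⟩ := Ideal.Quotient.mk_surjective x
    show p (w₁ (Ideal.Quotient.mk _ b)) = p (w₂ (Ideal.Quotient.mk _ b))
    rw [hw₁, hw₂]
    exact AlgHom.congr_fun h b)
  apply AlgHom.ext
  intro b
  rw [← hw₁ b, ← hw₂ b, hw]

end HFormal

end Groth.Agent.H3.PH
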