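import Groth.Agent.H3.PH18
import Groth.Agent.H3.PH5
import Groth.Agent.S9436
import Groth.Agent.S17609
import Groth.Agent.S17597
import Groth.Agent.S17596

/-!
# h-formally étale Henselian finitely presented maps are quotients of h-étale ones
-/

set_option autoImplicit false
set_option linter.unusedSimpArgs false
set_option linter.unusedVariables false
set_option linter.style.haveILetI false
set_option maxHeartbeats 1000000
universe u

open TensorProduct

namespace Groth.Agent.H3.PH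

theorem exists_one_tmul_eq {A : Type*} [CommRing A] (I : Ideal A) {R : Type*} [CommRing R]
    [Algebra A R] (t : (A ⧸ I) ⊗[A] R) : ∃ r : R, t = 1 ⊗ₜ[A] r := by
  induction t using TensorProduct.induction_on with
  | zero => exact ⟨0, (TensorProduct.tmul_zero _ _).symm⟩
  | tmul a r =>
    obtain ⟨a, rfl⟩ := Ideal.Quotient.mk_surjective a
    refine ⟨a • r, ?_⟩
    rw [← TensorProduct.smul_tmul]
    congr 1
    rw [Algebra.smul_def, mul_one]
    rfl
  | add x y hx hy =>
    obtain ⟨r₁, rfl⟩ := hx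
    obtain ⟨r₂, rfl⟩ := hy
    exact ⟨r₁ + r₂, (TensorProduct.tmul_add _ _ _).symm⟩

theorem mem_map_of_one_tmul_eq_zero {A : Type*} [CommRing A] (I : Ideal A) {R : Type*}
    [CommRing R] [Algebra A R] (r : R) (h : (1 : A ⧸ I) ⊗ₜ[A] r = 0) :
    r ∈ I.map (algebraMap A R) := by
  have h1 : Algebra.TensorProduct.quotIdealMapEquivQuotTensor R I
      (Ideal.Quotient.mk (I.map (algebraMap A R)) r) = 0 := by
    rw [Algebra.TensorProduct.quotIdealMapEquivQuotTensor_mk]; exact h
  have h2 := (Algebra.TensorProduct.quotIdealMapEquivQuotTensor R I).injective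
    (h1.trans (map_zero _).symm)
  exact Ideal.Quotient.eq_zero_iff_mem.mp h2


/-- Main construction for `S17598`. -/
theorem exists_etale_hens_surjection (A : Type u) [CommRing A] (I : Ideal A)
    [HenselianRing A I] (R₀ : Type u) [CommRing R₀] [Algebra A R₀] [Algebra.FinitePresentation A R₀]
    (B : Type u) [CommRing B] [Algebra R₀ B] [Algebra A B] [IsScalarTower A R₀ B]
    (hB : Hens2.IsPairHenselization R₀ (I.map (algebraMap A R₀)) B)
    [het1 : Algebra.Etale (A ⧸ I) (B ⧸ I.map (algebraMap A B))]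
    (hsm : ∀ n : ℕ, 1 ≤ n →
      Algebra.FormallySmooth (A ⧸ I ^ n) (B ⧸ (I ^ n).map (algebraMap A B))) :
    ∃ (R : Type u) (_ : CommRing R) (_ : Algebra A R) (H : Type u) (_ : CommRing H) (_ : Algebra R H)
      (_ : Algebra A H) (_ : IsScalarTower A R H),
      Algebra.Etale A R ∧ Hens2.IsPairHenselization R (I.map (algebraMap A R)) H ∧
      ∃ φ : H →ₐ[A] B, Function.Surjective φ ∧ (RingHom.ker φ).FG ∧
        ∀ n : ℕ, RingHom.ker φ ≤ (I ^ n).map (algebraMap A H) := by
  classical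
  obtain ⟨R, _, _, hRet, ⟨e₀⟩⟩ := Groth.Agent.S9436.result A I (B ⧸ I.map (algebraMap A B))
  haveI := hRet
  -- the reduction map `R → B/IB`
  let σ : R →ₐ[A] B ⧸ I.map (algebraMap A B) :=
    (e₀.toAlgHom.restrictScalars A).comp
      (Algebra.TensorProduct.includeRight : R →ₐ[A] (A ⧸ I) ⊗[A] R)
  have hσ : ∀ r : R, σ r = e₀ ((1 : A ⧸ I) ⊗ₜ[A] r) := fun r => rfl
  haveI hBI : HenselianRing B (I.map (algebraMap A B)) := by
    have := hB.1
    rwa [Ideal.map_map, ← IsScalarTower.algebraMap_eq] at this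
  obtain ⟨τ, hτ⟩ := exists_algHom_lift_of_etale B (I.map (algebraMap A B)) R σ
  -- the henselization `H` of `(R, IR)`
  obtain ⟨K, hK⟩ : ∃ K : Ideal R, K = I.map (algebraMap A R) := ⟨_, rfl⟩
  have hH : Hens2.IsPairHenselization R K (H R (R ⧸ K)) := isPairHenselization_H R K
  letI : Algebra A (H R (R ⧸ K)) :=
    ((algebraMap R (H R (R ⧸ K))).comp (algebraMap A R)).toAlgebra
  haveI : IsScalarTower A R (H R (R ⧸ K)) := IsScalarTower.of_algebraMap_eq (fun _ => rfl)
  have hle : K.map τ.toRingHom ≤ I.map (algebraMap A B) := by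
    rw [hK, Ideal.map_map]
    have : (τ.toRingHom).comp (algebraMap A R) = algebraMap A B := τ.comp_algebraMap
    rw [this]
  obtain ⟨g, hg, -⟩ := hH.2 B (I.map (algebraMap A B)) τ.toRingHom hBI hle
  have hgι : ∀ r : R, g (algebraMap R (H R (R ⧸ K)) r) = τ r := fun r => RingHom.congr_fun hg r
  let φ : H R (R ⧸ K) →ₐ[A] B :=
    { toRingHom := g
      commutes' := fun a => by
        show g (algebraMap R (H R (R ⧸ K)) (algebraMap A R a)) = algebraMap A B a
        rw [hgι]; exact τ.commutes a }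
  have hφι : ∀ r : R, φ (algebraMap R (H R (R ⧸ K)) r) = τ r := hgι
  refine ⟨R, inferInstance, inferInstance, H R (R ⧸ K), inferInstance, inferInstance,
    inferInstance, inferInstance, hRet, hK ▸ hH, φ, ?_⟩
  subst hK
  obtain ⟨Hh, hHh⟩ : ∃ Hh : Type u, Hh = H R (R ⧸ I.map (algebraMap A R)) := ⟨_, rfl⟩
  letI : Algebra (H R (R ⧸ I.map (algebraMap A R))) B := φ.toRingHom.toAlgebra
  haveI : IsScalarTower A (H R (R ⧸ I.map (algebraMap A R))) B :=
    IsScalarTower.of_algebraMap_eq (fun a => (φ.commutes a).symm)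
  have halg : ∀ h, algebraMap (H R (R ⧸ I.map (algebraMap A R))) B h = φ h := fun _ => rfl
  obtain ⟨T, _, _, _, _, hfpT, hT⟩ := Groth.Agent.S17609.result A I R
    (H R (R ⧸ I.map (algebraMap A R))) hH R₀ B hB
  haveI := hfpT
  haveI hHI : HenselianRing (H R (R ⧸ I.map (algebraMap A R)))
      (I.map (algebraMap A (H R (R ⧸ I.map (algebraMap A R))))) := by
    have := hH.1
    rwa [Ideal.map_map, ← IsScalarTower.algebraMap_eq] at this
  have hideal : (I.map (algebraMap A (H R (R ⧸ I.map (algebraMap A R))))).map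
      (algebraMap (H R (R ⧸ I.map (algebraMap A R))) B) = I.map (algebraMap A B) := by
    rw [Ideal.map_map, ← IsScalarTower.algebraMap_eq]
  -- surjectivity modulo `I`
  have hmod : ∀ b : B, ∃ r : R, τ r - b ∈ I.map (algebraMap A B) := by
    intro b
    obtain ⟨t, ht⟩ := e₀.surjective (Ideal.Quotient.mk _ b)
    obtain ⟨r, rfl⟩ := exists_one_tmul_eq I t
    refine ⟨r, ?_⟩
    rw [← Ideal.Quotient.eq, hτ, hσ, ht]
  have hsurj : Function.Surjective
      (Ideal.quotientMap ((I.map (algebraMap A (H R (R ⧸ I.map (algebraMap A R))))).map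
        (algebraMap (H R (R ⧸ I.map (algebraMap A R))) B))
        (algebraMap (H R (R ⧸ I.map (algebraMap A R))) B) Ideal.le_comap_map) := by
    intro z
    obtain ⟨b, rfl⟩ := Ideal.Quotient.mk_surjective z
    obtain ⟨r, hr⟩ := hmod b
    refine ⟨Ideal.Quotient.mk _ (algebraMap R _ r), ?_⟩
    rw [Ideal.quotientMap_mk, Ideal.Quotient.eq, hideal, halg, hφι]
    exact hr
  have hφsurj : Function.Surjective (algebraMap (H R (R ⧸ I.map (algebraMap A R))) B) :=
    Groth.Agent.S17597.result (H R (R ⧸ I.map (algebraMap A R)))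
      (I.map (algebraMap A (H R (R ⧸ I.map (algebraMap A R))))) T B hT hsurj
  obtain ⟨hfin, hfp⟩ := Groth.Agent.S17596.result (H R (R ⧸ I.map (algebraMap A R)))
      (I.map (algebraMap A (H R (R ⧸ I.map (algebraMap A R))))) T B hT
      (RingHom.Finite.of_surjective _ hsurj)
  haveI := hfp
  have hkerfg : (RingHom.ker φ).FG := by
    have := Algebra.FinitePresentation.ker_fG_of_surjective
      (Algebra.ofId (H R (R ⧸ I.map (algebraMap A R))) B) hφsurj
    have hk : RingHom.ker φ =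
        RingHom.ker (Algebra.ofId (H R (R ⧸ I.map (algebraMap A R))) B).toRingHom :=
      Ideal.ext fun x => Iff.rfl
    rw [hk]; exact this
  refine ⟨hφsurj, hkerfg, ?_⟩
  -- the kernel lies in every `I^n H`
  intro n
  rcases Nat.eq_zero_or_pos n with rfl | hn
  · rw [pow_zero, Ideal.one_eq_top, Ideal.map_top]; exact le_top
  obtain ⟨Hh, _, _, _, φ', hφ'surj, hφ'ι, hHhens, hker⟩ : ∃ (Hh : Type u) (_ : CommRing Hh)
      (_ : Algebra R Hh) (_ : Algebra A Hh) (φ' : Hh →ₐ[A] B), Function.Surjective φ' ∧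
      (∀ r : R, φ' (algebraMap R Hh r) = τ r) ∧
      (IsScalarTower A R Hh ∧ Hens2.IsPairHenselization R (I.map (algebraMap A R)) Hh) ∧
      (RingHom.ker φ' ≤ (I ^ n).map (algebraMap A Hh) →
        RingHom.ker φ ≤ (I ^ n).map (algebraMap A (H R (R ⧸ I.map (algebraMap A R))))) :=
    ⟨H R (R ⧸ I.map (algebraMap A R)), inferInstance, inferInstance, inferInstance, φ, hφsurj,
      hφι, ⟨inferInstance, hH⟩, id⟩
  apply hker
  obtain ⟨hHtower, hHh⟩ := hHhens
  clear hker hkerfg hfp hfin hφsurj hsurj hideal hHI hT hfpT halg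
  -- now `Hh` is an opaque henselization of `(R, IR)` with a surjection `φ'` onto `B`
  have hφ1inj : ∀ h : Hh, φ' h ∈ I.map (algebraMap A B) → h ∈ I.map (algebraMap A Hh) := by
    intro h hh
    obtain ⟨r, hr⟩ := exists_sub_mem_map_of_isPairHenselization (I.map (algebraMap A R)) Hh hHh h
    rw [Ideal.map_map, ← IsScalarTower.algebraMap_eq] at hr
    have h1 : τ r ∈ I.map (algebraMap A B) := by
      have h2 : φ' (h - algebraMap R Hh r) ∈ I.map (algebraMap A B) := by
        have := Ideal.mem_map_of_mem φ'.toRingHom hr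
        rw [Ideal.map_map] at this
        have hc : (φ'.toRingHom).comp (algebraMap A Hh) = algebraMap A B := φ'.comp_algebraMap
        rw [hc] at this
        exact this
      rw [map_sub, hφ'ι] at h2
      have := Ideal.sub_mem _ hh h2
      rwa [sub_sub_cancel] at this
    have h3 : σ r = 0 := by
      rw [← hτ]; exact Ideal.Quotient.eq_zero_iff_mem.mpr h1
    rw [hσ] at h3
    have h4 : (1 : A ⧸ I) ⊗ₜ[A] r = 0 := e₀.injective (h3.trans (map_zero _).symm)
    have h5 := mem_map_of_one_tmul_eq_zero I r h4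
    have h6 : algebraMap R Hh r ∈ I.map (algebraMap A Hh) := by
      have := Ideal.mem_map_of_mem (algebraMap R Hh) h5
      rwa [Ideal.map_map, ← IsScalarTower.algebraMap_eq] at this
    have := Ideal.add_mem _ hr h6
    rwa [sub_add_cancel] at this
  have h𝔫𝔪 : (I ^ n).map (algebraMap A Hh) ≤ I.map (algebraMap A Hh) :=
    Ideal.map_mono (Ideal.pow_le_self hn.ne')
  have hE : (I ^ n).map (algebraMap A (Hh ⧸ (I ^ n).map (algebraMap A Hh))) = ⊥ := by
    rw [IsScalarTower.algebraMap_eq A Hh (Hh ⧸ (I ^ n).map (algebraMap A Hh)), ← Ideal.map_map,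
      Ideal.Quotient.algebraMap_eq, Ideal.map_quotient_self]
  have hC : (I ^ n).map (algebraMap A (Hh ⧸ I.map (algebraMap A Hh))) = ⊥ := by
    rw [eq_bot_iff]
    calc (I ^ n).map (algebraMap A (Hh ⧸ I.map (algebraMap A Hh)))
        ≤ I.map (algebraMap A (Hh ⧸ I.map (algebraMap A Hh))) :=
          Ideal.map_mono (Ideal.pow_le_self hn.ne')
      _ = ⊥ := by
        rw [IsScalarTower.algebraMap_eq A Hh (Hh ⧸ I.map (algebraMap A Hh)), ← Ideal.map_map,
          Ideal.Quotient.algebraMap_eq, Ideal.map_quotient_self]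
  let p : (Hh ⧸ (I ^ n).map (algebraMap A Hh)) →ₐ[A] (Hh ⧸ I.map (algebraMap A Hh)) :=
    Ideal.Quotient.factorₐ A h𝔫𝔪
  have hp : Function.Surjective p := Ideal.Quotient.factor_surjective h𝔫𝔪
  have hnil : ∃ M : ℕ, 1 ≤ M ∧ RingHom.ker p ^ M = ⊥ := by
    refine ⟨n, hn, ?_⟩
    have hk : RingHom.ker p = (I.map (algebraMap A Hh)).map
        (Ideal.Quotient.mk ((I ^ n).map (algebraMap A Hh))) := by
      rw [← Ideal.Quotient.factor_ker h𝔫𝔪]
      exact Ideal.ext fun x => Iff.rfl
    rw [hk, ← Ideal.map_pow, ← Ideal.map_pow, Ideal.map_quotient_self]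
  have hle' : I.map (algebraMap A Hh) ≤ (I.map (algebraMap A B)).comap φ' := by
    rw [← Ideal.map_le_iff_le_comap]
    have hc : (φ'.toRingHom).comp (algebraMap A Hh) = algebraMap A B := φ'.comp_algebraMap
    have : (I.map (algebraMap A Hh)).map φ'.toRingHom = I.map (algebraMap A B) := by
      rw [Ideal.map_map, hc]
    exact le_of_eq this
  let φ₁ : (Hh ⧸ I.map (algebraMap A Hh)) →ₐ[A] (B ⧸ I.map (algebraMap A B)) :=
    Ideal.quotientMapₐ (I.map (algebraMap A B)) φ' hle'
  have hφ₁mk : ∀ h : Hh, φ₁ (Ideal.Quotient.mk _ h) = Ideal.Quotient.mk _ (φ' h) := fun _ => rfl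
  have hφ₁bij : Function.Bijective φ₁ := by
    constructor
    · rw [injective_iff_map_eq_zero]
      intro z hz
      obtain ⟨h, rfl⟩ := Ideal.Quotient.mk_surjective z
      rw [hφ₁mk, Ideal.Quotient.eq_zero_iff_mem] at hz
      exact Ideal.Quotient.eq_zero_iff_mem.mpr (hφ1inj h hz)
    · intro z
      obtain ⟨b, rfl⟩ := Ideal.Quotient.mk_surjective z
      obtain ⟨h, rfl⟩ := hφ'surj b
      exact ⟨Ideal.Quotient.mk _ h, hφ₁mk h⟩
  let ε₁ : (Hh ⧸ I.map (algebraMap A Hh)) ≃ₐ[A] (B ⧸ I.map (algebraMap A B)) :=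
    AlgEquiv.ofBijective φ₁ hφ₁bij
  let u : B →ₐ[A] (Hh ⧸ I.map (algebraMap A Hh)) :=
    (ε₁.symm : (B ⧸ I.map (algebraMap A B)) →ₐ[A] (Hh ⧸ I.map (algebraMap A Hh))).comp
      (Ideal.Quotient.mkₐ A (I.map (algebraMap A B)))
  have hu : ∀ h : Hh, u (φ' h) = Ideal.Quotient.mk _ h := by
    intro h
    show ε₁.symm (Ideal.Quotient.mk _ (φ' h)) = _
    rw [← hφ₁mk]
    exact ε₁.symm_apply_apply (Ideal.Quotient.mk _ h)
  haveI := hsm n hn
  obtain ⟨v, hv⟩ := exists_lift_of_formallySmooth_quotient (I := I) (B := B) n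
    (Hh ⧸ (I ^ n).map (algebraMap A Hh)) (Hh ⧸ I.map (algebraMap A Hh)) hE hC p hp hnil u
  obtain ⟨e⟩ := exists_algEquiv_quotient_pow I R Hh hHh n
  haveI : Algebra.FormallyUnramified (A ⧸ I ^ n) (Hh ⧸ (I ^ n).map (algebraMap A Hh)) :=
    Algebra.FormallyUnramified.of_equiv e
  have huniq := eq_of_formallyUnramified_quotient (I := I) (B := Hh) n
    (Hh ⧸ (I ^ n).map (algebraMap A Hh)) (Hh ⧸ I.map (algebraMap A Hh)) hE hC p hnil
    (v.comp φ') (Ideal.Quotient.mkₐ A ((I ^ n).map (algebraMap A Hh))) (by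
      apply AlgHom.ext
      intro h
      show p (v (φ' h)) = p (Ideal.Quotient.mk _ h)
      have h1 : p (v (φ' h)) = u (φ' h) := AlgHom.congr_fun hv (φ' h)
      rw [h1, hu]
      rfl)
  intro x hx
  have h1 := AlgHom.congr_fun huniq x
  have h2 : (v.comp φ') x = 0 := by
    show v (φ' x) = 0
    rw [RingHom.mem_ker.mp hx, map_zero]
  rw [h2] at h1
  exact Ideal.Quotient.eq_zero_iff_mem.mp h1.symm

end Groth.Agent.H3.PH
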