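import Groth.Agent.H3.PH19
import Groth.Agent.H3.SL6
import Groth.Agent.S0536

/-!
# h-formally smooth Henselian finitely presented maps are quotients of h-smooth ones
-/

set_option autoImplicit false
set_option linter.unusedSimpArgs false
set_option linter.unusedVariables false
set_option linter.style.haveILetI false
set_option maxHeartbeats 1000000
universe u

open TensorProduct

namespace Groth.Agent.H3.PH

/-- A surjection onto a flat module which is injective modulo a nilpotent ideal is injective. -/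
theorem injective_of_flat_of_ker_le_smul {R₁ M N : Type*} [CommRing R₁] [AddCommGroup M]
    [AddCommGroup N] [Module R₁ M] [Module R₁ N] [Module.Flat R₁ N] (J : Ideal R₁) (n : ℕ)
    (hJ : J ^ n = ⊥) (f : M →ₗ[R₁] N) (hf : Function.Surjective f)
    (hker : LinearMap.ker f ≤ J • (⊤ : Submodule R₁ M)) : Function.Injective f := by
  have h1 : LinearMap.ker f = J • LinearMap.ker f := by
    rw [← LinearMap.ker_inf_smul_top_eq_smul_of_flat J f hf]
    exact (inf_eq_left.mpr hker).symm
  have h2 : ∀ k : ℕ, LinearMap.ker f = J ^ k • LinearMap.ker f := by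
    intro k
    induction k with
    | zero => rw [pow_zero, Ideal.one_eq_top, Submodule.top_smul]
    | succ k ih => rw [pow_succ, mul_smul, ← h1]; exact ih
  rw [← LinearMap.ker_eq_bot, h2 n, hJ, Submodule.bot_smul]

/-- Main construction for `S17599`. -/
theorem exists_smooth_hens_surjection (A : Type u) [CommRing A] (I : Ideal A)
    [HenselianRing A I] (R₀ : Type u) [CommRing R₀] [Algebra A R₀] [Algebra.FinitePresentation A R₀]
    (B : Type u) [CommRing B] [Algebra R₀ B] [Algebra A B] [IsScalarTower A R₀ B]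
    (hB : Hens2.IsPairHenselization R₀ (I.map (algebraMap A R₀)) B)
    [hsm1 : Algebra.Smooth (A ⧸ I) (B ⧸ I.map (algebraMap A B))]
    (hsm : ∀ n : ℕ, 1 ≤ n →
      Algebra.Smooth (A ⧸ I ^ n) (B ⧸ (I ^ n).map (algebraMap A B))) :
    ∃ (R : Type u) (_ : CommRing R) (_ : Algebra A R) (H : Type u) (_ : CommRing H) (_ : Algebra R H)
      (_ : Algebra A H) (_ : IsScalarTower A R H),
      Algebra.Smooth A R ∧ Hens2.IsPairHenselization R (I.map (algebraMap A R)) H ∧
      ∃ φ : H →ₐ[A] B, Function.Surjective φ ∧ (RingHom.ker φ).FG ∧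
        ∀ n : ℕ, RingHom.ker φ ≤ (I ^ n).map (algebraMap A H) := by
  classical
  obtain ⟨R, _, _, hRsm, σ, hσsurj, hσker⟩ :=
    Groth.Agent.H3.SL.exists_smooth_lift (R := A) (A₀ := B ⧸ I.map (algebraMap A B)) I
  haveI := hRsm
  haveI hBI : HenselianRing B (I.map (algebraMap A B)) := by
    have := hB.1
    rwa [Ideal.map_map, ← IsScalarTower.algebraMap_eq] at this
  obtain ⟨τ, hτ'⟩ := Groth.Agent.S0536.result A R B (I.map (algebraMap A B)) σ
  have hτ : ∀ r : R, Ideal.Quotient.mk (I.map (algebraMap A B)) (τ r) = σ r :=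
    fun r => AlgHom.congr_fun hτ' r
  -- the henselization `H` of `(R, IR)`
  obtain ⟨K, hK⟩ : ∃ K : Ideal R, K = I.map (algebraMap A R) := ⟨_, rfl⟩
  have hH : Hens2.IsPairHenselization R K (H R (R ⧸ K)) := isPairHenselization_H R K
  letI : Algebra A (H R (R ⧸ K)) :=
    ((algebraMap R (H R (R ⧸ K))).comp (algebraMap A R)).toAlgebra
  haveI : IsScalarTower A R (H R (R ⧸ K)) := IsScalarTower.of_algebraMap_eq (fun _ => rfl)
  have hle : K.map τ.toRingHom ≤ I.map (algebraMap A B) := by
    rw [hK, Ideal.map_map]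
    have : (τ.toRingHom).comp (algebraMap A R) = algebraMap A B := τ.comp_algebraMap
    rw [this]
  obtain ⟨g, hg, -⟩ := hH.2 B (I.map (algebraMap A B)) τ.toRingHom hBI hle
  have hgι : ∀ r : R, g (algebraMap R (H R (R ⧸ K)) r) = τ r := fun r => RingHom.congr_fun hg r
  let φ : H R (R ⧸ K) →ₐ[A] B :=
    { toRingHom := g
      commutes' := fun a => by
        show g (algebraMap R (H R (R ⧸ K)) (algebraMap A R a)) = algebraMap A B a
        rw [hgι]; exact τ.commutes a }
  have hφι : ∀ r : R, φ (algebraMap R (H R (R ⧸ K)) r) = τ r := hgι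
  refine ⟨R, inferInstance, inferInstance, H R (R ⧸ K), inferInstance, inferInstance,
    inferInstance, inferInstance, hRsm, hK ▸ hH, φ, ?_⟩
  subst hK
  letI : Algebra (H R (R ⧸ I.map (algebraMap A R))) B := φ.toRingHom.toAlgebra
  haveI : IsScalarTower A (H R (R ⧸ I.map (algebraMap A R))) B :=
    IsScalarTower.of_algebraMap_eq (fun a => (φ.commutes a).symm)
  have halg : ∀ h, algebraMap (H R (R ⧸ I.map (algebraMap A R))) B h = φ h := fun _ => rfl
  obtain ⟨T, _, _, _, _, hfpT, hT⟩ := Groth.Agent.S17609.result A I R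
    (H R (R ⧸ I.map (algebraMap A R))) hH R₀ B hB
  haveI := hfpT
  haveI hHI : HenselianRing (H R (R ⧸ I.map (algebraMap A R)))
      (I.map (algebraMap A (H R (R ⧸ I.map (algebraMap A R))))) := by
    have := hH.1
    rwa [Ideal.map_map, ← IsScalarTower.algebraMap_eq] at this
  have hideal : (I.map (algebraMap A (H R (R ⧸ I.map (algebraMap A R))))).map
      (algebraMap (H R (R ⧸ I.map (algebraMap A R))) B) = I.map (algebraMap A B) := by
    rw [Ideal.map_map, ← IsScalarTower.algebraMap_eq]
  -- surjectivity modulo `I`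
  have hmod : ∀ b : B, ∃ r : R, τ r - b ∈ I.map (algebraMap A B) := by
    intro b
    obtain ⟨r, hr⟩ := hσsurj (Ideal.Quotient.mk _ b)
    refine ⟨r, ?_⟩
    rw [← Ideal.Quotient.eq, hτ, hr]
  have hsurj : Function.Surjective
      (Ideal.quotientMap ((I.map (algebraMap A (H R (R ⧸ I.map (algebraMap A R))))).map
        (algebraMap (H R (R ⧸ I.map (algebraMap A R))) B))
        (algebraMap (H R (R ⧸ I.map (algebraMap A R))) B) Ideal.le_comap_map) := by
    intro z
    obtain ⟨b, rfl⟩ := Ideal.Quotient.mk_surjective z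
    obtain ⟨r, hr⟩ := hmod b
    refine ⟨Ideal.Quotient.mk _ (algebraMap R _ r), ?_⟩
    rw [Ideal.quotientMap_mk, Ideal.Quotient.eq, hideal, halg, hφι]
    exact hr
  have hφsurj : Function.Surjective (algebraMap (H R (R ⧸ I.map (algebraMap A R))) B) :=
    Groth.Agent.S17597.result (H R (R ⧸ I.map (algebraMap A R)))
      (I.map (algebraMap A (H R (R ⧸ I.map (algebraMap A R))))) T B hT hsurj
  obtain ⟨hfin, hfp⟩ := Groth.Agent.S17596.result (H R (R ⧸ I.map (algebraMap A R)))
      (I.map (algebraMap A (H R (R ⧸ I.map (algebraMap A R))))) T B hT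
      (RingHom.Finite.of_surjective _ hsurj)
  haveI := hfp
  have hkerfg : (RingHom.ker φ).FG := by
    have := Algebra.FinitePresentation.ker_fG_of_surjective
      (Algebra.ofId (H R (R ⧸ I.map (algebraMap A R))) B) hφsurj
    have hk : RingHom.ker φ =
        RingHom.ker (Algebra.ofId (H R (R ⧸ I.map (algebraMap A R))) B).toRingHom :=
      Ideal.ext fun x => Iff.rfl
    rw [hk]; exact this
  refine ⟨hφsurj, hkerfg, ?_⟩
  -- the kernel lies in every `I^n H`
  intro n
  rcases Nat.eq_zero_or_pos n with rfl | hn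
  · rw [pow_zero, Ideal.one_eq_top, Ideal.map_top]; exact le_top
  have hφ1inj : ∀ h : H R (R ⧸ I.map (algebraMap A R)), φ h ∈ I.map (algebraMap A B) →
      h ∈ I.map (algebraMap A (H R (R ⧸ I.map (algebraMap A R)))) := by
    intro h hh
    obtain ⟨r, hr⟩ := exists_sub_mem_map_of_isPairHenselization (I.map (algebraMap A R)) _ hH h
    rw [Ideal.map_map, ← IsScalarTower.algebraMap_eq] at hr
    have h1 : τ r ∈ I.map (algebraMap A B) := by
      have h2 : φ (h - algebraMap R _ r) ∈ I.map (algebraMap A B) := by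
        have := Ideal.mem_map_of_mem φ.toRingHom hr
        rw [Ideal.map_map] at this
        have hc : (φ.toRingHom).comp (algebraMap A _) = algebraMap A B := φ.comp_algebraMap
        rw [hc] at this
        exact this
      rw [map_sub, hφι] at h2
      have := Ideal.sub_mem _ hh h2
      rwa [sub_sub_cancel] at this
    have h3 : σ r = 0 := by
      rw [← hτ]; exact Ideal.Quotient.eq_zero_iff_mem.mpr h1
    have h5 : r ∈ I.map (algebraMap A R) := by
      rw [← hσker]; exact h3
    have h6 : algebraMap R (H R (R ⧸ I.map (algebraMap A R))) r ∈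
        I.map (algebraMap A (H R (R ⧸ I.map (algebraMap A R)))) := by
      have := Ideal.mem_map_of_mem (algebraMap R (H R (R ⧸ I.map (algebraMap A R)))) h5
      rwa [Ideal.map_map, ← IsScalarTower.algebraMap_eq] at this
    have := Ideal.add_mem _ hr h6
    rwa [sub_add_cancel] at this
  haveI := hsm n hn
  haveI : Module.Flat (A ⧸ I ^ n) (B ⧸ (I ^ n).map (algebraMap A B)) := Algebra.Smooth.flat _ _
  obtain ⟨f, hf⟩ : ∃ f : (H R (R ⧸ I.map (algebraMap A R)) ⧸
      (I ^ n).map (algebraMap A (H R (R ⧸ I.map (algebraMap A R))))) →ₐ[A ⧸ I ^ n]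
      (B ⧸ (I ^ n).map (algebraMap A B)),
      f = quotientPowAlgHom I (H R (R ⧸ I.map (algebraMap A R))) B n := ⟨_, rfl⟩
  have hfmk : ∀ h, f (Ideal.Quotient.mk _ h) = Ideal.Quotient.mk _ (φ h) := fun h => by
    rw [hf]; rfl
  have hfsurj : Function.Surjective f.toLinearMap := by
    intro z
    obtain ⟨b, rfl⟩ := Ideal.Quotient.mk_surjective z
    obtain ⟨h, rfl⟩ := hφsurj b
    exact ⟨Ideal.Quotient.mk _ h, hfmk h⟩
  have hJn : (I.map (Ideal.Quotient.mk (I ^ n))) ^ n = ⊥ := by
    rw [← Ideal.map_pow, Ideal.map_quotient_self]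
  have hkerle : LinearMap.ker f.toLinearMap ≤ (I.map (Ideal.Quotient.mk (I ^ n))) •
      (⊤ : Submodule (A ⧸ I ^ n) (H R (R ⧸ I.map (algebraMap A R)) ⧸
        (I ^ n).map (algebraMap A (H R (R ⧸ I.map (algebraMap A R)))))) := by
    intro z hz
    obtain ⟨h, rfl⟩ := Ideal.Quotient.mk_surjective z
    rw [LinearMap.mem_ker] at hz
    have hz' : Ideal.Quotient.mk ((I ^ n).map (algebraMap A B)) (φ h) = 0 := by
      rw [← hfmk]; exact hz
    have h1 : φ h ∈ I.map (algebraMap A B) :=
      Ideal.map_mono (Ideal.pow_le_self hn.ne') (Ideal.Quotient.eq_zero_iff_mem.mp hz')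
    have h2 := hφ1inj h h1
    rw [Ideal.smul_top_eq_map, Submodule.restrictScalars_mem, Ideal.map_map]
    have h3 := Ideal.mem_map_of_mem (Ideal.Quotient.mk
      ((I ^ n).map (algebraMap A (H R (R ⧸ I.map (algebraMap A R)))))) h2
    rw [Ideal.map_map] at h3
    have hcomp : (algebraMap (A ⧸ I ^ n) (H R (R ⧸ I.map (algebraMap A R)) ⧸
        (I ^ n).map (algebraMap A (H R (R ⧸ I.map (algebraMap A R)))))).comp
        (Ideal.Quotient.mk (I ^ n)) =
        (Ideal.Quotient.mk ((I ^ n).map (algebraMap A (H R (R ⧸ I.map (algebraMap A R)))))).comp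
          (algebraMap A (H R (R ⧸ I.map (algebraMap A R)))) :=
      RingHom.ext fun a => rfl
    rw [hcomp]
    exact h3
  have hfinj := injective_of_flat_of_ker_le_smul _ n hJn f.toLinearMap hfsurj hkerle
  intro x hx
  have h1 : f (Ideal.Quotient.mk _ x) = 0 := by
    rw [hfmk, RingHom.mem_ker.mp hx, map_zero]
  have h2 := hfinj (h1.trans (map_zero f.toLinearMap).symm)
  exact Ideal.Quotient.eq_zero_iff_mem.mp h2

end Groth.Agent.H3.PH
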