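import Groth.Agent.H3.PH3

/-!
# Quotients of a henselization of `(R, IR)` modulo powers of `I`
-/

set_option autoImplicit false
set_option linter.unusedSimpArgs false
set_option linter.unusedVariables false
set_option linter.style.haveILetI false
universe u
open TensorProduct Polynomial

namespace Groth.Agent.H3.PH

theorem quotientMap_bijective_of_eq {R : Type u} [CommRing R] (K : Ideal R) (B : Type u)
    [CommRing B] [Algebra R B] (hB : Hens2.IsPairHenselization R K B) (n : ℕ) (K' : Ideal R)
    (L : Ideal B) (hK' : K' = K ^ n) (hL : L = K'.map (algebraMap R B))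
    (h : K' ≤ L.comap (algebraMap R B)) :
    Function.Bijective (Ideal.quotientMap L (algebraMap R B) h) := by
  subst hK'
  subst hL
  exact quotientMap_pow_bijective K B hB n

theorem le_comap_pow_map {A : Type u} [CommRing A] (I : Ideal A) (R : Type u) [CommRing R]
    [Algebra A R] (B : Type u) [CommRing B] [Algebra R B] [Algebra A B] [IsScalarTower A R B]
    (r : ℕ) :
    (I ^ r).map (algebraMap A R) ≤ ((I ^ r).map (algebraMap A B)).comap (algebraMap R B) := by
  rw [← Ideal.map_le_iff_le_comap, Ideal.map_map, ← IsScalarTower.algebraMap_eq]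

theorem quotientMap_pow_bijective' {A : Type u} [CommRing A] (I : Ideal A) (R : Type u)
    [CommRing R] [Algebra A R] (B : Type u) [CommRing B] [Algebra R B] [Algebra A B]
    [IsScalarTower A R B] (hB : Hens2.IsPairHenselization R (I.map (algebraMap A R)) B) (r : ℕ) :
    Function.Bijective (Ideal.quotientMap ((I ^ r).map (algebraMap A B)) (algebraMap R B)
      (le_comap_pow_map I R B r)) :=
  quotientMap_bijective_of_eq (I.map (algebraMap A R)) B hB r _ _ (Ideal.map_pow _ _ _)
    (by rw [Ideal.map_map, ← IsScalarTower.algebraMap_eq]) _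

/-- `R/I^r R ≅ B/I^r B` as `A/I^r`-algebras, for `B` a henselization of `(R, IR)`. -/
noncomputable def quotientPowAlgHom {A : Type u} [CommRing A] (I : Ideal A) (R : Type u)
    [CommRing R] [Algebra A R] (B : Type u) [CommRing B] [Algebra R B] [Algebra A B]
    [IsScalarTower A R B] (r : ℕ) :
    (R ⧸ (I ^ r).map (algebraMap A R)) →ₐ[A ⧸ I ^ r] (B ⧸ (I ^ r).map (algebraMap A B)) :=
  { toRingHom := Ideal.quotientMap ((I ^ r).map (algebraMap A B)) (algebraMap R B)
      (le_comap_pow_map I R B r)
    commutes' := fun x => by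
      obtain ⟨a, rfl⟩ := Ideal.Quotient.mk_surjective x
      show Ideal.quotientMap _ (algebraMap R B) (le_comap_pow_map I R B r)
        (Ideal.quotientMap _ (algebraMap A R) Ideal.le_comap_map (Ideal.Quotient.mk _ a)) =
        Ideal.quotientMap _ (algebraMap A B) Ideal.le_comap_map (Ideal.Quotient.mk _ a)
      rw [Ideal.quotientMap_mk, Ideal.quotientMap_mk, Ideal.quotientMap_mk,
        ← IsScalarTower.algebraMap_apply] }

theorem exists_algEquiv_quotient_pow {A : Type u} [CommRing A] (I : Ideal A) (R : Type u)
    [CommRing R] [Algebra A R] (B : Type u) [CommRing B] [Algebra R B] [Algebra A B]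
    [IsScalarTower A R B] (hB : Hens2.IsPairHenselization R (I.map (algebraMap A R)) B) (r : ℕ) :
    Nonempty ((R ⧸ (I ^ r).map (algebraMap A R)) ≃ₐ[A ⧸ I ^ r]
      (B ⧸ (I ^ r).map (algebraMap A B))) :=
  ⟨AlgEquiv.ofBijective (quotientPowAlgHom I R B r) (quotientMap_pow_bijective' I R B hB r)⟩

instance etale_quotient_map {A : Type u} [CommRing A] (J : Ideal A) (R : Type u) [CommRing R]
    [Algebra A R] [Algebra.Etale A R] : Algebra.Etale (A ⧸ J) (R ⧸ J.map (algebraMap A R)) :=
  Algebra.Etale.of_equiv (Algebra.TensorProduct.quotIdealMapEquivQuotTensor R J).symm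

instance smooth_quotient_map {A : Type u} [CommRing A] (J : Ideal A) (R : Type u) [CommRing R]
    [Algebra A R] [Algebra.Smooth A R] : Algebra.Smooth (A ⧸ J) (R ⧸ J.map (algebraMap A R)) :=
  Algebra.Smooth.of_equiv (Algebra.TensorProduct.quotIdealMapEquivQuotTensor R J).symm

instance finitePresentation_quotient_map {A : Type u} [CommRing A] (J : Ideal A) (R : Type u)
    [CommRing R] [Algebra A R] [Algebra.FinitePresentation A R] :
    Algebra.FinitePresentation (A ⧸ J) (R ⧸ J.map (algebraMap A R)) :=
  Algebra.FinitePresentation.equiv (Algebra.TensorProduct.quotIdealMapEquivQuotTensor R J).symm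

end Groth.Agent.H3.PH
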