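import Groth.Agent.H3.PH5

/-!
# Étale neighbourhoods of a pair and the henselization as their colimit
-/

set_option autoImplicit false
set_option linter.unusedSimpArgs false
set_option linter.unusedVariables false
set_option linter.style.haveILetI false
universe u
open TensorProduct Polynomial

namespace Groth.Agent.H3.PH

section Nbhd

variable {A : Type u} [CommRing A] (I : Ideal A)

theorem nbhd_surj {A' : Type u} [CommRing A'] [Algebra A A']
    (hq : Function.Surjective (Ideal.quotientMap (I.map (algebraMap A A')) (algebraMap A A')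
      Ideal.le_comap_map)) (s : A') :
    ∃ a : A, s - algebraMap A A' a ∈ I.map (algebraMap A A') := by
  obtain ⟨x, hx⟩ := hq (Ideal.Quotient.mk _ s)
  obtain ⟨a, rfl⟩ := Ideal.Quotient.mk_surjective x
  rw [Ideal.quotientMap_mk, Ideal.Quotient.eq] at hx
  refine ⟨a, ?_⟩
  rw [← neg_sub]
  exact neg_mem hx

theorem nbhd_inj {A' : Type u} [CommRing A'] [Algebra A A']
    (hq : Function.Injective (Ideal.quotientMap (I.map (algebraMap A A')) (algebraMap A A')
      Ideal.le_comap_map)) (a : A) (ha : algebraMap A A' a ∈ I.map (algebraMap A A')) : a ∈ I := by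
  have h1 : Ideal.quotientMap (I.map (algebraMap A A')) (algebraMap A A') Ideal.le_comap_map
      (Ideal.Quotient.mk I a) = 0 := by
    rw [Ideal.quotientMap_mk]
    exact Ideal.Quotient.eq_zero_iff_mem.mpr ha
  have h2 := hq (h1.trans (map_zero _).symm)
  exact Ideal.Quotient.eq_zero_iff_mem.mp h2

theorem nbhd_bijective_of {A' : Type u} [CommRing A'] [Algebra A A']
    (h1 : ∀ s : A', ∃ a : A, s - algebraMap A A' a ∈ I.map (algebraMap A A'))
    (h2 : ∀ a : A, algebraMap A A' a ∈ I.map (algebraMap A A') → a ∈ I) :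
    Function.Bijective (Ideal.quotientMap (I.map (algebraMap A A')) (algebraMap A A')
      Ideal.le_comap_map) := by
  constructor
  · rw [injective_iff_map_eq_zero]
    intro x hx
    obtain ⟨a, rfl⟩ := Ideal.Quotient.mk_surjective x
    rw [Ideal.quotientMap_mk, Ideal.Quotient.eq_zero_iff_mem] at hx
    exact Ideal.Quotient.eq_zero_iff_mem.mpr (h2 a hx)
  · intro y
    obtain ⟨s, rfl⟩ := Ideal.Quotient.mk_surjective y
    obtain ⟨a, ha⟩ := h1 s
    refine ⟨Ideal.Quotient.mk I a, ?_⟩
    rw [Ideal.quotientMap_mk, Ideal.Quotient.eq, ← neg_sub]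
    exact neg_mem ha

/-- Two algebra maps from an étale neighbourhood to an algebra `C` with `IC` in the radical agree. -/
theorem algHom_unique_of_nbhd (A' : Type u) [CommRing A'] [Algebra A A'] [Algebra.Etale A A']
    (h1 : ∀ s : A', ∃ a : A, s - algebraMap A A' a ∈ I.map (algebraMap A A'))
    (C : Type u) [CommRing C] [Algebra A C] (J : Ideal C) (hJ : J ≤ Ideal.jacobson ⊥)
    (hIJ : I.map (algebraMap A C) ≤ J) (τ₁ τ₂ : A' →ₐ[A] C) : τ₁ = τ₂ := by
  have hle : ∀ ρ : A' →ₐ[A] C, (I.map (algebraMap A A')).map ρ.toRingHom ≤ J := by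
    intro ρ
    rw [Ideal.map_map]
    have : ρ.toRingHom.comp (algebraMap A A') = algebraMap A C := by
      ext a
      exact ρ.commutes a
    rw [this]
    exact hIJ
  apply algHom_eq_of_sub_mem' J hJ
  intro s
  obtain ⟨a, ha⟩ := h1 s
  have hz : ∀ ρ : A' →ₐ[A] C, ρ s - algebraMap A C a ∈ J := by
    intro ρ
    have := hle ρ (Ideal.mem_map_of_mem ρ.toRingHom ha)
    have h3 : ρ.toRingHom (s - algebraMap A A' a) = ρ s - algebraMap A C a := by
      show ρ (s - algebraMap A A' a) = _
      rw [map_sub, ρ.commutes]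
    rw [h3] at this
    exact this
  have : τ₂ s - τ₁ s = (τ₂ s - algebraMap A C a) - (τ₁ s - algebraMap A C a) := by ring
  rw [this]
  exact sub_mem (hz τ₂) (hz τ₁)

/-- An étale neighbourhood maps to every `A`-algebra which is henselian along an ideal containing
`IC`. -/
theorem exists_algHom_of_nbhd (A' : Type u) [CommRing A'] [Algebra A A'] [Algebra.Etale A A']
    (hq : Function.Bijective (Ideal.quotientMap (I.map (algebraMap A A')) (algebraMap A A')
      Ideal.le_comap_map))
    (C : Type u) [CommRing C] [Algebra A C] (J : Ideal C) [HenselianRing C J]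
    (hIJ : I.map (algebraMap A C) ≤ J) : Nonempty (A' →ₐ[A] C) := by
  let eqv : A ⧸ I ≃+* A' ⧸ I.map (algebraMap A A') := RingEquiv.ofBijective _ hq
  have hkill : ∀ a ∈ I, ((Ideal.Quotient.mk J).comp (algebraMap A C)) a = 0 := by
    intro a ha
    exact Ideal.Quotient.eq_zero_iff_mem.mpr (hIJ (Ideal.mem_map_of_mem _ ha))
  let φb : A ⧸ I →+* C ⧸ J :=
    Ideal.Quotient.lift I ((Ideal.Quotient.mk J).comp (algebraMap A C)) hkill
  let σr : A' →+* C ⧸ J :=
    φb.comp ((eqv.symm : A' ⧸ I.map (algebraMap A A') →+* A ⧸ I).comp (Ideal.Quotient.mk _))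
  have heqmk : ∀ r : A, eqv.symm (Ideal.Quotient.mk _ (algebraMap A A' r)) =
      Ideal.Quotient.mk I r := by
    intro r
    rw [RingEquiv.symm_apply_eq]
    rfl
  let σ : A' →ₐ[A] C ⧸ J :=
    { toRingHom := σr
      commutes' := fun r => by
        show φb (eqv.symm (Ideal.Quotient.mk _ (algebraMap A A' r))) = _
        rw [heqmk]
        rfl }
  obtain ⟨τ, -⟩ := exists_algHom_lift_of_etale C J A' σ
  exact ⟨τ⟩

/-- Shrinking an étale algebra with an `A/I`-point to a neighbourhood: the element. -/
theorem exists_shrink (E : Type u) [CommRing E] [Algebra A E]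
    [Algebra.EssFiniteType A E] [Algebra.FormallyUnramified A E] (χ : E →ₐ[A] A ⧸ I) :
    ∃ f : E, χ f = 1 ∧ ∀ (x : E) (a : A), χ x = Ideal.Quotient.mk I a →
      f * (x - algebraMap A E a) ∈ I.map (algebraMap A E) := by
  obtain ⟨tt, htt1, htt2⟩ :=
    (Algebra.FormallyUnramified.iff_exists_tensorProduct (R := A) (S := E)).mp inferInstance
  let β : E →ₐ[A] E ⧸ I.map (algebraMap A E) :=
    ((Algebra.ofId (A ⧸ I) (E ⧸ I.map (algebraMap A E))).restrictScalars A).comp χ
  let Ψ : E ⊗[A] E →ₐ[A] E ⧸ I.map (algebraMap A E) :=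
    Algebra.TensorProduct.lift (Ideal.Quotient.mkₐ A (I.map (algebraMap A E))) β
      (fun _ _ => Commute.all _ _)
  have hΨ : ∀ x y, Ψ (x ⊗ₜ[A] y) = Ideal.Quotient.mk _ x * β y := fun x y =>
    Algebra.TensorProduct.lift_tmul _ _ _ x y
  have hβ : ∀ (x : E) (a : A), χ x = Ideal.Quotient.mk I a →
      β x = Ideal.Quotient.mk _ (algebraMap A E a) := by
    intro x a hxa
    show algebraMap (A ⧸ I) (E ⧸ I.map (algebraMap A E)) (χ x) = _
    rw [hxa]
    rfl
  have hχker : ∀ y ∈ I.map (algebraMap A E), χ.toRingHom y = 0 := by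
    have hle : I.map (algebraMap A E) ≤ RingHom.ker χ.toRingHom := by
      rw [Ideal.map_le_iff_le_comap]
      intro a ha
      rw [Ideal.mem_comap, RingHom.mem_ker]
      show χ (algebraMap A E a) = 0
      rw [χ.commutes]
      exact Ideal.Quotient.eq_zero_iff_mem.mpr ha
    intro y hy
    exact hle hy
  let χb : E ⧸ I.map (algebraMap A E) →+* A ⧸ I :=
    Ideal.Quotient.lift (I.map (algebraMap A E)) χ.toRingHom hχker
  have hχbβ : ∀ y : E, χb (β y) = χ y := by
    intro y
    obtain ⟨a, ha⟩ := Ideal.Quotient.mk_surjective (χ y)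
    rw [hβ y a ha.symm]
    show χ (algebraMap A E a) = χ y
    rw [χ.commutes, ← ha]
    rfl
  have hχbΨ : ∀ z : E ⊗[A] E, χb (Ψ z) = χ (Algebra.TensorProduct.lmul' A z) := by
    intro z
    induction z using TensorProduct.induction_on with
    | zero => simp
    | tmul x y =>
      rw [hΨ, map_mul, hχbβ, Algebra.TensorProduct.lmul'_apply_tmul, map_mul]
      rfl
    | add z₁ z₂ h₁ h₂ => rw [map_add, map_add, map_add, map_add, h₁, h₂]
  obtain ⟨f, hf⟩ := Ideal.Quotient.mk_surjective (Ψ tt)
  refine ⟨f, ?_, ?_⟩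
  · have h1 : χb (Ideal.Quotient.mk _ f) = χ f := rfl
    rw [← h1, hf, hχbΨ, htt2, map_one]
  · intro x a hxa
    have h2 := congr_arg Ψ (htt1 x)
    rw [map_mul, map_zero, map_sub, hΨ, hΨ, map_one, map_one, one_mul, mul_one, hβ x a hxa,
      ← hf, ← map_sub, ← map_mul, Ideal.Quotient.eq_zero_iff_mem] at h2
    have : f * (x - algebraMap A E a) = -((algebraMap A E a - x) * f) := by ring
    rw [this]
    exact neg_mem h2

/-- Shrinking an étale algebra with an `A/I`-point to a neighbourhood: the localization is a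
neighbourhood. -/
theorem nbhd_localization_away (E : Type u) [CommRing E] [Algebra A E]
    (χ : E →ₐ[A] A ⧸ I) (f : E) (hf1 : χ f = 1)
    (hf2 : ∀ (x : E) (a : A), χ x = Ideal.Quotient.mk I a →
      f * (x - algebraMap A E a) ∈ I.map (algebraMap A E)) :
    Function.Bijective (Ideal.quotientMap (I.map (algebraMap A (Localization.Away f)))
      (algebraMap A (Localization.Away f)) Ideal.le_comap_map) := by
  have hmapmap : (I.map (algebraMap A E)).map (algebraMap E (Localization.Away f)) =
      I.map (algebraMap A (Localization.Away f)) := by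
    rw [Ideal.map_map, ← IsScalarTower.algebraMap_eq]
  have hfu : IsUnit (algebraMap E (Localization.Away f) f) :=
    IsLocalization.Away.algebraMap_isUnit f
  -- step 1
  have step1 : ∀ (x : E) (a : A), χ x = Ideal.Quotient.mk I a →
      algebraMap E (Localization.Away f) x - algebraMap A (Localization.Away f) a ∈
        I.map (algebraMap A (Localization.Away f)) := by
    intro x a hxa
    have h1 := Ideal.mem_map_of_mem (algebraMap E (Localization.Away f)) (hf2 x a hxa)
    rw [hmapmap, map_mul, map_sub, ← IsScalarTower.algebraMap_apply] at h1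
    exact (Ideal.unit_mul_mem_iff_mem _ hfu).mp h1
  have step2 : algebraMap E (Localization.Away f) f - 1 ∈
      I.map (algebraMap A (Localization.Away f)) := by
    have := step1 f 1 (by rw [hf1, map_one])
    rwa [map_one] at this
  apply nbhd_bijective_of
  · intro y
    obtain ⟨n, x, hxy⟩ := IsLocalization.Away.surj f y
    obtain ⟨a, ha⟩ := Ideal.Quotient.mk_surjective (χ x)
    refine ⟨a, ?_⟩
    have h3 := step1 x a ha.symm
    rw [← Ideal.Quotient.eq] at h3 step2 ⊢
    rw [← h3, ← hxy, map_mul, map_pow, step2, map_one, one_pow, mul_one]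
  · intro a ha
    have hu : IsUnit (χ.toRingHom f) := by
      show IsUnit (χ f)
      rw [hf1]
      exact isUnit_one
    let χ' : Localization.Away f →+* A ⧸ I := IsLocalization.Away.lift f hu
    have hχ' : χ'.comp (algebraMap A (Localization.Away f)) = Ideal.Quotient.mk I := by
      ext r
      show χ' (algebraMap A (Localization.Away f) r) = _
      rw [IsScalarTower.algebraMap_apply A E (Localization.Away f), IsLocalization.Away.lift_eq]
      exact χ.commutes r
    have h1 := Ideal.mem_map_of_mem χ' ha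
    rw [Ideal.map_map, hχ', Ideal.map_quotient_self] at h1
    have h2 : χ' (algebraMap A (Localization.Away f) a) = Ideal.Quotient.mk I a :=
      RingHom.congr_fun hχ' a
    rw [h2] at h1
    exact Ideal.Quotient.eq_zero_iff_mem.mp ((Ideal.mem_bot).mp h1)

end Nbhd

end Groth.Agent.H3.PH
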