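import Groth.Agent.H3.PH6

/-!
# The henselization of a pair as the colimit of its étale neighbourhoods
-/

set_option autoImplicit false
set_option linter.unusedSimpArgs false
set_option linter.unusedVariables false
set_option linter.style.haveILetI false
universe u
open TensorProduct Polynomial

namespace Groth.Agent.H3.PH

section Colim

variable {A : Type u} [CommRing A] (I : Ideal A)

theorem exists_point_of_nbhd (A' : Type u) [CommRing A'] [Algebra A A']
    (hq : Function.Bijective (Ideal.quotientMap (I.map (algebraMap A A')) (algebraMap A A')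
      Ideal.le_comap_map)) : Nonempty (A' →ₐ[A] A ⧸ I) := by
  let eqv : A ⧸ I ≃+* A' ⧸ I.map (algebraMap A A') := RingEquiv.ofBijective _ hq
  have heqmk : ∀ r : A, eqv.symm (Ideal.Quotient.mk _ (algebraMap A A' r)) =
      Ideal.Quotient.mk I r := by
    intro r
    rw [RingEquiv.symm_apply_eq]
    rfl
  exact ⟨{ toRingHom := (eqv.symm : A' ⧸ I.map (algebraMap A A') →+* A ⧸ I).comp
            (Ideal.Quotient.mk _)
           commutes' := fun r => by
            show eqv.symm (Ideal.Quotient.mk _ (algebraMap A A' r)) = _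
            rw [heqmk]
            rfl }⟩

theorem unique_algHom_of_nbhd (B : Type u) [CommRing B] [Algebra A B]
    (hB : Hens2.IsPairHenselization A I B)
    (A' : Type u) [CommRing A'] [Algebra A A'] [Algebra.Etale A A']
    (hq : Function.Bijective (Ideal.quotientMap (I.map (algebraMap A A')) (algebraMap A A')
      Ideal.le_comap_map)) : Nonempty (Unique (A' →ₐ[A] B)) := by
  haveI := hB.1
  obtain ⟨τ⟩ := exists_algHom_of_nbhd I A' hq B (I.map (algebraMap A B)) le_rfl
  exact ⟨{ toInhabited := ⟨τ⟩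
           uniq := fun ρ => algHom_unique_of_nbhd I A' (nbhd_surj I hq.2) B
            (I.map (algebraMap A B)) hB.1.jac le_rfl ρ τ }⟩

/-- Shrinking an object of `EtPt` to a neighbourhood. -/
theorem exists_nbhd_of_etPt (X : EtPt A (A ⧸ I)) :
    ∃ (f : X.A), X.χ f = 1 ∧ Algebra.Etale A (Localization.Away f) ∧
      Function.Bijective (Ideal.quotientMap (I.map (algebraMap A (Localization.Away f)))
        (algebraMap A (Localization.Away f)) Ideal.le_comap_map) := by
  obtain ⟨f, hf1, hf2⟩ := exists_shrink I X.A X.χ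
  haveI : Algebra.Etale X.A (Localization.Away f) := Algebra.Etale.of_isLocalizationAway f
  exact ⟨f, hf1, Algebra.Etale.comp A X.A (Localization.Away f),
    nbhd_localization_away I X.A X.χ f hf1 hf2⟩

theorem exists_nbhd_rep_finset (B : Type u) [CommRing B] [Algebra A B]
    (hB : Hens2.IsPairHenselization A I B) (s : Finset B) :
    ∃ (A' : Type u) (_ : CommRing A') (_ : Algebra A A') (_ : Algebra.Etale A A'),
      Function.Bijective (Ideal.quotientMap (I.map (algebraMap A A')) (algebraMap A A')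
        Ideal.le_comap_map) ∧
      ∃ φ : A' →ₐ[A] B, ∀ x ∈ s, ∃ y : A', φ y = x := by
  classical
  obtain ⟨e⟩ := nonempty_algEquiv_of_isPairHenselization I _ B (isPairHenselization_H A I) hB
  obtain ⟨X, hX⟩ := exists_rep_finset A (A ⧸ I) (s.image e.symm)
  obtain ⟨f, hf1, hEt, hbij⟩ := exists_nbhd_of_etPt I X
  have hu : IsUnit (ιₐ A (A ⧸ I) X f) := by
    apply isUnit_of_isUnit_ε
    show IsUnit (ε A (A ⧸ I) (ι A (A ⧸ I) X f))
    rw [ε_ι, hf1]
    exact isUnit_one
  let φ₀ : Localization.Away f →ₐ[A] H A (A ⧸ I) := IsLocalization.Away.liftAlgHom f hu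
  refine ⟨Localization.Away f, inferInstance, inferInstance, hEt, hbij,
    e.toAlgHom.comp φ₀, fun x hx => ?_⟩
  obtain ⟨a, ha⟩ := hX (e.symm x) (Finset.mem_image_of_mem _ hx)
  refine ⟨algebraMap X.A (Localization.Away f) a, ?_⟩
  show e (IsLocalization.Away.lift f hu (algebraMap X.A (Localization.Away f) a)) = x
  rw [IsLocalization.Away.lift_eq]
  show e (ι A (A ⧸ I) X a) = x
  rw [ha, e.apply_symm_apply]

theorem exists_nbhd_kill (B : Type u) [CommRing B] [Algebra A B]
    (hB : Hens2.IsPairHenselization A I B)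
    (A' : Type u) [CommRing A'] [Algebra A A'] [Algebra.Etale A A']
    (hq : Function.Bijective (Ideal.quotientMap (I.map (algebraMap A A')) (algebraMap A A')
      Ideal.le_comap_map)) (φ : A' →ₐ[A] B) (s : A') (hs : φ s = 0) :
    ∃ (A'' : Type u) (_ : CommRing A'') (_ : Algebra A A'') (_ : Algebra.Etale A A''),
      Function.Bijective (Ideal.quotientMap (I.map (algebraMap A A'')) (algebraMap A A'')
        Ideal.le_comap_map) ∧ ∃ ψ : A' →ₐ[A] A'', ψ s = 0 := by
  obtain ⟨e⟩ := nonempty_algEquiv_of_isPairHenselization I _ B (isPairHenselization_H A I) hB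
  obtain ⟨χ'⟩ := exists_point_of_nbhd I A' hq
  obtain ⟨X', e', he'⟩ := EtPt.exists_obj A' χ'
  have heq : (ιₐ A (A ⧸ I) X').comp e'.toAlgHom = e.symm.toAlgHom.comp φ :=
    algHom_unique_of_nbhd I A' (nbhd_surj I hq.2) (H A (A ⧸ I))
      (I.map (algebraMap A (H A (A ⧸ I)))) (map_le_jacobson A I) le_rfl _ _
  have h0 : ι A (A ⧸ I) X' (e' s) = ι A (A ⧸ I) X' 0 := by
    have h1 := AlgHom.congr_fun heq s
    have h2 : ι A (A ⧸ I) X' (e' s) = e.symm (φ s) := h1
    rw [h2, hs, map_zero, map_zero]
  obtain ⟨Z, u, v, huv⟩ := (ι_eq_iff A (A ⧸ I) (e' s) (0 : X'.A)).mp h0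
  rw [map_zero] at huv
  obtain ⟨f, hf1, hEt, hbij⟩ := exists_nbhd_of_etPt I Z
  refine ⟨Localization.Away f, inferInstance, inferInstance, hEt, hbij,
    (IsScalarTower.toAlgHom A Z.A (Localization.Away f)).comp (u.f.comp e'.toAlgHom), ?_⟩
  show algebraMap Z.A (Localization.Away f) (u.f (e' s)) = 0
  rw [huv, map_zero]

end Colim

end Groth.Agent.H3.PH
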