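import Groth.Agent.H3.PH8

/-!
# Direct limits of henselian pairs (varying ideals), after helper87's `HenselLim`
-/

set_option autoImplicit false
set_option linter.unusedSimpArgs false
set_option linter.unusedVariables false
set_option linter.style.haveILetI false
universe u
open Polynomial

namespace Groth.Agent.H3.PH.Lim

variable {κ : Type u} [Preorder κ] [IsDirectedOrder κ] [Nonempty κ]
  (Ra : κ → Type u) [∀ a, CommRing (Ra a)]
  (t : ∀ a b : κ, a ≤ b → (Ra a →+* Ra b)) [DirectedSystem Ra (fun a b h => t a b h)]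
  (J : ∀ a, Ideal (Ra a))

theorem of_eq_of_iff {a b : κ} (x : Ra a) (y : Ra b) :
    DirectLimit.Ring.of Ra t a x = DirectLimit.Ring.of Ra t b y ↔
      ∃ (c : κ) (hac : a ≤ c) (hbc : b ≤ c), t a c hac x = t b c hbc y := by
  constructor
  · intro h
    have h' : (⟦⟨a, x⟩⟧ : DirectLimit Ra t) = ⟦⟨b, y⟩⟧ := h
    obtain ⟨c, hac, hbc, e⟩ := Quotient.eq.mp h'
    exact ⟨c, hac, hbc, e⟩
  · rintro ⟨c, hac, hbc, e⟩
    have h' : (⟦⟨a, x⟩⟧ : DirectLimit Ra t) = ⟦⟨b, y⟩⟧ := Quotient.sound ⟨c, hac, hbc, e⟩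
    exact h'

theorem exists_of (z : DirectLimit Ra t) :
    ∃ (a : κ) (x : Ra a), DirectLimit.Ring.of Ra t a x = z := by
  induction z using DirectLimit.induction with
  | _ a x => exact ⟨a, x, rfl⟩

theorem exists_stage_fin {ι' : Type*} [Finite ι'] (c : ι' → DirectLimit Ra t) :
    ∃ (a : κ) (c' : ι' → Ra a), ∀ k, DirectLimit.Ring.of Ra t a (c' k) = c k := by
  choose a₀ x hx using fun k => exists_of Ra t (c k)
  obtain ⟨M, hM⟩ := Finite.exists_le a₀
  exact ⟨M, fun k => t (a₀ k) M (hM k) (x k), fun k => by rw [DirectLimit.Ring.of_f, hx]⟩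

/-- The limit ideal. -/
noncomputable def limIdeal : Ideal (DirectLimit Ra t) := ⨆ a, (J a).map (DirectLimit.Ring.of Ra t a)

variable (hJ : ∀ (a b : κ) (h : a ≤ b), (J a).map (t a b h) ≤ J b)
include hJ

theorem t_mem {a b : κ} (h : a ≤ b) {y : Ra a} (hy : y ∈ J a) : t a b h y ∈ J b :=
  hJ a b h (Ideal.mem_map_of_mem _ hy)

theorem exists_of_mem_limIdeal {x : DirectLimit Ra t} (hx : x ∈ limIdeal Ra t J) :
    ∃ (a : κ) (y : Ra a), y ∈ J a ∧ DirectLimit.Ring.of Ra t a y = x := by
  have hadd : ∀ x y : DirectLimit Ra t,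
      (∃ (a : κ) (y' : Ra a), y' ∈ J a ∧ DirectLimit.Ring.of Ra t a y' = x) →
      (∃ (a : κ) (y' : Ra a), y' ∈ J a ∧ DirectLimit.Ring.of Ra t a y' = y) →
      ∃ (a : κ) (y' : Ra a), y' ∈ J a ∧ DirectLimit.Ring.of Ra t a y' = x + y := by
    rintro _ _ ⟨a, x', hx', rfl⟩ ⟨b, y', hy', rfl⟩
    obtain ⟨c, hac, hbc⟩ := exists_ge_ge a b
    refine ⟨c, t a c hac x' + t b c hbc y',
      Ideal.add_mem _ (t_mem Ra t J hJ hac hx') (t_mem Ra t J hJ hbc hy'), ?_⟩
    rw [map_add, DirectLimit.Ring.of_f, DirectLimit.Ring.of_f]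
  have hzero : ∃ (a : κ) (y' : Ra a), y' ∈ J a ∧
      DirectLimit.Ring.of Ra t a y' = (0 : DirectLimit Ra t) := by
    obtain ⟨a⟩ := ‹Nonempty κ›
    exact ⟨a, 0, Ideal.zero_mem _, map_zero _⟩
  unfold limIdeal at hx
  refine Submodule.iSup_induction (fun a => (J a).map (DirectLimit.Ring.of Ra t a))
    (motive := fun x => ∃ (a : κ) (y : Ra a), y ∈ J a ∧ DirectLimit.Ring.of Ra t a y = x)
    hx ?_ hzero hadd
  intro a x hxa
  unfold Ideal.map at hxa
  refine Submodule.span_induction (p := fun x _ => ∃ (a : κ) (y : Ra a),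
    y ∈ J a ∧ DirectLimit.Ring.of Ra t a y = x) ?_ hzero ?_ ?_ hxa
  · rintro _ ⟨i, hi, rfl⟩
    exact ⟨a, i, hi, rfl⟩
  · intro x y _ _ hx hy
    exact hadd x y hx hy
  · rintro l _ _ ⟨a', x', hx', rfl⟩
    obtain ⟨b, l', rfl⟩ := exists_of Ra t l
    obtain ⟨c, hac, hbc⟩ := exists_ge_ge a' b
    refine ⟨c, t b c hbc l' * t a' c hac x',
      Ideal.mul_mem_left _ _ (t_mem Ra t J hJ hac hx'), ?_⟩
    rw [map_mul, DirectLimit.Ring.of_f, DirectLimit.Ring.of_f, smul_eq_mul]

theorem of_mem_limIdeal {a : κ} {y : Ra a} (hy : y ∈ J a) :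
    DirectLimit.Ring.of Ra t a y ∈ limIdeal Ra t J :=
  (le_iSup (fun a => (J a).map (DirectLimit.Ring.of Ra t a)) a) (Ideal.mem_map_of_mem _ hy)

theorem exists_stage_mem {s : κ} {w : Ra s}
    (hw : DirectLimit.Ring.of Ra t s w ∈ limIdeal Ra t J) :
    ∃ (c : κ) (h : s ≤ c), t s c h w ∈ J c := by
  obtain ⟨a, y, hy, e⟩ := exists_of_mem_limIdeal Ra t J hJ hw
  obtain ⟨c, hac, hsc, e'⟩ := (of_eq_of_iff Ra t y w).mp e
  exact ⟨c, hsc, e' ▸ t_mem Ra t J hJ hac hy⟩

theorem henselian_directLimit [∀ a, HenselianRing (Ra a) (J a)] :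
    HenselianRing (DirectLimit Ra t) (limIdeal Ra t J) where
  jac := by
    intro x hx
    rw [Ideal.mem_jacobson_bot]
    intro y
    obtain ⟨a, x', hx', rfl⟩ := exists_of_mem_limIdeal Ra t J hJ hx
    obtain ⟨b, y', rfl⟩ := exists_of Ra t y
    obtain ⟨c, hac, hbc⟩ := exists_ge_ge a b
    have h1 : t a c hac x' ∈ Ideal.jacobson (⊥ : Ideal (Ra c)) :=
      HenselianRing.jac (t_mem Ra t J hJ hac hx')
    have h2 := Ideal.mem_jacobson_bot.mp h1 (t b c hbc y')
    have h3 : DirectLimit.Ring.of Ra t a x' * DirectLimit.Ring.of Ra t b y' + 1 =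
        DirectLimit.Ring.of Ra t c (t a c hac x' * t b c hbc y' + 1) := by
      rw [map_add, map_mul, map_one, DirectLimit.Ring.of_f, DirectLimit.Ring.of_f]
    rw [h3]
    exact h2.map _
  is_henselian := by
    intro f hf a₀ h₁ h₂
    classical
    obtain ⟨v, hv⟩ := h₂.exists_right_inv
    obtain ⟨u, rfl⟩ := Ideal.Quotient.mk_surjective v
    have hu : f.derivative.eval a₀ * u - 1 ∈ limIdeal Ra t J := by
      rw [← Ideal.Quotient.eq_zero_iff_mem, map_sub, map_mul, map_one, hv, sub_self]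
    let c : Option (Option (Fin f.natDegree)) → DirectLimit Ra t :=
      fun o => o.elim u (fun o' => o'.elim a₀ (fun k => f.coeff k))
    obtain ⟨s, c', hc'⟩ := exists_stage_fin Ra t c
    have ecoef : ∀ k : Fin f.natDegree,
        DirectLimit.Ring.of Ra t s (c' (some (some k))) = f.coeff k := fun k => hc' (some (some k))
    have ex₀ : DirectLimit.Ring.of Ra t s (c' (some none)) = a₀ := hc' (some none)
    have eu : DirectLimit.Ring.of Ra t s (c' none) = u := hc' none
    let p : (Ra s)[X] := X ^ f.natDegree +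
      ∑ k : Fin f.natDegree, C (c' (some (some k))) * X ^ (k : ℕ)
    have hpmonic : p.Monic := by
      apply Polynomial.monic_X_pow_add
      refine lt_of_le_of_lt (Polynomial.degree_sum_le _ _) ?_
      refine (Finset.sup_lt_iff (WithBot.bot_lt_coe f.natDegree)).mpr ?_
      intro k _
      exact lt_of_le_of_lt (Polynomial.degree_C_mul_X_pow_le _ _) (by
        have hk : (k : ℕ) < f.natDegree := k.2
        simpa [Nat.cast_withBot] using hk)
    have hpmap : p.map (DirectLimit.Ring.of Ra t s) = f := by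
      conv_rhs => rw [hf.as_sum]
      simp only [p, Polynomial.map_add, Polynomial.map_pow, Polynomial.map_X,
        Polynomial.map_sum, Polynomial.map_mul, Polynomial.map_C]
      congr 1
      rw [Finset.sum_range]
      refine Finset.sum_congr rfl (fun k _ => ?_)
      rw [ecoef k]
    have hev : ∀ (q : (Ra s)[X]) (y : Ra s), DirectLimit.Ring.of Ra t s (q.eval y) =
        (q.map (DirectLimit.Ring.of Ra t s)).eval (DirectLimit.Ring.of Ra t s y) := by
      intro q y
      rw [Polynomial.eval_map, Polynomial.eval₂_at_apply]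
    have hw₁ : DirectLimit.Ring.of Ra t s (p.eval (c' (some none))) ∈ limIdeal Ra t J := by
      rw [hev, hpmap, ex₀]; exact h₁
    have hw₂ : DirectLimit.Ring.of Ra t s (p.derivative.eval (c' (some none)) * c' none - 1) ∈
        limIdeal Ra t J := by
      rw [map_sub, map_mul, map_one, hev, ← Polynomial.derivative_map, hpmap, ex₀, eu]
      exact hu
    obtain ⟨c₁, hc₁, hm₁⟩ := exists_stage_mem Ra t J hJ hw₁
    obtain ⟨c₂, hc₂, hm₂⟩ := exists_stage_mem Ra t J hJ hw₂
    obtain ⟨d, hd₁, hd₂⟩ := exists_ge_ge c₁ c₂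
    have hsd : s ≤ d := hc₁.trans hd₁
    have hm₁' : t s d hsd (p.eval (c' (some none))) ∈ J d := by
      have e := DirectedSystem.map_map' t hc₁ hd₁ (p.eval (c' (some none)))
      rw [← e]
      exact t_mem Ra t J hJ hd₁ hm₁
    have hm₂' : t s d hsd (p.derivative.eval (c' (some none)) * c' none - 1) ∈ J d := by
      have e := DirectedSystem.map_map' t hc₂ hd₂
        (p.derivative.eval (c' (some none)) * c' none - 1)
      rw [← e]
      exact t_mem Ra t J hJ hd₂ hm₂
    have hP₁ : (p.map (t s d hsd)).eval (t s d hsd (c' (some none))) ∈ J d := by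
      rw [Polynomial.eval_map, Polynomial.eval₂_at_apply]; exact hm₁'
    have hP₂ : IsUnit (Ideal.Quotient.mk (J d)
        ((p.map (t s d hsd)).derivative.eval (t s d hsd (c' (some none))))) := by
      have h3 : (p.map (t s d hsd)).derivative.eval (t s d hsd (c' (some none))) *
          t s d hsd (c' none) - 1 ∈ J d := by
        have e : (p.map (t s d hsd)).derivative.eval (t s d hsd (c' (some none))) *
            t s d hsd (c' none) - 1 =
            t s d hsd (p.derivative.eval (c' (some none)) * c' none - 1) := by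
          rw [Polynomial.derivative_map, Polynomial.eval_map, Polynomial.eval₂_at_apply,
            map_sub, map_mul, map_one]
        rw [e]; exact hm₂'
      refine isUnit_iff_exists_inv.mpr ⟨Ideal.Quotient.mk _ (t s d hsd (c' none)), ?_⟩
      rw [← map_mul, ← sub_eq_zero, ← map_one (Ideal.Quotient.mk _), ← map_sub,
        Ideal.Quotient.eq_zero_iff_mem]
      exact h3
    obtain ⟨r, hr, hr'⟩ := HenselianRing.is_henselian (p.map (t s d hsd)) (hpmonic.map _)
      (t s d hsd (c' (some none))) hP₁ hP₂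
    have hr0 : (p.map (t s d hsd)).eval r = 0 := hr
    refine ⟨DirectLimit.Ring.of Ra t d r, ?_, ?_⟩
    · have e : f = (p.map (t s d hsd)).map (DirectLimit.Ring.of Ra t d) := by
        rw [← hpmap, Polynomial.map_map]
        congr 1
        ext y
        exact (DirectLimit.Ring.of_f hsd y).symm
      rw [e, Polynomial.IsRoot.def, Polynomial.eval_map, Polynomial.eval₂_at_apply, hr0, map_zero]
    · have e : DirectLimit.Ring.of Ra t d r - a₀ =
          DirectLimit.Ring.of Ra t d (r - t s d hsd (c' (some none))) := by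
        rw [map_sub, DirectLimit.Ring.of_f, ex₀]
      rw [e]
      exact of_mem_limIdeal Ra t J hJ hr'

end Groth.Agent.H3.PH.Lim
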