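import Mathlib.LinearAlgebra.TensorProduct.Pi
import Mathlib.RingTheory.Finiteness.Basic
import Mathlib.RingTheory.Finiteness.Cardinality
import Mathlib.LinearAlgebra.TensorProduct.Basic

set_option autoImplicit false
universe u

namespace Groth.Agent.H3

open TensorProduct

variable {R : Type*} [CommRing R] {M : Type*} [AddCommGroup M] [Module R M]

theorem exists_sum_tmul_of_span_eq_top {n : ℕ} (m : Fin n → M)
    (hm : Submodule.span R (Set.range m) = ⊤) {Q : Type*} [AddCommGroup Q] [Module R Q]
    (t : M ⊗[R] Q) : ∃ q : Fin n → Q, t = ∑ j, m j ⊗ₜ[R] q j := by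
  induction t using TensorProduct.induction_on with
  | zero => exact ⟨0, by simp⟩
  | tmul x q =>
    have hx : x ∈ Submodule.span R (Set.range m) := by rw [hm]; trivial
    obtain ⟨c, rfl⟩ := (Submodule.mem_span_range_iff_exists_fun R).mp hx
    refine ⟨fun j => c j • q, ?_⟩
    rw [TensorProduct.sum_tmul]
    refine Finset.sum_congr rfl fun j _ => ?_
    rw [TensorProduct.smul_tmul]
  | add a b ha hb =>
    obtain ⟨qa, rfl⟩ := ha
    obtain ⟨qb, rfl⟩ := hb
    refine ⟨qa + qb, ?_⟩
    rw [← Finset.sum_add_distrib]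
    refine Finset.sum_congr rfl fun j _ => ?_
    rw [Pi.add_apply, TensorProduct.tmul_add]

theorem piRightHom_surjective_of_finite [Module.Finite R M] {ι : Type*} (Q : ι → Type*)
    [∀ i, AddCommGroup (Q i)] [∀ i, Module R (Q i)] :
    Function.Surjective (TensorProduct.piRightHom R R M Q) := by
  obtain ⟨n, m, hm⟩ := Module.Finite.exists_fin (R := R) (M := M)
  intro y
  have h : ∀ i, ∃ q : Fin n → Q i, y i = ∑ j, m j ⊗ₜ[R] q j := fun i =>
    exists_sum_tmul_of_span_eq_top m hm (y i)
  choose q hq using h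
  refine ⟨∑ j, m j ⊗ₜ[R] (fun i => q i j), ?_⟩
  rw [map_sum]
  funext i
  rw [Finset.sum_apply, hq i]
  refine Finset.sum_congr rfl fun j _ => ?_
  rw [TensorProduct.piRightHom_tmul]

theorem finite_of_piRightHom_surjective
    (h : Function.Surjective (TensorProduct.piRightHom R R M (fun _ : M => R))) :
    Module.Finite R M := by
  obtain ⟨z, hz⟩ := h (fun m => m ⊗ₜ[R] (1 : R))
  have key : ∀ z : M ⊗[R] (M → R), ∃ S : Finset M, ∀ m : M,
      TensorProduct.rid R M (TensorProduct.piRightHom R R M (fun _ : M => R) z m) ∈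
        Submodule.span R (S : Set M) := by
    intro z
    induction z using TensorProduct.induction_on with
    | zero => exact ⟨∅, fun m => by simp⟩
    | tmul x f =>
      classical
      refine ⟨{x}, fun m => ?_⟩
      rw [TensorProduct.piRightHom_tmul, TensorProduct.rid_tmul]
      exact Submodule.smul_mem _ _ (Submodule.subset_span (by simp))
    | add a b ha hb =>
      classical
      obtain ⟨Sa, hSa⟩ := ha
      obtain ⟨Sb, hSb⟩ := hb
      refine ⟨Sa ∪ Sb, fun m => ?_⟩
      rw [map_add, Pi.add_apply, map_add]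
      refine Submodule.add_mem _ ?_ ?_
      · exact Submodule.span_mono (by simp) (hSa m)
      · exact Submodule.span_mono (by simp) (hSb m)
  obtain ⟨S, hS⟩ := key z
  refine ⟨⟨S, ?_⟩⟩
  rw [eq_top_iff]
  intro m _
  have := hS m
  rw [hz, TensorProduct.rid_tmul, one_smul] at this
  exact this

end Groth.Agent.H3
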