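import Mathlib
import Groth.Prelude.Def_Smoothing
import Groth.Agent.H3.Sep1

/-!
# Popescu assembly, part 1: from `H_{B/R} Λ = Λ` to a smooth factorization
-/

set_option autoImplicit false
set_option linter.unusedSimpArgs false
set_option linter.unusedVariables false
set_option linter.style.haveILetI false
universe u

namespace Groth.Agent.H3.Pop

open Groth.Agent.H44.LocTrick Groth.Agent.H3.Sep MvPolynomial

/-- A finitely presented algebra whose singular ideal is the unit ideal is smooth. -/
theorem smooth_of_singularIdeal_eq_top {R B : Type u} [CommRing R] [CommRing B] [Algebra R B]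
    [Algebra.FinitePresentation R B] (h : Smoothing.singularIdeal R B = ⊤) :
    Algebra.Smooth R B := by
  have h1 : (1 : B) ∈ Smoothing.singularIdeal R B := by rw [h]; trivial
  rw [mem_singularIdeal_iff] at h1
  haveI := h1
  let e : B ≃ₐ[B] Localization.Away (1 : B) := IsLocalization.atOne B (Localization.Away (1 : B))
  exact Algebra.Smooth.of_equiv (e.restrictScalars R).symm

section unitcomb
variable {B : Type u} [CommRing B] {r : ℕ} (a : Fin r → B)

/-- The universal algebra in which the `a j` generate the unit ideal. -/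
abbrev UC : Type u :=
  MvPolynomial (Fin r) B ⧸ Ideal.span {(∑ j, X j * C (a j) - 1 : MvPolynomial (Fin r) B)}

theorem UC_rel : (∑ j, (Ideal.Quotient.mk _ (X j) : UC a) * algebraMap B (UC a) (a j)) = 1 := by
  have h : (Ideal.Quotient.mk (Ideal.span {(∑ j, X j * C (a j) - 1 : MvPolynomial (Fin r) B)})
      (∑ j, X j * C (a j) - 1)) = 0 :=
    Ideal.Quotient.eq_zero_iff_mem.mpr (Ideal.subset_span rfl)
  rw [map_sub, map_one, sub_eq_zero, map_sum] at h
  rw [← h]
  refine Finset.sum_congr rfl fun j _ => ?_
  rw [map_mul]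
  rfl

instance formallySmooth_UC : Algebra.FormallySmooth B (UC a) := by
  apply Algebra.FormallySmooth.of_comp_surjective
  intro T _ _ N hN f
  choose t ht using fun j => Ideal.Quotient.mk_surjective (f (Ideal.Quotient.mk _ (X j)))
  have h1 : Ideal.Quotient.mk N (∑ j, t j * algebraMap B T (a j)) = 1 := by
    rw [map_sum]
    have := congrArg f (UC_rel a)
    rw [map_sum, map_one] at this
    rw [← this]
    refine Finset.sum_congr rfl fun j _ => ?_
    rw [map_mul, map_mul, ht, AlgHom.commutes]
    rfl
  obtain ⟨n, hn⟩ : ∃ n, n = ∑ j, t j * algebraMap B T (a j) - 1 := ⟨_, rfl⟩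
  have hnN : n ∈ N := by
    rw [← Ideal.Quotient.eq_zero_iff_mem, hn, map_sub, h1, map_one, sub_self]
  have hn2 : n * n = 0 := by
    have : n * n ∈ N ^ 2 := by rw [pow_two]; exact Ideal.mul_mem_mul hnN hnN
    rwa [hN, Ideal.mem_bot] at this
  let t' : Fin r → T := fun j => t j * (1 - n)
  have hrel : ∑ j, t' j * algebraMap B T (a j) = 1 := by
    have e1 : ∑ j, t' j * algebraMap B T (a j) =
        (∑ j, t j * algebraMap B T (a j)) * (1 - n) := by
      rw [Finset.sum_mul]
      refine Finset.sum_congr rfl fun j _ => ?_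
      show t j * (1 - n) * _ = _
      ring
    have e2 : ∑ j, t j * algebraMap B T (a j) = 1 + n := by rw [hn]; ring
    rw [e1, e2]
    linear_combination (-1 : T) * hn2
  let F₀ : MvPolynomial (Fin r) B →ₐ[B] T := MvPolynomial.aeval t'
  have hF₀ : ∀ x ∈ Ideal.span {(∑ j, X j * C (a j) - 1 : MvPolynomial (Fin r) B)}, F₀ x = 0 := by
    intro x hx
    have hle : Ideal.span {(∑ j, X j * C (a j) - 1 : MvPolynomial (Fin r) B)} ≤
        RingHom.ker F₀.toRingHom := by
      rw [Ideal.span_le, Set.singleton_subset_iff]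
      show F₀ _ = 0
      rw [map_sub, map_one, map_sum, sub_eq_zero, ← hrel]
      refine Finset.sum_congr rfl fun j _ => ?_
      rw [map_mul, MvPolynomial.aeval_X, MvPolynomial.aeval_C]
    exact hle hx
  let F : UC a →ₐ[B] T := Ideal.Quotient.liftₐ _ F₀ hF₀
  refine ⟨F, ?_⟩
  apply Ideal.Quotient.algHom_ext
  apply MvPolynomial.algHom_ext
  intro j
  show Ideal.Quotient.mk N (F (Ideal.Quotient.mk _ (X j))) = f (Ideal.Quotient.mk _ (X j))
  have : F (Ideal.Quotient.mk _ (X j)) = t' j := by
    show F₀ (X j) = _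
    exact MvPolynomial.aeval_X _ _
  rw [this, ← ht j]
  show Ideal.Quotient.mk N (t j * (1 - n)) = _
  rw [map_mul, map_sub, map_one, Ideal.Quotient.eq_zero_iff_mem.mpr hnN, sub_zero, mul_one]

instance finitePresentation_UC : Algebra.FinitePresentation B (UC a) :=
  Algebra.FinitePresentation.quotient
    ⟨{(∑ j, X j * C (a j) - 1 : MvPolynomial (Fin r) B)}, by simp⟩

end unitcomb

/-- If the extended singular ideal is the unit ideal, the map factors through a smooth algebra. -/
theorem exists_smooth_factor {R B Λ : Type u} [CommRing R] [IsNoetherianRing R] [CommRing B]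
    [Algebra R B] [Algebra.FinitePresentation R B] [CommRing Λ] [Algebra R Λ] (h : B →ₐ[R] Λ)
    (htop : Smoothing.singRad R h = ⊤) :
    ∃ (B' : Type u) (_ : CommRing B') (_ : Algebra R B'), Algebra.Smooth R B' ∧
      ∃ (g' : B →ₐ[R] B') (h' : B' →ₐ[R] Λ), h'.comp g' = h := by
  classical
  haveI : IsNoetherianRing B := Algebra.FiniteType.isNoetherianRing R B
  obtain ⟨r, a, ha⟩ := Submodule.fg_iff_exists_fin_generating_family.mp
    (IsNoetherian.noetherian (Smoothing.singularIdeal R B))
  have haH : ∀ j, a j ∈ Smoothing.singularIdeal R B := fun j => by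
    rw [← ha]; exact Submodule.subset_span ⟨j, rfl⟩
  have h1 : (1 : Λ) ∈ (Smoothing.singularIdeal R B).map h := by
    have := Ideal.radical_eq_top.mp htop
    rw [this]; trivial
  have h2 : Ideal.map h (Smoothing.singularIdeal R B) =
      Ideal.span (Set.range fun j => h (a j)) := by
    rw [← ha]
    show Ideal.map h (Ideal.span (Set.range a)) = _
    rw [Ideal.map_span]
    congr 1
    ext x
    simp
  rw [h2] at h1
  obtain ⟨lam, hlam⟩ := (Ideal.mem_span_range_iff_exists_fun).mp h1
  letI : Algebra B Λ := h.toRingHom.toAlgebra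
  haveI : IsScalarTower R B Λ := IsScalarTower.of_algebraMap_eq fun x => (h.commutes x).symm
  let G₀ : MvPolynomial (Fin r) B →ₐ[B] Λ := MvPolynomial.aeval lam
  have hG₀ : ∀ x ∈ Ideal.span {(∑ j, X j * C (a j) - 1 : MvPolynomial (Fin r) B)}, G₀ x = 0 := by
    intro x hx
    have hle : Ideal.span {(∑ j, X j * C (a j) - 1 : MvPolynomial (Fin r) B)} ≤
        RingHom.ker G₀.toRingHom := by
      rw [Ideal.span_le, Set.singleton_subset_iff]
      show G₀ _ = 0
      rw [map_sub, map_one, map_sum, sub_eq_zero, ← hlam]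
      refine Finset.sum_congr rfl fun j _ => ?_
      rw [map_mul, MvPolynomial.aeval_X, MvPolynomial.aeval_C]
      rfl
    exact hle hx
  let G : UC a →ₐ[B] Λ := Ideal.Quotient.liftₐ _ G₀ hG₀
  haveI : Algebra.FinitePresentation R (UC a) := Algebra.FinitePresentation.trans R B (UC a)
  have hmem : ∀ j, algebraMap B (UC a) (a j) ∈ Smoothing.singularIdeal R (UC a) := by
    intro j
    apply mem_singularIdeal_of_smooth_away (a j) (haH j)
    haveI : Algebra.FormallySmooth (UC a) (Localization.Away (algebraMap B (UC a) (a j))) :=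
      Algebra.FormallySmooth.of_isLocalization (Submonoid.powers (algebraMap B (UC a) (a j)))
    exact Algebra.FormallySmooth.comp B (UC a) _
  have htop' : Smoothing.singularIdeal R (UC a) = ⊤ := by
    rw [Ideal.eq_top_iff_one, ← UC_rel a]
    exact Ideal.sum_mem _ fun j _ => Ideal.mul_mem_left _ _ (hmem j)
  refine ⟨UC a, inferInstance, inferInstance, smooth_of_singularIdeal_eq_top htop',
    IsScalarTower.toAlgHom R B (UC a), G.restrictScalars R, ?_⟩
  ext x
  show G (algebraMap B (UC a) x) = h x
  rw [AlgHom.commutes]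
  rfl

end Groth.Agent.H3.Pop
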