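import Groth.Agent.H3.Pop1

/-!
# Popescu assembly, part 2: local resolutions at minimal primes give ind-smoothness
-/

set_option autoImplicit false
set_option linter.unusedSimpArgs false
set_option linter.unusedVariables false
set_option linter.style.haveILetI false
universe u

namespace Groth.Agent.H3.Pop

/-- Noetherian induction on the extended singular radical. -/
theorem indSmooth_of_resolvable {R Λ : Type u} [CommRing R] [IsNoetherianRing R] [CommRing Λ]
    [Algebra R Λ] [IsNoetherianRing Λ]
    (hres : ∀ (A : Type u) [CommRing A] [Algebra R A] [Algebra.FinitePresentation R A]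
      (φ : A →ₐ[R] Λ) (q : Ideal Λ) [q.IsPrime],
      q ∈ (Smoothing.singRad R φ).minimalPrimes → Smoothing.Resolvable R φ q) :
    Smoothing.IndSmooth R Λ := by
  have key : ∀ J : Ideal Λ, ∀ (A : Type u) [CommRing A] [Algebra R A]
      [Algebra.FinitePresentation R A] (φ : A →ₐ[R] Λ), Smoothing.singRad R φ = J →
      ∃ (B : Type u) (_ : CommRing B) (_ : Algebra R B), Algebra.Smooth R B ∧
        ∃ (g : A →ₐ[R] B) (h : B →ₐ[R] Λ), h.comp g = φ := by
    intro J
    induction J using IsNoetherian.induction with | hgt J ih =>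
    intro A _ _ _ φ hJ
    by_cases htop : J = ⊤
    · exact exists_smooth_factor φ (hJ.trans htop)
    · obtain ⟨⟨q, hq⟩⟩ := Ideal.nonempty_minimalPrimes htop
      haveI : q.IsPrime := hq.1.1
      obtain ⟨B, _, _, hBfp, g, h, hgh, hle, hnq⟩ := hres A φ q (by rw [hJ]; exact hq)
      haveI := hBfp
      have hlt : J < Smoothing.singRad R h := by
        refine lt_of_le_of_ne (hJ ▸ hle) ?_
        intro heq
        apply hnq
        rw [← heq]
        exact hq.1.2
      obtain ⟨B', _, _, hsm, g', h', hg'h'⟩ := ih _ hlt B h rfl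
      refine ⟨B', inferInstance, inferInstance, hsm, g'.comp g, h', ?_⟩
      rw [← AlgHom.comp_assoc, hg'h', hgh]
  intro A _ _ hfp f
  haveI := hfp
  exact key _ A f rfl

end Groth.Agent.H3.Pop
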