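import Groth.Agent.H3.Pop2
import Groth.Agent.S6823
import Groth.Agent.H44.MacLaneAll
import Groth.Prelude.Def_Found

/-!
# Popescu assembly, part 3: the field case, given the inseparable local resolution
-/

set_option autoImplicit false
set_option linter.unusedSimpArgs false
set_option linter.unusedVariables false
set_option linter.style.haveILetI false
universe u

namespace Groth.Agent.H3.Pop

open TensorProduct

/-- The statement of the inseparable-residue-field local resolution (S6824), as a hypothesis. -/
def Hyp6824 : Prop :=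
  ∀ {k A Λ : Type u} [Field k] (p : ℕ) [Fact p.Prime]
    [CharP k p] [CommRing A] [Algebra k A] [Algebra.FinitePresentation k A] [CommRing Λ] [Algebra k Λ]
    [IsNoetherianRing Λ] (hreg : CAlg.IsGeometricallyRegular k Λ) (φ : A →ₐ[k] Λ) (𝔮 : Ideal Λ)
    [𝔮.IsPrime] (hmin : 𝔮 ∈ (Smoothing.singRad k φ).minimalPrimes), Smoothing.Resolvable k φ 𝔮

theorem isRegularRing_of_isGeometricallyRegular {k Λ : Type u} [Field k] [CommRing Λ] [Algebra k Λ]
    (hreg : CAlg.IsGeometricallyRegular k Λ) : IsRegularRing Λ := by
  haveI : IsRegularRing (k ⊗[k] Λ) := hreg k inferInstance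
  exact IsRegularRing.of_ringEquiv (Algebra.TensorProduct.lid k Λ).toRingEquiv

/-- **Popescu over a field.** -/
theorem indSmooth_field (H : Hyp6824.{u}) {k Λ : Type u} [Field k] [CommRing Λ] [Algebra k Λ]
    [IsNoetherianRing Λ] (hreg : CAlg.IsGeometricallyRegular k Λ) : Smoothing.IndSmooth k Λ := by
  apply indSmooth_of_resolvable
  intro A _ _ _ φ q _ hq
  obtain ⟨p, hp⟩ := CharP.exists k
  rcases CharP.char_is_prime_or_zero k p with hpp | hp0
  · haveI : Fact p.Prime := ⟨hpp⟩
    exact H p hreg φ q hq
  · subst hp0
    haveI : CharZero k := CharP.charP_to_charZero k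
    haveI : IsRegularRing Λ := isRegularRing_of_isGeometricallyRegular hreg
    haveI : Algebra.IsGeometricallyReduced k q.ResidueField :=
      Groth.Agent.H44.MacLane.isGeometricallyReduced_of_perfectField
    exact Groth.Agent.S6823.result φ q hq

end Groth.Agent.H3.Pop
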