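import Groth.Agent.H3.Pop3
import Groth.Agent.H3.Sep8
import Groth.Agent.H3.Jac5
import Groth.Agent.S2024
import Groth.Agent.S2028
import Groth.Agent.H44.ResStep2

/-!
# Popescu assembly, part 4: the core of the reduction to fields (lifting + desingularization)
-/

set_option autoImplicit false
set_option linter.unusedSimpArgs false
set_option linter.unusedVariables false
set_option linter.style.haveILetI false
universe u

namespace Groth.Agent.H3.Pop

open TensorProduct Groth.Agent.H3.Sep

theorem ann_of_isReduced {R : Type u} [CommRing R] [IsReduced R] (π : R) :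
    ∀ r : R, π ^ 2 * r = 0 → π * r = 0 := by
  intro r h
  have h2 : (π * r) ^ 2 = 0 := by
    have : (π * r) ^ 2 = π ^ 2 * r * r := by ring
    rw [this, h, zero_mul]
  exact pow_eq_zero_iff (two_ne_zero) |>.mp h2

theorem ann_of_flat_of_isReduced {R Λ : Type u} [CommRing R] [IsReduced R] [CommRing Λ]
    [Algebra R Λ] [Module.Flat R Λ] (π : R) :
    ∀ x : Λ, π ^ 2 • x = 0 → π • x = 0 := by
  intro x h
  obtain ⟨k, a, y, hx, ha⟩ := Module.Flat.isTrivialRelation_of_sum_smul_eq_zero (R := R) (M := Λ)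
    (ι := Unit) (f := fun _ => π ^ 2) (x := fun _ => x) (by
      simp only [Finset.univ_unique, Finset.sum_singleton]; exact h)
  have hx' : x = ∑ j, a () j • y j := hx ()
  have ha' : ∀ j, π * a () j = 0 := by
    intro j
    have := ha j
    simp only [Finset.univ_unique, Finset.sum_singleton] at this
    exact ann_of_isReduced π _ this
  rw [hx', Finset.smul_sum]
  refine Finset.sum_eq_zero fun j _ => ?_
  rw [smul_smul, ha' j, zero_smul]

theorem smooth_of_forall_isSmoothAt {R D : Type u} [CommRing R] [CommRing D] [Algebra R D]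
    [Algebra.FinitePresentation R D]
    (h : ∀ (Q : Ideal D) [Q.IsPrime], Algebra.IsSmoothAt R Q) : Algebra.Smooth R D := by
  apply smooth_of_singularIdeal_eq_top
  unfold Smoothing.singularIdeal
  have : (Algebra.smoothLocus R D)ᶜ = ∅ := by
    rw [Set.compl_empty_iff, Set.eq_univ_iff_forall]
    intro x
    exact h x.asIdeal
  rw [this, PrimeSpectrum.vanishingIdeal_empty]

theorem isSmoothAt_congr {R D : Type u} [CommRing R] [CommRing D] [Algebra R D] {Q Q' : Ideal D}
    [hQ : Q.IsPrime] [hQ' : Q'.IsPrime] (e : Q = Q') (h : Algebra.IsSmoothAt R Q) :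
    Algebra.IsSmoothAt R Q' := by
  subst e; exact h

theorem finitePresentation_of_marked {R A : Type u} [CommRing R] [CommRing A] [Algebra R A]
    (P : Smoothing.MarkedPresentation R A) : Algebra.FinitePresentation R A := by
  refine Algebra.FinitePresentation.of_surjective P.surj ?_
  rw [P.ker_eq]
  exact Submodule.fg_span (Set.finite_range _)

/-- Core step: if `π` is strictly standard in `B` and the problem is solved modulo `π⁸`,
then `B → Λ` factors through a smooth algebra. -/
theorem step_core {R Λ B : Type u} [CommRing R] [IsNoetherianRing R] [IsReduced R] [CommRing Λ]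
    [Algebra R Λ] [Module.Flat R Λ] [CommRing B] [Algebra R B] [Algebra.FinitePresentation R B]
    (β : B →ₐ[R] Λ) (π : R) (hstd : Smoothing.IsStrictlyStandard R B (algebraMap R B π))
    (hind : Smoothing.IndSmooth (R ⧸ Ideal.span {(π ^ 4) ^ 2})
      (Λ ⧸ (Ideal.span {(π ^ 4) ^ 2}).map (algebraMap R Λ))) :
    ∃ (B₂ : Type u) (_ : CommRing B₂) (_ : Algebra R B₂), Algebra.Smooth R B₂ ∧
      ∃ (g : B →ₐ[R] B₂) (h : B₂ →ₐ[R] Λ), h.comp g = β := by
  classical
  obtain ⟨π4, hπ4⟩ : ∃ π4 : R, π4 = π ^ 4 := ⟨_, rfl⟩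
  rw [← hπ4] at hind
  obtain ⟨J, hJ⟩ : ∃ J : Ideal R, J = Ideal.span {π4 ^ 2} := ⟨_, rfl⟩
  -- step 6: solve modulo `J`
  haveI : Algebra.FinitePresentation (R ⧸ Ideal.span {π4 ^ 2})
      (B ⧸ (Ideal.span {π4 ^ 2}).map (algebraMap R B)) :=
    Groth.Agent.H44.ResStep2.finitePresentation_quot _
  obtain ⟨Cb, _, _, hCsm, gb, hb, hgb⟩ := hind _ inferInstance (quotMapK β (Ideal.span {π4 ^ 2}))
  haveI := hCsm
  -- step 7: lift along `π4`
  letI : Algebra R Cb :=
    ((algebraMap (R ⧸ Ideal.span {π4 ^ 2}) Cb).comp (Ideal.Quotient.mk _)).toAlgebra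
  haveI : IsScalarTower R (R ⧸ Ideal.span {π4 ^ 2}) Cb :=
    IsScalarTower.of_algebraMap_eq fun _ => rfl
  haveI : Algebra.FinitePresentation (R ⧸ Ideal.span {π4 ^ 2}) Cb :=
    Algebra.Smooth.finitePresentation
  have hmapJ : (Ideal.span {π4 ^ 2}).map (algebraMap R Λ) =
      Ideal.span {algebraMap R Λ (π4 ^ 2)} := by
    rw [Ideal.map_span, Set.image_singleton]
  let gC : Cb →ₐ[R] Λ ⧸ Ideal.span {algebraMap R Λ (π4 ^ 2)} :=
    ((Ideal.quotientEquivAlgOfEq R hmapJ).toAlgHom).comp (hb.restrictScalars R)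
  obtain ⟨D, _, _, hDfp, δ, ψ, hcompat, hsm1, hsm2⟩ :=
    Groth.Agent.S2024.result (R := R) (Λ := Λ) (C := Cb) π4 (ann_of_isReduced π4)
      (ann_of_flat_of_isReduced π4) gC
  haveI := hDfp
  have hDsm : Algebra.Smooth R D := by
    apply smooth_of_forall_isSmoothAt
    intro Q _
    by_cases hQ : algebraMap R D π4 ∈ Q
    · have hker : Ideal.span {algebraMap R D π4} ≤ Q := by
        rw [Ideal.span_le, Set.singleton_subset_iff]; exact hQ
      have hQ' : (Q.map (Ideal.Quotient.mk (Ideal.span {algebraMap R D π4}))).IsPrime :=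
        Ideal.map_isPrime_of_surjective Ideal.Quotient.mk_surjective (by rwa [Ideal.mk_ker])
      have hcomap : (Q.map (Ideal.Quotient.mk (Ideal.span {algebraMap R D π4}))).comap
          (Ideal.Quotient.mk (Ideal.span {algebraMap R D π4})) = Q := by
        rw [Ideal.comap_map_of_surjective _ Ideal.Quotient.mk_surjective, ← RingHom.ker_eq_comap_bot,
          Ideal.mk_ker, sup_eq_left.mpr hker]
      have h3 := hsm2 (Q.map (Ideal.Quotient.mk (Ideal.span {algebraMap R D π4}))) (by
        show Algebra.FormallySmooth _ _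
        haveI : Algebra.FormallySmooth (R ⧸ Ideal.span {π4 ^ 2}) Cb := Algebra.Smooth.formallySmooth
        haveI : Algebra.FormallySmooth Cb (Localization.AtPrime
            ((Q.map (Ideal.Quotient.mk (Ideal.span {algebraMap R D π4}))).comap ψ)) :=
          Algebra.FormallySmooth.of_isLocalization
            ((Q.map (Ideal.Quotient.mk (Ideal.span {algebraMap R D π4}))).comap ψ).primeCompl
        exact Algebra.FormallySmooth.comp _ Cb _)
      exact isSmoothAt_congr hcomap h3
    · exact hsm1 Q hQ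
  -- step 8: desingularize
  subst hπ4
  let ψ' : B →ₐ[R] D ⧸ Ideal.span {algebraMap R D (π ^ 4)} :=
    ψ.comp ((gb.restrictScalars R).comp
      (Ideal.Quotient.mkₐ R ((Ideal.span {(π ^ 4) ^ 2}).map (algebraMap R B))))
  have hψ' : ∀ (a : B) (d : D),
      Ideal.Quotient.mk (Ideal.span {algebraMap R D (π ^ 4)}) d = ψ' a →
      δ d - β a ∈ Ideal.span {algebraMap R Λ (π ^ 4)} := by
    intro a d hd
    refine hcompat (gb (Ideal.Quotient.mk _ a)) d (β a) hd ?_
    show _ = (Ideal.quotientEquivAlgOfEq R hmapJ) (hb (gb (Ideal.Quotient.mk _ a)))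
    have e1 : hb (gb (Ideal.Quotient.mk _ a)) = Ideal.Quotient.mk _ (β a) := by
      have := AlgHom.congr_fun hgb (Ideal.Quotient.mk _ a)
      exact this
    rw [e1]
    rfl
  obtain ⟨B₂, _, _, _, _, hB₂fp, α₂, β₂, hαβ, -, -, hsing⟩ :=
    Groth.Agent.S2028.result (R := R) (Λ := Λ) (A := B) (D := D) π (ann_of_isReduced π)
      (ann_of_flat_of_isReduced π) β δ hstd ψ' hψ'
  haveI := hB₂fp
  have htop : Smoothing.singularIdeal R B₂ = ⊤ := by
    rw [eq_top_iff]
    refine le_trans ?_ hsing
    rw [singularIdeal_eq_top (R := R) (B := D), Ideal.map_top]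
  exact ⟨B₂, inferInstance, inferInstance, smooth_of_singularIdeal_eq_top htop, α₂, β₂, hαβ⟩

end Groth.Agent.H3.Pop
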