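import Groth.Agent.H3.Pop4
import Groth.Agent.S2022
import Groth.Agent.S2029

/-!
# Popescu assembly, part 5: the inductive step (reduction to a field at a minimal prime)
-/

set_option autoImplicit false
set_option linter.unusedSimpArgs false
set_option linter.unusedVariables false
set_option linter.style.haveILetI false
universe u

namespace Groth.Agent.H3.Pop

open TensorProduct Groth.Agent.H3.Sep

/-- The localization of a reduced ring at a minimal prime is a field. -/
theorem maximalIdeal_localization_eq_bot {R : Type u} [CommRing R] [IsReduced R] (p : Ideal R)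
    [p.IsPrime] (hp : p ∈ minimalPrimes R) :
    IsLocalRing.maximalIdeal (Localization.AtPrime p) = ⊥ := by
  haveI : IsReduced (Localization.AtPrime p) := inferInstance
  have h1 : nilradical (Localization.AtPrime p) = ⊥ := nilradical_eq_bot_iff.mpr inferInstance
  rw [← h1, nilradical_eq_sInf]
  apply le_antisymm
  · apply le_sInf
    intro J hJ
    haveI : J.IsPrime := hJ
    have h2 : J.comap (algebraMap R (Localization.AtPrime p)) ≤ p := by
      have := IsLocalRing.le_maximalIdeal (Ideal.IsPrime.ne_top hJ)
      have h3 := Ideal.comap_mono (f := algebraMap R (Localization.AtPrime p)) this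
      have h6 : (IsLocalRing.maximalIdeal (Localization.AtPrime p)).comap
          (algebraMap R (Localization.AtPrime p)) = p :=
        Localization.AtPrime.under_maximalIdeal
      rwa [h6] at h3
    have h4 : p ≤ J.comap (algebraMap R (Localization.AtPrime p)) :=
      hp.2 ⟨Ideal.IsPrime.comap _, bot_le⟩ h2
    have h7 : p.map (algebraMap R (Localization.AtPrime p)) ≤ J :=
      Ideal.map_le_iff_le_comap.mpr h4
    have h8 : p.map (algebraMap R (Localization.AtPrime p)) =
        IsLocalRing.maximalIdeal (Localization.AtPrime p) :=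
      Localization.AtPrime.map_eq_maximalIdeal
    rwa [h8] at h7
  · exact sInf_le (IsLocalRing.maximalIdeal.isMaximal _).isPrime

theorem isLocalization_residueField {R : Type u} [CommRing R] [IsReduced R] (p : Ideal R)
    [p.IsPrime] (hp : p ∈ minimalPrimes R) : IsLocalization p.primeCompl p.ResidueField := by
  have hbot := maximalIdeal_localization_eq_bot p hp
  have hinj : Function.Injective
      (IsScalarTower.toAlgHom R (Localization.AtPrime p) p.ResidueField) := by
    rw [injective_iff_map_eq_zero]
    intro x hx
    have : x ∈ IsLocalRing.maximalIdeal (Localization.AtPrime p) :=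
      (IsLocalRing.residue_eq_zero_iff x).mp hx
    rwa [hbot, Ideal.mem_bot] at this
  have hsurj : Function.Surjective
      (IsScalarTower.toAlgHom R (Localization.AtPrime p) p.ResidueField) :=
    IsLocalRing.residue_surjective
  exact IsLocalization.isLocalization_of_algEquiv p.primeCompl
    (AlgEquiv.ofBijective _ ⟨hinj, hsurj⟩)

theorem indSmooth_of_subsingleton {R Λ : Type u} [CommRing R] [CommRing Λ] [Algebra R Λ]
    [Subsingleton R] : Smoothing.IndSmooth R Λ := by
  intro A _ _ hfp f
  haveI := hfp
  haveI : Subsingleton A := by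
    refine ⟨fun a b => ?_⟩
    have h1 : (1 : A) = 0 := by
      rw [← map_one (algebraMap R A), Subsingleton.elim (1 : R) 0, map_zero]
    rw [← mul_one a, ← mul_one b, h1, mul_zero, mul_zero]
  have hbij : Function.Bijective (Algebra.ofId R A) :=
    ⟨Function.injective_of_subsingleton _, fun a => ⟨0, Subsingleton.elim _ _⟩⟩
  haveI : Algebra.Smooth R A := Algebra.Smooth.of_equiv (AlgEquiv.ofBijective _ hbij)
  exact ⟨A, inferInstance, inferInstance, inferInstance, AlgHom.id R A, f, AlgHom.comp_id f⟩

/-- **The inductive step.** -/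
theorem step (H : Hyp6824.{u}) {R Λ : Type u} [CommRing R] [IsNoetherianRing R] [CommRing Λ]
    [Algebra R Λ] (hreg : CAlg.IsRegularHom R Λ)
    (hquot : ∀ J : Ideal R, J ≠ ⊥ →
      Smoothing.IndSmooth (R ⧸ J) (Λ ⧸ J.map (algebraMap R Λ))) :
    Smoothing.IndSmooth R Λ := by
  classical
  haveI : Module.Flat R Λ := hreg.1
  by_cases hnil : nilradical R = ⊥
  · haveI : IsReduced R := nilradical_eq_bot_iff.mp hnil
    rcases subsingleton_or_nontrivial R with hsub | hnt
    · exact indSmooth_of_subsingleton
    · obtain ⟨⟨p, hp⟩⟩ := Ideal.nonempty_minimalPrimes (bot_ne_top (α := Ideal R))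
      haveI : p.IsPrime := hp.1.1
      have hp' : p ∈ minimalPrimes R := hp
      haveI hloc : IsLocalization p.primeCompl p.ResidueField := isLocalization_residueField p hp'
      haveI : IsNoetherianRing (p.Fiber Λ) := (hreg.2 p).1
      have hk : Smoothing.IndSmooth p.ResidueField (p.ResidueField ⊗[R] Λ) :=
        indSmooth_field H (hreg.2 p).2
      intro A _ _ hfp φ
      haveI := hfp
      obtain ⟨B', _, _, hB'sm, g, h, hgh⟩ := hk (p.ResidueField ⊗[R] A) inferInstance
        (Algebra.TensorProduct.map (AlgHom.id p.ResidueField p.ResidueField) φ)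
      haveI := hB'sm
      obtain ⟨B, _, _, α, β, hαβ, s, hs, hel⟩ :=
        Groth.Agent.S2029.result φ p.primeCompl g h hgh
      obtain ⟨P, hP⟩ := id hel
      haveI : Algebra.FinitePresentation R B := finitePresentation_of_marked P
      have hstd := Groth.Agent.H3.Jac.strictly_of_elementary _ hel
      have hJ : Ideal.span {(s ^ 4) ^ 2} ≠ (⊥ : Ideal R) := by
        intro h0
        have h1 : (s ^ 4) ^ 2 = 0 := by
          have : (s ^ 4) ^ 2 ∈ (⊥ : Ideal R) := by
            rw [← h0]; exact Ideal.subset_span rfl
          simpa using this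
        have h2 : (s ^ 4) ^ 2 ∈ p := by rw [h1]; exact p.zero_mem
        exact hs (Ideal.IsPrime.mem_of_pow_mem inferInstance _
          (Ideal.IsPrime.mem_of_pow_mem inferInstance _ h2))
      obtain ⟨B₂, _, _, hsm, g₂, h₂, e⟩ := step_core β s hstd (hquot _ hJ)
      refine ⟨B₂, inferInstance, inferInstance, hsm, g₂.comp α, h₂, ?_⟩
      rw [← AlgHom.comp_assoc, e, hαβ]
  · exact Groth.Agent.S2022.result (nilradical R) (IsNoetherianRing.isNilpotent_nilradical R)
      (hquot _ hnil)

end Groth.Agent.H3.Pop
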