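import Groth.Agent.H3.Pop5
import Groth.Agent.H34.FibBC
import Groth.Agent.H44.ResStep2
import Groth.Agent.H44.RegEnd

/-!
# Popescu assembly, part 6: Noetherian induction (conditional on the inseparable field case)
-/

set_option autoImplicit false
set_option linter.unusedSimpArgs false
set_option linter.unusedVariables false
set_option linter.style.haveILetI false
universe u

namespace Groth.Agent.H3.Pop

open TensorProduct

/-- Regular homomorphisms pass to quotients of the base. -/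
theorem isRegularHom_quot {R Λ : Type u} [CommRing R] [CommRing Λ] [IsNoetherianRing Λ]
    [Algebra R Λ] (hreg : CAlg.IsRegularHom R Λ) (I : Ideal R) :
    CAlg.IsRegularHom (R ⧸ I) (Λ ⧸ I.map (algebraMap R Λ)) :=
  Groth.Agent.H34.FibBC.isRegularHom_baseChange R Λ (R ⧸ I) (Λ ⧸ I.map (algebraMap R Λ))
    (RingHom.surjectiveOnStalks_of_surjective (f := algebraMap R (R ⧸ I))
      Ideal.Quotient.mk_surjective)
    (Groth.Agent.H44.ResStep2.tensorQuotEquiv (A := Λ) I) hreg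

/-- Abstract transport of ind-smoothness to a quotient of a quotient. -/
theorem indSmooth_doubleQuot_abstract {R Λ R₁ Λ₁ : Type u} [CommRing R] [CommRing Λ]
    [Algebra R Λ] [CommRing R₁] [CommRing Λ₁] [Algebra R₁ Λ₁]
    (q : R →+* R₁) (hq : Function.Surjective q) (qΛ : Λ →+* Λ₁) (hqΛ : Function.Surjective qΛ)
    (hcomm : ∀ r, qΛ (algebraMap R Λ r) = algebraMap R₁ Λ₁ (q r))
    (hker : RingHom.ker qΛ = (RingHom.ker q).map (algebraMap R Λ))
    (J' : Ideal R₁)
    (h : Smoothing.IndSmooth (R ⧸ J'.comap q) (Λ ⧸ (J'.comap q).map (algebraMap R Λ))) :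
    Smoothing.IndSmooth (R₁ ⧸ J') (Λ₁ ⧸ J'.map (algebraMap R₁ Λ₁)) := by
  have hcomm' : qΛ.comp (algebraMap R Λ) = (algebraMap R₁ Λ₁).comp q := RingHom.ext hcomm
  have hmap : J'.map (algebraMap R₁ Λ₁) = ((J'.comap q).map (algebraMap R Λ)).map qΛ := by
    conv_lhs => rw [← Ideal.map_comap_of_surjective q hq J']
    rw [Ideal.map_map, Ideal.map_map, hcomm']
  have hle : (J'.comap q).map (algebraMap R Λ) ≤ (J'.map (algebraMap R₁ Λ₁)).comap qΛ := by
    rw [hmap]
    exact Ideal.le_comap_map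
  have hge : (J'.map (algebraMap R₁ Λ₁)).comap qΛ ≤ (J'.comap q).map (algebraMap R Λ) := by
    rw [hmap, Ideal.comap_map_of_surjective qΛ hqΛ]
    refine sup_le le_rfl ?_
    have : Ideal.comap qΛ ⊥ = RingHom.ker qΛ := rfl
    rw [this, hker]
    apply Ideal.map_mono
    intro x hx
    rw [Ideal.mem_comap]
    rw [RingHom.mem_ker] at hx
    rw [hx]
    exact J'.zero_mem
  let e : (R ⧸ J'.comap q) ≃+* (R₁ ⧸ J') :=
    RingEquiv.ofBijective (Ideal.quotientMap J' q le_rfl)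
      ⟨Ideal.quotientMap_injective, Ideal.quotientMap_surjective hq⟩
  let eΛ : (Λ ⧸ (J'.comap q).map (algebraMap R Λ)) ≃+* (Λ₁ ⧸ J'.map (algebraMap R₁ Λ₁)) :=
    RingEquiv.ofBijective (Ideal.quotientMap (J'.map (algebraMap R₁ Λ₁)) qΛ hle)
      ⟨Ideal.quotientMap_injective' hge, Ideal.quotientMap_surjective hqΛ⟩
  refine Groth.Agent.H44.RegEnd.indSmooth_of_equiv e eΛ ?_ h
  intro r
  obtain ⟨r, rfl⟩ := Ideal.Quotient.mk_surjective r
  show Ideal.quotientMap (J'.map (algebraMap R₁ Λ₁)) qΛ hle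
      (algebraMap (R ⧸ J'.comap q) (Λ ⧸ (J'.comap q).map (algebraMap R Λ))
        (Ideal.Quotient.mk _ r)) =
    algebraMap (R₁ ⧸ J') (Λ₁ ⧸ J'.map (algebraMap R₁ Λ₁))
      (Ideal.quotientMap J' q le_rfl (Ideal.Quotient.mk _ r))
  rw [Ideal.quotientMap_mk]
  have h1 : algebraMap (R ⧸ J'.comap q) (Λ ⧸ (J'.comap q).map (algebraMap R Λ))
      (Ideal.Quotient.mk _ r) = Ideal.Quotient.mk _ (algebraMap R Λ r) := rfl
  have h2 : algebraMap (R₁ ⧸ J') (Λ₁ ⧸ J'.map (algebraMap R₁ Λ₁))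
      (Ideal.Quotient.mk _ (q r)) = Ideal.Quotient.mk _ (algebraMap R₁ Λ₁ (q r)) := rfl
  rw [h1, h2, Ideal.quotientMap_mk, hcomm]

/-- Ind-smoothness for all quotients, by Noetherian induction. -/
theorem indSmooth_quot_all (H : Hyp6824.{u}) {R Λ : Type u} [CommRing R] [IsNoetherianRing R]
    [CommRing Λ] [IsNoetherianRing Λ] [Algebra R Λ] (hreg : CAlg.IsRegularHom R Λ)
    (I : Ideal R) : Smoothing.IndSmooth (R ⧸ I) (Λ ⧸ I.map (algebraMap R Λ)) := by
  refine IsNoetherian.induction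
    (P := fun I : Ideal R => Smoothing.IndSmooth (R ⧸ I) (Λ ⧸ I.map (algebraMap R Λ))) ?_ I
  intro I ih
  apply step H (isRegularHom_quot hreg I)
  intro J' hJ'
  have hlt : I < J'.comap (Ideal.Quotient.mk I) := by
    refine lt_of_le_of_ne ?_ ?_
    · intro x hx
      rw [Ideal.mem_comap, Ideal.Quotient.eq_zero_iff_mem.mpr hx]
      exact J'.zero_mem
    · intro heq
      apply hJ'
      rw [← Ideal.map_comap_of_surjective (Ideal.Quotient.mk I) Ideal.Quotient.mk_surjective J',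
        ← heq, Ideal.map_quotient_self]
  have hP := ih _ hlt
  refine indSmooth_doubleQuot_abstract (R := R) (Λ := Λ) (R₁ := R ⧸ I)
    (Λ₁ := Λ ⧸ Ideal.map (algebraMap R Λ) I) (Ideal.Quotient.mk I) Ideal.Quotient.mk_surjective
    (Ideal.Quotient.mk (Ideal.map (algebraMap R Λ) I)) Ideal.Quotient.mk_surjective
    (fun r => rfl) ?_ J' hP
  rw [Ideal.mk_ker, Ideal.mk_ker]

/-- **Popescu's theorem**, conditional on the inseparable field case `Hyp6824`. -/
theorem main (H : Hyp6824.{u}) {R Λ : Type u} [CommRing R] [IsNoetherianRing R]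
    [CommRing Λ] [IsNoetherianRing Λ] [Algebra R Λ] (hreg : CAlg.IsRegularHom R Λ) :
    Smoothing.IndSmooth R Λ := by
  have h0 := indSmooth_quot_all H hreg ⊥
  let e : (R ⧸ (⊥ : Ideal R)) ≃+* R := RingEquiv.quotientBot R
  let eΛ : (Λ ⧸ (⊥ : Ideal R).map (algebraMap R Λ)) ≃+* Λ :=
    (Ideal.quotEquivOfEq (Ideal.map_bot)).trans (RingEquiv.quotientBot Λ)
  refine Groth.Agent.H44.RegEnd.indSmooth_of_equiv e eΛ ?_ h0
  intro r
  obtain ⟨r, rfl⟩ := Ideal.Quotient.mk_surjective r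
  rfl

end Groth.Agent.H3.Pop
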