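import Mathlib.RingTheory.Nakayama
import Mathlib.RingTheory.OrzechProperty
import Mathlib.RingTheory.FiniteType
import Mathlib.Algebra.Module.Projective
import Mathlib.LinearAlgebra.TensorProduct.Quotient

set_option autoImplicit false
universe u

namespace Groth.Agent.H3

open TensorProduct

variable {R : Type*} [CommRing R] (I : Ideal R)

theorem bijective_of_sub_mem_smul_top {P : Type*} [AddCommGroup P] [Module R P] [Module.Finite R P]
    (hI : I ≤ Ideal.jacobson ⊥) (θ : P →ₗ[R] P)
    (h : ∀ p, θ p - p ∈ (I • ⊤ : Submodule R P)) : Function.Bijective θ := by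
  have hs : Function.Surjective θ := by
    rw [← LinearMap.range_eq_top, eq_top_iff]
    apply Submodule.le_of_le_smul_of_le_jacobson_bot Module.Finite.fg_top hI
    intro p _
    have : p = θ p - (θ p - p) := by abel
    rw [this]
    exact Submodule.sub_mem _ (Submodule.mem_sup_left (LinearMap.mem_range_self θ p))
      (Submodule.mem_sup_right (h p))
  exact OrzechProperty.bijective_of_surjective_endomorphism θ hs

theorem nonempty_linearEquiv_of_quotient_equiv {P₁ P₂ : Type*} [AddCommGroup P₁] [Module R P₁]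
    [AddCommGroup P₂] [Module R P₂] [Module.Finite R P₁] [Module.Projective R P₁]
    [Module.Finite R P₂] [Module.Projective R P₂] (hI : I ≤ Ideal.jacobson ⊥)
    (e : (P₁ ⧸ (I • ⊤ : Submodule R P₁)) ≃ₗ[R] (P₂ ⧸ (I • ⊤ : Submodule R P₂))) :
    Nonempty (P₁ ≃ₗ[R] P₂) := by
  obtain ⟨φ, hφ⟩ := Module.projective_lifting_property (Submodule.mkQ (I • ⊤ : Submodule R P₂))
    (e.toLinearMap ∘ₗ Submodule.mkQ (I • ⊤ : Submodule R P₁)) (Submodule.mkQ_surjective _)
  obtain ⟨ψ, hψ⟩ := Module.projective_lifting_property (Submodule.mkQ (I • ⊤ : Submodule R P₁))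
    (e.symm.toLinearMap ∘ₗ Submodule.mkQ (I • ⊤ : Submodule R P₂)) (Submodule.mkQ_surjective _)
  have hφ' : ∀ p, Submodule.Quotient.mk (φ p) = e (Submodule.Quotient.mk p) := fun p =>
    LinearMap.congr_fun hφ p
  have hψ' : ∀ p, Submodule.Quotient.mk (ψ p) = e.symm (Submodule.Quotient.mk p) := fun p =>
    LinearMap.congr_fun hψ p
  have h1 : Function.Bijective (ψ ∘ₗ φ) := by
    apply bijective_of_sub_mem_smul_top I hI
    intro p
    rw [← Submodule.Quotient.eq, LinearMap.comp_apply, hψ', hφ', LinearEquiv.symm_apply_apply]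
  have h2 : Function.Bijective (φ ∘ₗ ψ) := by
    apply bijective_of_sub_mem_smul_top I hI
    intro p
    rw [← Submodule.Quotient.eq, LinearMap.comp_apply, hφ', hψ', LinearEquiv.apply_symm_apply]
  have hinj : Function.Injective φ := by
    have := h1.1
    rw [LinearMap.coe_comp] at this
    exact this.of_comp
  have hsurj : Function.Surjective φ := by
    have := h2.2
    rw [LinearMap.coe_comp] at this
    exact this.of_comp
  exact ⟨LinearEquiv.ofBijective φ ⟨hinj, hsurj⟩⟩

theorem nonempty_linearEquiv_of_baseChange_equiv {P₁ P₂ : Type*} [AddCommGroup P₁] [Module R P₁]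
    [AddCommGroup P₂] [Module R P₂] [Module.Finite R P₁] [Module.Projective R P₁]
    [Module.Finite R P₂] [Module.Projective R P₂] (hI : I ≤ Ideal.jacobson ⊥)
    (e : TensorProduct R (R ⧸ I) P₁ ≃ₗ[R ⧸ I] TensorProduct R (R ⧸ I) P₂) :
    Nonempty (P₁ ≃ₗ[R] P₂) := by
  apply nonempty_linearEquiv_of_quotient_equiv I hI
  exact (quotTensorEquivQuotSMul P₁ I).symm ≪≫ₗ (e.restrictScalars R) ≪≫ₗ
    (quotTensorEquivQuotSMul P₂ I)

end Groth.Agent.H3
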