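import Mathlib

set_option autoImplicit false

universe u

open HomogeneousIdeal

namespace Groth.Agent.H3.ProjQ_H1

variable {R A B : Type u} [CommRing R] [CommRing A] [Algebra R A] [CommRing B] [Algebra R B]
  {𝒜 : ℕ → Submodule R A} [GradedAlgebra 𝒜] {ℬ : ℕ → Submodule R B} [GradedAlgebra ℬ]

/-- The kernel of a graded ring homomorphism is a homogeneous ideal. -/
theorem isHomogeneous_ker (φ : 𝒜 →+*ᵍ ℬ) : (RingHom.ker φ.toRingHom).IsHomogeneous 𝒜 := by
  intro i a ha
  rw [RingHom.mem_ker] at ha ⊢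
  have h := GradedRingHom.map_directSumDecompose 𝒜 ℬ φ (x := a) (i := i)
  rw [GradedRingHom.coe_toRingHom, h]
  have ha' : φ a = 0 := ha
  rw [ha', DirectSum.decompose_zero]
  rfl

end Groth.Agent.H3.ProjQ_H1
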