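import Mathlib

set_option autoImplicit false

universe u

open HomogeneousIdeal

namespace Groth.Agent.H3.ProjQ_H2

variable {R A B : Type u} [CommRing R] [CommRing A] [Algebra R A] [CommRing B] [Algebra R B]
  {𝒜 : ℕ → Submodule R A} [GradedAlgebra 𝒜] {ℬ : ℕ → Submodule R B} [GradedAlgebra ℬ]

/-- Two homogeneous ideals with the same homogeneous elements are equal. -/
theorem ideal_eq_of_homogeneous {I J : Ideal A} (hI : I.IsHomogeneous 𝒜) (hJ : J.IsHomogeneous 𝒜)
    (h : ∀ (d : ℕ) (a : A), a ∈ 𝒜 d → (a ∈ I ↔ a ∈ J)) : I = J := by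
  ext a
  rw [hI.mem_iff, hJ.mem_iff]
  exact forall_congr' fun d => h d _ (SetLike.coe_mem _)

end Groth.Agent.H3.ProjQ_H2
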