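import Mathlib

/-!
# `R[X]` is free over `R[X^p]` on the reduced monomials (helper3)
-/

set_option autoImplicit false

open MvPolynomial

namespace Groth.Agent.H3.RelFrob

/-- "`v` is a basis of `S` over `R` via the ring map `φ`", stated without instances. -/
def IsBasisVia {R S ι : Type*} [CommRing R] [CommRing S] [Fintype ι] (φ : R →+* S) (v : ι → S) :
    Prop :=
  (∀ c : ι → R, ∑ i, φ (c i) * v i = 0 → ∀ i, c i = 0) ∧
    ∀ s : S, ∃ c : ι → R, s = ∑ i, φ (c i) * v i

section expand

variable {σ : Type*} [Fintype σ] [DecidableEq σ] {R : Type*} [CommRing R] (p : ℕ)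

/-- the exponent vector of a reduced monomial -/
noncomputable def redExp (α : σ → Fin p) : σ →₀ ℕ :=
  Finsupp.equivFunOnFinite.symm fun i => (α i : ℕ)

@[simp] theorem redExp_apply (α : σ → Fin p) (i : σ) : redExp p α i = (α i : ℕ) := rfl

variable {p}

theorem coeff_expand_mul_monomial (hp : 0 < p) (c : MvPolynomial σ R) (α α' : σ → Fin p)
    (γ : σ →₀ ℕ) :
    coeff (p • γ + redExp p α) (expand p c * monomial (redExp p α') (1 : R)) =
      if α' = α then coeff γ c else 0 := by
  rw [coeff_mul_monomial']
  split_ifs with h1 h2 h2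
  · subst h2
    rw [add_tsub_cancel_right, coeff_expand_smul p hp.ne', mul_one]
  · -- α' ≠ α: some coordinate differs, and there divisibility fails
    obtain ⟨i, hi⟩ : ∃ i, α' i ≠ α i := by
      by_contra hcon
      push_neg at hcon
      exact h2 (funext hcon)
    rw [mul_one]
    apply coeff_expand_of_not_dvd (i := i)
    have hle : (α' i : ℕ) ≤ p * γ i + (α i : ℕ) := by
      have := h1 i
      simpa using this
    have h3 : (p • γ + redExp p α - redExp p α') i = p * γ i + (α i : ℕ) - (α' i : ℕ) := by
      simp
    rw [h3]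
    intro hdvd
    have hlt1 := (α i).2
    have hlt2 := (α' i).2
    have hne : (α' i : ℕ) ≠ (α i : ℕ) := fun h => hi (Fin.ext h)
    obtain ⟨k, hk⟩ := hdvd
    rcases Nat.lt_or_gt_of_ne hne with hlt | hlt
    · -- α' i < α i : p γ + (α - α') with 0 < α - α' < p
      have : p * γ i + ((α i : ℕ) - (α' i : ℕ)) = p * k := by omega
      have h4 : ((α i : ℕ) - (α' i : ℕ)) = p * (k - γ i) := by
        have hk' : γ i ≤ k := by
          by_contra hcon
          push_neg at hcon
          have : p * k < p * γ i := Nat.mul_lt_mul_of_pos_left hcon hp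
          omega
        rw [Nat.mul_sub]; omega
      have h5 : 0 < (α i : ℕ) - (α' i : ℕ) := by omega
      have h6 : (α i : ℕ) - (α' i : ℕ) < p := by omega
      rcases Nat.eq_zero_or_pos (k - γ i) with h0 | hpos
      · rw [h0, mul_zero] at h4; omega
      · have : p ≤ p * (k - γ i) := Nat.le_mul_of_pos_right p hpos
        omega
    · -- α i < α' i
      have h7 : p * γ i = p * k + ((α' i : ℕ) - (α i : ℕ)) := by omega
      have h5 : 0 < (α' i : ℕ) - (α i : ℕ) := by omega
      have h6 : (α' i : ℕ) - (α i : ℕ) < p := by omega
      have hk' : k ≤ γ i := by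
        by_contra hcon
        push_neg at hcon
        have : p * γ i < p * k := Nat.mul_lt_mul_of_pos_left hcon hp
        omega
      have h4 : ((α' i : ℕ) - (α i : ℕ)) = p * (γ i - k) := by
        rw [Nat.mul_sub]; omega
      rcases Nat.eq_zero_or_pos (γ i - k) with h0 | hpos
      · rw [h0, mul_zero] at h4; omega
      · have : p ≤ p * (γ i - k) := Nat.le_mul_of_pos_right p hpos
        omega
  · subst h2
    exfalso
    apply h1
    intro i
    simp
  · rfl

theorem isBasisVia_expand (hp : 0 < p) :
    IsBasisVia (expand p : MvPolynomial σ R →ₐ[R] MvPolynomial σ R).toRingHom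
      (fun α : σ → Fin p => monomial (redExp p α) (1 : R)) := by
  classical
  constructor
  · intro c hc α
    ext γ
    have h1 := congrArg (coeff (p • γ + redExp p α)) hc
    rw [coeff_sum, coeff_zero] at h1
    simp only [AlgHom.toRingHom_eq_coe, RingHom.coe_coe, coeff_expand_mul_monomial hp] at h1
    rw [Finset.sum_ite_eq' Finset.univ α] at h1
    simpa using h1
  · intro s
    induction s using MvPolynomial.induction_on' with
    | monomial β r =>
      refine ⟨fun α => if α = (fun i => (⟨β i % p, Nat.mod_lt _ hp⟩ : Fin p)) then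
        monomial (Finsupp.equivFunOnFinite.symm fun i => β i / p) r else 0, ?_⟩
      rw [Finset.sum_eq_single (fun i => (⟨β i % p, Nat.mod_lt _ hp⟩ : Fin p))]
      · beta_reduce
        rw [if_pos rfl]
        have hexp : p • (Finsupp.equivFunOnFinite.symm fun i => β i / p) +
            redExp p (fun i => (⟨β i % p, Nat.mod_lt _ hp⟩ : Fin p)) = β := by
          ext i
          show p * (β i / p) + β i % p = β i
          exact Nat.div_add_mod (β i) p
        simp only [AlgHom.toRingHom_eq_coe, RingHom.coe_coe, expand_monomial,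
          monomial_mul, mul_one]
        rw [hexp]
      · intro b _ hb
        beta_reduce
        rw [if_neg hb, map_zero, zero_mul]
      · intro h; exact absurd (Finset.mem_univ _) h
    | add f g hf hg =>
      obtain ⟨c, hc⟩ := hf
      obtain ⟨d, hd⟩ := hg
      refine ⟨fun α => c α + d α, ?_⟩
      rw [hc, hd, ← Finset.sum_add_distrib]
      refine Finset.sum_congr rfl fun α _ => ?_
      rw [map_add, add_mul]

end expand

end Groth.Agent.H3.RelFrob
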