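import Groth.Agent.H3.RelFrob9

/-!
# Flatness of the relative Frobenius of a smooth algebra, without rank hypothesis (helper3)
-/

set_option autoImplicit false

open TensorProduct MvPolynomial

namespace Groth.Agent.H3.RelFrob

universe u

section good

variable (p : ℕ) [Fact p.Prime] (A : Type u) [CommRing A] [CharP A p]
  (B : Type u) [CommRing B] [Algebra A B] [CharP B p] [Algebra.Smooth A B]

theorem exists_good' (q : Ideal B) [q.IsPrime] :
    ∃ g ∉ q, ∃ (_ : CharP (Localization.Away g) p) (ι : Type u) (_ : Fintype ι)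
      (v : ι → Localization.Away g),
      IsBasisVia (FrobAlg.relFrob p A (Localization.Away g)) v := by
  obtain ⟨g, hgq, n, _, _, _⟩ :=
    Algebra.IsSmoothAt.exists_isStandardEtale_mvPolynomial (R := A) (p := q)
  have hgn : ¬ IsNilpotent g := fun ⟨k, hk⟩ =>
    hgq (‹q.IsPrime›.mem_of_pow_mem k (hk ▸ q.zero_mem))
  haveI hchar := charP_localization_away p B g hgn
  refine ⟨g, hgq, hchar, ?_⟩
  let σ : Type u := ULift.{u} (Fin n)
  let e : MvPolynomial σ A ≃ₐ[A] MvPolynomial (Fin n) A := MvPolynomial.renameEquiv A Equiv.ulift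
  letI a1 : Algebra (MvPolynomial σ A) (MvPolynomial (Fin n) A) := e.toRingHom.toAlgebra
  letI a2 : Algebra (MvPolynomial σ A) (Localization.Away g) :=
    ((algebraMap (MvPolynomial (Fin n) A) (Localization.Away g)).comp e.toRingHom).toAlgebra
  haveI t1 : IsScalarTower (MvPolynomial σ A) (MvPolynomial (Fin n) A) (Localization.Away g) :=
    .of_algebraMap_eq' rfl
  haveI t2 : IsScalarTower A (MvPolynomial σ A) (Localization.Away g) := by
    refine .of_algebraMap_eq fun a => ?_
    change _ = algebraMap (MvPolynomial (Fin n) A) (Localization.Away g) (e (algebraMap A _ a))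
    rw [e.commutes, ← IsScalarTower.algebraMap_apply]
  haveI : Algebra.Etale (MvPolynomial σ A) (MvPolynomial (Fin n) A) :=
    Algebra.Etale.of_equiv
      ({ e.toRingEquiv with commutes' := fun _ => rfl } :
        MvPolynomial σ A ≃ₐ[MvPolynomial σ A] MvPolynomial (Fin n) A)
  haveI : Algebra.Etale (MvPolynomial σ A) (Localization.Away g) :=
    Algebra.Etale.comp (MvPolynomial σ A) (MvPolynomial (Fin n) A) (Localization.Away g)
  exact ⟨σ → Fin p, inferInstance, _, isBasisVia_of_etale p A (Localization.Away g) σ⟩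

theorem relFrob_flat_of_smooth' : (FrobAlg.relFrob p A B).Flat := by
  let s : Set B :=
    {g | ((algebraMap B (Localization.Away g)).comp (FrobAlg.relFrob p A B)).Flat}
  have hs : Ideal.span s = ⊤ := by
    by_contra H
    obtain ⟨m, hm, e⟩ := Ideal.exists_le_maximal _ H
    obtain ⟨g, hgm, hchar, ι, _, v, hv⟩ := exists_good' p A B m
    exact hgm (e (Ideal.subset_span
      (comp_relFrob_flat p A B g (Localization.Away g) hv)))
  exact RingHom.Flat.ofLocalizationSpanTarget _ s hs (fun g => g.2)

end good

end Groth.Agent.H3.RelFrob
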