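import Groth.Agent.H3.RelFrob10

/-!
# Transport of the relative Frobenius along isomorphisms; universe lifting (helper3)
-/

set_option autoImplicit false

open TensorProduct

namespace Groth.Agent.H3.RelFrob

section transport

universe u v u₁ v₁

variable (p : ℕ) [Fact p.Prime]
  {A : Type u} [CommRing A] [CharP A p] {B : Type v} [CommRing B] [Algebra A B] [CharP B p]
  {A₁ : Type u₁} [CommRing A₁] [CharP A₁ p] {B₁ : Type v₁} [CommRing B₁] [Algebra A₁ B₁]
  [CharP B₁ p]
  (α : A ≃+* A₁) (β : B ≃+* B₁) (h : ∀ a, β (algebraMap A B a) = algebraMap A₁ B₁ (α a))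

/-- the map on Frobenius twists induced by a pair of compatible isomorphisms -/
noncomputable def congrHom : FrobAlg.BaseChange p A B →+* FrobAlg.BaseChange p A₁ B₁ :=
  letI : Algebra A (FrobAlg.BaseChange p A₁ B₁) :=
    ((algebraMap A₁ (FrobAlg.BaseChange p A₁ B₁)).comp (α : A →+* A₁)).toAlgebra
  (Algebra.TensorProduct.lift
    ({ toRingHom := (Algebra.TensorProduct.includeLeftRingHom :
          B₁ →+* FrobAlg.BaseChange p A₁ B₁).comp (β : B →+* B₁)
       commutes' := fun a => by
        change (β (algebraMap A B a)) ⊗ₜ[A₁] (1 : FrobAlg.Twist p A₁) =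
          algebraMap A₁ (FrobAlg.BaseChange p A₁ B₁) (α a)
        rw [h, Algebra.TensorProduct.algebraMap_apply] } :
      B →ₐ[A] FrobAlg.BaseChange p A₁ B₁)
    ({ toRingHom := (Algebra.TensorProduct.includeRight (R := A₁) (A := B₁)
          (B := FrobAlg.Twist p A₁)).toRingHom.comp
          (((FrobAlg.toTwist p A₁ : A₁ →+* FrobAlg.Twist p A₁).comp (α : A →+* A₁)).comp
            ((FrobAlg.toTwist p A).symm : FrobAlg.Twist p A →+* A))
       commutes' := fun a => by
        change (1 : B₁) ⊗ₜ[A₁] (FrobAlg.toTwist p A₁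
          (α ((FrobAlg.toTwist p A).symm (algebraMap A (FrobAlg.Twist p A) a)))) =
          algebraMap A₁ (FrobAlg.BaseChange p A₁ B₁) (α a)
        rw [FrobAlg.algebraMap_twist, RingEquiv.symm_apply_apply, map_pow,
          ← FrobAlg.algebraMap_twist, Algebra.TensorProduct.algebraMap_apply,
          Algebra.algebraMap_eq_smul_one, Algebra.algebraMap_eq_smul_one,
          TensorProduct.smul_tmul] } :
      FrobAlg.Twist p A →ₐ[A] FrobAlg.BaseChange p A₁ B₁)
    (fun _ _ => Commute.all _ _)).toRingHom

theorem congrHom_tmul (b : B) (t : FrobAlg.Twist p A) :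
    congrHom p α β h (b ⊗ₜ[A] t) =
      (β b) ⊗ₜ[A₁] (FrobAlg.toTwist p A₁ (α ((FrobAlg.toTwist p A).symm t))) := by
  simp [congrHom, Algebra.TensorProduct.lift_tmul]

theorem congrHom_congrHom (h' : ∀ a, β.symm (algebraMap A₁ B₁ a) = algebraMap A B (α.symm a))
    (x : FrobAlg.BaseChange p A B) :
    congrHom p α.symm β.symm h' (congrHom p α β h x) = x := by
  induction x using TensorProduct.induction_on with
  | zero => simp
  | add x y hx hy => rw [map_add, map_add, hx, hy]
  | tmul b t => rw [congrHom_tmul, congrHom_tmul]; simp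

include h in
theorem symm_compat (a : A₁) : β.symm (algebraMap A₁ B₁ a) = algebraMap A B (α.symm a) := by
  rw [RingEquiv.symm_apply_eq, h, RingEquiv.apply_symm_apply]

theorem congrHom_bijective : Function.Bijective (congrHom p α β h) := by
  have h' := symm_compat α β h
  refine Function.bijective_iff_has_inverse.mpr ⟨congrHom p α.symm β.symm h', ?_, ?_⟩
  · intro x
    exact congrHom_congrHom p α β h h' x
  · intro x
    have := congrHom_congrHom p α.symm β.symm h' (by simpa using h) x
    simpa using this

theorem relFrob_congrHom (x : FrobAlg.BaseChange p A B) :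
    FrobAlg.relFrob p A₁ B₁ (congrHom p α β h x) = β (FrobAlg.relFrob p A B x) := by
  induction x using TensorProduct.induction_on with
  | zero => simp
  | add x y hx hy => rw [map_add, map_add, map_add, map_add, hx, hy]
  | tmul b t =>
    rw [congrHom_tmul, relFrob_tmul, relFrob_tmul, RingEquiv.symm_apply_apply, map_mul, map_pow, h]

include h in
theorem flat_transport (hf : (FrobAlg.relFrob p A₁ B₁).Flat) : (FrobAlg.relFrob p A B).Flat := by
  have e : FrobAlg.relFrob p A B =
      ((β.symm : B₁ →+* B).comp (FrobAlg.relFrob p A₁ B₁)).comp (congrHom p α β h) := by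
    refine RingHom.ext fun x => ?_
    simp only [RingHom.comp_apply]
    change _ = β.symm _
    rw [relFrob_congrHom, RingEquiv.symm_apply_apply]
  rw [e]
  exact RingHom.Flat.comp (RingHom.Flat.of_bijective (congrHom_bijective p α β h))
    (RingHom.Flat.comp hf (RingHom.Flat.of_bijective β.symm.bijective))

end transport

section smooth

universe u v u₁ v₁

variable {A : Type u} [CommRing A] {B : Type v} [CommRing B] [Algebra A B]
  {A₁ : Type u₁} [CommRing A₁] {B₁ : Type v₁} [CommRing B₁] [Algebra A₁ B₁]
  (α : A ≃+* A₁) (β : B ≃+* B₁) (h : ∀ a, β (algebraMap A B a) = algebraMap A₁ B₁ (α a))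

include h in
theorem smooth_transport [Algebra.Smooth A B] : Algebra.Smooth A₁ B₁ := by
  letI i1 : Algebra A₁ A := (α.symm : A₁ →+* A).toAlgebra
  letI i2 : Algebra A₁ B := ((algebraMap A B).comp (α.symm : A₁ →+* A)).toAlgebra
  haveI : IsScalarTower A₁ A B := .of_algebraMap_eq' rfl
  letI i3 : Algebra B B₁ := (β : B →+* B₁).toAlgebra
  haveI : IsScalarTower A₁ B B₁ := .of_algebraMap_eq fun a => by
    change algebraMap A₁ B₁ a = β (algebraMap A B (α.symm a))
    rw [h, RingEquiv.apply_symm_apply]
  haveI : Algebra.Smooth A₁ A₁ := {}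
  haveI : Algebra.Smooth B B := {}
  haveI : Algebra.Smooth A₁ A :=
    Algebra.Smooth.of_equiv ({ α.symm with commutes' := fun _ => rfl } : A₁ ≃ₐ[A₁] A)
  haveI : Algebra.Smooth B B₁ :=
    Algebra.Smooth.of_equiv ({ β with commutes' := fun _ => rfl } : B ≃ₐ[B] B₁)
  haveI : Algebra.Smooth A₁ B := Algebra.Smooth.comp A₁ A B
  exact Algebra.Smooth.comp A₁ B B₁

end smooth

section univ

universe u v

theorem relFrob_flat_univ (p : ℕ) [Fact p.Prime] (A : Type u) [CommRing A] [CharP A p]
    (B : Type v) [CommRing B] [Algebra A B] [CharP B p] [Algebra.Smooth A B] :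
    (FrobAlg.relFrob p A B).Flat := by
  let α : A ≃+* ULift.{max u v} A := ULift.ringEquiv.symm
  let β : B ≃+* ULift.{max u v} B := ULift.ringEquiv.symm
  letI : Algebra (ULift.{max u v} A) (ULift.{max u v} B) :=
    (((β : B →+* ULift.{max u v} B).comp (algebraMap A B)).comp
      (α.symm : ULift.{max u v} A →+* A)).toAlgebra
  have h : ∀ a, β (algebraMap A B a) =
      algebraMap (ULift.{max u v} A) (ULift.{max u v} B) (α a) := fun a => rfl
  haveI : Algebra.Smooth (ULift.{max u v} A) (ULift.{max u v} B) := smooth_transport α β h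
  exact flat_transport p α β h
    (relFrob_flat_of_smooth' p (ULift.{max u v} A) (ULift.{max u v} B))

end univ

end Groth.Agent.H3.RelFrob
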