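import Groth.Agent.H3.RelFrob1
import Groth.Prelude.Def_FrobAlg

/-!
# The relative Frobenius of a polynomial ring (helper3)
-/

set_option autoImplicit false

open MvPolynomial TensorProduct

namespace Groth.Agent.H3.RelFrob

theorem IsBasisVia.comp_equiv {R R' S ι : Type*} [CommRing R] [CommRing R'] [CommRing S]
    [Fintype ι] {φ : R →+* S} {v : ι → S} (h : IsBasisVia φ v) (ψ : R' ≃+* R) :
    IsBasisVia (φ.comp ψ.toRingHom) v := by
  constructor
  · intro c hc i
    have := h.1 (fun i => ψ (c i)) (by simpa using hc) i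
    exact (map_eq_zero_iff ψ ψ.injective).mp this
  · intro s
    obtain ⟨c, hc⟩ := h.2 s
    refine ⟨fun i => ψ.symm (c i), ?_⟩
    simpa using hc

theorem IsBasisVia.of_eq {R S ι : Type*} [CommRing R] [CommRing S]
    [Fintype ι] {φ φ' : R →+* S} {v : ι → S} (h : IsBasisVia φ v) (e : φ = φ') :
    IsBasisVia φ' v := e ▸ h

section

variable (p : ℕ) [Fact p.Prime] (A : Type*) [CommRing A] [CharP A p]

theorem relFrob_tmul (B : Type*) [CommRing B] [Algebra A B] [CharP B p] (b : B)
    (t : FrobAlg.Twist p A) :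
    FrobAlg.relFrob p A B (b ⊗ₜ t) = b ^ p * algebraMap A B ((FrobAlg.toTwist p A).symm t) := by
  simp [FrobAlg.relFrob, FrobAlg.frobHom, FrobAlg.inclHom, Algebra.TensorProduct.lift_tmul]
  rfl

variable (σ : Type*) [Fintype σ] [DecidableEq σ]

/-- the ring isomorphism `A[X] ⊗ A^{Frob} ≃ A[X]` -/
noncomputable def psi : FrobAlg.BaseChange p A (MvPolynomial σ A) ≃+* MvPolynomial σ A :=
  ((Algebra.TensorProduct.comm A (MvPolynomial σ A) (FrobAlg.Twist p A)).toRingEquiv.trans
    (MvPolynomial.algebraTensorAlgEquiv A (FrobAlg.Twist p A)).toRingEquiv).trans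
    (MvPolynomial.mapEquiv σ (FrobAlg.toTwist p A).symm)

theorem psi_tmul (f : MvPolynomial σ A) (t : FrobAlg.Twist p A) :
    psi p A σ (f ⊗ₜ t) = C ((FrobAlg.toTwist p A).symm t) * MvPolynomial.map (frobenius A p) f := by
  simp only [psi, RingEquiv.trans_apply, AlgEquiv.toRingEquiv_eq_coe, AlgEquiv.coe_ringEquiv,
    Algebra.TensorProduct.comm_tmul, algebraTensorAlgEquiv_tmul, MvPolynomial.mapEquiv_apply]
  rw [MvPolynomial.smul_eq_C_mul, map_mul, MvPolynomial.map_C, MvPolynomial.map_map]
  rfl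

theorem relFrob_mvPolynomial_eq :
    (expand p : MvPolynomial σ A →ₐ[A] MvPolynomial σ A).toRingHom.comp
      (psi p A σ).toRingHom = FrobAlg.relFrob p A (MvPolynomial σ A) := by
  refine RingHom.ext fun x => ?_
  induction x using TensorProduct.induction_on with
  | zero => simp
  | add x y hx hy =>
    rw [map_add, map_add, hx, hy]
  | tmul f t =>
    rw [relFrob_tmul]
    simp only [RingHom.coe_comp, Function.comp_apply, RingEquiv.toRingHom_eq_coe,
      RingHom.coe_coe, psi_tmul, AlgHom.toRingHom_eq_coe, map_mul, expand_C]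
    rw [MvPolynomial.algebraMap_eq, mul_comm]
    congr 1
    rw [← MvPolynomial.map_expand, MvPolynomial.map_frobenius_expand]

theorem isBasisVia_relFrob_mvPolynomial :
    IsBasisVia (FrobAlg.relFrob p A (MvPolynomial σ A))
      (fun α : σ → Fin p => monomial (redExp p α) (1 : A)) :=
  ((isBasisVia_expand (Fact.out : p.Prime).pos).comp_equiv (psi p A σ)).of_eq
    (relFrob_mvPolynomial_eq p A σ)

end

end Groth.Agent.H3.RelFrob
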