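import Groth.Agent.H3.RelFrob2

/-!
# Base change of a relative-Frobenius basis along an étale map (helper3)
-/

set_option autoImplicit false

open TensorProduct

namespace Groth.Agent.H3.RelFrob

section coord

variable {R S ι : Type*} [CommRing R] [CommRing S] [Fintype ι] {φ : R →+* S} {v : ι → S}

/-- coordinates with respect to a basis-via -/
noncomputable def IsBasisVia.coord (h : IsBasisVia φ v) (s : S) : ι → R :=
  Classical.choose (h.2 s)

theorem IsBasisVia.coord_spec (h : IsBasisVia φ v) (s : S) :
    s = ∑ i, φ (h.coord s i) * v i :=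
  Classical.choose_spec (h.2 s)

theorem IsBasisVia.coord_unique (h : IsBasisVia φ v) {s : S} {c : ι → R}
    (hc : s = ∑ i, φ (c i) * v i) : h.coord s = c := by
  funext i
  have h0 : ∑ i, φ (h.coord s i - c i) * v i = 0 := by
    simp only [map_sub, sub_mul, Finset.sum_sub_distrib]
    rw [← hc, ← h.coord_spec s, sub_self]
  exact sub_eq_zero.mp (h.1 _ h0 i)

theorem IsBasisVia.coord_add (h : IsBasisVia φ v) (s t : S) :
    h.coord (s + t) = h.coord s + h.coord t := by
  apply h.coord_unique
  conv_lhs => rw [h.coord_spec s, h.coord_spec t]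
  rw [← Finset.sum_add_distrib]
  refine Finset.sum_congr rfl fun i _ => ?_
  simp only [Pi.add_apply, map_add, add_mul]

theorem IsBasisVia.coord_zero (h : IsBasisVia φ v) : h.coord 0 = 0 := by
  apply h.coord_unique
  simp

theorem IsBasisVia.coord_mul (h : IsBasisVia φ v) (d : R) (s : S) :
    h.coord (φ d * s) = fun i => d * h.coord s i := by
  apply h.coord_unique
  conv_lhs => rw [h.coord_spec s]
  rw [Finset.mul_sum]
  refine Finset.sum_congr rfl fun i _ => ?_
  rw [map_mul, mul_assoc]

theorem IsBasisVia.coord_mul_basis [DecidableEq ι] (h : IsBasisVia φ v) (d : R) (i : ι) :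
    h.coord (φ d * v i) = fun j => if j = i then d else 0 := by
  apply h.coord_unique
  rw [Finset.sum_eq_single i]
  · simp
  · intro j _ hj; simp [hj]
  · intro hi; exact absurd (Finset.mem_univ _) hi

end coord

end Groth.Agent.H3.RelFrob

namespace Groth.Agent.H3.RelFrob

section pushout

variable (p : ℕ) [Fact p.Prime] (A : Type*) [CommRing A] [CharP A p]
  (P : Type*) [CommRing P] [Algebra A P] [CharP P p]
  (B : Type*) [CommRing B] [Algebra A B] [Algebra P B] [IsScalarTower A P B] [CharP B p]

/-- the map `P^{(p)} → B^{(p)}` -/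
noncomputable def twistMap : FrobAlg.BaseChange p A P →+* FrobAlg.BaseChange p A B :=
  (Algebra.TensorProduct.map (IsScalarTower.toAlgHom A P B)
    (AlgHom.id A (FrobAlg.Twist p A))).toRingHom

@[simp] theorem twistMap_tmul (f : P) (t : FrobAlg.Twist p A) :
    twistMap p A P B (f ⊗ₜ t) = (algebraMap P B f) ⊗ₜ t := by
  simp [twistMap]

theorem relFrob_twistMap (x : FrobAlg.BaseChange p A P) :
    FrobAlg.relFrob p A B (twistMap p A P B x) = algebraMap P B (FrobAlg.relFrob p A P x) := by
  induction x using TensorProduct.induction_on with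
  | zero => simp
  | add x y hx hy => rw [map_add, map_add, map_add, map_add, hx, hy]
  | tmul f t =>
    rw [twistMap_tmul, relFrob_tmul, relFrob_tmul, map_mul, map_pow,
      ← IsScalarTower.algebraMap_apply]

theorem toTwist_symm_smul (g : P) (t : FrobAlg.Twist p P) :
    (FrobAlg.toTwist p P).symm (g • t) = g ^ p * (FrobAlg.toTwist p P).symm t := by
  rw [Algebra.smul_def, FrobAlg.algebraMap_twist, map_mul, RingEquiv.symm_apply_apply]

theorem relFrob_tmul_one (B : Type*) [CommRing B] [Algebra A B] [CharP B p] (y : B) :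
    FrobAlg.relFrob p A B (y ⊗ₜ (1 : FrobAlg.Twist p A)) = y ^ p := by
  rw [relFrob_tmul, map_one, map_one, mul_one]

theorem relFrob_one_tmul (B : Type*) [CommRing B] [Algebra A B] [CharP B p]
    (t : FrobAlg.Twist p A) :
    FrobAlg.relFrob p A B ((1 : B) ⊗ₜ t) = algebraMap A B ((FrobAlg.toTwist p A).symm t) := by
  rw [relFrob_tmul, one_pow, one_mul]

variable {ι : Type*} [Fintype ι] {v : ι → P}

variable {p A P}

theorem span_part (hv : IsBasisVia (FrobAlg.relFrob p A P) v)
    (hsurj : Function.Surjective (FrobAlg.relFrob p P B)) (b : B) :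
    ∃ c : ι → FrobAlg.BaseChange p A B,
      b = ∑ i, FrobAlg.relFrob p A B (c i) * algebraMap P B (v i) := by
  obtain ⟨z, rfl⟩ := hsurj b
  induction z using TensorProduct.induction_on with
  | zero => exact ⟨0, by simp⟩
  | add x y hx hy =>
    obtain ⟨c, hc⟩ := hx
    obtain ⟨d, hd⟩ := hy
    refine ⟨c + d, ?_⟩
    rw [map_add, hc, hd, ← Finset.sum_add_distrib]
    refine Finset.sum_congr rfl fun i _ => ?_
    simp only [Pi.add_apply, map_add, add_mul]
  | tmul y f =>
    set f' := (FrobAlg.toTwist p P).symm f with hf'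
    refine ⟨fun i => (y ⊗ₜ (1 : FrobAlg.Twist p A)) * twistMap p A P B (hv.coord f' i), ?_⟩
    rw [relFrob_tmul, ← hf']
    conv_lhs => rw [hv.coord_spec f']
    rw [map_sum, Finset.mul_sum]
    refine Finset.sum_congr rfl fun i _ => ?_
    rw [map_mul, map_mul, relFrob_tmul_one, relFrob_twistMap, mul_assoc]

end pushout

end Groth.Agent.H3.RelFrob
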