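import Groth.Agent.H3.RelFrob3

/-!
# Linear independence part of the relative-Frobenius base change (helper3)
-/

set_option autoImplicit false

open TensorProduct

namespace Groth.Agent.H3.RelFrob

section pushout

variable {p : ℕ} [Fact p.Prime] {A : Type*} [CommRing A] [CharP A p]
  {P : Type*} [CommRing P] [Algebra A P] [CharP P p]
  (B : Type*) [CommRing B] [Algebra A B] [Algebra P B] [IsScalarTower A P B] [CharP B p]
  {ι : Type*} [Fintype ι] [DecidableEq ι] {v : ι → P}

/-- the `j`-th coordinate map `B ⊗_{P,Frob} P → B^{(p)}` -/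
noncomputable def rho (hv : IsBasisVia (FrobAlg.relFrob p A P) v) (j : ι) :
    B ⊗[P] FrobAlg.Twist p P →+ FrobAlg.BaseChange p A B :=
  TensorProduct.liftAddHom
    (AddMonoidHom.mk' (fun y : B => AddMonoidHom.mk'
      (fun t : FrobAlg.Twist p P => (y ⊗ₜ[A] (1 : FrobAlg.Twist p A)) *
        twistMap p A P B (hv.coord ((FrobAlg.toTwist p P).symm t) j))
      (by
        intro t t'
        rw [map_add, hv.coord_add, Pi.add_apply, map_add, mul_add]))
      (by
        intro y y'
        ext t
        simp only [AddMonoidHom.mk'_apply, AddMonoidHom.add_apply, TensorProduct.add_tmul,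
          add_mul]))
    (by
      intro g y t
      simp only [AddMonoidHom.mk'_apply]
      rw [toTwist_symm_smul, ← relFrob_tmul_one p A P g, hv.coord_mul, map_mul, twistMap_tmul,
        Algebra.smul_def, ← mul_assoc, Algebra.TensorProduct.tmul_mul_tmul, mul_one, mul_comm y])

theorem rho_tmul (hv : IsBasisVia (FrobAlg.relFrob p A P) v) (j : ι) (y : B)
    (t : FrobAlg.Twist p P) :
    rho B hv j (y ⊗ₜ t) = (y ⊗ₜ[A] (1 : FrobAlg.Twist p A)) *
        twistMap p A P B (hv.coord ((FrobAlg.toTwist p P).symm t) j) := rfl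

variable (v) in
/-- the map `B^{(p)} → B ⊗_{P,Frob} P`, `y ⊗ t ↦ y ⊗ (t v_i)` -/
noncomputable def mu (i : ι) : FrobAlg.BaseChange p A B →+ B ⊗[P] FrobAlg.Twist p P :=
  TensorProduct.liftAddHom
    (AddMonoidHom.mk' (fun y : B => AddMonoidHom.mk'
      (fun t : FrobAlg.Twist p A => y ⊗ₜ[P] (FrobAlg.toTwist p P
        (algebraMap A P ((FrobAlg.toTwist p A).symm t) * v i)))
      (by
        intro t t'
        rw [map_add, map_add, add_mul, map_add, TensorProduct.tmul_add]))
      (by
        intro y y'
        ext t
        simp only [AddMonoidHom.mk'_apply, AddMonoidHom.add_apply, TensorProduct.add_tmul]))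
    (by
      intro a y t
      simp only [AddMonoidHom.mk'_apply]
      rw [← algebraMap_smul P a y, TensorProduct.smul_tmul]
      congr 1
      apply (FrobAlg.toTwist p P).symm.injective
      rw [toTwist_symm_smul, RingEquiv.symm_apply_apply, RingEquiv.symm_apply_apply,
        Algebra.smul_def, FrobAlg.algebraMap_twist, map_mul, RingEquiv.symm_apply_apply,
        map_mul, map_pow]
      ring)

theorem mu_tmul (i : ι) (y : B) (t : FrobAlg.Twist p A) :
    mu B v i (y ⊗ₜ t) = y ⊗ₜ[P] (FrobAlg.toTwist p P
        (algebraMap A P ((FrobAlg.toTwist p A).symm t) * v i)) := rfl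

theorem relFrob_mu (i : ι) (x : FrobAlg.BaseChange p A B) :
    FrobAlg.relFrob p P B (mu B v i x) = FrobAlg.relFrob p A B x * algebraMap P B (v i) := by
  induction x using TensorProduct.induction_on with
  | zero => simp
  | add x y hx hy => rw [map_add, map_add, map_add, hx, hy, add_mul]
  | tmul y t =>
    rw [mu_tmul, relFrob_tmul, relFrob_tmul, RingEquiv.symm_apply_apply, map_mul,
      ← IsScalarTower.algebraMap_apply, mul_assoc]

theorem rho_mu (hv : IsBasisVia (FrobAlg.relFrob p A P) v) (i j : ι)
    (x : FrobAlg.BaseChange p A B) :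
    rho B hv j (mu B v i x) = if j = i then x else 0 := by
  induction x using TensorProduct.induction_on with
  | zero => simp
  | add x y hx hy =>
    rw [map_add, map_add, hx, hy]
    split_ifs <;> simp
  | tmul y t =>
    rw [mu_tmul, rho_tmul, RingEquiv.symm_apply_apply, ← relFrob_one_tmul p A P t,
      hv.coord_mul_basis]
    beta_reduce
    split_ifs with h
    · rw [twistMap_tmul, map_one, Algebra.TensorProduct.tmul_mul_tmul, mul_one, one_mul]
    · rw [map_zero, mul_zero]

theorem li_part (hv : IsBasisVia (FrobAlg.relFrob p A P) v)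
    (hinj : Function.Injective (FrobAlg.relFrob p P B))
    (c : ι → FrobAlg.BaseChange p A B)
    (hc : ∑ i, FrobAlg.relFrob p A B (c i) * algebraMap P B (v i) = 0) (j : ι) : c j = 0 := by
  have h1 : FrobAlg.relFrob p P B (∑ i, mu B v i (c i)) = 0 := by
    rw [map_sum]
    simp only [relFrob_mu]
    exact hc
  have h2 : ∑ i, mu B v i (c i) = 0 := hinj (by rw [h1, map_zero])
  have h3 := congrArg (rho B hv j) h2
  rw [map_sum, map_zero] at h3
  simp only [rho_mu] at h3
  rwa [Finset.sum_ite_eq Finset.univ j, if_pos (Finset.mem_univ _)] at h3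

/-- **Base change of the relative Frobenius basis along an étale-like map**: if the relative
Frobenius of `B/P` is bijective, a basis of `P` over `P^{(p)}` gives one of `B` over `B^{(p)}`. -/
theorem isBasisVia_of_bijective (hv : IsBasisVia (FrobAlg.relFrob p A P) v)
    (hbij : Function.Bijective (FrobAlg.relFrob p P B)) :
    IsBasisVia (FrobAlg.relFrob p A B) (fun i => algebraMap P B (v i)) :=
  ⟨fun c hc j => li_part B hv hbij.1 c hc j, fun b => span_part B hv hbij.2 b⟩

end pushout

end Groth.Agent.H3.RelFrob
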