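import Groth.Agent.H3.RelFrob4
import Groth.Agent.S3176
import Groth.Agent.S3191

/-!
# Relative Frobenius of an algebra étale over a polynomial ring; global finiteness (helper3)
-/

set_option autoImplicit false

open TensorProduct MvPolynomial

namespace Groth.Agent.H3.RelFrob

universe u

section basis

variable {R S ι : Type*} [CommRing R] [CommRing S] [Fintype ι] {φ : R →+* S} {v : ι → S}

/-- turn an instance-free basis statement into an actual basis -/
theorem IsBasisVia.exists_basis (h : IsBasisVia φ v) :
    letI := φ.toAlgebra
    ∃ b : Module.Basis ι R S, ∀ i, b i = v i := by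
  letI := φ.toAlgebra
  have hsmul : ∀ (r : R) (s : S), r • s = φ r * s := fun r s => by
    rw [Algebra.smul_def]; rfl
  have hli : LinearIndependent R v := by
    rw [Fintype.linearIndependent_iff]
    intro c hc i
    apply h.1 c _ i
    simpa only [hsmul] using hc
  have hsp : ⊤ ≤ Submodule.span R (Set.range v) := by
    intro s _
    obtain ⟨c, hc⟩ := h.2 s
    rw [hc]
    refine Submodule.sum_mem _ fun i _ => ?_
    rw [← hsmul]
    exact Submodule.smul_mem _ _ (Submodule.subset_span ⟨i, rfl⟩)
  exact ⟨Module.Basis.mk hli hsp, fun i => Module.Basis.mk_apply hli hsp i⟩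

end basis

section etale

variable (p : ℕ) [Fact p.Prime] (A : Type u) [CommRing A] [CharP A p]
  (B : Type u) [CommRing B] [Algebra A B] [CharP B p]
  (σ : Type u) [Fintype σ] [DecidableEq σ]
  [Algebra (MvPolynomial σ A) B] [IsScalarTower A (MvPolynomial σ A) B]

/-- (★) for an algebra étale over a polynomial ring, the reduced monomials in the coordinates
form a basis over the Frobenius twist. -/
theorem isBasisVia_of_etale [Algebra.Etale (MvPolynomial σ A) B] :
    IsBasisVia (FrobAlg.relFrob p A B)
      (fun α : σ → Fin p => algebraMap (MvPolynomial σ A) B (monomial (redExp p α) (1 : A))) := by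
  have hbij : Function.Bijective (FrobAlg.relFrob p (MvPolynomial σ A) B) :=
    (Groth.Agent.S3176.result p (MvPolynomial σ A) B).mp inferInstance
  exact isBasisVia_of_bijective B (isBasisVia_relFrob_mvPolynomial p A σ) hbij

end etale

end Groth.Agent.H3.RelFrob
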