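import Groth.Agent.H3.RelFrob5

/-!
# Global finiteness and finite presentation of the relative Frobenius (helper3)
-/

set_option autoImplicit false

open TensorProduct

namespace Groth.Agent.H3.RelFrob

universe u

section glob

variable (p : ℕ) [Fact p.Prime] (A : Type u) [CommRing A] [CharP A p]
  (B : Type u) [CommRing B] [Algebra A B] [CharP B p]

/-- the structure map `A → B^{(p)}`, `a ↦ 1 ⊗ a` -/
noncomputable def structMap : A →+* FrobAlg.BaseChange p A B :=
  (Algebra.TensorProduct.includeRight (R := A) (A := B)
    (B := FrobAlg.Twist p A)).toRingHom.comp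
    (FrobAlg.toTwist p A : A →+* FrobAlg.Twist p A)

theorem structMap_apply (a : A) :
    structMap p A B a = (1 : B) ⊗ₜ[A] (FrobAlg.toTwist p A a) := rfl

theorem relFrob_comp_structMap :
    (FrobAlg.relFrob p A B).comp (structMap p A B) = algebraMap A B := by
  ext a
  rw [RingHom.comp_apply, structMap_apply, relFrob_one_tmul, RingEquiv.symm_apply_apply]

theorem structMap_finiteType [Algebra.FiniteType A B] : (structMap p A B).FiniteType := by
  have h1 : (FrobAlg.toTwist p A : A →+* FrobAlg.Twist p A).FiniteType :=
    RingHom.FiniteType.of_surjective _ (FrobAlg.toTwist p A).surjective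
  have h2 : (algebraMap (FrobAlg.Twist p A) (FrobAlg.Twist p A ⊗[A] B)).FiniteType :=
    RingHom.finiteType_algebraMap.mpr inferInstance
  have h3 : ((Algebra.TensorProduct.comm A (FrobAlg.Twist p A) B :
      FrobAlg.Twist p A ⊗[A] B ≃ₐ[A] B ⊗[A] FrobAlg.Twist p A) :
      FrobAlg.Twist p A ⊗[A] B →+* B ⊗[A] FrobAlg.Twist p A).FiniteType :=
    RingHom.FiniteType.of_surjective _
      (Algebra.TensorProduct.comm A (FrobAlg.Twist p A) B).surjective
  have h := (h3.comp h2).comp h1
  convert h using 1
  ext a
  simp [structMap_apply, Algebra.TensorProduct.algebraMap_apply]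

theorem relFrob_finiteType [Algebra.FiniteType A B] : (FrobAlg.relFrob p A B).FiniteType := by
  apply RingHom.FiniteType.of_comp_finiteType (f := structMap p A B)
  rw [relFrob_comp_structMap]
  exact RingHom.finiteType_algebraMap.mpr inferInstance

theorem relFrob_finite [Algebra.FiniteType A B] : (FrobAlg.relFrob p A B).Finite :=
  RingHom.IsIntegral.to_finite (Groth.Agent.S3191.result p A B).1 (relFrob_finiteType p A B)

theorem relFrob_finitePresentation [Algebra.FinitePresentation A B] :
    (FrobAlg.relFrob p A B).FinitePresentation := by
  apply RingHom.FinitePresentation.of_comp_finiteType (structMap p A B)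
  · rw [relFrob_comp_structMap]
    exact RingHom.finitePresentation_algebraMap.mpr inferInstance
  · exact structMap_finiteType p A B

theorem relFrob_module_finite [Algebra.FiniteType A B] :
    letI := (FrobAlg.relFrob p A B).toAlgebra
    Module.Finite (FrobAlg.BaseChange p A B) B :=
  relFrob_finite p A B

theorem relFrob_module_finitePresentation [Algebra.FinitePresentation A B] :
    letI := (FrobAlg.relFrob p A B).toAlgebra
    Module.FinitePresentation (FrobAlg.BaseChange p A B) B := by
  letI := (FrobAlg.relFrob p A B).toAlgebra
  haveI : Module.Finite (FrobAlg.BaseChange p A B) B := relFrob_finite p A B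
  haveI : Algebra.FinitePresentation (FrobAlg.BaseChange p A B) B :=
    relFrob_finitePresentation p A B
  exact Module.FinitePresentation.of_finite_of_finitePresentation _ _

end glob

end Groth.Agent.H3.RelFrob
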