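import Groth.Agent.H3.RelFrob6

/-!
# Localization glue for the relative Frobenius (helper3)
-/

set_option autoImplicit false

open TensorProduct

namespace Groth.Agent.H3.RelFrob

universe u

section pow

variable {B : Type*} [CommRing B] (g : B) (Bg : Type*) [CommRing Bg] [Algebra B Bg]

theorem isLocalization_away_pow [IsLocalization.Away g Bg] {n : ℕ} (hn : 0 < n) :
    IsLocalization.Away (g ^ n) Bg := by
  haveI : IsLocalization (Submonoid.powers g) (Localization.Away (g ^ n)) := by
    refine IsLocalization.of_le_of_exists_dvd (Submonoid.powers (g ^ n)) (Submonoid.powers g)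
      ?_ ?_
    · rw [Submonoid.powers_le]
      exact ⟨n, rfl⟩
    · rintro m ⟨k, rfl⟩
      refine ⟨(g ^ n) ^ k, ⟨k, rfl⟩, ?_⟩
      rw [← pow_mul]
      exact pow_dvd_pow g (Nat.le_mul_of_pos_left k hn)
  exact IsLocalization.isLocalization_of_algEquiv (Submonoid.powers (g ^ n))
    (IsLocalization.algEquiv (Submonoid.powers g) (Localization.Away (g ^ n)) Bg)

end pow

section square

variable {R S R' S' : Type*} [CommRing R] [CommRing S] [CommRing R'] [CommRing S']
  [Algebra S S']

/-- rank in a localization square -/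
theorem rankAtStalk_of_square (φ : R →+* S) (lam : R →+* R') (φ' : R' →+* S')
    (hsq : φ'.comp lam = (algebraMap S S').comp φ) (x : R)
    (h1 : letI := lam.toAlgebra
      IsLocalization.Away x R')
    (h2 : IsLocalization.Away (φ x) S')
    {ι : Type*} [Fintype ι] {v : ι → S'} (hv : IsBasisVia φ' v)
    (hflat : letI := φ.toAlgebra
      Module.Flat R S)
    (hfin : letI := φ.toAlgebra
      Module.Finite R S)
    (𝔓 : PrimeSpectrum R) (hx : x ∉ 𝔓.asIdeal) :
    letI := φ.toAlgebra
    Module.rankAtStalk (R := R) S 𝔓 = Fintype.card ι := by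
  letI a1 := φ.toAlgebra
  letI a2 := lam.toAlgebra
  letI a3 := φ'.toAlgebra
  letI a4 := ((algebraMap S S').comp φ).toAlgebra
  haveI t1 : IsScalarTower R S S' := .of_algebraMap_eq' rfl
  haveI t2 : IsScalarTower R R' S' := .of_algebraMap_eq' hsq.symm
  haveI l1 : IsLocalization (Submonoid.powers x) R' := h1
  haveI l2 : IsLocalization (Algebra.algebraMapSubmonoid S (Submonoid.powers x)) S' := by
    have := h2
    simpa [Algebra.algebraMapSubmonoid, Submonoid.map_powers, RingHom.algebraMap_toAlgebra]
      using this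
  have hpo : Algebra.IsPushout R R' S S' :=
    ((Algebra.isLocalization_iff_isPushout (Submonoid.powers x) _).mp l2).symm
  obtain ⟨P, rfl⟩ : 𝔓 ∈ Set.range (PrimeSpectrum.comap (algebraMap R R')) := by
    rw [PrimeSpectrum.localization_comap_range R' (Submonoid.powers x)]
    exact (Ideal.disjoint_powers_iff_notMem_of_isPrime _).mpr hx
  rw [← Module.rankAtStalk_isBaseChange hpo.out P]
  obtain ⟨b, -⟩ := hv.exists_basis
  haveI := Module.Free.of_basis b
  haveI : Nontrivial R' := PrimeSpectrum.nonempty_iff_nontrivial.mp ⟨P⟩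
  rw [Module.rankAtStalk_eq_finrank_of_free]
  change Module.finrank R' S' = _
  rw [Module.finrank_eq_card_basis b]

end square

section loc

variable (p : ℕ) [Fact p.Prime] (A : Type u) [CommRing A] [CharP A p]
  (B : Type u) [CommRing B] [Algebra A B] [CharP B p] (g : B)
  (Bg : Type u) [CommRing Bg] [Algebra B Bg] [Algebra A Bg] [IsScalarTower A B Bg]
  [CharP Bg p]

theorem isLocalization_twistMap [IsLocalization.Away g Bg] :
    letI := (twistMap p A B Bg).toAlgebra
    IsLocalization.Away ((g ⊗ₜ[A] (1 : FrobAlg.Twist p A) : FrobAlg.BaseChange p A B))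
      (FrobAlg.BaseChange p A Bg) := by
  letI := (twistMap p A B Bg).toAlgebra
  haveI : IsScalarTower B (B ⊗[A] FrobAlg.Twist p A) (Bg ⊗[A] FrobAlg.Twist p A) :=
    .of_algebraMap_eq fun b => by
      simp [RingHom.algebraMap_toAlgebra, Algebra.TensorProduct.algebraMap_apply]
  have := IsLocalization.tensorProduct_tensorProduct A (FrobAlg.Twist p A)
    (Submonoid.powers g) Bg (by ext; simp [RingHom.algebraMap_toAlgebra])
  simpa [Algebra.algebraMapSubmonoid, Submonoid.map_powers,
    Algebra.TensorProduct.algebraMap_apply] using this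

theorem relFrob_comp_twistMap :
    (FrobAlg.relFrob p A Bg).comp (twistMap p A B Bg) =
      (algebraMap B Bg).comp (FrobAlg.relFrob p A B) := by
  exact RingHom.ext fun x => relFrob_twistMap p A B Bg x

theorem twistMap_flat [IsLocalization.Away g Bg] : (twistMap p A B Bg).Flat := by
  letI := (twistMap p A B Bg).toAlgebra
  haveI := isLocalization_twistMap p A B g Bg
  exact IsLocalization.flat _
    (Submonoid.powers (g ⊗ₜ[A] (1 : FrobAlg.Twist p A) : FrobAlg.BaseChange p A B))

theorem IsBasisVia.flat {R S ι : Type*} [CommRing R] [CommRing S] [Fintype ι] {φ : R →+* S}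
    {v : ι → S} (h : IsBasisVia φ v) : φ.Flat := by
  letI := φ.toAlgebra
  obtain ⟨b, -⟩ := h.exists_basis
  haveI := Module.Free.of_basis b
  change Module.Flat R S
  infer_instance

theorem comp_relFrob_flat [IsLocalization.Away g Bg] {ι : Type*} [Fintype ι] {v : ι → Bg}
    (hv : IsBasisVia (FrobAlg.relFrob p A Bg) v) :
    ((algebraMap B Bg).comp (FrobAlg.relFrob p A B)).Flat := by
  rw [← relFrob_comp_twistMap]
  exact RingHom.Flat.comp (twistMap_flat p A B g Bg) hv.flat

theorem rankAtStalk_of_localization [IsLocalization.Away g Bg] {ι : Type*} [Fintype ι]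
    {v : ι → Bg} (hv : IsBasisVia (FrobAlg.relFrob p A Bg) v)
    (hflat : letI := (FrobAlg.relFrob p A B).toAlgebra
      Module.Flat (FrobAlg.BaseChange p A B) B)
    (hfin : letI := (FrobAlg.relFrob p A B).toAlgebra
      Module.Finite (FrobAlg.BaseChange p A B) B)
    (𝔓 : PrimeSpectrum (FrobAlg.BaseChange p A B))
    (hg : (g ⊗ₜ[A] (1 : FrobAlg.Twist p A) : FrobAlg.BaseChange p A B) ∉ 𝔓.asIdeal) :
    letI := (FrobAlg.relFrob p A B).toAlgebra
    Module.rankAtStalk (R := FrobAlg.BaseChange p A B) B 𝔓 = Fintype.card ι := by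
  refine rankAtStalk_of_square (FrobAlg.relFrob p A B) (twistMap p A B Bg)
    (FrobAlg.relFrob p A Bg) (relFrob_comp_twistMap p A B Bg)
    (g ⊗ₜ[A] (1 : FrobAlg.Twist p A) : FrobAlg.BaseChange p A B)
    (isLocalization_twistMap p A B g Bg) ?_ hv hflat hfin 𝔓 hg
  rw [relFrob_tmul_one]
  exact isLocalization_away_pow g Bg (Fact.out : p.Prime).pos

end loc

end Groth.Agent.H3.RelFrob
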