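import Groth.Agent.H3.RelFrob7
import Mathlib.RingTheory.Unramified.LocalStructure
import Mathlib.RingTheory.Etale.Kaehler
import Mathlib.RingTheory.Kaehler.Polynomial
import Mathlib.RingTheory.Spectrum.Prime.FreeLocus

/-!
# Local structure of a smooth algebra and its relative Frobenius (helper3)
-/

set_option autoImplicit false

open TensorProduct MvPolynomial

namespace Groth.Agent.H3.RelFrob

universe u

section rank

variable (A : Type u) [CommRing A] (Bg : Type u) [CommRing Bg] [Algebra A Bg]
  (σ : Type*) [Fintype σ]
  [Algebra (MvPolynomial σ A) Bg] [IsScalarTower A (MvPolynomial σ A) Bg]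

/-- differentials of an algebra étale over a polynomial ring have constant rank `|σ|` -/
theorem rankAtStalk_kaehler_of_etale [Algebra.FormallyEtale (MvPolynomial σ A) Bg]
    (q : PrimeSpectrum Bg) :
    Module.rankAtStalk (R := Bg) (KaehlerDifferential A Bg) q = Fintype.card σ := by
  haveI : Nontrivial Bg := PrimeSpectrum.nonempty_iff_nontrivial.mp ⟨q⟩
  let b := (KaehlerDifferential.mvPolynomialBasis A σ).baseChange Bg
  let e := KaehlerDifferential.tensorKaehlerEquivOfFormallyEtale A (MvPolynomial σ A) Bg
  let b' := b.map e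
  haveI := Module.Free.of_basis b'
  rw [Module.rankAtStalk_eq_finrank_of_free]
  change Module.finrank Bg _ = _
  rw [Module.finrank_eq_card_basis b']

end rank

section good

variable (p : ℕ) [Fact p.Prime] (A : Type u) [CommRing A] [CharP A p]
  (B : Type u) [CommRing B] [Algebra A B] [CharP B p] [Algebra.Smooth A B] (r : ℕ)

theorem charP_localization_away (g : B) (hg : ¬ IsNilpotent g) :
    CharP (Localization.Away g) p := by
  haveI : Nontrivial (Localization.Away g) := by
    by_contra h
    rw [not_nontrivial_iff_subsingleton] at h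
    obtain ⟨k, hk⟩ := (IsLocalization.subsingleton_iff (M := Submonoid.powers g)
      (S := Localization.Away g)).mp h
    exact hg ⟨k, hk⟩
  rw [CharP.charP_iff_prime_eq_zero (Fact.out : p.Prime)]
  rw [← map_natCast (algebraMap B (Localization.Away g)), CharP.cast_eq_zero B p, map_zero]

theorem exists_good
    (hr : ∀ q : PrimeSpectrum B, Module.rankAtStalk (R := B) (KaehlerDifferential A B) q = r)
    (q : Ideal B) [q.IsPrime] :
    ∃ g ∉ q, ∃ (_ : CharP (Localization.Away g) p) (ι : Type u) (_ : Fintype ι)
      (v : ι → Localization.Away g),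
      IsBasisVia (FrobAlg.relFrob p A (Localization.Away g)) v ∧ Fintype.card ι = p ^ r := by
  obtain ⟨g, hgq, n, _, _, _⟩ :=
    Algebra.IsSmoothAt.exists_isStandardEtale_mvPolynomial (R := A) (p := q)
  have hgn : ¬ IsNilpotent g := fun ⟨k, hk⟩ =>
    hgq (‹q.IsPrime›.mem_of_pow_mem k (hk ▸ q.zero_mem))
  haveI hchar := charP_localization_away p B g hgn
  refine ⟨g, hgq, hchar, ?_⟩
  -- the prime of the localization
  have hq' : (Ideal.map (algebraMap B (Localization.Away g)) q).IsPrime :=
    IsLocalization.isPrime_of_isPrime_disjoint (.powers g) _ _ ‹_›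
      ((Ideal.disjoint_powers_iff_notMem_of_isPrime _).mpr hgq)
  -- n = r
  have hn : n = r := by
    have h1 := rankAtStalk_kaehler_of_etale A (Localization.Away g) (Fin n) ⟨_, hq'⟩
    haveI : Algebra.FormallyEtale B (Localization.Away g) :=
      Algebra.FormallyEtale.of_isLocalization (Rₘ := Localization.Away g) (.powers g)
    have h2 := Module.rankAtStalk_isBaseChange
      (KaehlerDifferential.isBaseChange_of_formallyEtale A B (Localization.Away g)) ⟨_, hq'⟩
    rw [h1, hr, Fintype.card_fin] at h2
    exact h2
  subst hn
  -- transport to a universe-u index type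
  let σ : Type u := ULift.{u} (Fin n)
  let e : MvPolynomial σ A ≃ₐ[A] MvPolynomial (Fin n) A := MvPolynomial.renameEquiv A Equiv.ulift
  letI a1 : Algebra (MvPolynomial σ A) (MvPolynomial (Fin n) A) := e.toRingHom.toAlgebra
  letI a2 : Algebra (MvPolynomial σ A) (Localization.Away g) :=
    ((algebraMap (MvPolynomial (Fin n) A) (Localization.Away g)).comp e.toRingHom).toAlgebra
  haveI t1 : IsScalarTower (MvPolynomial σ A) (MvPolynomial (Fin n) A) (Localization.Away g) :=
    .of_algebraMap_eq' rfl
  haveI t2 : IsScalarTower A (MvPolynomial σ A) (Localization.Away g) := by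
    refine .of_algebraMap_eq fun a => ?_
    change _ = algebraMap (MvPolynomial (Fin n) A) (Localization.Away g) (e (algebraMap A _ a))
    rw [e.commutes, ← IsScalarTower.algebraMap_apply]
  haveI : Algebra.Etale (MvPolynomial σ A) (MvPolynomial (Fin n) A) :=
    Algebra.Etale.of_equiv
      ({ e.toRingEquiv with commutes' := fun _ => rfl } :
        MvPolynomial σ A ≃ₐ[MvPolynomial σ A] MvPolynomial (Fin n) A)
  haveI : Algebra.Etale (MvPolynomial σ A) (Localization.Away g) :=
    Algebra.Etale.comp (MvPolynomial σ A) (MvPolynomial (Fin n) A) (Localization.Away g)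
  refine ⟨σ → Fin p, inferInstance, _, isBasisVia_of_etale p A (Localization.Away g) σ, ?_⟩
  simp [σ]

end good

end Groth.Agent.H3.RelFrob
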