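import Groth.Agent.H3.RelFrob8
import Mathlib.RingTheory.RingHom.Flat

/-!
# The relative Frobenius of a smooth algebra is finite locally free of rank `p ^ r` (helper3)
-/

set_option autoImplicit false

open TensorProduct

namespace Groth.Agent.H3.RelFrob

universe u

section main

variable (p : ℕ) [Fact p.Prime] (A : Type u) [CommRing A] [CharP A p]
  (B : Type u) [CommRing B] [Algebra A B] [CharP B p] [Algebra.Smooth A B] (r : ℕ)

theorem relFrob_flat_of_smooth
    (hr : ∀ q : PrimeSpectrum B, Module.rankAtStalk (R := B) (KaehlerDifferential A B) q = r) :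
    (FrobAlg.relFrob p A B).Flat := by
  let s : Set B :=
    {g | ((algebraMap B (Localization.Away g)).comp (FrobAlg.relFrob p A B)).Flat}
  have hs : Ideal.span s = ⊤ := by
    by_contra H
    obtain ⟨m, hm, e⟩ := Ideal.exists_le_maximal _ H
    obtain ⟨g, hgm, hchar, ι, _, v, hv, -⟩ := exists_good p A B r hr m
    exact hgm (e (Ideal.subset_span
      (comp_relFrob_flat p A B g (Localization.Away g) hv)))
  exact RingHom.Flat.ofLocalizationSpanTarget _ s hs (fun g => g.2)

theorem relFrob_main
    (hr : ∀ q : PrimeSpectrum B, Module.rankAtStalk (R := B) (KaehlerDifferential A B) q = r) :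
    letI := (FrobAlg.relFrob p A B).toAlgebra
    Module.Finite (FrobAlg.BaseChange p A B) B ∧ Module.Projective (FrobAlg.BaseChange p A B) B ∧
      ∀ q : PrimeSpectrum (FrobAlg.BaseChange p A B),
        Module.rankAtStalk (R := FrobAlg.BaseChange p A B) B q = p ^ r := by
  have hflat : (FrobAlg.relFrob p A B).Flat := relFrob_flat_of_smooth p A B r hr
  letI := (FrobAlg.relFrob p A B).toAlgebra
  have hfin : Module.Finite (FrobAlg.BaseChange p A B) B := relFrob_module_finite p A B
  have hfp : Module.FinitePresentation (FrobAlg.BaseChange p A B) B :=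
    relFrob_module_finitePresentation p A B
  have hfl : Module.Flat (FrobAlg.BaseChange p A B) B := hflat
  refine ⟨hfin, Module.Flat.projective_of_finitePresentation, fun 𝔓 => ?_⟩
  obtain ⟨g, hgq, hchar, J, _, v, hv, hcard⟩ := exists_good p A B r hr
    (𝔓.asIdeal.comap (Algebra.TensorProduct.includeLeftRingHom :
      B →+* FrobAlg.BaseChange p A B))
  rw [← hcard]
  exact rankAtStalk_of_localization p A B g (Localization.Away g) hv hfl hfin 𝔓
    (by simpa using hgq)

end main

end Groth.Agent.H3.RelFrob
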