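import Mathlib

/-!
# A global Jacobian criterion with an idempotent matrix (helper3)

`Q` formally smooth over `R`, `Ω[Q⁄R]` free with basis `d x_k`. Let `a : Fin n → Q`,
`e` an idempotent matrix with `e a = a`, `G = (∂_k a_j)`, `g = det (G + 1 - e)`.
Then `(Q ⧸ (a))[1/g]` is formally smooth over `R`.
-/

set_option autoImplicit false
set_option linter.unusedSimpArgs false
set_option linter.unusedVariables false
set_option linter.style.haveILetI false
universe u

namespace Groth.Agent.H3.SL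

open KaehlerDifferential

variable {R Q : Type u} [CommRing R] [CommRing Q] [Algebra R Q]

/-- The coordinate derivations attached to a basis of `Ω[Q⁄R]`. -/
noncomputable def coordDer {n : ℕ} (b : Module.Basis (Fin n) Q Ω[Q⁄R]) (k : Fin n) :
    Derivation R Q Q :=
  (b.coord k).compDer (KaehlerDifferential.D R Q)

theorem coordDer_apply {n : ℕ} (b : Module.Basis (Fin n) Q Ω[Q⁄R]) (k : Fin n) (q : Q) :
    coordDer b k q = b.repr (KaehlerDifferential.D R Q q) k := rfl

/-- Every derivation is determined by its values on the coordinates. -/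
theorem der_eq_sum {n : ℕ} (b : Module.Basis (Fin n) Q Ω[Q⁄R]) (x : Fin n → Q)
    (hb : ∀ k, b k = KaehlerDifferential.D R Q (x k))
    {M : Type*} [AddCommGroup M] [Module Q M] [Module R M] [IsScalarTower R Q M]
    (d : Derivation R Q M) (q : Q) :
    d q = ∑ k, coordDer b k q • d (x k) := by
  have h1 : d q = d.liftKaehlerDifferential (KaehlerDifferential.D R Q q) :=
    (Derivation.liftKaehlerDifferential_comp_D d q).symm
  rw [h1]
  conv_lhs => rw [← b.sum_repr (KaehlerDifferential.D R Q q)]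
  rw [map_sum]
  refine Finset.sum_congr rfl fun k _ => ?_
  rw [map_smul, hb k, Derivation.liftKaehlerDifferential_comp_D, coordDer_apply]

/-- The Jacobian matrix in the coordinates of `b`. -/
noncomputable def jac {n : ℕ} (b : Module.Basis (Fin n) Q Ω[Q⁄R]) (a : Fin n → Q) :
    Matrix (Fin n) (Fin n) Q :=
  Matrix.of fun j k => coordDer b k (a j)

theorem formallySmooth_away {n : ℕ} [Algebra.FormallySmooth R Q]
    (b : Module.Basis (Fin n) Q Ω[Q⁄R]) (x : Fin n → Q)
    (hb : ∀ k, b k = KaehlerDifferential.D R Q (x k))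
    (a : Fin n → Q) (e : Matrix (Fin n) (Fin n) Q) (he : e * e = e) (hea : e.mulVec a = a) :
    Algebra.FormallySmooth R (Localization.Away (Ideal.Quotient.mk (Ideal.span (Set.range a))
      ((jac b a + 1 - e).det))) := by
  classical
  obtain ⟨𝔟, h𝔟⟩ : ∃ 𝔟 : Ideal Q, 𝔟 = Ideal.span (Set.range a) := ⟨_, rfl⟩
  obtain ⟨g, hg⟩ : ∃ g : Q, g = (jac b a + 1 - e).det := ⟨_, rfl⟩
  rw [← hg, ← h𝔟]
  refine .of_comp_surjective fun B _ _ J hJ f => ?_
  -- the composite `Q → A → B/J`
  let f' : Q →ₐ[R] B ⧸ J := f.comp ((IsScalarTower.toAlgHom R (Q ⧸ 𝔟)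
    (Localization.Away (Ideal.Quotient.mk 𝔟 g))).comp (Ideal.Quotient.mkₐ R 𝔟))
  have hf' : ∀ q, f' q = f (algebraMap (Q ⧸ 𝔟) _ (Ideal.Quotient.mk 𝔟 q)) := fun q => rfl
  obtain ⟨φ, hφ⟩ := Algebra.FormallySmooth.comp_surjective R Q J hJ f'
  have hφ' : ∀ q, Ideal.Quotient.mk J (φ q) = f' q := fun q => AlgHom.congr_fun hφ q
  letI : Algebra Q B := φ.toRingHom.toAlgebra
  haveI : IsScalarTower R Q B := IsScalarTower.of_algebraMap_eq' φ.comp_algebraMap.symm
  have halg : ∀ q, algebraMap Q B q = φ q := fun q => rfl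
  have hJJ : ∀ y ∈ J, ∀ z ∈ J, y * z = 0 := by
    intro y hy z hz
    have : y * z ∈ J ^ 2 := by rw [pow_two]; exact Ideal.mul_mem_mul hy hz
    rwa [hJ] at this
  -- the obstruction vector
  let w : Fin n → B := fun j => φ (a j)
  have hw : ∀ j, w j ∈ J := by
    intro j
    rw [← Ideal.Quotient.eq_zero_iff_mem, hφ', hf']
    have : Ideal.Quotient.mk 𝔟 (a j) = 0 := by
      rw [Ideal.Quotient.eq_zero_iff_mem, h𝔟]
      exact Ideal.subset_span ⟨j, rfl⟩
    rw [this, map_zero, map_zero]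
  -- `φ g` is a unit
  have hunit_img : IsUnit (f' g) := by
    rw [hf']
    exact (IsLocalization.Away.algebraMap_isUnit (Ideal.Quotient.mk 𝔟 g)).map f
  have hunit : IsUnit (φ g) := by
    rw [← IsNilpotent.isUnit_quotient_mk_iff (I := J) ⟨2, hJ⟩, hφ']
    exact hunit_img
  -- matrices over `B`
  let Gφ : Matrix (Fin n) (Fin n) B := (jac b a).map φ
  let eφ : Matrix (Fin n) (Fin n) B := e.map φ
  let Mφ : Matrix (Fin n) (Fin n) B := Gφ + 1 - eφ
  have hMφ : Mφ = (jac b a + 1 - e).map φ := by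
    show (jac b a).map φ + 1 - e.map φ = _
    rw [Matrix.map_sub (hf := fun x y => map_sub φ x y),
      Matrix.map_add (hf := fun x y => map_add φ x y), Matrix.map_one (h₀ := map_zero φ)
        (h₁ := map_one φ)]
  have hdet : IsUnit Mφ.det := by
    have : Mφ.det = φ g := by
      rw [hMφ, hg]
      exact ((φ : Q →+* B).map_det _).symm
    rw [this]; exact hunit
  have heφ : eφ * eφ = eφ := by
    show e.map φ * e.map φ = e.map φ
    rw [← Matrix.map_mul, he]
  have heφw : eφ.mulVec w = w := by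
    funext j
    have := congrFun hea j
    show ∑ l, φ (e j l) * φ (a l) = φ (a j)
    rw [← this]
    simp only [Matrix.mulVec, dotProduct, map_sum, map_mul]
  -- the solution vector
  obtain ⟨m, hm_def⟩ : ∃ m : Fin n → B, m = Mφ⁻¹.mulVec w := ⟨_, rfl⟩
  have hm : ∀ k, m k ∈ J := by
    intro k
    rw [hm_def]
    show ∑ l, Mφ⁻¹ k l * w l ∈ J
    exact Ideal.sum_mem _ fun l _ => Ideal.mul_mem_left _ _ (hw l)
  have hMm : Mφ.mulVec m = w := by
    rw [hm_def, Matrix.mulVec_mulVec, Matrix.mul_nonsing_inv _ hdet, Matrix.one_mulVec]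
  -- `e G = G` modulo terms killed by `J`
  have hjac : ∀ j k, jac b a j k =
      ∑ l, (e j l * jac b a l k + a l * coordDer b k (e j l)) := by
    intro j k
    have h1 : a j = ∑ l, e j l * a l := (congrFun hea j).symm
    show coordDer b k (a j) = _
    conv_lhs => rw [h1]
    rw [map_sum]
    refine Finset.sum_congr rfl fun l _ => ?_
    rw [Derivation.leibniz, smul_eq_mul, smul_eq_mul]
    rfl
  have heG : eφ.mulVec (Gφ.mulVec m) = Gφ.mulVec m := by
    funext j
    show ∑ l, φ (e j l) * (∑ k, φ (jac b a l k) * m k) = ∑ k, φ (jac b a j k) * m k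
    have h2 : ∀ k, φ (jac b a j k) * m k = ∑ l, φ (e j l) * (φ (jac b a l k) * m k) := by
      intro k
      rw [hjac j k, map_sum, Finset.sum_mul]
      refine Finset.sum_congr rfl fun l _ => ?_
      rw [map_add, map_mul, map_mul, add_mul]
      have : φ (a l) * φ (coordDer b k (e j l)) * m k = 0 := by
        rw [mul_right_comm, hJJ _ (hw l) _ (hm k), zero_mul]
      rw [this, add_zero, mul_assoc]
    simp_rw [h2, Finset.mul_sum]
    exact Finset.sum_comm
  have hGm : Gφ.mulVec m = w := by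
    have h3 : Gφ.mulVec m + m - eφ.mulVec m = w := by
      rw [← hMm]
      show _ = (Gφ + 1 - eφ).mulVec m
      rw [Matrix.sub_mulVec, Matrix.add_mulVec, Matrix.one_mulVec]
    have h4 := congrArg eφ.mulVec h3
    rw [Matrix.mulVec_sub, Matrix.mulVec_add, heG, Matrix.mulVec_mulVec, heφ, heφw,
      add_sub_cancel_right] at h4
    exact h4
  -- the correcting derivation
  let v : Fin n → J := fun k => ⟨- m k, J.neg_mem (hm k)⟩
  let d : Derivation R Q J := (b.constr Q v).compDer (KaehlerDifferential.D R Q)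
  have hdx : ∀ k, d (x k) = v k := by
    intro k
    show b.constr Q v (KaehlerDifferential.D R Q (x k)) = v k
    rw [← hb k, Module.Basis.constr_basis]
  have hd : ∀ q, ((d q : J) : B) = - ∑ k, φ (coordDer b k q) * m k := by
    intro q
    rw [der_eq_sum b x hb d q]
    simp only [hdx]
    rw [AddSubmonoidClass.coe_finsetSum, ← Finset.sum_neg_distrib]
    refine Finset.sum_congr rfl fun k _ => ?_
    show coordDer b k q • (- m k) = _
    rw [Algebra.smul_def, halg, mul_neg]
  let φ' : Q →ₐ[R] B := liftOfDerivationToSquareZero J hJ d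
  have hφ'_apply : ∀ q, φ' q = (d q : B) + φ q := fun q => rfl
  have hφ'a : ∀ j, φ' (a j) = 0 := by
    intro j
    rw [hφ'_apply, hd]
    have := congrFun hGm j
    show - ∑ k, φ (jac b a j k) * m k + w j = 0
    rw [← this]
    show - ∑ k, φ (jac b a j k) * m k + ∑ k, φ (jac b a j k) * m k = 0
    exact neg_add_cancel _
  have hφ'𝔟 : ∀ q ∈ 𝔟, φ' q = 0 := by
    intro q hq
    have hle : 𝔟 ≤ RingHom.ker φ'.toRingHom := by
      rw [h𝔟, Ideal.span_le]
      rintro _ ⟨j, rfl⟩
      exact hφ'a j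
    exact hle hq
  let φbar : (Q ⧸ 𝔟) →ₐ[R] B := Ideal.Quotient.liftₐ 𝔟 φ' hφ'𝔟
  have hφbar : ∀ q, φbar (Ideal.Quotient.mk 𝔟 q) = φ' q := fun q => rfl
  have hmkφ' : ∀ q, Ideal.Quotient.mk J (φ' q) = f' q := by
    intro q
    rw [hφ'_apply, map_add, Ideal.Quotient.eq_zero_iff_mem.mpr (d q).2, zero_add, hφ']
  have hunit' : ∀ y : Submonoid.powers (Ideal.Quotient.mk 𝔟 g), IsUnit (φbar y) := by
    rintro ⟨_, k, rfl⟩
    show IsUnit (φbar (Ideal.Quotient.mk 𝔟 g ^ k))
    rw [map_pow]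
    refine IsUnit.pow k ?_
    rw [hφbar, ← IsNilpotent.isUnit_quotient_mk_iff (I := J) ⟨2, hJ⟩, hmkφ']
    exact hunit_img
  let ψ : Localization.Away (Ideal.Quotient.mk 𝔟 g) →ₐ[R] B :=
    IsLocalization.liftAlgHom (M := Submonoid.powers (Ideal.Quotient.mk 𝔟 g)) (f := φbar) hunit'
  refine ⟨ψ, ?_⟩
  apply IsLocalization.algHom_ext (Submonoid.powers (Ideal.Quotient.mk 𝔟 g))
  apply Ideal.Quotient.algHom_ext
  ext q
  show Ideal.Quotient.mk J (ψ (algebraMap (Q ⧸ 𝔟) _ (Ideal.Quotient.mk 𝔟 q))) =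
    f (algebraMap (Q ⧸ 𝔟) _ (Ideal.Quotient.mk 𝔟 q))
  have : ψ (algebraMap (Q ⧸ 𝔟) _ (Ideal.Quotient.mk 𝔟 q)) = φbar (Ideal.Quotient.mk 𝔟 q) :=
    IsLocalization.lift_eq _ _
  rw [this, hφbar, hmkφ', hf']

end Groth.Agent.H3.SL
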