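import Groth.Agent.H3.PH2
import Groth.Agent.H3.HProjLift

/-!
# Idempotent matrices lift to étale neighbourhoods (helper3)
-/

set_option autoImplicit false
set_option linter.unusedSimpArgs false
set_option linter.unusedVariables false
set_option linter.style.haveILetI false
universe u

namespace Groth.Agent.H3.SL

open CategoryTheory Groth.Agent.H3.PH Groth.Agent.H3.PH.EtPt

/-- Finitely many elements of a stage which vanish in the colimit vanish at a later stage. -/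
theorem exists_hom_map_eq_zero {R : Type u} [CommRing R] {K : Type u} [CommRing K] [Algebra R K]
    (X : EtPt R K) (s : Finset X.A) (hs : ∀ a ∈ s, ι R K X a = 0) :
    ∃ (Z : EtPt R K) (f : X ⟶ Z), ∀ a ∈ s, f.f a = 0 := by
  classical
  induction s using Finset.induction_on with
  | empty => exact ⟨X, 𝟙 X, by simp⟩
  | insert a s ha ih =>
    obtain ⟨Z₁, f₁, h₁⟩ := ih (fun b hb => hs b (Finset.mem_insert_of_mem hb))
    have h0 : ι R K X a = ι R K X 0 := by
      rw [hs a (Finset.mem_insert_self a s), map_zero]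
    obtain ⟨Z₂, f, g, hfg⟩ := (ι_eq_iff R K a (0 : X.A)).mp h0
    obtain ⟨W, u, v, huv⟩ := IsFiltered.span f₁ f
    refine ⟨W, f₁ ≫ u, fun b hb => ?_⟩
    rcases Finset.mem_insert.mp hb with rfl | hb
    · rw [huv, comp_f, AlgHom.comp_apply, hfg, map_zero, map_zero]
    · rw [comp_f, AlgHom.comp_apply, h₁ b hb, map_zero]

/-- Idempotent matrices over `P ⧸ 𝔞` lift to an étale `P`-algebra with a point in `P ⧸ 𝔞`. -/
theorem exists_etale_idempotent_lift {P : Type u} [CommRing P] (𝔞 : Ideal P) (n : ℕ)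
    (p : Matrix (Fin n) (Fin n) (P ⧸ 𝔞)) (hp : p * p = p) :
    ∃ (P' : Type u) (_ : CommRing P') (_ : Algebra P P') (_ : Algebra.Etale P P')
      (χ : P' →ₐ[P] P ⧸ 𝔞) (e : Matrix (Fin n) (Fin n) P'), e * e = e ∧ e.map χ = p := by
  classical
  obtain ⟨J, hJ⟩ : ∃ J : Ideal (H P (P ⧸ 𝔞)), J = 𝔞.map (algebraMap P (H P (P ⧸ 𝔞))) := ⟨_, rfl⟩
  haveI : HenselianRing (H P (P ⧸ 𝔞)) J := by rw [hJ]; exact henselianRing_H P 𝔞
  have hker : RingHom.ker (ε P (P ⧸ 𝔞)) = J := by rw [hJ]; exact ker_ε_eq_map P 𝔞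
  have hεsurj : Function.Surjective (ε P (P ⧸ 𝔞)) := by
    intro y
    obtain ⟨r, rfl⟩ := Ideal.Quotient.mk_surjective y
    exact ⟨algebraMap P (H P (P ⧸ 𝔞)) r, by rw [ε_algebraMap]; rfl⟩
  have hεJ : ∀ x y : H P (P ⧸ 𝔞), ε P (P ⧸ 𝔞) x = ε P (P ⧸ 𝔞) y ↔
      Ideal.Quotient.mk J x = Ideal.Quotient.mk J y := by
    intro x y
    rw [Ideal.Quotient.eq, ← hker, RingHom.mem_ker, map_sub, sub_eq_zero]
  choose c hc using fun (ij : Fin n × Fin n) => hεsurj (p ij.1 ij.2)
  obtain ⟨cm, hcm_def⟩ : ∃ cm : Matrix (Fin n) (Fin n) (H P (P ⧸ 𝔞)),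
      cm = Matrix.of fun i j => c (i, j) := ⟨_, rfl⟩
  have hcm : cm.map (ε P (P ⧸ 𝔞)) = p := by
    ext i j
    rw [hcm_def]
    exact hc (i, j)
  have hā : cm.map (Ideal.Quotient.mk J) * cm.map (Ideal.Quotient.mk J) =
      cm.map (Ideal.Quotient.mk J) := by
    rw [← Matrix.map_mul]
    ext i j
    rw [Matrix.map_apply, Matrix.map_apply, ← hεJ]
    have h1 : (cm * cm).map (ε P (P ⧸ 𝔞)) = cm.map (ε P (P ⧸ 𝔞)) := by
      rw [Matrix.map_mul, hcm, hp]
    have := congrFun (congrFun h1 i) j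
    simpa only [Matrix.map_apply] using this
  obtain ⟨E, hE, hEā⟩ := exists_idempotent_matrix_lift J n _ hā
  have hEε : E.map (ε P (P ⧸ 𝔞)) = p := by
    rw [← hcm]
    ext i j
    rw [Matrix.map_apply, Matrix.map_apply, hεJ]
    have := congrFun (congrFun hEā i) j
    simpa only [Matrix.map_apply] using this
  -- descend to a stage
  obtain ⟨X, hX⟩ := exists_rep_finset P (P ⧸ 𝔞)
    (Finset.univ.image (fun ij : Fin n × Fin n => E ij.1 ij.2))
  choose e0 he0 using fun (ij : Fin n × Fin n) => hX (E ij.1 ij.2)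
    (Finset.mem_image.mpr ⟨ij, Finset.mem_univ _, rfl⟩)
  obtain ⟨em, hem_def⟩ : ∃ em : Matrix (Fin n) (Fin n) X.A,
      em = Matrix.of fun i j => e0 (i, j) := ⟨_, rfl⟩
  have hem : em.map (ι P (P ⧸ 𝔞) X) = E := by
    ext i j
    rw [hem_def]
    exact he0 (i, j)
  obtain ⟨Z, f, hf⟩ := exists_hom_map_eq_zero X
    (Finset.univ.image (fun ij : Fin n × Fin n => (em * em - em) ij.1 ij.2))
    (by
      intro a ha
      obtain ⟨ij, -, rfl⟩ := Finset.mem_image.mp ha
      have h1 : (em * em - em).map (ι P (P ⧸ 𝔞) X) = 0 := by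
        rw [Matrix.map_sub (hf := fun x y => map_sub (ι P (P ⧸ 𝔞) X) x y), Matrix.map_mul, hem,
          hE, sub_self]
      have := congrFun (congrFun h1 ij.1) ij.2
      simpa only [Matrix.map_apply, Matrix.zero_apply] using this)
  refine ⟨Z.A, inferInstance, inferInstance, inferInstance, Z.χ, em.map f.f, ?_, ?_⟩
  · rw [← Matrix.map_mul]
    ext i j
    rw [Matrix.map_apply, Matrix.map_apply, ← sub_eq_zero, ← map_sub]
    exact hf _ (Finset.mem_image.mpr ⟨(i, j), Finset.mem_univ _, rfl⟩)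
  · ext i j
    rw [Matrix.map_apply, Matrix.map_apply]
    have h1 : Z.χ (f.f (em i j)) = X.χ (em i j) := AlgHom.congr_fun f.w (em i j)
    rw [h1, ← ε_ι, ← hEε, Matrix.map_apply, ← hem, Matrix.map_apply]

end Groth.Agent.H3.SL
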