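import Groth.Agent.H3.SL2

/-!
# Shrinking an étale neighbourhood so that the lifted equations cut out the point (helper3)
-/

set_option autoImplicit false
set_option linter.unusedSimpArgs false
set_option linter.unusedVariables false
set_option linter.style.haveILetI false
universe u

namespace Groth.Agent.H3.SL

/-- For an unramified `P`-algebra `P'` with a point `χ : P' → P ⧸ 𝔞`, the kernel of `χ` is
`𝔞 P'` up to its square. -/
theorem ker_le_map_sup_sq {P P' : Type u} [CommRing P] [CommRing P'] [Algebra P P']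
    [Algebra.FormallyUnramified P P'] (𝔞 : Ideal P) (χ : P' →ₐ[P] P ⧸ 𝔞) :
    RingHom.ker χ ≤ 𝔞.map (algebraMap P P') ⊔ (RingHom.ker χ) ^ 2 := by
  obtain ⟨𝔨, h𝔨⟩ : ∃ 𝔨 : Ideal P', 𝔨 = RingHom.ker χ := ⟨_, rfl⟩
  rw [← h𝔨]
  obtain ⟨𝔠, h𝔠⟩ : ∃ 𝔠 : Ideal P', 𝔠 = 𝔞.map (algebraMap P P') ⊔ 𝔨 ^ 2 := ⟨_, rfl⟩
  rw [← h𝔠]
  obtain ⟨N, hN⟩ : ∃ N : Ideal (P' ⧸ 𝔠), N = 𝔨.map (Ideal.Quotient.mk 𝔠) := ⟨_, rfl⟩
  have hN2 : N ^ 2 = ⊥ := by
    rw [hN, ← Ideal.map_pow, eq_bot_iff, Ideal.map_le_iff_le_comap]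
    intro x hx
    rw [Ideal.mem_comap, Ideal.mem_bot, Ideal.Quotient.eq_zero_iff_mem, h𝔠]
    exact Ideal.mem_sup_right hx
  have hs0 : ∀ a ∈ 𝔞, (Algebra.ofId P (P' ⧸ 𝔠)) a = 0 := by
    intro a ha
    show algebraMap P (P' ⧸ 𝔠) a = 0
    rw [IsScalarTower.algebraMap_apply P P' (P' ⧸ 𝔠), Ideal.Quotient.algebraMap_eq,
      Ideal.Quotient.eq_zero_iff_mem, h𝔠]
    exact Ideal.mem_sup_left (Ideal.mem_map_of_mem _ ha)
  let s : P ⧸ 𝔞 →ₐ[P] P' ⧸ 𝔠 := Ideal.Quotient.liftₐ 𝔞 (Algebra.ofId P (P' ⧸ 𝔠)) hs0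
  have hs : ∀ c : P, s (Ideal.Quotient.mk 𝔞 c) = Ideal.Quotient.mk 𝔠 (algebraMap P P' c) := by
    intro c
    show algebraMap P (P' ⧸ 𝔠) c = _
    rw [IsScalarTower.algebraMap_apply P P' (P' ⧸ 𝔠), Ideal.Quotient.algebraMap_eq]
  have heq : (Ideal.Quotient.mkₐ P N).comp (Ideal.Quotient.mkₐ P 𝔠) =
      (Ideal.Quotient.mkₐ P N).comp (s.comp χ) := by
    ext x
    obtain ⟨c, hc⟩ := Ideal.Quotient.mk_surjective (χ x)
    show Ideal.Quotient.mk N (Ideal.Quotient.mk 𝔠 x) = Ideal.Quotient.mk N (s (χ x))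
    rw [← hc, hs, Ideal.Quotient.eq, ← map_sub, hN]
    refine Ideal.mem_map_of_mem _ ?_
    rw [h𝔨, RingHom.mem_ker, map_sub, AlgHom.commutes, ← hc]
    exact sub_self _
  have h12 := Algebra.FormallyUnramified.comp_injective N hN2 heq
  intro x hx
  have h1 := AlgHom.congr_fun h12 x
  have h2 : (s.comp χ) x = 0 := by
    rw [h𝔨, RingHom.mem_ker] at hx
    show s (χ x) = 0
    rw [hx, map_zero]
  rw [h2] at h1
  exact Ideal.Quotient.eq_zero_iff_mem.mp h1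

/-- The kernel of a point of a finite type algebra is finitely generated up to `𝔞 P'`. -/
theorem exists_finset_ker_eq {P P' : Type u} [CommRing P] [CommRing P'] [Algebra P P']
    [Algebra.FiniteType P P'] (𝔞 : Ideal P) (χ : P' →ₐ[P] P ⧸ 𝔞) :
    ∃ S : Finset P', RingHom.ker χ = 𝔞.map (algebraMap P P') ⊔ Ideal.span (S : Set P') := by
  classical
  obtain ⟨s, hs⟩ := (Algebra.FiniteType.out : (⊤ : Subalgebra P P').FG)
  choose c hc using fun y : P' => Ideal.Quotient.mk_surjective (χ y)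
  refine ⟨s.image (fun y => y - algebraMap P P' (c y)), ?_⟩
  obtain ⟨𝔠, h𝔠⟩ : ∃ 𝔠 : Ideal P', 𝔠 = 𝔞.map (algebraMap P P') ⊔
      Ideal.span ((s.image (fun y => y - algebraMap P P' (c y)) : Finset P') : Set P') := ⟨_, rfl⟩
  rw [← h𝔠]
  have hle : 𝔠 ≤ RingHom.ker χ := by
    rw [h𝔠]
    refine sup_le ?_ ?_
    · rw [Ideal.map_le_iff_le_comap]
      intro a ha
      rw [Ideal.mem_comap, RingHom.mem_ker, AlgHom.commutes]
      exact Ideal.Quotient.eq_zero_iff_mem.mpr ha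
    · rw [Ideal.span_le]
      intro z hz
      obtain ⟨y, -, rfl⟩ := Finset.mem_image.mp (Finset.mem_coe.mp hz)
      rw [SetLike.mem_coe, RingHom.mem_ker, map_sub, AlgHom.commutes]
      show χ y - Ideal.Quotient.mk 𝔞 (c y) = 0
      rw [hc y, sub_self]
  have key : ∀ x : P', ∃ r : P, x - algebraMap P P' r ∈ 𝔠 := by
    intro x
    have hx : x ∈ Algebra.adjoin P (s : Set P') := by rw [hs]; trivial
    induction hx using Algebra.adjoin_induction with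
    | mem y hy =>
      refine ⟨c y, ?_⟩
      rw [h𝔠]
      exact Ideal.mem_sup_right (Ideal.subset_span
        (Finset.mem_coe.mpr (Finset.mem_image.mpr ⟨y, Finset.mem_coe.mp hy, rfl⟩)))
    | algebraMap r => exact ⟨r, by rw [sub_self]; exact 𝔠.zero_mem⟩
    | add x y _ _ hx hy =>
      obtain ⟨r₁, h₁⟩ := hx
      obtain ⟨r₂, h₂⟩ := hy
      refine ⟨r₁ + r₂, ?_⟩
      have : x + y - algebraMap P P' (r₁ + r₂) =
          (x - algebraMap P P' r₁) + (y - algebraMap P P' r₂) := by rw [map_add]; ring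
      rw [this]; exact 𝔠.add_mem h₁ h₂
    | mul x y _ _ hx hy =>
      obtain ⟨r₁, h₁⟩ := hx
      obtain ⟨r₂, h₂⟩ := hy
      refine ⟨r₁ * r₂, ?_⟩
      have : x * y - algebraMap P P' (r₁ * r₂) =
          x * (y - algebraMap P P' r₂) + algebraMap P P' r₂ * (x - algebraMap P P' r₁) := by
        rw [map_mul]; ring
      rw [this]
      exact 𝔠.add_mem (𝔠.mul_mem_left _ h₂) (𝔠.mul_mem_left _ h₁)
  refine le_antisymm (fun x hx => ?_) hle
  obtain ⟨r, hr⟩ := key x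
  have h1 : algebraMap P P' r ∈ RingHom.ker χ := by
    have : algebraMap P P' r = x - (x - algebraMap P P' r) := by ring
    rw [this]
    exact Ideal.sub_mem _ hx (hle hr)
  rw [RingHom.mem_ker, AlgHom.commutes] at h1
  have h2 : r ∈ 𝔞 := Ideal.Quotient.eq_zero_iff_mem.mp h1
  have h3 : algebraMap P P' r ∈ 𝔠 := by
    rw [h𝔠]; exact Ideal.mem_sup_left (Ideal.mem_map_of_mem _ h2)
  have : x = (x - algebraMap P P' r) + algebraMap P P' r := by ring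
  rw [this]
  exact 𝔠.add_mem hr h3

/-- Nakayama: if `𝔡 ≤ 𝔨 ≤ 𝔡 ⊔ 𝔨²` and `𝔨` is finitely generated up to `𝔡`, then some
`h ≡ 1 mod 𝔨` multiplies `𝔨` into `𝔡`. -/
theorem exists_mul_mem_of_le_sup_sq {P' : Type u} [CommRing P'] (𝔨 𝔡 𝔡' : Ideal P')
    (h𝔡' : 𝔡' ≤ 𝔡) (hsq : 𝔨 ≤ 𝔡 ⊔ 𝔨 ^ 2) (S : Finset P')
    (hS : 𝔨 = 𝔡' ⊔ Ideal.span (S : Set P')) :
    ∃ h : P', h - 1 ∈ 𝔨 ∧ ∀ x ∈ 𝔨, h * x ∈ 𝔡 := by
  classical
  obtain ⟨N, hN⟩ : ∃ N : Submodule P' (P' ⧸ 𝔡), N = Submodule.map (Submodule.mkQ 𝔡) 𝔨 :=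
    ⟨_, rfl⟩
  have hNfg : N.FG := by
    have h1 : N = Submodule.map (Submodule.mkQ 𝔡) (Ideal.span (S : Set P')) := by
      rw [hN]
      conv_lhs => rw [hS]
      rw [Submodule.map_sup]
      have : Submodule.map (Submodule.mkQ 𝔡) 𝔡' = ⊥ := by
        rw [eq_bot_iff]
        rintro _ ⟨x, hx, rfl⟩
        rw [Submodule.mem_bot, Submodule.mkQ_apply, Submodule.Quotient.mk_eq_zero]
        exact h𝔡' hx
      rw [this, bot_sup_eq]
    rw [h1]
    exact Submodule.FG.map _ ⟨S, rfl⟩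
  have hle : N ≤ 𝔨 • N := by
    rw [hN]
    rintro _ ⟨x, hx, rfl⟩
    obtain ⟨y, hy, z, hz, rfl⟩ := Submodule.mem_sup.mp (hsq hx)
    have h1 : Submodule.mkQ 𝔡 (y + z) = Submodule.mkQ 𝔡 z := by
      rw [map_add]
      have : Submodule.mkQ 𝔡 y = 0 := by
        rw [Submodule.mkQ_apply, Submodule.Quotient.mk_eq_zero]; exact hy
      rw [this, zero_add]
    rw [h1]
    have h2 : z ∈ 𝔨 • (𝔨 : Submodule P' P') := by
      rw [pow_two] at hz
      exact hz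
    have := Submodule.mem_map_of_mem (f := Submodule.mkQ 𝔡) h2
    rwa [Submodule.map_smul''] at this
  obtain ⟨h, hh1, hh2⟩ :=
    Submodule.exists_sub_one_mem_and_smul_eq_zero_of_fg_of_le_smul 𝔨 N hNfg hle
  refine ⟨h, hh1, fun x hx => ?_⟩
  have h3 := hh2 (Submodule.mkQ 𝔡 x) (by rw [hN]; exact Submodule.mem_map_of_mem hx)
  rw [← map_smul, Submodule.mkQ_apply, Submodule.Quotient.mk_eq_zero, smul_eq_mul] at h3
  exact h3

end Groth.Agent.H3.SL
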