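import Groth.Agent.H3.UnramNear

/-!
# Smoothness near `V(JS)` from flatness and smoothness of the reduction
-/

set_option autoImplicit false
set_option linter.unusedSimpArgs false
set_option linter.unusedVariables false
set_option linter.style.haveILetI false
universe u

namespace Groth.Agent.H3

open TensorProduct

/-- A flat finitely presented `A`-algebra `S` with `S/JS` formally smooth over `A/J` is smooth over
`A` at every prime containing `JS`. -/
theorem isSmoothAt_of_flat_of_smooth_quotient {A S : Type u} [CommRing A] [CommRing S]
    [Algebra A S] [Algebra.FinitePresentation A S] [Module.Flat A S] (J : Ideal A)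
    [Algebra.FormallySmooth (A ⧸ J) (S ⧸ J.map (algebraMap A S))]
    (q : Ideal S) [q.IsPrime] (hq : J.map (algebraMap A S) ≤ q) : Algebra.IsSmoothAt A q := by
  obtain ⟨p, hp⟩ : ∃ p : Ideal A, p = q.under A := ⟨_, rfl⟩
  haveI : p.IsPrime := by rw [hp]; infer_instance
  haveI : q.LiesOver p := ⟨hp⟩
  have hJp : J ≤ p := by
    intro j hj
    rw [hp]
    exact hq (Ideal.mem_map_of_mem _ hj)
  letI : Algebra (A ⧸ J) p.ResidueField :=
    (Ideal.Quotient.lift J (algebraMap A p.ResidueField)
      (fun a ha => (Ideal.algebraMap_residueField_eq_zero).mpr (hJp ha))).toAlgebra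
  haveI : IsScalarTower A (A ⧸ J) p.ResidueField :=
    IsScalarTower.of_algebraMap_eq (fun a => rfl)
  haveI : Algebra.FormallySmooth (A ⧸ J) ((A ⧸ J) ⊗[A] S) :=
    Algebra.FormallySmooth.of_equiv (Algebra.TensorProduct.quotIdealMapEquivQuotTensor S J)
  haveI : Algebra.FormallySmooth p.ResidueField (p.ResidueField ⊗[A ⧸ J] ((A ⧸ J) ⊗[A] S)) :=
    inferInstance
  haveI : Algebra.FormallySmooth p.ResidueField (p.Fiber S) :=
    Algebra.FormallySmooth.of_equiv
      (Algebra.TensorProduct.cancelBaseChange A (A ⧸ J) p.ResidueField p.ResidueField S)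
  exact Algebra.IsSmoothAt.of_formallySmooth_fiber p q

/-- Localizing at `g ≡ 1 mod IR` does not change the henselization of `(R, IR)`. -/
theorem exists_away_isPairHenselization {A R : Type u} [CommRing A] [CommRing R] [Algebra A R]
    (I : Ideal A) (B : Type u) [CommRing B] [Algebra R B] [Algebra A B] [IsScalarTower A R B]
    (hB : Hens2.IsPairHenselization R (I.map (algebraMap A R)) B) (g : R)
    (hg : g - 1 ∈ I.map (algebraMap A R)) :
    ∃ (_ : Algebra (Localization.Away g) B) (_ : IsScalarTower A (Localization.Away g) B),
      Hens2.IsPairHenselization (Localization.Away g)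
        (I.map (algebraMap A (Localization.Away g))) B := by
  have hu : IsUnit (algebraMap R B g) := by
    have h1 : algebraMap R B g - 1 ∈ (I.map (algebraMap A R)).map (algebraMap R B) := by
      have := Ideal.mem_map_of_mem (algebraMap R B) hg
      rwa [map_sub, map_one] at this
    have h2 := Ideal.mem_jacobson_bot.mp (hB.1.jac h1) 1
    simpa using h2
  let φ : Localization.Away g →+* B := IsLocalization.Away.lift g hu
  letI : Algebra (Localization.Away g) B := φ.toAlgebra
  haveI : IsScalarTower R (Localization.Away g) B :=
    IsScalarTower.of_algebraMap_eq (fun r => (IsLocalization.Away.lift_eq g hu r).symm)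
  haveI : IsScalarTower A (Localization.Away g) B :=
    IsScalarTower.of_algebraMap_eq (fun a => by
      rw [IsScalarTower.algebraMap_apply A R B,
        IsScalarTower.algebraMap_apply A R (Localization.Away g),
        ← IsScalarTower.algebraMap_apply R (Localization.Away g) B])
  refine ⟨inferInstance, inferInstance, ?_⟩
  have := PH.isPairHenselization_of_nbhd (I.map (algebraMap A R)) B hB
    (Localization.Away g) (quotientMap_away_bijective _ g hg _)
  rwa [Ideal.map_map, ← IsScalarTower.algebraMap_eq] at this

end Groth.Agent.H3
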