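import Mathlib
import Groth.Agent.H3.TorPowDefs

/-! Uniform vanishing of `Tor_p(I^n M, N) → Tor_p(M, N)` for `N` killed by `I` (helper3).

Proof: induction on the number of generators of `I`; for `I = I' + (f)` use the two sequences
`0 → (0 :_M f) → M → fM → 0`, `0 → fM → M → M/fM → 0` (the composite `fM → M → fM` is multiplication
by `f`, zero on `Tor(N, -)`), the inductive hypothesis for `M/fM` and `(0 :_M f)`, and Artin–Rees. -/

set_option autoImplicit false
set_option linter.unusedSectionVars false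
set_option linter.unusedVariables false
set_option linter.style.haveILetI false

universe u

open CategoryTheory CategoryTheory.Limits MonoidalCategory

namespace Groth.Agent.H3.TorPow

open Groth.Agent.H82 Groth.Agent.H82.LDer Groth.Agent.H82.TorLib

variable {A : Type u} [CommRing A] (N : Type u) [AddCommGroup N] [Module A N]

theorem smul_eq_zero (f : A) (hf : ∀ y : N, f • y = 0) (p : ℕ) (X : ModuleCat.{u} A)
    (t : (T (A := A) N p).obj X) : f • t = 0 := by
  obtain ⟨e⟩ := Groth.Agent.H82.TorSymm.nonempty_tor_iso_flip (A := A) p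
  let i : (T (A := A) N p).obj X ≅ ((Tor (ModuleCat.{u} A) p).obj X).obj (ModuleCat.of A N) :=
    (e.app (ModuleCat.of A N)).app X
  have h1 : f • (i.hom t) = 0 :=
    Groth.Agent.H23.TorPowGen.smul_eq_zero_of_smul_id X p (ModuleCat.of A N) f hf (i.hom t)
  have h2 : i.hom (f • t) = 0 := by
    rw [← h1]
    exact map_smul i.hom.hom f t
  have h3 := congrArg i.inv h2
  rw [map_zero] at h3
  rw [← h3]
  exact (FiltColim.app_congr i.hom_inv_id (f • t)).symm

theorem lemmaA (f : A) (hf : ∀ y : N, f • y = 0) (M : Type u) [AddCommGroup M] [Module A M]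
    (p : ℕ) (x : (T (A := A) N p).obj (ModuleCat.of A M))
    (hx : ((T (A := A) N p).map
      (ModuleCat.ofHom (LinearMap.range (LinearMap.lsmul A M f)).mkQ)) x = 0) :
    ∃ z : (T (A := A) N p).obj (ModuleCat.of A ↥(LinearMap.ker (LinearMap.lsmul A M f))),
      ((T (A := A) N p).map
        (ModuleCat.ofHom (LinearMap.ker (LinearMap.lsmul A M f)).subtype)) z = x := by
  set φ : M →ₗ[A] M := LinearMap.lsmul A M f with hφ
  -- the sequence `0 → fM → M → M/fM → 0`
  have hS2 := TorFlat.shortExact_of (A := A) (LinearMap.range φ).subtype (LinearMap.range φ).mkQ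
    (Submodule.injective_subtype _) (Submodule.mkQ_surjective _)
    (LinearMap.exact_subtype_mkQ _)
  obtain ⟨hz2, hex2, -⟩ := hasLES_tor (ModuleCat.of A N) _ hS2 p
  obtain ⟨y, hy⟩ := (ShortComplex.moduleCat_exact_iff _).mp (hex2 hz2) x hx
  -- the sequence `0 → Γ → M → fM → 0`
  have hexact1 : Function.Exact (LinearMap.ker φ).subtype φ.rangeRestrict := by
    intro m
    constructor
    · intro hm
      have h0 : φ m = 0 := congrArg Subtype.val hm
      exact ⟨⟨m, h0⟩, rfl⟩
    · rintro ⟨z, rfl⟩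
      exact Subtype.ext z.2
  have hS1 := TorFlat.shortExact_of (A := A) (LinearMap.ker φ).subtype φ.rangeRestrict
    (Submodule.injective_subtype _) (LinearMap.surjective_rangeRestrict φ) hexact1
  obtain ⟨hz1, hex1, -⟩ := hasLES_tor (ModuleCat.of A N) _ hS1 p
  refine (ShortComplex.moduleCat_exact_iff _).mp (hex1 hz1) x ?_
  -- `T(α) x = T(α ∘ β) y = f • y = 0`
  have hcomp : ModuleCat.ofHom (LinearMap.range φ).subtype ≫ ModuleCat.ofHom φ.rangeRestrict =
      f • 𝟙 (ModuleCat.of A ↥(LinearMap.range φ)) := by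
    refine ModuleCat.hom_ext (LinearMap.ext fun m => ?_)
    apply Subtype.ext
    rfl
  have h1 := FiltColim.app_congr
    (congrArg (T (A := A) N p).map hcomp) y
  rw [Functor.map_comp, FiltColim.app_comp, Groth.Agent.H82.TorReg2.map_smul_eq] at h1
  show ((T (A := A) N p).map (ModuleCat.ofHom φ.rangeRestrict)) x = 0
  rw [← hy]
  refine h1.trans ?_
  exact smul_eq_zero N f hf p _ y

theorem TZ_comp_of (f : A) (hf : ∀ y : N, f • y = 0)
    {X M M' : Type u} [AddCommGroup X] [Module A X] [AddCommGroup M] [Module A M]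
    [AddCommGroup M'] [Module A M'] (g : X →ₗ[A] M) (h : M →ₗ[A] M')
    (h1 : TZ N ((LinearMap.range (LinearMap.lsmul A M f)).mkQ ∘ₗ g))
    (h2 : TZ N (h ∘ₗ (LinearMap.ker (LinearMap.lsmul A M f)).subtype)) : TZ N (h ∘ₗ g) := by
  intro p
  refine ModuleCat.hom_ext (LinearMap.ext fun x => ?_)
  have e1 : ((T (A := A) N p).map (ModuleCat.ofHom (LinearMap.range (LinearMap.lsmul A M f)).mkQ))
      (((T (A := A) N p).map (ModuleCat.ofHom g)) x) = 0 := by
    have := FiltColim.app_congr (h1 p) x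
    rw [ModuleCat.ofHom_comp, Functor.map_comp, FiltColim.app_comp] at this
    exact this
  obtain ⟨z, hz⟩ := lemmaA N f hf M p _ e1
  have e2 := FiltColim.app_congr (h2 p) z
  rw [ModuleCat.ofHom_comp, Functor.map_comp, FiltColim.app_comp, hz] at e2
  show ((T (A := A) N p).map (ModuleCat.ofHom (h ∘ₗ g))).hom x = 0
  rw [ModuleCat.ofHom_comp, Functor.map_comp]
  exact e2

/-- (P1) powers of `I' + (f)` on a module killed by `f`. -/
theorem pow_smul_top_eq (I' : Ideal A) (f : A) (Q : Type u) [AddCommGroup Q] [Module A Q]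
    (hQ : ∀ q : Q, f • q = 0) (k : ℕ) :
    ((I' ⊔ Ideal.span {f}) ^ k • (⊤ : Submodule A Q)) = I' ^ k • (⊤ : Submodule A Q) := by
  have hbot : ∀ L : Submodule A Q, (Ideal.span {f} : Ideal A) • L = ⊥ := by
    intro L
    rw [eq_bot_iff]
    refine Submodule.smul_le.mpr fun r hr n _ => ?_
    obtain ⟨a, rfl⟩ := Ideal.mem_span_singleton'.mp hr
    rw [Submodule.mem_bot, mul_smul, hQ, smul_zero]
  induction k with
  | zero => rw [pow_zero, pow_zero]
  | succ k ih =>
    rw [pow_succ', pow_succ', Submodule.mul_smul, Submodule.mul_smul, ih, Submodule.sup_smul, hbot,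
      sup_bot_eq]

/-- (IND) the induction step. -/
theorem step [IsNoetherianRing A] (I' : Ideal A) (f : A) (hf : ∀ y : N, f • y = 0)
    (IH : ∀ (M : Type u) [AddCommGroup M] [Module A M] [Module.Finite A M],
      ∃ n, 0 < n ∧ TZ N (I' ^ n • (⊤ : Submodule A M)).subtype)
    (M : Type u) [AddCommGroup M] [Module A M] [Module.Finite A M] :
    ∃ n, 0 < n ∧ TZ N ((I' ⊔ Ideal.span {f}) ^ n • (⊤ : Submodule A M)).subtype := by
  haveI : IsNoetherian A M := isNoetherian_of_isNoetherianRing_of_finite A M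
  set I : Ideal A := I' ⊔ Ideal.span {f} with hI
  set Γ : Submodule A M := LinearMap.ker (LinearMap.lsmul A M f) with hΓdef
  have hΓkill : ∀ q : ↥Γ, f • q = 0 := by
    rintro ⟨q, hq⟩
    apply Subtype.ext
    exact LinearMap.mem_ker.mp hq
  obtain ⟨n2, hn2, hΓ⟩ := IH ↥Γ
  obtain ⟨c, hc⟩ := Ideal.exists_pow_inf_eq_pow_smul I Γ
  set m : ℕ := n2 + c with hm
  have hAR : (I ^ m • ⊤ ⊓ Γ : Submodule A M) ≤ I ^ n2 • Γ := by
    rw [hc m (Nat.le_add_left c n2), hm, Nat.add_sub_cancel]
    exact smul_mono_right _ inf_le_right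
  set L2 : Submodule A M := I ^ m • ⊤ with hL2
  set R2 : Submodule A ↥L2 := LinearMap.range (LinearMap.lsmul A ↥L2 f) with hR2
  have hQkill : ∀ q : ↥L2 ⧸ R2, f • q = 0 := by
    intro q
    obtain ⟨y, rfl⟩ := Submodule.mkQ_surjective R2 q
    rw [← map_smul, Submodule.mkQ_apply, Submodule.Quotient.mk_eq_zero]
    exact ⟨y, rfl⟩
  obtain ⟨n1, hn1, hQ⟩ := IH (↥L2 ⧸ R2)
  refine ⟨n1 + m, by omega, ?_⟩
  set L : Submodule A M := I ^ (n1 + m) • ⊤ with hL
  have hle : L ≤ L2 :=
    Submodule.smul_mono_left (Ideal.pow_le_pow_right (Nat.le_add_left m n1))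
  have hLmap : Submodule.map L2.subtype (I ^ n1 • (⊤ : Submodule A ↥L2)) = L := by
    rw [Submodule.map_smul'', Submodule.map_subtype_top, hL2, ← Submodule.mul_smul, ← pow_add]
  -- first hypothesis
  have h1 : TZ N (R2.mkQ ∘ₗ Submodule.inclusion hle) := by
    have hmem : ∀ x : ↥L, (R2.mkQ ∘ₗ Submodule.inclusion hle) x ∈
        (I' ^ n1 • (⊤ : Submodule A (↥L2 ⧸ R2))) := by
      intro x
      have hx : (x : M) ∈ Submodule.map L2.subtype (I ^ n1 • (⊤ : Submodule A ↥L2)) := by
        rw [hLmap]; exact x.2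
      obtain ⟨y, hy, hyx⟩ := hx
      have hyx' : y = Submodule.inclusion hle x := Subtype.ext hyx
      rw [← pow_smul_top_eq I' f (↥L2 ⧸ R2) hQkill n1, LinearMap.comp_apply, ← hyx']
      have : R2.mkQ y ∈ Submodule.map R2.mkQ (I ^ n1 • (⊤ : Submodule A ↥L2)) :=
        Submodule.mem_map_of_mem hy
      rw [Submodule.map_smul''] at this
      exact (smul_mono_right _ le_top : _ ≤ I ^ n1 • (⊤ : Submodule A (↥L2 ⧸ R2))) this
    have hfac : R2.mkQ ∘ₗ Submodule.inclusion hle =
        (I' ^ n1 • (⊤ : Submodule A (↥L2 ⧸ R2))).subtype ∘ₗ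
          LinearMap.codRestrict _ (R2.mkQ ∘ₗ Submodule.inclusion hle) hmem := by
      ext x; rfl
    rw [hfac]
    exact TZ.comp_right N hQ _
  -- second hypothesis
  set Γ2 : Submodule A ↥L2 := LinearMap.ker (LinearMap.lsmul A ↥L2 f) with hΓ2
  have h2 : TZ N (L2.subtype ∘ₗ Γ2.subtype) := by
    have hmemΓ : ∀ z : ↥Γ2, (L2.subtype ∘ₗ Γ2.subtype) z ∈ Γ := by
      rintro ⟨⟨z, hz2⟩, hz⟩
      have h0 : f • (⟨z, hz2⟩ : ↥L2) = 0 := LinearMap.mem_ker.mp hz
      have h1 : f • z = 0 := congrArg Subtype.val h0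
      exact LinearMap.mem_ker.mpr h1
    let u : ↥Γ2 →ₗ[A] ↥Γ := LinearMap.codRestrict Γ (L2.subtype ∘ₗ Γ2.subtype) hmemΓ
    have hmapΓ : Submodule.map Γ.subtype (I ^ n2 • (⊤ : Submodule A ↥Γ)) = I ^ n2 • Γ := by
      rw [Submodule.map_smul'', Submodule.map_subtype_top]
    have hmemu : ∀ z : ↥Γ2, u z ∈ (I' ^ n2 • (⊤ : Submodule A ↥Γ)) := by
      intro z
      have hz1 : ((u z : ↥Γ) : M) ∈ I ^ n2 • Γ := by
        apply hAR
        refine ⟨?_, (u z).2⟩
        exact (z : ↥L2).2
      rw [← hmapΓ] at hz1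
      obtain ⟨y, hy, hyz⟩ := hz1
      have : y = u z := Subtype.ext hyz
      rw [← pow_smul_top_eq I' f ↥Γ hΓkill n2, ← this]
      exact hy
    have hfac : L2.subtype ∘ₗ Γ2.subtype =
        (Γ.subtype ∘ₗ (I' ^ n2 • (⊤ : Submodule A ↥Γ)).subtype) ∘ₗ
          LinearMap.codRestrict _ u hmemu := by
      ext z; rfl
    rw [hfac]
    exact TZ.comp_right N (TZ.comp_left N hΓ Γ.subtype) _
  have key := TZ_comp_of N f hf (Submodule.inclusion hle) L2.subtype h1 h2
  have hcomp : L2.subtype ∘ₗ Submodule.inclusion hle = L.subtype := by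
    ext x; rfl
  rw [hcomp] at key
  exact key

theorem main [IsNoetherianRing A] (r : ℕ) : ∀ (s : Fin r → A) (_ : ∀ i (y : N), s i • y = 0)
    (M : Type u) [AddCommGroup M] [Module A M] [Module.Finite A M],
    ∃ n, 0 < n ∧ TZ N ((Ideal.span (Set.range s)) ^ n • (⊤ : Submodule A M)).subtype := by
  induction r with
  | zero =>
    intro s hs M _ _ _
    refine ⟨1, Nat.one_pos, ?_⟩
    have h0 : Ideal.span (Set.range s) = ⊥ := by
      rw [Ideal.span_eq_bot]
      rintro x ⟨i, rfl⟩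
      exact i.elim0
    have hz : ((Ideal.span (Set.range s)) ^ 1 • (⊤ : Submodule A M)) = ⊥ := by
      rw [h0, pow_one, Submodule.bot_smul]
    have hsub : ((Ideal.span (Set.range s)) ^ 1 • (⊤ : Submodule A M)).subtype = 0 := by
      ext ⟨x, hx⟩
      rw [hz] at hx
      simpa using hx
    intro p
    rw [hsub]
    show (T (A := A) N p).map (ModuleCat.ofHom (0 : _ →ₗ[A] M)) = 0
    rw [ModuleCat.ofHom_zero, Functor.map_zero]
  | succ r ih =>
    intro s hs M _ _ _
    have hI : Ideal.span (Set.range s) =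
        Ideal.span (Set.range (fun i : Fin r => s i.castSucc)) ⊔ Ideal.span {s (Fin.last r)} := by
      rw [← Ideal.span_union]
      congr 1
      ext x
      constructor
      · rintro ⟨i, rfl⟩
        rcases Fin.eq_castSucc_or_eq_last i with ⟨j, rfl⟩ | rfl
        · exact Or.inl ⟨j, rfl⟩
        · exact Or.inr rfl
      · rintro (⟨j, rfl⟩ | rfl)
        · exact ⟨_, rfl⟩
        · exact ⟨_, rfl⟩
    rw [hI]
    exact step N _ (s (Fin.last r)) (hs _)
      (fun M' _ _ _ => ih (fun i => s i.castSucc) (fun i => hs _) M') M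

end Groth.Agent.H3.TorPow
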