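import Groth.Prelude.Def_Flat
import Mathlib.AlgebraicGeometry.Morphisms.UniversallyInjective
import Mathlib.AlgebraicGeometry.Morphisms.ClosedImmersion
import Mathlib.AlgebraicGeometry.Morphisms.Immersion
import Mathlib.AlgebraicGeometry.Morphisms.SurjectiveOnStalks

set_option autoImplicit false
universe u

namespace Groth.Agent.H3

open AlgebraicGeometry CategoryTheory Limits MorphismProperty

theorem isUnivHomeo_of_comp_left {X Y Z : Scheme.{u}} (g : X ⟶ Y) (h : Y ⟶ Z)
    (hgh : FlatMor.IsUnivHomeo (g ≫ h)) (hg : FlatMor.IsUnivHomeo g) : FlatMor.IsUnivHomeo h := by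
  intro Y' Z' i₁ i₂ h' sq
  have sq2 : IsPullback (pullback.snd g i₁) (pullback.fst g i₁) i₁ g :=
    (IsPullback.of_hasPullback g i₁).flip
  have sq3 := sq2.paste_horiz sq
  have h1 : IsHomeomorph (pullback.snd g i₁ ≫ h') := hgh _ _ _ sq3
  have h2 : IsHomeomorph (pullback.snd g i₁) := hg _ _ _ sq2
  change IsHomeomorph h'
  let e := h2.homeomorph
  have : ⇑h' = ⇑(pullback.snd g i₁ ≫ h') ∘ ⇑e.symm := by
    funext y
    simp only [Function.comp_apply, Scheme.Hom.comp_apply]
    congr 1
    exact (e.apply_symm_apply y).symm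
  rw [this]
  exact h1.comp e.symm.isHomeomorph

end Groth.Agent.H3

namespace Groth.Agent.H3

open AlgebraicGeometry CategoryTheory Limits MorphismProperty

theorem isUnivHomeo_of_surjective_isClosedImmersion {X Y : Scheme.{u}} (f : X ⟶ Y)
    [IsClosedImmersion f] [Surjective f] : FlatMor.IsUnivHomeo f := by
  intro X' Y' i₁ i₂ f' sq
  have h1 : IsClosedImmersion f' := MorphismProperty.of_isPullback sq.flip ‹_›
  have h2 : Surjective f' := MorphismProperty.of_isPullback sq.flip ‹_›
  change IsHomeomorph f'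
  rw [isHomeomorph_iff_isEmbedding_surjective]
  exact ⟨f'.isClosedEmbedding.isEmbedding, f'.surjective⟩

theorem isUnivHomeo_diagonal {Y Z : Scheme.{u}} (h : Y ⟶ Z) (hh : FlatMor.IsUnivHomeo h) :
    FlatMor.IsUnivHomeo (pullback.diagonal h) := by
  have h1 : UniversallyInjective h := by
    rw [universallyInjective_eq]
    refine universally_mono ?_ _ hh
    intro X Y f hf
    exact hf.injective
  have h2 : Surjective (pullback.diagonal h) := (UniversallyInjective.iff_diagonal h).mp h1
  have h3 : IsClosedImmersion (pullback.diagonal h) := by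
    apply IsClosedImmersion.of_isPreimmersion
    rw [(pullback.diagonal h).surjective.range_eq]
    exact isClosed_univ
  exact isUnivHomeo_of_surjective_isClosedImmersion _

instance isUnivHomeo_isStableUnderBaseChange : (FlatMor.IsUnivHomeo.{u}).IsStableUnderBaseChange := by
  unfold FlatMor.IsUnivHomeo; infer_instance

theorem isUnivHomeo_of_comp_right {X Y Z : Scheme.{u}} (g : X ⟶ Y) (h : Y ⟶ Z)
    (hgh : FlatMor.IsUnivHomeo (g ≫ h)) (hh : FlatMor.IsUnivHomeo h) : FlatMor.IsUnivHomeo g := by
  set gr : X ⟶ pullback (g ≫ h) h := pullback.lift (𝟙 X) g (by simp) with hgr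
  have hg : g = gr ≫ pullback.snd _ _ := (pullback.lift_snd _ _ _).symm
  have h1 : FlatMor.IsUnivHomeo gr :=
    FlatMor.IsUnivHomeo.of_isPullback (pullback_lift_diagonal_isPullback g h)
      (isUnivHomeo_diagonal h hh)
  have h2 : FlatMor.IsUnivHomeo (pullback.snd (g ≫ h) h) :=
    FlatMor.IsUnivHomeo.pullback_snd _ _ hgh
  -- compose: use part one in reverse? direct composition of universal homeomorphisms
  rw [hg]
  intro X' Y' i₁ i₂ f' sq
  -- base change of a composite
  have sqB : IsPullback (pullback.snd (pullback.snd (g ≫ h) h) i₂) (pullback.fst _ i₂) i₂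
      (pullback.snd (g ≫ h) h) := (IsPullback.of_hasPullback _ i₂).flip
  let k : X' ⟶ pullback (pullback.snd (g ≫ h) h) i₂ :=
    pullback.lift (i₁ ≫ gr) f' (by rw [Category.assoc, ← sq.w])
  have hk1 : k ≫ pullback.fst (pullback.snd (g ≫ h) h) i₂ = i₁ ≫ gr := pullback.lift_fst _ _ _
  have hk2 : k ≫ pullback.snd (pullback.snd (g ≫ h) h) i₂ = f' := pullback.lift_snd _ _ _
  have sqA : IsPullback k i₁ (pullback.fst _ i₂) gr := by
    refine IsPullback.of_right ?_ hk1 sqB
    rw [hk2]
    exact sq
  have hk : IsHomeomorph k := h1 _ _ _ sqA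
  have hB : IsHomeomorph (pullback.snd (pullback.snd (g ≫ h) h) i₂) := h2 _ _ _ sqB
  change IsHomeomorph f'
  have : ⇑f' = ⇑(pullback.snd (pullback.snd (g ≫ h) h) i₂) ∘ ⇑k := by
    funext y
    rw [Function.comp_apply, ← Scheme.Hom.comp_apply, hk2]
  rw [this]
  exact hB.comp hk

end Groth.Agent.H3
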