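import Mathlib

set_option autoImplicit false
universe u

namespace Groth.Agent.H3

open TensorProduct

theorem flat_prod {R M N : Type u} [CommRing R] [AddCommGroup M] [Module R M]
    [AddCommGroup N] [Module R N] [Module.Flat R M] [Module.Flat R N] :
    Module.Flat R (M × N) := by
  rw [Module.Flat.iff_lTensor_preserves_injective_linearMap]
  intro P P' _ _ _ _ f hf
  rw [injective_iff_map_eq_zero]
  intro x hx
  have key : ∀ {L : Type u} [AddCommGroup L] [Module R L] [Module.Flat R L]
      (g : M × N →ₗ[R] L), g.rTensor P x = 0 := by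
    intro L _ _ _ g
    apply Module.Flat.lTensor_preserves_injective_linearMap (M := L) f hf
    rw [map_zero, ← LinearMap.comp_apply, LinearMap.lTensor_comp_rTensor,
      ← LinearMap.rTensor_comp_lTensor, LinearMap.comp_apply, hx, map_zero]
  have h1 := key (LinearMap.fst R M N)
  have h2 := key (LinearMap.snd R M N)
  have h3 : x = (LinearMap.inl R M N).rTensor P ((LinearMap.fst R M N).rTensor P x) +
      (LinearMap.inr R M N).rTensor P ((LinearMap.snd R M N).rTensor P x) := by
    rw [← LinearMap.comp_apply, ← LinearMap.comp_apply, ← LinearMap.rTensor_comp,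
      ← LinearMap.rTensor_comp, ← LinearMap.add_apply, ← LinearMap.rTensor_add]
    have : (LinearMap.inl R M N).comp (LinearMap.fst R M N) +
        (LinearMap.inr R M N).comp (LinearMap.snd R M N) = LinearMap.id := by
      ext <;> simp
    rw [this, LinearMap.rTensor_id, LinearMap.id_apply]
  rw [h3, h1, h2, map_zero, map_zero, add_zero]

theorem lTensor_injective_of_finite_free {R : Type u} [CommRing R] [IsLocalRing R]
    {G N : Type u} [AddCommGroup G] [Module R G] [Module.Finite R G] [Module.Free R G]
    [AddCommGroup N] [Module R N] [Module.Flat R N] (w : G →ₗ[R] N)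
    (h : Function.Injective (w.lTensor (IsLocalRing.ResidueField R)))
    (Q : Type u) [AddCommGroup Q] [Module R Q] : Function.Injective (w.lTensor Q) := by
  classical
  rw [injective_iff_map_eq_zero]
  intro x hx
  let ι := Module.Free.ChooseBasisIndex R G
  let b : Module.Basis ι R G := Module.Free.chooseBasis R G
  have : Fintype ι := Module.Free.ChooseBasisIndex.fintype R G
  obtain ⟨c, rfl⟩ := TensorProduct.eq_repr_basis_right b x
  have hx' : ∑ i, c i ⊗ₜ[R] w (b i) = 0 := by
    rw [← hx, Finsupp.sum_fintype _ _ (by simp), map_sum]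
    simp
  have hvan := TensorProduct.vanishesTrivially_of_sum_tmul_eq_zero_of_rTensor_injective (R := R)
    (m := fun i => c i) (n := fun i => w (b i))
    (Module.Flat.rTensor_preserves_injective_linearMap _ Subtype.val_injective) hx'
  obtain ⟨k', a, y, h₁, h₂⟩ := hvan
  let A : G →ₗ[R] (Fin k' → R) := b.constr R a
  let v : (Fin k' → R) →ₗ[R] N := Fintype.linearCombination R y
  have hw : w = v ∘ₗ A := by
    apply b.ext
    intro i
    simp [A, v, Fintype.linearCombination_apply, h₁ i]
  have hA : Function.Injective (A.lTensor (IsLocalRing.ResidueField R)) := by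
    rw [hw, LinearMap.lTensor_comp, LinearMap.coe_comp] at h
    exact Function.Injective.of_comp h
  obtain ⟨l', hl'⟩ := (IsLocalRing.split_injective_iff_lTensor_residueField_injective A).mpr hA
  have hAx : A.lTensor Q (c.sum fun i m => m ⊗ₜ[R] b i) = 0 := by
    rw [Finsupp.sum_fintype _ _ (by simp), map_sum]
    simp only [LinearMap.lTensor_tmul, A, Module.Basis.constr_basis]
    apply TensorProduct.sum_tmul_eq_zero_of_vanishesTrivially
    refine ⟨k', a, fun j => Pi.single j 1, ?_, h₂⟩
    intro i
    ext j'
    simp [Finset.sum_apply, Pi.single_apply]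
  have : (l'.lTensor Q) (A.lTensor Q (c.sum fun i m => m ⊗ₜ[R] b i)) =
      c.sum fun i m => m ⊗ₜ[R] b i := by
    rw [← LinearMap.comp_apply, ← LinearMap.lTensor_comp, hl', LinearMap.lTensor_id,
      LinearMap.id_apply]
  rw [← this, hAx, map_zero]

theorem lTensor_injective_of_free {R : Type u} [CommRing R] [IsLocalRing R]
    {F N : Type u} [AddCommGroup F] [Module R F] [Module.Free R F]
    [AddCommGroup N] [Module R N] [Module.Flat R N] (w : F →ₗ[R] N)
    (h : Function.Injective (w.lTensor (IsLocalRing.ResidueField R)))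
    (Q : Type u) [AddCommGroup Q] [Module R Q] : Function.Injective (w.lTensor Q) := by
  classical
  rw [injective_iff_map_eq_zero]
  intro x hx
  let ι := Module.Free.ChooseBasisIndex R F
  let b : Module.Basis ι R F := Module.Free.chooseBasis R F
  obtain ⟨c, rfl⟩ := TensorProduct.eq_repr_basis_right b x
  let s : Finset ι := c.support
  let φ : (s → R) →ₗ[R] F := Fintype.linearCombination R (fun i : s => b i)
  let ψ : F →ₗ[R] (s → R) :=
    b.constr R (fun i => if hi : i ∈ s then Pi.single (⟨i, hi⟩ : s) (1 : R) else 0)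
  have hψφ : ψ ∘ₗ φ = LinearMap.id := by
    apply LinearMap.pi_ext'
    intro i
    apply LinearMap.ext_ring
    simp only [LinearMap.comp_apply, LinearMap.id_apply, LinearMap.coe_single, φ,
      Fintype.linearCombination_apply_single, one_smul, ψ, Module.Basis.constr_basis]
    rw [dif_pos i.2]
  let x' : Q ⊗[R] (s → R) := ∑ i : s, c i ⊗ₜ[R] Pi.single i (1 : R)
  have hx' : φ.lTensor Q x' = c.sum (fun i m => m ⊗ₜ[R] b i) := by
    simp only [x', map_sum, LinearMap.lTensor_tmul, φ, Fintype.linearCombination_apply_single,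
      one_smul]
    rw [Finsupp.sum]
    exact Finset.sum_coe_sort s (fun i => c i ⊗ₜ[R] b i)
  have hk : Function.Injective ((w ∘ₗ φ).lTensor (IsLocalRing.ResidueField R)) := by
    rw [LinearMap.lTensor_comp, LinearMap.coe_comp]
    apply h.comp
    apply Function.LeftInverse.injective (g := ψ.lTensor (IsLocalRing.ResidueField R))
    intro z
    rw [← LinearMap.comp_apply, ← LinearMap.lTensor_comp, hψφ, LinearMap.lTensor_id,
      LinearMap.id_apply]
  have hinj := lTensor_injective_of_finite_free (w ∘ₗ φ) hk Q
  have hx'0 : x' = 0 := by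
    apply hinj
    rw [map_zero, LinearMap.lTensor_comp, LinearMap.comp_apply, hx', hx]
  rw [← hx', hx'0, map_zero]

theorem lTensor_injective_of_projective {R : Type u} [CommRing R] [IsLocalRing R]
    {M N : Type u} [AddCommGroup M] [Module R M] [Module.Projective R M]
    [AddCommGroup N] [Module R N] [Module.Flat R N] (u : M →ₗ[R] N)
    (h : Function.Injective (u.lTensor (IsLocalRing.ResidueField R)))
    (Q : Type u) [AddCommGroup Q] [Module R Q] : Function.Injective (u.lTensor Q) := by
  obtain ⟨s, hs⟩ := Module.projective_def'.mp (inferInstance : Module.Projective R M)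
  set p : (M →₀ R) →ₗ[R] M := Finsupp.linearCombination R id with hp
  let w : (M →₀ R) →ₗ[R] N × (M →₀ R) := (u ∘ₗ p).prod (LinearMap.id - s ∘ₗ p)
  have : Module.Flat R (N × (M →₀ R)) := flat_prod
  have hw1 : (LinearMap.fst R N (M →₀ R)) ∘ₗ w = u ∘ₗ p := LinearMap.fst_prod _ _
  have hw2 : (LinearMap.snd R N (M →₀ R)) ∘ₗ w = LinearMap.id - s ∘ₗ p := LinearMap.snd_prod _ _
  have hws : w ∘ₗ s = (LinearMap.inl R N (M →₀ R)) ∘ₗ u := by
    apply LinearMap.ext
    intro m
    have hm : p (s m) = m := LinearMap.congr_fun hs m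
    simp [w, hm]
  have hk : Function.Injective (w.lTensor (IsLocalRing.ResidueField R)) := by
    rw [injective_iff_map_eq_zero]
    intro y hy
    have e1 : (u.lTensor (IsLocalRing.ResidueField R))
        ((p.lTensor (IsLocalRing.ResidueField R)) y) = 0 := by
      rw [← LinearMap.comp_apply, ← LinearMap.lTensor_comp, ← hw1, LinearMap.lTensor_comp,
        LinearMap.comp_apply, hy, map_zero]
    have e2 : p.lTensor (IsLocalRing.ResidueField R) y = 0 := h (by rw [e1, map_zero])
    have e3 : (LinearMap.id - s ∘ₗ p).lTensor (IsLocalRing.ResidueField R) y = 0 := by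
      rw [← hw2, LinearMap.lTensor_comp, LinearMap.comp_apply, hy, map_zero]
    rw [LinearMap.lTensor_sub, LinearMap.sub_apply, LinearMap.lTensor_id, LinearMap.id_apply,
      LinearMap.lTensor_comp, LinearMap.comp_apply, e2, map_zero, sub_zero] at e3
    exact e3
  have hwQ := lTensor_injective_of_free w hk Q
  rw [injective_iff_map_eq_zero]
  intro x hx
  have e1 : w.lTensor Q (s.lTensor Q x) = 0 := by
    rw [← LinearMap.comp_apply, ← LinearMap.lTensor_comp, hws, LinearMap.lTensor_comp,
      LinearMap.comp_apply, hx, map_zero]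
  have e2 : s.lTensor Q x = 0 := hwQ (by rw [e1, map_zero])
  have : x = p.lTensor Q (s.lTensor Q x) := by
    rw [← LinearMap.comp_apply, ← LinearMap.lTensor_comp, hs, LinearMap.lTensor_id,
      LinearMap.id_apply]
  rw [this, e2, map_zero]

end Groth.Agent.H3
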