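import Mathlib
import Groth.Prelude
import Groth.Agent.H49.UnramFibre

set_option autoImplicit false
universe u
open CategoryTheory CategoryTheory.Limits AlgebraicGeometry

namespace Groth.Agent.H3.UnrSec_U4

/-- (U4) for helper63's S5318 squad: a morphism locally of finite type all of whose fibres are
formally unramified is formally unramified (wrapper around helper49's
`Groth.Agent.H49.UnramFibre.formallyUnramified_of_fiberToSpecResidueField`). -/
theorem formallyUnramified_of_fibers {X S : Scheme.{u}} (g : X ⟶ S) [LocallyOfFiniteType g]
    (h : ∀ s : S, FormallyUnramified (g.fiberToSpecResidueField s)) : FormallyUnramified g :=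
  Groth.Agent.H49.UnramFibre.formallyUnramified_of_fiberToSpecResidueField g h

end Groth.Agent.H3.UnrSec_U4
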