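import Mathlib.AlgebraicGeometry.Morphisms.FormallyUnramified
import Mathlib.AlgebraicGeometry.ResidueField

set_option autoImplicit false
universe u

namespace Groth.Agent.H3

open AlgebraicGeometry CategoryTheory Limits

theorem eq_on_nhd_of_unramified {X Y S : Scheme.{u}} (p : Y ⟶ S) [FormallyUnramified p]
    [LocallyOfFiniteType p] (f g : X ⟶ Y) (hfg : f ≫ p = g ≫ p)
    (x : X) (h1 : f x = g x)
    (h2 : f.residueFieldMap x = (Y.residueFieldCongr h1).hom ≫ g.residueFieldMap x) :
    ∃ U : X.Opens, x ∈ U ∧ U.ι ≫ f = U.ι ≫ g := by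
  let Δ := pullback.diagonal p
  let φ : X ⟶ pullback p p := pullback.lift f g hfg
  let U : X.Opens := φ ⁻¹ᵁ Δ.opensRange
  have hs : X.fromSpecResidueField x ≫ f = X.fromSpecResidueField x ≫ g := by
    rw [← Scheme.Hom.SpecMap_residueFieldMap_fromSpecResidueField,
      ← Scheme.Hom.SpecMap_residueFieldMap_fromSpecResidueField, h2, Spec.map_comp,
      Category.assoc, Scheme.residueFieldCongr_fromSpecResidueField]
  have hφ1 : φ ≫ pullback.fst p p = f := pullback.lift_fst _ _ _
  have hφ2 : φ ≫ pullback.snd p p = g := pullback.lift_snd _ _ _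
  have hΔ1 : Δ ≫ pullback.fst p p = 𝟙 Y := pullback.diagonal_fst p
  have hΔ2 : Δ ≫ pullback.snd p p = 𝟙 Y := pullback.diagonal_snd p
  have hsφ : X.fromSpecResidueField x ≫ φ = (X.fromSpecResidueField x ≫ f) ≫ Δ := by
    apply pullback.hom_ext
    · rw [Category.assoc, hφ1, Category.assoc, hΔ1, Category.comp_id]
    · rw [Category.assoc, hφ2, Category.assoc, hΔ2, Category.comp_id, hs]
  have hxU : x ∈ U := by
    obtain ⟨s⟩ : Nonempty (Spec (X.residueField x)) := inferInstance
    have : φ x = Δ ((X.fromSpecResidueField x ≫ f) s) := by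
      have := congr($hsφ s)
      simpa using this
    change φ x ∈ Set.range Δ
    rw [this]
    exact Set.mem_range_self _
  refine ⟨U, hxU, ?_⟩
  have hrange : Set.range (U.ι ≫ φ) ⊆ Set.range Δ := by
    rintro _ ⟨y, rfl⟩
    exact y.2
  let ψ := IsOpenImmersion.lift Δ (U.ι ≫ φ) hrange
  have hψ : ψ ≫ Δ = U.ι ≫ φ := IsOpenImmersion.lift_fac _ _ _
  have e1 : U.ι ≫ f = ψ := by
    have := congr($hψ ≫ pullback.fst p p)
    rw [Category.assoc, hΔ1, Category.comp_id, Category.assoc, hφ1] at this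
    exact this.symm
  have e2 : U.ι ≫ g = ψ := by
    have := congr($hψ ≫ pullback.snd p p)
    rw [Category.assoc, hΔ2, Category.comp_id, Category.assoc, hφ2] at this
    exact this.symm
  rw [e1, e2]

end Groth.Agent.H3
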