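import Groth.Agent.H3.FlatHens

/-!
# Unramifiedness near `V(JS)` from unramifiedness of the reduction
-/

set_option autoImplicit false
set_option linter.unusedSimpArgs false
set_option linter.unusedVariables false
set_option linter.style.haveILetI false
universe u

namespace Groth.Agent.H3

open TensorProduct

/-- If `S/JS` is formally unramified over `A/J`, then `Ω[S⁄A] = JS · Ω[S⁄A]`. -/
theorem kaehler_eq_smul_top_of_formallyUnramified_quotient {A S : Type u} [CommRing A]
    [CommRing S] [Algebra A S] (J : Ideal A)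
    [Algebra.FormallyUnramified (A ⧸ J) (S ⧸ J.map (algebraMap A S))] :
    (J.map (algebraMap A S)) • (⊤ : Submodule S Ω[S⁄A]) = ⊤ := by
  haveI : Algebra.FormallyUnramified A (A ⧸ J) :=
    Algebra.FormallyUnramified.of_surjective (Algebra.ofId A (A ⧸ J)) Ideal.Quotient.mk_surjective
  haveI : Algebra.FormallyUnramified A (S ⧸ J.map (algebraMap A S)) :=
    Algebra.FormallyUnramified.comp A (A ⧸ J) _
  have hsurj : Function.Surjective (algebraMap S (S ⧸ J.map (algebraMap A S))) :=
    Ideal.Quotient.mk_surjective
  have hex := KaehlerDifferential.exact_kerCotangentToTensor_mapBaseChange A S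
    (S ⧸ J.map (algebraMap A S)) hsurj
  have hzero : ∀ x, KaehlerDifferential.kerCotangentToTensor A S
      (S ⧸ J.map (algebraMap A S)) x = 0 := by
    intro x
    obtain ⟨⟨y, hy⟩, rfl⟩ := Ideal.toCotangent_surjective _ x
    rw [KaehlerDifferential.kerCotangentToTensor_toCotangent]
    have hy' : y ∈ J.map (algebraMap A S) := by
      have := RingHom.mem_ker.mp hy
      rwa [Ideal.Quotient.algebraMap_eq, Ideal.Quotient.eq_zero_iff_mem] at this
    have hy'' : y ∈ (J • ⊤ : Submodule A S) := by rw [Ideal.smul_top_eq_map]; exact hy'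
    show (1 : S ⧸ J.map (algebraMap A S)) ⊗ₜ[S] KaehlerDifferential.D A S y = 0
    refine Submodule.smul_induction_on hy'' ?_ ?_
    · intro j hj s _
      have h1 : KaehlerDifferential.D A S (j • s) = algebraMap A S j • KaehlerDifferential.D A S s := by
        rw [(KaehlerDifferential.D A S).map_smul, algebraMap_smul]
      rw [h1, ← TensorProduct.smul_tmul]
      have h2 : algebraMap A S j • (1 : S ⧸ J.map (algebraMap A S)) = 0 := by
        rw [Algebra.smul_def, mul_one, Ideal.Quotient.algebraMap_eq,
          Ideal.Quotient.eq_zero_iff_mem]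
        exact Ideal.mem_map_of_mem _ hj
      rw [h2, TensorProduct.zero_tmul]
    · intro a b ha hb
      rw [map_add, TensorProduct.tmul_add, ha, hb, add_zero]
  haveI hsub : Subsingleton ((S ⧸ J.map (algebraMap A S)) ⊗[S] Ω[S⁄A]) := by
    refine ⟨fun t₁ t₂ => ?_⟩
    have h0 : ∀ t : (S ⧸ J.map (algebraMap A S)) ⊗[S] Ω[S⁄A], t = 0 := by
      intro t
      obtain ⟨x, hx⟩ := (hex t).mp (Subsingleton.elim _ _)
      rw [← hx, hzero]
    rw [h0 t₁, h0 t₂]
  haveI : Subsingleton (Ω[S⁄A] ⧸ ((J.map (algebraMap A S)) • (⊤ : Submodule S Ω[S⁄A]))) :=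
    (TensorProduct.quotTensorEquivQuotSMul Ω[S⁄A] (J.map (algebraMap A S))).symm.injective.subsingleton
  exact Submodule.Quotient.subsingleton_iff.mp inferInstance

/-- If `S/JS` is formally unramified over `A/J` (with `S` of finite type over `A`), then `S` is
unramified over `A` on a principal open neighbourhood `D(r)` of `V(JS)`, `r ≡ 1 mod JS`. -/
theorem exists_basicOpen_subset_unramifiedLocus {A S : Type u} [CommRing A] [CommRing S]
    [Algebra A S] [Algebra.FiniteType A S] (J : Ideal A)
    [Algebra.FormallyUnramified (A ⧸ J) (S ⧸ J.map (algebraMap A S))] :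
    ∃ r : S, r - 1 ∈ J.map (algebraMap A S) ∧
      (PrimeSpectrum.basicOpen r : Set (PrimeSpectrum S)) ⊆ Algebra.unramifiedLocus A S := by
  have htop := kaehler_eq_smul_top_of_formallyUnramified_quotient (A := A) (S := S) J
  obtain ⟨r, hr1, hr0⟩ := Submodule.exists_sub_one_mem_and_smul_eq_zero_of_fg_of_le_smul
    (J.map (algebraMap A S)) (⊤ : Submodule S Ω[S⁄A]) Module.Finite.fg_top (le_of_eq htop.symm)
  refine ⟨r, hr1, ?_⟩
  intro q hq
  rw [Algebra.unramifiedLocus_eq_compl_support, Set.mem_compl_iff, Module.notMem_support_iff']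
  intro m
  exact ⟨r, hq, hr0 m Submodule.mem_top⟩


open Groth.Agent.H57.FlatPt in
/-- A finitely presented `A`-algebra `R`, flat along `V(JR)` and with `R/JR` unramified over
`A/J`, has a principal localization `R[1/g]`, `g ≡ 1 mod JR`, étale over `A`. -/
theorem exists_away_etale {A R : Type u} [CommRing A] [CommRing R] [Algebra A R]
    [Algebra.FinitePresentation A R] (J : Ideal A)
    (h : ∀ (p : Ideal R) [p.IsPrime], J.map (algebraMap A R) ≤ p →
      Module.Flat A (Localization.AtPrime p))
    [Algebra.FormallyUnramified (A ⧸ J) (R ⧸ J.map (algebraMap A R))] :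
    ∃ g : R, g - 1 ∈ J.map (algebraMap A R) ∧ Algebra.Etale A (Localization.Away g) := by
  obtain ⟨r, hr1, hrU⟩ := exists_basicOpen_subset_unramifiedLocus (A := A) (S := R) J
  obtain ⟨g, hg, hgU⟩ := exists_basicOpen_subset_of_zeroLocus_subset (J.map (algebraMap A R))
    (flatLocus A R ∩ Algebra.unramifiedLocus A R)
    ((isOpen_flatLocus A R).inter Algebra.isOpen_unramifiedLocus)
    (fun x hx => by
      have hx' := (PrimeSpectrum.mem_zeroLocus _ _).mp hx
      refine ⟨h x.asIdeal hx', hrU ?_⟩
      intro hrx
      have h1 : (1 : R) ∈ x.asIdeal := by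
        have := Ideal.sub_mem _ hrx (hx' hr1)
        simpa using this
      exact x.isPrime.ne_top ((Ideal.eq_top_iff_one _).mpr h1))
  refine ⟨g, hg, ?_⟩
  haveI : Module.Flat A (Localization.Away g) :=
    flat_away_of_subset_flatLocus g _ (hgU.trans Set.inter_subset_left)
  haveI : Algebra.FormallyUnramified A (Localization.Away g) :=
    Algebra.basicOpen_subset_unramifiedLocus_iff.mp (hgU.trans Set.inter_subset_right)
  haveI : Algebra.FinitePresentation R (Localization.Away g) :=
    IsLocalization.Away.finitePresentation g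
  haveI : Algebra.FinitePresentation A (Localization.Away g) :=
    Algebra.FinitePresentation.trans A R _
  exact Algebra.Etale.of_formallyUnramified_of_flat

end Groth.Agent.H3
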