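import Mathlib.AlgebraicGeometry.Morphisms.WeaklyEtale
import Mathlib.AlgebraicGeometry.Morphisms.FormallyUnramified
import Mathlib.AlgebraicGeometry.Morphisms.Etale
import Mathlib.RingTheory.Ideal.Pure
import Mathlib.RingTheory.Etale.Weakly

set_option autoImplicit false
universe u

namespace Groth.Agent.H3

open AlgebraicGeometry CategoryTheory Limits TensorProduct

/-- If the multiplication map `S ⊗[R] S → S` is flat, then `S` is formally unramified over `R`. -/
theorem formallyUnramified_of_flat_lmul' (R S : Type*) [CommRing R] [CommRing S] [Algebra R S]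
    (h : (Algebra.TensorProduct.lmul' R (S := S)).toRingHom.Flat) :
    Algebra.FormallyUnramified R S := by
  set F := (Algebra.TensorProduct.lmul' R (S := S)).toRingHom with hF
  have hsurj : Function.Surjective F := fun x ↦ ⟨x ⊗ₜ 1, by simp [F]⟩
  let _ : Algebra (S ⊗[R] S) S := F.toAlgebra
  have hflat : Module.Flat (S ⊗[R] S) S := h
  have hsurj' : Function.Surjective (Algebra.ofId (S ⊗[R] S) S) := hsurj
  let e := Ideal.quotientKerAlgEquivOfSurjective hsurj'
  have hker : RingHom.ker (Algebra.ofId (S ⊗[R] S) S) = KaehlerDifferential.ideal R S := by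
    ext x
    rfl
  have hflat2 : Module.Flat (S ⊗[R] S) ((S ⊗[R] S) ⧸ RingHom.ker (Algebra.ofId (S ⊗[R] S) S)) :=
    Module.Flat.of_linearEquiv e.toLinearEquiv
  rw [hker] at hflat2
  have hpure : (KaehlerDifferential.ideal R S).Pure := hflat2
  have hidem := Ideal.isIdempotentElem_of_pure (KaehlerDifferential.ideal R S)
  exact ⟨(Ideal.cotangent_subsingleton_iff _).mpr hidem⟩

end Groth.Agent.H3

namespace Groth.Agent.H3

open AlgebraicGeometry CategoryTheory Limits TensorProduct

theorem formallyUnramified_of_weaklyEtale {X Y : Scheme.{u}} (f : X ⟶ Y) [WeaklyEtale f] :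
    FormallyUnramified f := by
  wlog hY : ∃ R, Y = Spec R generalizing X Y
  · rw [IsZariskiLocalAtTarget.iff_of_openCover (P := @FormallyUnramified) Y.affineCover]
    intro i
    exact this (pullback.snd f (Y.affineCover.f i)) ⟨_, rfl⟩
  obtain ⟨R, rfl⟩ := hY
  wlog hX : ∃ S, X = Spec S generalizing X
  · rw [IsZariskiLocalAtSource.iff_of_openCover (P := @FormallyUnramified) X.affineCover]
    intro i
    exact this (X.affineCover.f i ≫ f) ⟨_, rfl⟩
  obtain ⟨S, rfl⟩ := hX
  obtain ⟨φ, rfl : Spec.map φ = f⟩ := Spec.homEquiv.symm.surjective f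
  rw [HasRingHomProperty.Spec_iff (P := @FormallyUnramified)]
  algebraize [φ.hom]
  let F := (Algebra.TensorProduct.lmul' R (S := S)).toRingHom
  have h1 : Flat (pullback.diagonal (Spec.map φ)) := WeaklyEtale.flat_diagonal
  have : Flat (Spec.map (CommRingCat.ofHom F)) := by
    rwa [← MorphismProperty.cancel_right_of_respectsIso (P := @Flat) _
      (pullbackSpecIso R S S).inv, ← AlgebraicGeometry.diagonal_SpecMap R S]
  rw [HasRingHomProperty.Spec_iff (P := @Flat)] at this
  exact formallyUnramified_of_flat_lmul' R S this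

end Groth.Agent.H3
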