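import Groth.Agent.H3.FlatDescent
import Groth.Agent.H3.WeaklyEtale
import Mathlib.RingTheory.Unramified.Field
import Mathlib.FieldTheory.IntermediateField.Adjoin.Algebra
import Mathlib.FieldTheory.Separable

set_option autoImplicit false
universe u

namespace Groth.Agent.H3

open TensorProduct

theorem flat_lmul'_of_intermediateField {K L : Type u} [Field K] [Field L] [Algebra K L]
    (h : (Algebra.TensorProduct.lmul' K (S := L)).toRingHom.Flat) (E : IntermediateField K L) :
    (Algebra.TensorProduct.lmul' K (S := E)).toRingHom.Flat := by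
  let ι : E →ₐ[K] L := E.val
  have hι : ι.toRingHom.Flat := RingHom.Flat.of_isField (Field.toIsField E) _
  have hT : (Algebra.TensorProduct.map ι ι).toRingHom.Flat :=
    RingHom.Flat.tensorProductMap (S := K) (R := K) hι hι
  have hcomp : ((Algebra.TensorProduct.lmul' K (S := L)).toRingHom.comp
      (Algebra.TensorProduct.map ι ι).toRingHom).Flat := RingHom.Flat.comp hT h
  have heq : (Algebra.TensorProduct.lmul' K (S := L)).toRingHom.comp
      (Algebra.TensorProduct.map ι ι).toRingHom =
      ι.toRingHom.comp (Algebra.TensorProduct.lmul' K (S := E)).toRingHom := by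
    have : (Algebra.TensorProduct.lmul' K (S := L)).comp (Algebra.TensorProduct.map ι ι) =
        ι.comp (Algebra.TensorProduct.lmul' K (S := E)) := by
      ext <;> simp
    exact congrArg AlgHom.toRingHom this
  rw [heq] at hcomp
  -- now descend along the faithfully flat map `ι`
  let _ : Algebra (E ⊗[K] E) E := (Algebra.TensorProduct.lmul' K (S := E)).toRingHom.toAlgebra
  let _ : Algebra (E ⊗[K] E) L :=
    (ι.toRingHom.comp (Algebra.TensorProduct.lmul' K (S := E)).toRingHom).toAlgebra
  have : IsScalarTower (E ⊗[K] E) E L := IsScalarTower.of_algebraMap_eq (fun x => rfl)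
  have hfl : Module.Flat (E ⊗[K] E) L := hcomp
  have : Module.Flat (E ⊗[K] E) E := flat_of_flat_of_faithfullyFlat (E ⊗[K] E) E L
  exact this

theorem isSeparable_of_weaklyEtale {K L : Type u} [Field K] [Field L] [Algebra K L]
    [Algebra.WeaklyEtale K L] : Algebra.IsSeparable K L := by
  refine ⟨fun x => ?_⟩
  let E := IntermediateField.adjoin K {x}
  have hflat := flat_lmul'_of_intermediateField (Algebra.WeaklyEtale.flat_lmul' K L) E
  have hunr : Algebra.FormallyUnramified K E := formallyUnramified_of_flat_lmul' K E hflat
  have hess : Algebra.EssFiniteType K E :=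
    IntermediateField.essFiniteType_iff.mpr ⟨{x}, by simp [E]⟩
  have hsep : Algebra.IsSeparable K E := Algebra.FormallyUnramified.isSeparable K E
  let x' : E := ⟨x, IntermediateField.mem_adjoin_simple_self K x⟩
  have h1 : IsSeparable K x' := Algebra.IsSeparable.isSeparable K x'
  rw [IsSeparable] at h1 ⊢
  rwa [← minpoly.algebraMap_eq (algebraMap E L).injective x'] at h1

end Groth.Agent.H3
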