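import Groth.Agent.H3.UnivHomeo
import Mathlib.AlgebraicGeometry.Morphisms.WeaklyEtale
import Mathlib.AlgebraicGeometry.Morphisms.FlatMono

set_option autoImplicit false
universe u

namespace Groth.Agent.H3

open AlgebraicGeometry CategoryTheory Limits MorphismProperty

theorem isIso_of_weaklyEtale_of_isUnivHomeo {X Y : Scheme.{u}} (f : X ⟶ Y) [WeaklyEtale f]
    (h : FlatMor.IsUnivHomeo f) : IsIso f := by
  have hhomeo : IsHomeomorph f := universally_le _ _ h
  have h1 : UniversallyInjective f := by
    rw [universallyInjective_eq]
    refine universally_mono ?_ _ h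
    intro X Y f hf
    exact hf.injective
  have h2 : Surjective (pullback.diagonal f) := (UniversallyInjective.iff_diagonal f).mp h1
  have h3 : IsClosedImmersion (pullback.diagonal f) := by
    apply IsClosedImmersion.of_isPreimmersion
    rw [(pullback.diagonal f).surjective.range_eq]
    exact isClosed_univ
  have h4 : Flat (pullback.diagonal f) := WeaklyEtale.flat_diagonal
  have h5 : IsIso (pullback.diagonal f) := Flat.isIso_of_surjective_of_mono _
  have h6 : Mono f := (pullback.isIso_diagonal_iff f).mp h5
  have h7 : Surjective f := ⟨hhomeo.surjective⟩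
  have h8 : QuasiCompact f := ⟨fun U hU hc ↦ hhomeo.homeomorph.isCompact_preimage.mpr hc⟩
  exact Flat.isIso_of_surjective_of_mono f

end Groth.Agent.H3
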