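import Groth.Agent.H3.HPairZMT2

set_option autoImplicit false
set_option linter.unusedSimpArgs false
set_option linter.unusedVariables false
set_option linter.style.haveILetI false
universe u

namespace Groth.Agent.H3

open Polynomial TensorProduct

theorem quasiFiniteAt_congr {R S : Type*} [CommRing R] [CommRing S] [Algebra R S]
    {p q : Ideal S} [hp : p.IsPrime] [hq : q.IsPrime] (h : p = q)
    [H : Algebra.QuasiFiniteAt R p] : Algebra.QuasiFiniteAt R q := by
  subst h
  exact H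

theorem quasiFiniteAt_comap_of_isLocalization_away {R A Af : Type*} [CommRing R] [CommRing A]
    [CommRing Af] [Algebra R A] [Algebra A Af] [Algebra R Af] [IsScalarTower R A Af] (f : A)
    [IsLocalization.Away f Af] (p : Ideal Af) [p.IsPrime] [H : Algebra.QuasiFiniteAt R p] :
    Algebra.QuasiFiniteAt R (p.comap (algebraMap A Af)) := by
  have : IsLocalization.AtPrime (Localization.AtPrime p) (p.comap (algebraMap A Af)) :=
    IsLocalization.isLocalization_isLocalization_atPrime_isLocalization (.powers f) _ p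
  exact (Algebra.QuasiFinite.iff_of_algEquiv
    ((IsLocalization.algEquiv (p.comap (algebraMap A Af)).primeCompl
      (Localization.AtPrime (p.comap (algebraMap A Af)))
      (Localization.AtPrime p)).restrictScalars R)).mpr H


/-- If `B/IB` has a factor (cut out by the idempotent image of `ε`) which is finite over `A`,
then `B` is quasi-finite over `A` at every prime of that factor. -/
theorem quasiFiniteAt_of_finite_factor {A B : Type*} [CommRing A] [CommRing B] [Algebra A B]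
    [Algebra.FiniteType A B] (I : Ideal A) (ε : B)
    (hε : ε * (1 - ε) ∈ I.map (algebraMap A B))
    (K : Ideal B) [Module.Finite A (B ⧸ K)]
    (hK : K ≤ I.map (algebraMap A B) ⊔ Ideal.span {1 - ε})
    (q : Ideal B) [hqp : q.IsPrime] (hq : I.map (algebraMap A B) ≤ q) (hεq : ε ∉ q) :
    Algebra.QuasiFiniteAt A q := by
  classical
  let B₁ := Localization.Away ε
  haveI : Algebra.FiniteType A B₁ :=
    .trans ‹_› (IsLocalization.finiteType_of_monoid_fg (Submonoid.powers ε) _)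
  obtain ⟨𝔟, h𝔟⟩ : ∃ 𝔟 : Ideal B₁, 𝔟 = I.map (algebraMap A B₁) := ⟨_, rfl⟩
  have hmap : (I.map (algebraMap A B)).map (algebraMap B B₁) = 𝔟 := by
    rw [h𝔟, Ideal.map_map, ← IsScalarTower.algebraMap_eq]
  have hu : IsUnit (algebraMap B B₁ ε) := IsLocalization.Away.algebraMap_isUnit ε
  have h1 : algebraMap B B₁ (1 - ε) ∈ 𝔟 := by
    obtain ⟨v, hv⟩ := hu.exists_left_inv
    have h2 : algebraMap B B₁ (ε * (1 - ε)) ∈ 𝔟 := by
      rw [← hmap]; exact Ideal.mem_map_of_mem _ hε
    have : algebraMap B B₁ (1 - ε) = v * algebraMap B B₁ (ε * (1 - ε)) := by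
      rw [map_mul, ← mul_assoc, hv, one_mul]
    rw [this]; exact Ideal.mul_mem_left _ _ h2
  let φ : B →ₐ[A] B₁ ⧸ 𝔟 := (Ideal.Quotient.mkₐ A 𝔟).comp (IsScalarTower.toAlgHom A B B₁)
  have hφ : ∀ x, φ x = Ideal.Quotient.mk 𝔟 (algebraMap B B₁ x) := fun _ => rfl
  have hφe : φ ε = 1 := by
    have : φ (1 - ε) = 0 := by rw [hφ]; exact Ideal.Quotient.eq_zero_iff_mem.mpr h1
    rw [map_sub, map_one, sub_eq_zero] at this
    exact this.symm
  have hKφ : ∀ x ∈ K, φ x = 0 := by
    intro x hx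
    obtain ⟨a, ha, c, hc, hac⟩ := Submodule.mem_sup.mp (hK hx)
    obtain ⟨d, rfl⟩ := Ideal.mem_span_singleton'.mp hc
    rw [← hac, map_add, map_mul, map_sub, map_one, hφe, sub_self, mul_zero, add_zero, hφ]
    refine Ideal.Quotient.eq_zero_iff_mem.mpr ?_
    rw [← hmap]; exact Ideal.mem_map_of_mem _ ha
  have hφsurj : Function.Surjective φ := by
    intro z
    obtain ⟨y, rfl⟩ := Ideal.Quotient.mk_surjective z
    obtain ⟨x, ⟨_, n, rfl⟩, rfl⟩ := IsLocalization.exists_mk'_eq (Submonoid.powers ε) y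
    refine ⟨x, ?_⟩
    have h3 : IsLocalization.mk' B₁ x (⟨ε ^ n, n, rfl⟩ : Submonoid.powers ε) *
        algebraMap B B₁ (ε ^ n) = algebraMap B B₁ x := IsLocalization.mk'_spec _ _ _
    have h4 := congrArg (Ideal.Quotient.mk 𝔟) h3
    rw [map_mul, ← hφ, ← hφ, map_pow, hφe, one_pow, mul_one] at h4
    exact h4.symm
  let ψ : B ⧸ K →ₐ[A] B₁ ⧸ 𝔟 := Ideal.Quotient.liftₐ K φ hKφ
  have hψsurj : Function.Surjective ψ := by
    intro z
    obtain ⟨x, rfl⟩ := hφsurj z
    exact ⟨Ideal.Quotient.mk K x, by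
      change Ideal.Quotient.liftₐ K φ hKφ (Ideal.Quotient.mk K x) = _
      rw [Ideal.Quotient.liftₐ_apply, Ideal.Quotient.lift_mk]; rfl⟩
  haveI hfin₁ : Module.Finite A (B₁ ⧸ 𝔟) := Module.Finite.of_surjective ψ.toLinearMap hψsurj
  have hdisj : Disjoint (Submonoid.powers ε : Set B) (q : Set B) :=
    (Ideal.disjoint_powers_iff_notMem ε hqp.isRadical).mpr hεq
  haveI hq₁ : (q.map (algebraMap B B₁)).IsPrime :=
    IsLocalization.isPrime_of_isPrime_disjoint (Submonoid.powers ε) B₁ q hqp hdisj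
  have hcomap : (q.map (algebraMap B B₁)).comap (algebraMap B B₁) = q :=
    IsLocalization.under_map_of_isPrime_disjoint (Submonoid.powers ε) B₁ hqp hdisj
  have h𝔟q : 𝔟 ≤ q.map (algebraMap B B₁) := by
    rw [← hmap]; exact Ideal.map_mono hq
  subst h𝔟
  haveI : Algebra.QuasiFiniteAt A (q.map (algebraMap B B₁)) :=
    quasiFiniteAt_of_finite_quotient I _ h𝔟q
  haveI := quasiFiniteAt_comap_of_isLocalization_away (R := A) ε (q.map (algebraMap B B₁))
  exact quasiFiniteAt_congr hcomap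


/-- Variant of `exists_zmt_elem_of_finite'` for an arbitrary ideal `K` with `A'/K` finite and
`A'` quasi-finite along `V(K)`. -/
theorem exists_zmt_elem_of_finite_quotient {A : Type*} [CommRing A] {A' : Type*} [CommRing A']
    [Algebra A A'] [Algebra.FiniteType A A'] (𝔞 : Ideal A')
    [hfin : Module.Finite A (A' ⧸ 𝔞)]
    (hqf : ∀ (q : Ideal A') [q.IsPrime], 𝔞 ≤ q → Algebra.QuasiFiniteAt A q) :
    ∃ r : A', IsIntegral A r ∧ r - 1 ∈ 𝔞 ∧
      ∀ x : A', ∃ m, IsIntegral A (r ^ m * x) := by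
  classical
  let cond : A' → Ideal (integralClosure A A') := fun x =>
    { carrier := {s | (s : A') * x ∈ integralClosure A A'}
      add_mem' := by
        intro a b ha hb
        simp only [Set.mem_setOf_eq] at ha hb ⊢
        rw [Subalgebra.coe_add, add_mul]; exact Subalgebra.add_mem _ ha hb
      zero_mem' := by
        simp only [Set.mem_setOf_eq, ZeroMemClass.coe_zero, zero_mul]
        exact Subalgebra.zero_mem _
      smul_mem' := by
        intro c a ha
        simp only [Set.mem_setOf_eq, smul_eq_mul] at ha ⊢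
        rw [Subalgebra.coe_mul, mul_assoc]; exact Subalgebra.mul_mem _ c.2 ha }
  let J : Ideal (integralClosure A A') := ⨅ x, (cond x).radical
  have hJ : ∀ s : integralClosure A A', s ∈ J ↔ ∀ x, ∃ m, IsIntegral A ((s : A') ^ m * x) := by
    intro s
    constructor
    · intro h x
      obtain ⟨n, hn⟩ := Ideal.mem_radical_iff.mp ((Ideal.mem_iInf.mp h) x)
      have h1 : ((s ^ n : integralClosure A A') : A') * x ∈ integralClosure A A' := hn
      rw [Subalgebra.coe_pow] at h1
      exact ⟨n, h1⟩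
    · intro h
      refine Ideal.mem_iInf.mpr fun x => ?_
      obtain ⟨n, hn⟩ := h x
      refine Ideal.mem_radical_iff.mpr ⟨n, ?_⟩
      change ((s ^ n : integralClosure A A') : A') * x ∈ integralClosure A A'
      rw [Subalgebra.coe_pow]
      exact hn
  let σS : integralClosure A A' →+* A' ⧸ 𝔞 :=
    (Ideal.Quotient.mk 𝔞).comp (integralClosure A A').val.toRingHom
  have htop : J.map σS = ⊤ := by
    by_contra hne
    obtain ⟨M, hM, hJM⟩ := Ideal.exists_le_maximal _ hne
    let q : Ideal A' := M.comap (Ideal.Quotient.mk 𝔞)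
    haveI : q.IsPrime := Ideal.IsPrime.comap _
    have h𝔞q : 𝔞 ≤ q := by
      intro x hx
      change Ideal.Quotient.mk 𝔞 x ∈ M
      rw [Ideal.Quotient.eq_zero_iff_mem.mpr hx]
      exact Ideal.zero_mem _
    haveI : Algebra.QuasiFiniteAt A q := hqf q h𝔞q
    obtain ⟨r, hrq, hrint, hr⟩ := Algebra.zariskisMainProperty_iff.mp
      (Algebra.ZariskisMainProperty.of_finiteType (R := A) q)
    have hrJ : (⟨r, hrint⟩ : integralClosure A A') ∈ J := (hJ _).mpr hr
    have : σS ⟨r, hrint⟩ ∈ M := hJM (Ideal.mem_map_of_mem _ hrJ)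
    exact hrq this
  have hsmul : ∀ (s : integralClosure A A') (f : A' ⧸ 𝔞), s • f = σS s * f := fun _ _ => rfl
  haveI : Module.Finite (integralClosure A A') (A' ⧸ 𝔞) :=
    Module.Finite.of_restrictScalars_finite A _ _
  have hle : (⊤ : Submodule (integralClosure A A') (A' ⧸ 𝔞)) ≤ J • ⊤ := by
    intro x _
    have hx : x ∈ J.map σS := by rw [htop]; trivial
    refine Submodule.span_induction
      (p := fun y _ => y ∈ J • (⊤ : Submodule (integralClosure A A') (A' ⧸ 𝔞))) ?_ ?_ ?_ ?_ hx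
    · rintro _ ⟨j, hj, rfl⟩
      have : σS j = j • (1 : A' ⧸ 𝔞) := by rw [hsmul, mul_one]
      rw [this]; exact Submodule.smul_mem_smul hj Submodule.mem_top
    · exact Submodule.zero_mem _
    · intro a b _ _ ha hb; exact Submodule.add_mem _ ha hb
    · intro f y _ hy
      rw [smul_eq_mul]
      refine Submodule.smul_induction_on hy ?_ ?_
      · intro j hj n _
        have : f * (j • n) = j • (f * n) := by rw [hsmul, hsmul]; ring
        rw [this]; exact Submodule.smul_mem_smul hj Submodule.mem_top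
      · intro a b ha hb; rw [mul_add]; exact Submodule.add_mem _ ha hb
  obtain ⟨j₀, hj₀, hj₀F⟩ :=
    Submodule.exists_sub_one_mem_and_smul_eq_zero_of_fg_of_le_smul J ⊤ Module.Finite.fg_top hle
  have h0 : σS j₀ = 0 := by
    have := hj₀F 1 Submodule.mem_top
    rwa [hsmul, mul_one] at this
  have hrJ : (1 - j₀) ∈ J := by rw [← Ideal.neg_mem_iff, neg_sub]; exact hj₀
  refine ⟨((1 - j₀ : integralClosure A A') : A'), (1 - j₀).2, ?_, (hJ _).mp hrJ⟩
  rw [← Ideal.Quotient.eq_zero_iff_mem, map_sub, map_one]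
  have : Ideal.Quotient.mk 𝔞 ((1 - j₀ : integralClosure A A') : A') = σS (1 - j₀) := rfl
  rw [this, map_sub, map_one, h0, sub_zero, sub_self]


/-- Stacks 0DYE-type statement: if `B/IB` has a factor cut out by (the image of) `ε` which is
finite over `A`, then some `g` in the integral closure `B'` of `A` in `B` is idempotent modulo
`IB'`, lifts `ε` modulo `IB`, and `B'_g → B_g` is bijective. -/
theorem exists_lift_integralClosure_of_finite_factor {A B : Type*} [CommRing A] [CommRing B]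
    [Algebra A B] [Algebra.FiniteType A B] (I : Ideal A) (ε : B)
    (hε : ε * (1 - ε) ∈ I.map (algebraMap A B))
    (K : Ideal B) [Module.Finite A (B ⧸ K)]
    (hK : K ≤ I.map (algebraMap A B) ⊔ Ideal.span {1 - ε})
    (hK' : I.map (algebraMap A B) ⊔ Ideal.span {1 - ε} ≤ K) :
    ∃ g : integralClosure A B,
      g * g - g ∈ I.map (algebraMap A (integralClosure A B)) ∧
      (g : B) - ε ∈ I.map (algebraMap A B) ∧
      Function.Bijective (algebraMap (Localization.Away g)
        (Localization (Algebra.algebraMapSubmonoid B (Submonoid.powers g)))) := by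
  classical
  have hqf : ∀ (q : Ideal B) [q.IsPrime], K ≤ q → Algebra.QuasiFiniteAt A q := by
    intro q hqp hKq
    have h1 : I.map (algebraMap A B) ≤ q := le_trans (le_trans le_sup_left hK') hKq
    have h2 : ε ∉ q := by
      intro h
      have h3 : (1 - ε) ∈ q :=
        hKq (hK' (Ideal.mem_sup_right (Ideal.mem_span_singleton_self _)))
      have h4 : (1 : B) ∈ q := by
        have := Ideal.add_mem _ h3 h
        simpa using this
      exact hqp.ne_top ((Ideal.eq_top_iff_one _).mpr h4)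
    exact quasiFiniteAt_of_finite_factor I ε hε K hK q h1 h2
  obtain ⟨r, hrint, hr1, hrJ⟩ := exists_zmt_elem_of_finite_quotient (A := A) K hqf
  obtain ⟨B', hB'⟩ : ∃ B' : Subalgebra A B, B' = integralClosure A B := ⟨_, rfl⟩
  rw [← hB']
  have hrB' : r ∈ B' := by rw [hB']; exact hrint
  obtain ⟨j, hj⟩ : ∃ j : B', (j : B) = r := ⟨⟨r, hrB'⟩, rfl⟩
  have hloc : ∀ x : B, ∃ k, (j : B) ^ k * x ∈ B' := by
    intro x; rw [hj, hB']; exact hrJ x
  obtain ⟨𝔞, h𝔞⟩ : ∃ 𝔞 : Ideal B, 𝔞 = I.map (algebraMap A B) := ⟨_, rfl⟩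
  have hmemmap := fun y hy => exists_pow_mul_mem_map I B' j hloc y hy
  rw [← h𝔞] at hε hK hmemmap ⊢
  have hr1e : (r - 1) * ε ∈ 𝔞 := by
    obtain ⟨a, ha, c, hc, hac⟩ := Submodule.mem_sup.mp (hK hr1)
    obtain ⟨d, rfl⟩ := Ideal.mem_span_singleton'.mp hc
    rw [← hac, add_mul]
    refine Ideal.add_mem _ (Ideal.mul_mem_right _ _ ha) ?_
    have : d * (1 - ε) * ε = d * (ε * (1 - ε)) := by ring
    rw [this]; exact Ideal.mul_mem_left _ _ hε
  have hpow : ∀ n : ℕ, (r ^ n - 1) * ε ∈ 𝔞 := by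
    intro n
    induction n with
    | zero => simp
    | succ n ih =>
      have : (r ^ (n + 1) - 1) * ε = r ^ n * ((r - 1) * ε) + (r ^ n - 1) * ε := by ring
      rw [this]; exact Ideal.add_mem _ (Ideal.mul_mem_left _ _ hr1e) ih
  obtain ⟨m, hm⟩ := hloc ε
  obtain ⟨g₁, hg₁⟩ : ∃ g₁ : B', (g₁ : B) = r ^ m * ε :=
    ⟨⟨_, hm⟩, by show (j : B) ^ m * ε = r ^ m * ε; rw [hj]⟩
  have hg₁ε : (g₁ : B) - ε ∈ 𝔞 := by
    have : (g₁ : B) - ε = (r ^ m - 1) * ε := by rw [hg₁]; ring
    rw [this]; exact hpow m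
  have hg₁2 : ((g₁ * g₁ - g₁ : B') : B) ∈ 𝔞 := by
    have : ((g₁ * g₁ - g₁ : B') : B) =
        ((g₁ : B) - ε) * ((g₁ : B) + ε - 1) - ε * (1 - ε) := by
      rw [Subalgebra.coe_sub, Subalgebra.coe_mul]; ring
    rw [this]
    exact Ideal.sub_mem _ (Ideal.mul_mem_right _ _ hg₁ε) hε
  have hjg₁ : (((j - 1) * g₁ : B') : B) ∈ 𝔞 := by
    have : (((j - 1) * g₁ : B') : B) = r ^ m * ((r - 1) * ε) := by
      rw [Subalgebra.coe_mul, Subalgebra.coe_sub, Subalgebra.coe_one, hj, hg₁]; ring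
    rw [this]; exact Ideal.mul_mem_left _ _ hr1e
  obtain ⟨k₁, hk₁⟩ := hmemmap _ hg₁2
  obtain ⟨k₂, hk₂⟩ := hmemmap _ hjg₁
  obtain ⟨g, hg⟩ : ∃ g : B', g = j ^ (k₁ + k₂ + 1) * g₁ := ⟨_, rfl⟩
  have hgB : (g : B) = r ^ (k₁ + k₂ + 1) * (r ^ m * ε) := by
    rw [hg, Subalgebra.coe_mul, Subalgebra.coe_pow, hj, hg₁]
  refine ⟨g, ?_, ?_, ?_, ?_⟩
  · obtain ⟨S, hS⟩ : ∃ S : B', S * (j - 1) = j ^ (k₁ + k₂ + 1) - 1 :=
      ⟨_, geom_sum_mul j (k₁ + k₂ + 1)⟩
    have : g * g - g = j ^ (k₁ + k₂ + 1) * j ^ (k₂ + 1) * (j ^ k₁ * (g₁ * g₁ - g₁)) +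
        S * j ^ (k₁ + 1) * (j ^ k₂ * ((j - 1) * g₁)) := by
      rw [hg]
      linear_combination (-(j ^ (k₁ + k₂ + 1) * g₁)) * hS
    rw [this]
    exact Ideal.add_mem _ (Ideal.mul_mem_left _ _ hk₁) (Ideal.mul_mem_left _ _ hk₂)
  · have : (g : B) - ε = (r ^ (k₁ + k₂ + 1 + m) - 1) * ε := by rw [hgB]; ring
    rw [this]; exact hpow _
  · exact localizationAlgebra_injective (R := B') (S := B) (M := Submonoid.powers g)
      (Localization.Away g) (Localization (Algebra.algebraMapSubmonoid B (Submonoid.powers g)))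
      Subtype.val_injective
  · intro z
    obtain ⟨x, ⟨s, t, ⟨n, rfl⟩, rfl⟩, rfl⟩ :=
      IsLocalization.exists_mk'_eq (Algebra.algebraMapSubmonoid B (Submonoid.powers g)) z
    obtain ⟨M, hM⟩ := hloc x
    obtain ⟨y, hy⟩ : ∃ y : B', (y : B) = r ^ M * x :=
      ⟨⟨_, hM⟩, by show (j : B) ^ M * x = r ^ M * x; rw [hj]⟩
    refine ⟨IsLocalization.mk' (Localization.Away g) (y * (j ^ (k₁ + k₂) * g₁) ^ M)
      (⟨g ^ (n + M), n + M, rfl⟩ : Submonoid.powers g), ?_⟩
    haveI : IsScalarTower B' (Localization.Away g)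
        (Localization (Algebra.algebraMapSubmonoid B (Submonoid.powers g))) :=
      isScalarTower_localizationAlgebra (Submonoid.powers g) B
    rw [IsLocalization.algebraMap_mk' B (Localization.Away g)
      (Localization (Algebra.algebraMapSubmonoid B (Submonoid.powers g)))]
    refine IsLocalization.mk'_eq_of_eq ?_
    change algebraMap B' B (g ^ (n + M)) * x =
      algebraMap B' B (g ^ n) * algebraMap B' B (y * (j ^ (k₁ + k₂) * g₁) ^ M)
    have hval : ∀ b : B', algebraMap B' B b = (b : B) := fun _ => rfl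
    rw [hval, hval, hval, Subalgebra.coe_pow, Subalgebra.coe_pow, Subalgebra.coe_mul,
      Subalgebra.coe_pow, Subalgebra.coe_mul, Subalgebra.coe_pow, hgB, hy, hj, hg₁]
    ring

end Groth.Agent.H3
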